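import Mathlib
import Cfsg.Prelude.Def_FischerSpaces
import Cfsg.Agent.Lib.LargeExtra.Basic

/-!
Elementary facts on products of commuting 3-transpositions, on the quotient by the centre, and the
lemma that two transpositions with equal commuting sets differ by an element of the 2-core.
-/

set_option autoImplicit false
set_option linter.style.haveILetI false
set_option linter.unusedSectionVars false

namespace Cfsg.Agent.Lib.FischerMTypes.Basic

variable {G : Type*} [Group G] {D : Set G}

/-- a set of 3-transpositions closed under conjugation by its own members -/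
def IsClosedSet (D : Set G) : Prop :=
  Cfsg.IsThreeTranspositionSet D ∧ ∀ g ∈ D, ∀ d ∈ D, g * d * g ∈ D

theorem mul_self (hD : Cfsg.IsThreeTranspositionSet D) {d : G} (hd : d ∈ D) : d * d = 1 := by
  rw [← sq, ← hD.1 d hd, pow_orderOf_eq_one]

theorem inv_eq (hD : Cfsg.IsThreeTranspositionSet D) {d : G} (hd : d ∈ D) : d⁻¹ = d :=
  inv_eq_of_mul_eq_one_right (mul_self hD hd)

theorem ne_one (hD : Cfsg.IsThreeTranspositionSet D) {d : G} (hd : d ∈ D) : d ≠ 1 := fun h => by
  have := hD.1 d hd
  rw [h, orderOf_one] at this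
  norm_num at this

theorem cube_eq_one (hD : Cfsg.IsThreeTranspositionSet D) {a b : G} (ha : a ∈ D) (hb : b ∈ D)
    (h : ¬ Commute a b) : (a * b) ^ 3 = 1 := by
  refine (hD.2 a ha b hb).resolve_left fun h2 => h ?_
  have h3 : (a * b)⁻¹ = a * b := inv_eq_of_mul_eq_one_right (by rw [← sq]; exact h2)
  rw [mul_inv_rev, inv_eq hD ha, inv_eq hD hb] at h3
  exact h3.symm

theorem braid (hD : Cfsg.IsThreeTranspositionSet D) {a b : G} (ha : a ∈ D) (hb : b ∈ D)
    (h : ¬ Commute a b) : a * b * a = b * a * b := by
  have h3 := cube_eq_one hD ha hb h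
  have e : a * b * a * (b * a * b) = 1 := by
    rw [← h3, pow_three]; group
  rw [eq_inv_of_mul_eq_one_left e, mul_inv_rev, mul_inv_rev, inv_eq hD ha, inv_eq hD hb, mul_assoc]

theorem commute_conj_iff (g u v : G) : Commute (MulAut.conj g u) (MulAut.conj g v) ↔ Commute u v :=
  ⟨fun h => (MulAut.conj g).injective (by rw [map_mul, map_mul]; exact h.eq),
    fun h => h.map (MulAut.conj g).toMonoidHom⟩

theorem conj_comm_iff (hD : Cfsg.IsThreeTranspositionSet D) {e : G} (he : e ∈ D) {u v : G} :
    Commute (e * u * e) (e * v * e) ↔ Commute u v := by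
  have h : e * u * e = MulAut.conj e u ∧ e * v * e = MulAut.conj e v := by
    constructor <;> simp [inv_eq hD he]
  rw [h.1, h.2]
  exact commute_conj_iff e u v

theorem conj_self_inv (hD : Cfsg.IsThreeTranspositionSet D) {e : G} (he : e ∈ D) (u : G) :
    e * (e * u * e) * e = u := by
  calc e * (e * u * e) * e = (e * e) * u * (e * e) := by group
    _ = u := by rw [mul_self hD he, one_mul, mul_one]

theorem conj_fix_of_commute (hD : Cfsg.IsThreeTranspositionSet D) {e : G} (he : e ∈ D) {u : G}
    (h : Commute e u) : e * u * e = u := by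
  rw [h.eq, mul_assoc, mul_self hD he, mul_one]

/-- conjugation invariance gives closure -/
theorem isClosedSet_of (hD : Cfsg.IsThreeTranspositionSet D) (hc : ∀ g : G, ∀ d ∈ D, g * d * g⁻¹ ∈ D) :
    IsClosedSet D := ⟨hD, fun g hg d hd => by simpa [inv_eq hD hg] using hc g d hd⟩

/-- conjugation by the generated subgroup -/
theorem conj_mem_of_mem_closure (hD : IsClosedSet D) {h : G} (hh : h ∈ Subgroup.closure D) :
    ∀ d ∈ D, h * d * h⁻¹ ∈ D := by
  induction hh using Subgroup.closure_induction_left with
  | one => simp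
  | mul_left x hx y _ ih =>
    intro d hd
    have := hD.2 x hx _ (ih d hd)
    simpa [mul_assoc, inv_eq hD.1 hx] using this
  | inv_mul_cancel x hx y _ ih =>
    intro d hd
    have := hD.2 x hx _ (ih d hd)
    simpa [mul_assoc, inv_eq hD.1 hx] using this

/-- `x` commutes with the product of two commuting transpositions only by commuting with both -/
theorem comm_of_comm_mul (hD : Cfsg.IsThreeTranspositionSet D) {a b x : G} (ha : a ∈ D) (hb : b ∈ D)
    (hx : x ∈ D) (hab : Commute a b) (hne : a ≠ b) (h : Commute x (a * b)) :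
    Commute x a ∧ Commute x b := by
  have key : Commute x a → Commute x b := fun hxa => by
    have := hxa.mul_right h
    rwa [← mul_assoc, mul_self hD ha, one_mul] at this
  by_cases hxa : Commute x a
  · exact ⟨hxa, key hxa⟩
  exfalso
  have hxb : ¬ Commute x b := fun hxb => hxa (by
    have := h.mul_right hxb
    rwa [mul_assoc, mul_self hD hb, mul_one] at this)
  refine hne ?_
  have hp : x * a * x = a * b * (x * b * x) := by
    calc x * a * x = x * (a * b) * (b * x) := by
          rw [mul_assoc x (a * b), ← mul_assoc (a * b), mul_assoc a b b, mul_self hD hb, mul_one,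
            ← mul_assoc]
      _ = (a * b) * (x * b * x) := by rw [h.eq]; group
  rw [braid hD hx hb hxb, braid hD hx ha hxa,
    show a * b * (b * x * b) = a * (b * b) * (x * b) by group, mul_self hD hb, mul_one,
    mul_assoc a x a] at hp
  exact mul_left_cancel (mul_left_cancel hp)

theorem comm_mul_iff (hD : Cfsg.IsThreeTranspositionSet D) {a b x : G} (ha : a ∈ D) (hb : b ∈ D)
    (hx : x ∈ D) (hab : Commute a b) (hne : a ≠ b) :
    Commute x (a * b) ↔ Commute x a ∧ Commute x b :=
  ⟨comm_of_comm_mul hD ha hb hx hab hne, fun h => h.1.mul_right h.2⟩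

/-- the Coxeter element of a path of three transpositions has order dividing four -/
theorem pow_four (hD : Cfsg.IsThreeTranspositionSet D) {a b x : G} (ha : a ∈ D) (hb : b ∈ D)
    (hx : x ∈ D) (hab : Commute a b) (hxa : ¬ Commute x a) (hxb : ¬ Commute x b) :
    (x * (a * b)) * (x * (a * b)) * ((x * (a * b)) * (x * (a * b))) = 1 := by
  have sqv : (x * (a * b)) * (x * (a * b)) = x * a * x * b * x * a := by
    calc (x * (a * b)) * (x * (a * b)) = x * a * (b * x * (a * b)) := by group
      _ = x * a * (b * x * b) * a := by rw [hab.eq]; group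
      _ = x * a * (x * b * x) * a := by rw [braid hD hx hb hxb]
      _ = _ := by group
  have cxa : x * a * x * a * x = a := by
    calc x * a * x * a * x = x * (a * x * a) * x := by group
      _ = x * (x * a * x) * x := by rw [braid hD hx ha hxa]
      _ = a := conj_self_inv hD hx a
  rw [sqv]
  calc x * a * x * b * x * a * (x * a * x * b * x * a)
      = x * a * x * b * (x * a * x * a * x) * (b * x * a) := by group
    _ = x * a * x * (b * a * b) * (x * a) := by rw [cxa]; group
    _ = x * a * x * a * (x * a) := by rw [← hab.eq, mul_assoc a b b, mul_self hD hb, mul_one]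
    _ = (x * a) ^ 3 := by rw [pow_three]; group
    _ = 1 := cube_eq_one hD hx ha hxa

/-- `w = v u y` is impossible when exactly `y` and `w` fail to commute with `x` -/
theorem key_step (hD : Cfsg.IsThreeTranspositionSet D) {u v y w x : G} (hu : u ∈ D) (hv : v ∈ D)
    (hy : y ∈ D) (hw : w ∈ D) (hx : x ∈ D) (huv : Commute u v) (hne : u ≠ v) (hxu : Commute x u)
    (hxv : Commute x v) (hxy : ¬ Commute x y) (hxw : ¬ Commute x w) (hrel : w = v * u * y)
    (huy : Commute u y) (hvy : Commute v y) : False := by
  have hk : Commute (v * u) (x * y) :=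
    (hxv.symm.mul_right hvy).mul_left (hxu.symm.mul_right huy)
  have h3 := cube_eq_one hD hx hw hxw
  rw [hrel, show x * (v * u * y) = (v * u) * (x * y) by
    rw [← mul_assoc x, ← mul_assoc x, hxv.eq, mul_assoc v x u, hxu.eq]; group,
    hk.mul_pow, cube_eq_one hD hx hy hxy, mul_one, huv.symm.mul_pow,
    show v ^ 3 = v by rw [pow_three, mul_self hD hv, mul_one],
    show u ^ 3 = u by rw [pow_three, mul_self hD hu, mul_one]] at h3
  have := eq_inv_of_mul_eq_one_left h3
  rw [inv_eq hD hu] at this
  exact hne this.symm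

/-- four commuting transpositions with product one and two distinct pairs: an element commuting
    with one of them commutes with its partner -/
theorem quad_one (hD : Cfsg.IsThreeTranspositionSet D) {a b c e x : G} (ha : a ∈ D) (hb : b ∈ D)
    (hc : c ∈ D) (he : e ∈ D) (hx : x ∈ D) (hab : Commute a b) (hce : Commute c e)
    (hac : Commute a c) (hae : Commute a e) (hne1 : a ≠ b) (hne : c ≠ e) (hne2 : a ≠ c) (hne3 : a ≠ e)
    (h : a * b = c * e) (hxa : Commute x a) : Commute x b := by
  by_contra hxb
  have hxv : ¬ Commute x (c * e) := fun h' => hxb ((comm_of_comm_mul hD ha hb hx hab hne1 (h ▸ h')).2)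
  have hb' : b = a * (c * e) := by rw [← h, ← mul_assoc, mul_self hD ha, one_mul]
  have hcb : Commute c b := by
    rw [hb']
    exact hac.symm.mul_right ((Commute.refl c).mul_right hce)
  have heb : Commute e b := by
    rw [hb']
    exact hae.symm.mul_right (hce.symm.mul_right (Commute.refl e))
  by_cases hxc : Commute x c
  · have hxe : ¬ Commute x e := fun h' => hxv (hxc.mul_right h')
    refine key_step hD ha hc hb he hx hac hne2 hxa hxc hxb hxe ?_ hab hcb
    rw [show c * a * b = c * (a * b) from mul_assoc c a b, h, ← mul_assoc, mul_self hD hc, one_mul]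
  · by_cases hxe : Commute x e
    · refine key_step hD ha he hb hc hx hae hne3 hxa hxe hxb hxc ?_ hab heb
      rw [show e * a * b = e * (a * b) from mul_assoc e a b, h, hce.eq, ← mul_assoc, mul_self hD he, one_mul]
    · have h4 := pow_four hD hc he hx hce hxc hxe
      have h3 := cube_eq_one hD hx hb hxb
      have hcomm : Commute a (x * (c * e)) := hxa.symm.mul_right (hac.mul_right hae)
      rw [hb', show x * (a * (c * e)) = a * (x * (c * e)) by rw [← mul_assoc, hxa.eq, mul_assoc],
        hcomm.mul_pow, show a ^ 3 = a by rw [pow_three, mul_self hD ha, mul_one]] at h3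
      refine hxv ?_
      generalize hy : x * (c * e) = y at h3 h4
      have hy3 : y ^ 3 = a := by
        have := eq_inv_of_mul_eq_one_right h3
        rwa [inv_eq hD ha] at this
      have hy2 : y * y = 1 := by
        calc y * y = y * y * ((y * y) * (y * y)) := by rw [h4, mul_one]
          _ = y ^ 3 * y ^ 3 := by rw [pow_three]; group
          _ = 1 := by rw [hy3, mul_self hD ha]
      rw [← hy] at hy2
      have := inv_eq_of_mul_eq_one_right hy2
      rw [mul_inv_rev, inv_eq hD hx, mul_inv_rev, inv_eq hD hc, inv_eq hD he, ← hce.eq] at this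
      exact this.symm

/-! ### quotient by the centre -/

theorem commute_of_commutator_central (hD : Cfsg.IsThreeTranspositionSet D) {x e : G} (hx : x ∈ D)
    (he : e ∈ D) (h : (x * e) * (x * e) ∈ Subgroup.center G) : Commute x e := by
  by_contra hne
  have h3 := cube_eq_one hD hx he hne
  have hinv : (x * e) * (x * e) = (x * e)⁻¹ := eq_inv_of_mul_eq_one_left (by rw [← h3, pow_three]; group)
  rw [hinv, Subgroup.inv_mem_iff, Subgroup.mem_center_iff] at h
  have := h x
  rw [← mul_assoc, mul_self hD hx, one_mul] at this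
  refine hne ?_
  calc x * e = x * (x * e * x) := by rw [← this]
    _ = (x * x) * e * x := by group
    _ = e * x := by rw [mul_self hD hx, one_mul]

/-- transpositions commute exactly when their images modulo the centre do -/
theorem commute_mk_iff (hD : Cfsg.IsThreeTranspositionSet D) {x e : G} (hx : x ∈ D) (he : e ∈ D) :
    Commute (QuotientGroup.mk x : G ⧸ Subgroup.center G) (QuotientGroup.mk e) ↔ Commute x e := by
  refine ⟨fun h => ?_, fun h => h.map (QuotientGroup.mk' _)⟩
  refine commute_of_commutator_central hD hx he ?_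
  rw [← QuotientGroup.eq_one_iff, QuotientGroup.mk_mul, QuotientGroup.mk_mul, h.symm.mul_mul_mul_comm,
    ← QuotientGroup.mk_mul, ← QuotientGroup.mk_mul, mul_self hD hx, mul_self hD he, QuotientGroup.mk_one,
    one_mul]

/-! ### equal commuting sets -/

/-- two elements have the same commuting set in `D` -/
def SameComm (D : Set G) (b c : G) : Prop := ∀ e ∈ D, (Commute e b ↔ Commute e c)

theorem SameComm.refl (b : G) : SameComm D b b := fun _ _ => Iff.rfl

theorem SameComm.symm {b c : G} (h : SameComm D b c) : SameComm D c b := fun e he => (h e he).symm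

theorem SameComm.trans {a b c : G} (h : SameComm D a b) (h' : SameComm D b c) : SameComm D a c :=
  fun e he => (h e he).trans (h' e he)

theorem SameComm.conj (hD : IsClosedSet D) {b c e : G} (he : e ∈ D) (h : SameComm D b c) :
    SameComm D (e * b * e) (e * c * e) := by
  intro f hf
  rw [← conj_comm_iff hD.1 he, conj_self_inv hD.1 he, ← conj_comm_iff hD.1 he (v := e * c * e),
    conj_self_inv hD.1 he]
  exact h _ (hD.2 e he f hf)

theorem SameComm.commute {b c : G} (hb : b ∈ D) (h : SameComm D b c) : Commute b c :=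
  (h b hb).mp (Commute.refl b)

/-- equal commuting sets act alike on the classes of equal commuting sets -/
theorem SameComm.conj_same (hD : IsClosedSet D) {x x' e : G} (hx : x ∈ D) (hx' : x' ∈ D) (he : e ∈ D)
    (h : SameComm D x x') : SameComm D (x * e * x) (x' * e * x') := by
  by_cases hxe : Commute x e
  · have hx'e : Commute x' e := ((h e he).mp hxe.symm).symm
    rw [conj_fix_of_commute hD.1 hx hxe, conj_fix_of_commute hD.1 hx' hx'e]
    exact SameComm.refl e
  · have hx'e : ¬ Commute x' e := fun h' => hxe ((h e he).mpr h'.symm).symm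
    rw [braid hD.1 hx he hxe, braid hD.1 hx' he hx'e]
    exact h.conj hD he

/-- the products of pairs with equal commuting sets, among members equal to `e`'s class -/
def classGroup (D : Set G) (e : G) : Subgroup G :=
  Subgroup.closure {g | ∃ v ∈ D, ∃ v' ∈ D, SameComm D e v ∧ SameComm D e v' ∧ g = v * v'}

/-- the products of all pairs with equal commuting sets -/
def pairGroup (D : Set G) : Subgroup G :=
  Subgroup.closure {g | ∃ v ∈ D, ∃ v' ∈ D, SameComm D v v' ∧ g = v * v'}

theorem classGroup_two (hD : IsClosedSet D) (e : G) : IsPGroup 2 ↥(classGroup D e) := by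
  have hcomm : ∀ g ∈ {g | ∃ v ∈ D, ∃ v' ∈ D, SameComm D e v ∧ SameComm D e v' ∧ g = v * v'},
      ∀ h ∈ {g | ∃ v ∈ D, ∃ v' ∈ D, SameComm D e v ∧ SameComm D e v' ∧ g = v * v'}, g * h = h * g := by
    rintro _ ⟨v, hv, v', hv', h1, h2, rfl⟩ _ ⟨w, hw, w', hw', h3, h4, rfl⟩
    have c : ∀ {s t : G}, s ∈ D → SameComm D e s → SameComm D e t → Commute s t :=
      fun hs a b => SameComm.commute hs (a.symm.trans b)
    exact ((c hv h1 h3).mul_right (c hv h1 h4)).mul_left ((c hv' h2 h3).mul_right (c hv' h2 h4))
  haveI : IsMulCommutative ↥(classGroup D e) := Subgroup.isMulCommutative_closure hcomm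
  have hsq : ∀ g, g ∈ classGroup D e → g * g = 1 := by
    intro g hg
    induction hg using Subgroup.closure_induction with
    | mem g hg =>
      obtain ⟨v, hv, v', hv', h1, h2, rfl⟩ := hg
      rw [(SameComm.commute hv' (h2.symm.trans h1)).mul_mul_mul_comm, mul_self hD.1 hv,
        mul_self hD.1 hv', one_mul]
    | one => simp
    | mul g h hg hh ihg ihh =>
      have hgh : (⟨h, hh⟩ : ↥(classGroup D e)) * ⟨g, hg⟩ = ⟨g, hg⟩ * ⟨h, hh⟩ := by
        exact mul_comm' (M := ↥(classGroup D e)) _ _
      rw [(show Commute h g from congrArg Subtype.val hgh).mul_mul_mul_comm, ihg, ihh, one_mul]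
    | inv g _ ih => rw [← mul_inv_rev, ih, inv_one]
  intro g
  exact ⟨1, Subtype.ext (by simpa [pow_two] using hsq g g.2)⟩

theorem pairGroup_le_closure : pairGroup D ≤ Subgroup.closure D := by
  refine (Subgroup.closure_le _).mpr ?_
  rintro _ ⟨v, hv, v', hv', -, rfl⟩
  exact mul_mem (Subgroup.subset_closure hv) (Subgroup.subset_closure hv')

theorem pairGroup_fix (hD : IsClosedSet D) {g : G} (hg : g ∈ pairGroup D) :
    ∀ e ∈ D, SameComm D e (g * e * g⁻¹) := by
  induction hg using Subgroup.closure_induction_left with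
  | one => intro e _; simpa using SameComm.refl e
  | mul_left x hx y hy ih =>
    intro e he
    have hy' := conj_mem_of_mem_closure hD (pairGroup_le_closure hy) e he
    obtain ⟨v, hv, v', hv', hvv, rfl⟩ := hx
    have h1 : SameComm D (y * e * y⁻¹) (v * v' * (y * e * y⁻¹) * (v * v')⁻¹) := by
      rw [mul_inv_rev, inv_eq hD.1 hv, inv_eq hD.1 hv']
      have := (hvv.conj_same hD hv hv' hy').conj hD hv
      rw [conj_self_inv hD.1 hv] at this
      convert this using 1
      group
    convert (ih e he).trans h1 using 1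
    group
  | inv_mul_cancel x hx y hy ih =>
    intro e he
    have hy' := conj_mem_of_mem_closure hD (pairGroup_le_closure hy) e he
    obtain ⟨v, hv, v', hv', hvv, rfl⟩ := hx
    have h1 : SameComm D (y * e * y⁻¹) ((v * v')⁻¹ * (y * e * y⁻¹) * ((v * v')⁻¹)⁻¹) := by
      rw [inv_inv, mul_inv_rev, inv_eq hD.1 hv, inv_eq hD.1 hv']
      have := ((hvv.conj_same hD hv hv' hy').symm).conj hD hv'
      rw [conj_self_inv hD.1 hv'] at this
      convert this using 1
      group
    convert (ih e he).trans h1 using 1
    group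

/-- the products of pairs lie in the 2-core of the generated group -/
theorem pairGroup_pGroup [Finite G] (hD : IsClosedSet D) : IsPGroup 2 ↥(pairGroup D) := by
  haveI : Fact (Nat.Prime 2) := ⟨Nat.prime_two⟩
  have key : ∀ e ∈ D, ((classGroup D e).subgroupOf (pairGroup D)) ≤ Cfsg.pCore 2 ↥(pairGroup D) := by
    intro e he
    refine le_sSup ⟨⟨fun n hn g => ?_⟩, (classGroup_two hD e).comap_subtype⟩
    rw [Subgroup.mem_subgroupOf] at hn ⊢
    show (g : G) * (n : G) * (g : G)⁻¹ ∈ classGroup D e
    have hmap : (classGroup D e).map (MulAut.conj (g : G)).toMonoidHom ≤ classGroup D e := by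
      rw [classGroup, MonoidHom.map_closure, Subgroup.closure_le]
      rintro _ ⟨_, ⟨v, hv, v', hv', h1, h2, rfl⟩, rfl⟩
      refine Subgroup.subset_closure ⟨_, conj_mem_of_mem_closure hD (pairGroup_le_closure g.2) v hv, _,
        conj_mem_of_mem_closure hD (pairGroup_le_closure g.2) v' hv', ?_, ?_, ?_⟩
      · exact h1.trans (pairGroup_fix hD g.2 v hv)
      · exact h2.trans (pairGroup_fix hD g.2 v' hv')
      · simp
    exact hmap ⟨_, hn, rfl⟩
  have htop : Cfsg.pCore 2 ↥(pairGroup D) = ⊤ := by
    rw [eq_top_iff]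
    rintro ⟨g, hg⟩ -
    have : pairGroup D ≤ (Cfsg.pCore 2 ↥(pairGroup D)).map (pairGroup D).subtype := by
      refine (Subgroup.closure_le _).mpr ?_
      rintro _ ⟨v, hv, v', hv', h, rfl⟩
      have hp : v * v' ∈ pairGroup D := Subgroup.subset_closure ⟨v, hv, v', hv', h, rfl⟩
      exact ⟨⟨v * v', hp⟩, key v hv (Subgroup.mem_subgroupOf.mpr
        (Subgroup.subset_closure ⟨v, hv, v', hv', SameComm.refl v, h, rfl⟩)), rfl⟩
    obtain ⟨k, hk, hkg⟩ := this hg
    obtain rfl : k = ⟨g, hg⟩ := Subtype.ext hkg
    exact hk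
  have hp := Cfsg.Agent.Lib.LargeExtra.Basic.pCore_isPGroup ↥(pairGroup D)
  rw [htop] at hp
  exact hp.of_equiv Subgroup.topEquiv

/-- Fischer's lemma: equal commuting sets give a product in the 2-core -/
theorem mul_mem_pCore [Finite G] (hD : IsClosedSet D) {b c : G} (hb : b ∈ D) (hc : c ∈ D)
    (h : SameComm D b c) :
    (⟨b * c, mul_mem (Subgroup.subset_closure hb) (Subgroup.subset_closure hc)⟩ : ↥(Subgroup.closure D)) ∈
      Cfsg.pCore 2 ↥(Subgroup.closure D) := by
  refine (le_sSup ⟨⟨fun n hn g => ?_⟩, (pairGroup_pGroup hD).comap_subtype⟩ :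
    (pairGroup D).subgroupOf (Subgroup.closure D) ≤ Cfsg.pCore 2 ↥(Subgroup.closure D))
    (Subgroup.mem_subgroupOf.mpr (Subgroup.subset_closure ⟨b, hb, c, hc, h, rfl⟩))
  rw [Subgroup.mem_subgroupOf] at hn ⊢
  show (g : G) * (n : G) * (g : G)⁻¹ ∈ pairGroup D
  have hmap : (pairGroup D).map (MulAut.conj (g : G)).toMonoidHom ≤ pairGroup D := by
    rw [pairGroup, MonoidHom.map_closure, Subgroup.closure_le]
    rintro _ ⟨_, ⟨v, hv, v', hv', h1, rfl⟩, rfl⟩
    refine Subgroup.subset_closure ⟨_, conj_mem_of_mem_closure hD g.2 v hv, _,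
      conj_mem_of_mem_closure hD g.2 v' hv', ?_, by simp⟩
    intro f hf
    have hf' := conj_mem_of_mem_closure hD (Subgroup.inv_mem _ g.2) f hf
    have := h1 _ hf'
    rw [← commute_conj_iff (g : G), ← commute_conj_iff (g : G) _ v'] at this
    simpa [mul_assoc] using this
  exact hmap ⟨_, hn, rfl⟩

end Cfsg.Agent.Lib.FischerMTypes.Basic
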