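import Mathlib
import Cfsg.Agent.Lib.FischerMTypes.Basic

/-!
Primitive 3-transposition groups with trivial centre: uniqueness of factorisations into two, and a
criterion for uniqueness of factorisations into three, commuting transpositions.
-/

set_option autoImplicit false
set_option linter.style.haveILetI false
set_option linter.unusedSectionVars false

namespace Cfsg.Agent.Lib.FischerMTypes.Primitive

open Cfsg.Agent.Lib.FischerMTypes.Basic

variable {G : Type*} [Group G] [Finite G] {D : Set G}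

/-- the transpositions other than `a` commuting with `a` -/
abbrev perp (D : Set G) (a : G) : Set G := {y : G | y ∈ D ∧ y ≠ a ∧ Commute a y}

/-- the transpositions other than `a`, `b` commuting with both -/
abbrev perp₂ (D : Set G) (a b : G) : Set G := perp D a ∩ perp D b

theorem closed (hD : Cfsg.IsThreeTranspositionGroup D) : IsClosedSet D := isClosedSet_of hD.1 hD.2.1

theorem conj_mem_perp_iff (hD : Cfsg.IsThreeTranspositionGroup D) (g a y : G) :
    g * y * g⁻¹ ∈ perp D (g * a * g⁻¹) ↔ y ∈ perp D a := by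
  show (g * y * g⁻¹ ∈ D ∧ g * y * g⁻¹ ≠ g * a * g⁻¹ ∧ Commute (MulAut.conj g a) (MulAut.conj g y)) ↔ _
  rw [commute_conj_iff]
  refine and_congr ⟨fun h => ?_, hD.2.1 g y⟩ (and_congr (by simp) Iff.rfl)
  simpa [mul_assoc] using hD.2.1 g⁻¹ _ h

theorem perp_closed (hD : Cfsg.IsThreeTranspositionGroup D) (a : G) : IsClosedSet (perp D a) := by
  refine ⟨⟨fun d h => hD.1.1 d h.1, fun d h e h' => hD.1.2 d h.1 e h'.1⟩, fun g hg y hy => ?_⟩
  have := (conj_mem_perp_iff hD g a y).mpr hy
  rwa [← hg.2.2.eq, mul_inv_cancel_right, inv_eq hD.1 hg.1] at this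

theorem perp₂_closed (hD : Cfsg.IsThreeTranspositionGroup D) (a b : G) : IsClosedSet (perp₂ D a b) :=
  ⟨⟨fun d h => hD.1.1 d h.1.1, fun d h e h' => hD.1.2 d h.1.1 e h'.1.1⟩, fun g hg y hy =>
    ⟨(perp_closed hD a).2 g hg.1 y hy.1, (perp_closed hD b).2 g hg.2 y hy.2⟩⟩

theorem exists_mem (hD : Cfsg.IsThreeTranspositionGroup D) (hprim : Cfsg.IsPrimitiveUnderConj D) :
    ∃ a ∈ D, ∃ b ∈ D, a ≠ b := hprim.2.1

theorem not_all_commute (hD : Cfsg.IsThreeTranspositionGroup D) (hprim : Cfsg.IsPrimitiveUnderConj D)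
    (hZ : Subgroup.center G = ⊥) : ∃ x ∈ D, ∃ y ∈ D, ¬ Commute x y := by
  by_contra h
  push Not at h
  obtain ⟨a, ha, -⟩ := exists_mem hD hprim
  have hac : a ∈ Subgroup.center G := by
    rw [Subgroup.mem_center_iff]
    intro g
    have hg : g ∈ Subgroup.closure D := hD.2.2 ▸ Subgroup.mem_top g
    induction hg using Subgroup.closure_induction with
    | mem x hx => exact (h x hx a ha).eq
    | one => simp
    | mul x y _ _ hx hy => exact (Commute.mul_left hx hy).eq
    | inv x _ hx => exact (Commute.inv_left hx).eq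
  rw [hZ, Subgroup.mem_bot] at hac
  exact ne_one hD.1 ha hac

/-- in a primitive centreless group inclusion of commuting sets forces equality -/
theorem eq_of_comm_subset (hD : Cfsg.IsThreeTranspositionGroup D) (hprim : Cfsg.IsPrimitiveUnderConj D)
    (hZ : Subgroup.center G = ⊥) {a b : G} (ha : a ∈ D) (hb : b ∈ D)
    (h : ∀ x ∈ D, Commute x a → Commute x b) : a = b := by
  let C : G → Set G := fun v => {x | x ∈ D ∧ Commute x v}
  have hC : ∀ (g v : G), (fun x => g * x * g⁻¹) '' C v = C (g * v * g⁻¹) := by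
    intro g v
    ext x
    constructor
    · rintro ⟨y, hy, rfl⟩
      exact ⟨hD.2.1 g y hy.1, (commute_conj_iff g y v).mpr hy.2⟩
    · intro hx
      refine ⟨g⁻¹ * x * g, ⟨by simpa using hD.2.1 g⁻¹ x hx.1, ?_⟩, by group⟩
      rw [← commute_conj_iff g]
      simpa [mul_assoc] using hx.2
  obtain ⟨g, hg⟩ := hprim.1 a ha b hb
  have hcard : (C b).ncard = (C a).ncard := by
    rw [← hg, ← hC]
    exact Set.ncard_image_of_injective _ (fun x y h => by simpa using h)
  have heq : C a = C b :=
    Set.eq_of_subset_of_ncard_le (fun x hx => ⟨hx.1, h x hx.1 hx.2⟩) hcard.le (Set.toFinite _)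
  let B : Set G := {v | v ∈ D ∧ C v = C a}
  have hblock := hprim.2.2 B (fun v hv => hv.1) (fun k => by
    by_cases hd : Disjoint ((fun x => k * x * k⁻¹) '' B) B
    · exact Or.inr hd
    left
    obtain ⟨w, hw1, hw2⟩ := Set.not_disjoint_iff.mp hd
    obtain ⟨v, hv, rfl⟩ := hw1
    have hk : (fun x => k * x * k⁻¹) '' C a = C a := by
      rw [← hv.2, hC]; exact hw2.2.trans hv.2.symm
    ext u
    constructor
    · rintro ⟨u', hu', rfl⟩
      exact ⟨hD.2.1 k u' hu'.1, by rw [← hC, hu'.2, hk]⟩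
    · intro hu
      refine ⟨k⁻¹ * u * k, ⟨by simpa using hD.2.1 k⁻¹ u hu.1, ?_⟩, by group⟩
      have : (fun x => k * x * k⁻¹) '' C (k⁻¹ * u * k) = (fun x => k * x * k⁻¹) '' C a := by
        rw [hC, hk, show k * (k⁻¹ * u * k) * k⁻¹ = u by group, hu.2]
      exact (Function.Injective.image_injective fun x y h => by simpa using h) this)
  rcases hblock with hs | hall
  · exact hs ⟨ha, rfl⟩ ⟨hb, heq.symm⟩
  · exfalso
    obtain ⟨x, hx, y, hy, hxy⟩ := not_all_commute hD hprim hZ
    have h1 : C x = C a := (hall ▸ hx : x ∈ B).2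
    have h2 : C y = C a := (hall ▸ hy : y ∈ B).2
    have : x ∈ C y := by rw [h2, ← h1]; exact ⟨hx, Commute.refl x⟩
    exact hxy this.2

/-- a transposition commuting with `a` is not commuting with all of `perp D a` unless it is `a` -/
theorem eq_of_comm_perp (hD : Cfsg.IsThreeTranspositionGroup D) (hprim : Cfsg.IsPrimitiveUnderConj D)
    (hZ : Subgroup.center G = ⊥) {a b : G} (ha : a ∈ D) (hb : b ∈ D) (hab : Commute a b)
    (h : ∀ x ∈ perp D a, Commute x b) : a = b := by
  refine eq_of_comm_subset hD hprim hZ ha hb fun x hx hxa => ?_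
  by_cases hxe : x = a
  · rw [hxe]; exact hab
  · exact h x ⟨hx, hxe, hxa.symm⟩

/-- inclusion of commuting sets forces equality -/
abbrev SubsetEq (D : Set G) : Prop :=
  ∀ a ∈ D, ∀ b ∈ D, (∀ x ∈ D, Commute x a → Commute x b) → a = b

theorem subsetEq_of_primitive (hD : Cfsg.IsThreeTranspositionGroup D) (hprim : Cfsg.IsPrimitiveUnderConj D)
    (hZ : Subgroup.center G = ⊥) : SubsetEq D := fun _ ha _ hb h => eq_of_comm_subset hD hprim hZ ha hb h

theorem SubsetEq.of_perp (hs : SubsetEq D) {a b : G} (ha : a ∈ D) (hb : b ∈ D) (hab : Commute a b)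
    (h : ∀ x ∈ perp D a, Commute x b) : a = b := by
  refine hs a ha b hb fun x hx hxa => ?_
  by_cases hxe : x = a
  · rw [hxe]; exact hab
  · exact h x ⟨hx, hxe, hxa.symm⟩

/-- factorisations into two commuting transpositions are unique -/
theorem pair_unique (hD : Cfsg.IsThreeTranspositionGroup D) (hprim : Cfsg.IsPrimitiveUnderConj D)
    (hZ : Subgroup.center G = ⊥) {a b c e : G} (ha : a ∈ D) (hb : b ∈ D) (hc : c ∈ D) (he : e ∈ D)
    (hab : Commute a b) (hce : Commute c e) (hne1 : a ≠ b) (hne : c ≠ e) (h : a * b = c * e) :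
    (a = c ∧ b = e) ∨ (a = e ∧ b = c) := by
  have hcj : Commute c (a * b) := by rw [h]; exact (Commute.refl c).mul_right hce
  have hej : Commute e (a * b) := by rw [h]; exact hce.symm.mul_right (Commute.refl e)
  have hac := (comm_of_comm_mul hD.1 ha hb hc hab hne1 hcj).1.symm
  have hae := (comm_of_comm_mul hD.1 ha hb he hab hne1 hej).1.symm
  by_cases h1 : a = c
  · subst h1; exact Or.inl ⟨rfl, mul_left_cancel h⟩
  by_cases h2 : a = e
  · subst h2; rw [hce.eq] at h; exact Or.inr ⟨rfl, mul_left_cancel h⟩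
  exact absurd (eq_of_comm_subset hD hprim hZ ha hb fun x hx hxa =>
    quad_one hD.1 ha hb hc he hx hab hce hac hae hne1 hne h1 h2 h hxa) hne1

/-- no transposition is the product of two commuting ones -/
theorem mul_not_mem (hD : Cfsg.IsThreeTranspositionGroup D) (hprim : Cfsg.IsPrimitiveUnderConj D)
    (hZ : Subgroup.center G = ⊥) {a b : G} (ha : a ∈ D) (hb : b ∈ D) (hab : Commute a b) (hne : a ≠ b) :
    a * b ∉ D := by
  intro hc
  refine hne (eq_of_comm_subset hD hprim hZ ha hb fun x hx hxa => ?_)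
  by_contra hxb
  have hxc : ¬ Commute x (a * b) := fun h => hxb (comm_of_comm_mul hD.1 ha hb hx hab hne h).2
  have h3 := cube_eq_one hD.1 hx hc hxc
  have hk : Commute a (x * b) := hxa.symm.mul_right hab
  rw [show x * (a * b) = a * (x * b) by rw [← mul_assoc, hxa.eq, mul_assoc], hk.mul_pow,
    cube_eq_one hD.1 hx hb hxb, mul_one, pow_three, mul_self hD.1 ha, mul_one] at h3
  exact ne_one hD.1 ha h3

/-- the level-one property -/
def NoTwins (D : Set G) (a : G) : Prop :=
  ∀ b ∈ perp D a, ∀ c ∈ perp D a, SameComm (perp D a) b c → b = c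

/-- the level-two property -/
def NoTwins₂ (D : Set G) (a b : G) : Prop :=
  ∀ c ∈ perp₂ D a b, ∀ e ∈ perp₂ D a b, c ≠ e → SameComm (perp₂ D a b) c e →
    ∀ x ∈ perp₂ D a b, Commute x c

/-- central 2-core gives the level-one property at that transposition -/
theorem noTwins_of_core (hD : Cfsg.IsThreeTranspositionGroup D) (hprim : Cfsg.IsPrimitiveUnderConj D)
    (hZ : Subgroup.center G = ⊥) {d : G} (hd : d ∈ D)
    (h2 : Cfsg.pCore 2 ↥(Subgroup.closure (perp D d)) ≤ Subgroup.center ↥(Subgroup.closure (perp D d))) :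
    NoTwins D d := by
  intro b hb c hc hs
  by_contra hne
  have hm := h2 (mul_mem_pCore (perp_closed hD d) hb hc hs)
  refine hb.2.1 (eq_of_comm_perp hD hprim hZ hd hb.1 hb.2.2 fun x hx => ?_).symm
  have := congrArg Subtype.val (Subgroup.mem_center_iff.mp hm ⟨x, Subgroup.subset_closure hx⟩)
  exact (comm_of_comm_mul hD.1 hb.1 hc.1 hx.1 (hs.commute hb) hne this).1

theorem NoTwins.all (hD : Cfsg.IsThreeTranspositionGroup D) (hprim : Cfsg.IsPrimitiveUnderConj D)
    {d : G} (hd : d ∈ D) (h : NoTwins D d) : ∀ a ∈ D, NoTwins D a := by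
  intro a ha b hb c hc hs
  obtain ⟨g, hg⟩ := hprim.1 a ha d hd
  subst hg
  have := h _ ((conj_mem_perp_iff hD g a b).mpr hb) _ ((conj_mem_perp_iff hD g a c).mpr hc) (fun x hx => by
    have hx' : g⁻¹ * x * g ∈ perp D a := (conj_mem_perp_iff hD g a _).mp (by simpa [mul_assoc] using hx)
    have := hs _ hx'
    rw [← commute_conj_iff g, ← commute_conj_iff g _ c] at this
    simpa [mul_assoc] using this)
  simpa using this

theorem NoTwins₂.conj (hD : Cfsg.IsThreeTranspositionGroup D) {a b : G} (h : NoTwins₂ D a b) (g : G) :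
    NoTwins₂ D (g * a * g⁻¹) (g * b * g⁻¹) := by
  have key : ∀ y, g⁻¹ * y * g ∈ perp₂ D a b ↔ y ∈ perp₂ D (g * a * g⁻¹) (g * b * g⁻¹) := by
    intro y
    have h1 := conj_mem_perp_iff hD g a (g⁻¹ * y * g)
    have h2 := conj_mem_perp_iff hD g b (g⁻¹ * y * g)
    rw [show g * (g⁻¹ * y * g) * g⁻¹ = y by group] at h1 h2
    exact and_congr h1.symm h2.symm
  intro c hc e he hne hs x hx
  have := h _ ((key c).mpr hc) _ ((key e).mpr he) (fun h => hne (by simpa using h)) (fun y hy => by
    have hy' := (key (g * y * g⁻¹)).mp (by simpa [mul_assoc] using hy)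
    have := hs _ hy'
    rw [show g * y * g⁻¹ = MulAut.conj g y from rfl,
      show c = MulAut.conj g (g⁻¹ * c * g) by simp [mul_assoc],
      show e = MulAut.conj g (g⁻¹ * e * g) by simp [mul_assoc], commute_conj_iff, commute_conj_iff] at this
    exact this) _ ((key x).mpr hx)
  rw [show x = MulAut.conj g (g⁻¹ * x * g) by simp [mul_assoc],
    show c = MulAut.conj g (g⁻¹ * c * g) by simp [mul_assoc], commute_conj_iff]
  exact this

/-- `x` failing to commute with three commuting transpositions fails to commute with their product -/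
theorem three_not_commute (hD : Cfsg.IsThreeTranspositionSet D) {c e f x : G} (hc : c ∈ D) (he : e ∈ D)
    (hf : f ∈ D) (hx : x ∈ D) (hce : Commute c e) (hcf : Commute c f) (hef : Commute e f) (hne : e ≠ f)
    (hxc : ¬ Commute x c) (hxe : ¬ Commute x e) (hxf : ¬ Commute x f) : ¬ Commute x (c * (e * f)) := by
  intro h
  have h4 := pow_four hD he hf hx hef hxe hxf
  have hxv : ¬ Commute x (e * f) := fun h' => hxe (comm_of_comm_mul hD he hf hx hef hne h').1
  generalize hv : e * f = v at h h4 hxv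
  have hvv : v * v = 1 := by rw [← hv, hef.symm.mul_mul_mul_comm, mul_self hD he, mul_self hD hf, one_mul]
  have hcv : Commute c v := hv ▸ hce.mul_right hcf
  have hb := braid hD hx hc hxc
  have h1 : c * x * c = v * x * v := by
    calc c * x * c = c * (x * (c * v)) * v := by
          rw [show c * (x * (c * v)) * v = c * x * c * (v * v) by group, hvv, mul_one]
      _ = c * (c * v * x) * v := by rw [h.eq]
      _ = (c * c) * (v * x * v) := by group
      _ = v * x * v := by rw [mul_self hD hc, one_mul]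
  have h2 : x * c = v * x * v * x := by
    rw [← h1, ← hb]
    calc x * c = x * c * (x * x) := by rw [mul_self hD hx, mul_one]
      _ = _ := by group
  have h3 := cube_eq_one hD hx hc hxc
  rw [h2] at h3
  have hy : (v * x) * (v * x) * ((v * x) * (v * x)) = 1 := by
    calc (v * x) * (v * x) * ((v * x) * (v * x)) = v * (x * v * (x * v) * (x * v * (x * v))) * v := by
          rw [show v * (x * v * (x * v) * (x * v * (x * v))) * v = v * x * (v * x) * (v * x * (v * x)) * (v * v) by
            group, hvv, mul_one]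
      _ = 1 := by rw [h4, mul_one, hvv]
  have hsq : (v * x) * (v * x) = 1 := by
    calc (v * x) * (v * x) = (v * x) * (v * x) * ((v * x) * (v * x) * ((v * x) * (v * x))) := by
          rw [hy, mul_one]
      _ = (v * x * v * x) ^ 3 := by rw [pow_three]; group
      _ = 1 := h3
  have := inv_eq_of_mul_eq_one_right hsq
  rw [mul_inv_rev, inv_eq hD hx, inv_eq_of_mul_eq_one_right hvv] at this
  exact hxv this

/-- six commuting transpositions: `x` commuting with two of them commutes with the other four or none -/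
theorem six_all_or_none (hD : Cfsg.IsThreeTranspositionSet D) {c e f h x : G} (hc : c ∈ D) (he : e ∈ D)
    (hf : f ∈ D) (hh : h ∈ D) (hx : x ∈ D) (hce : Commute c e) (hcf : Commute c f) (hch : Commute c h)
    (hef : Commute e f) (heh : Commute e h) (hfh : Commute f h) (n1 : c ≠ e) (n2 : c ≠ f) (n3 : c ≠ h)
    (n4 : e ≠ f) (n5 : e ≠ h) (n6 : f ≠ h) (hp : Commute x (c * e * (f * h))) (hxc : Commute x c) :
    Commute x e := by
  by_contra hxe
  have h2 : Commute x (e * (f * h)) := by
    have := hxc.mul_right hp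
    rwa [mul_assoc c e, ← mul_assoc c c, mul_self hD hc, one_mul] at this
  by_cases hxf : Commute x f
  · have h3 : Commute x (e * h) := by
      have := hxf.mul_right h2
      rwa [← mul_assoc, ← hef.eq, mul_assoc e f, ← mul_assoc f f, mul_self hD hf, one_mul] at this
    exact hxe (comm_of_comm_mul hD he hh hx heh n5 h3).1
  · by_cases hxh : Commute x h
    · have h3 : Commute x (e * f) := by
        have := h2.mul_right hxh
        rwa [← mul_assoc, mul_assoc (e * f), mul_self hD hh, mul_one] at this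
      exact hxe (comm_of_comm_mul hD he hf hx hef n4 h3).1
    · exact three_not_commute hD he hf hh hx hef heh hfh n6 hxe hxf hxh h2

/-- the product of a commuting quadruple centralised by a common neighbour: all or none -/
theorem six_iff (hD : Cfsg.IsThreeTranspositionSet D) {c e f h x : G} (hc : c ∈ D) (he : e ∈ D)
    (hf : f ∈ D) (hh : h ∈ D) (hx : x ∈ D) (hce : Commute c e) (hcf : Commute c f) (hch : Commute c h)
    (hef : Commute e f) (heh : Commute e h) (hfh : Commute f h) (n1 : c ≠ e) (n2 : c ≠ f) (n3 : c ≠ h)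
    (n4 : e ≠ f) (n5 : e ≠ h) (n6 : f ≠ h) (hp : Commute x (c * e * (f * h))) :
    Commute x c ↔ Commute x e :=
  ⟨six_all_or_none hD hc he hf hh hx hce hcf hch hef heh hfh n1 n2 n3 n4 n5 n6 hp,
    six_all_or_none hD he hc hf hh hx hce.symm hef heh hcf hch hfh n1.symm n4 n5 n2 n3 n6
      (by rwa [← hce.eq])⟩

/-- there are no six commuting transpositions with product one once both levels have no twins -/
theorem no_six (hD : Cfsg.IsThreeTranspositionGroup D) (hT : ∀ a ∈ D, NoTwins D a)
    (hT₂ : ∀ a ∈ D, ∀ b ∈ perp D a, NoTwins₂ D a b)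
    {a b c e f h : G} (hmem : ∀ u ∈ [a, b, c, e, f, h], u ∈ D)
    (hcom : ∀ u ∈ [a, b, c, e, f, h], ∀ v ∈ [a, b, c, e, f, h], Commute u v)
    (hnd : [a, b, c, e, f, h].Nodup) (hp : a * b = c * e * (f * h)) : False := by
  obtain ⟨ha, hb, hc, he, hf, hh⟩ : a ∈ D ∧ b ∈ D ∧ c ∈ D ∧ e ∈ D ∧ f ∈ D ∧ h ∈ D := by
    simpa [List.forall_mem_cons] using hmem
  simp only [List.nodup_cons, List.mem_cons, List.not_mem_nil, or_false, not_or, List.nodup_nil,
    and_true, not_false_eq_true] at hnd
  obtain ⟨⟨n1, n2, n3, n4, n5⟩, ⟨n6, n7, n8, n9⟩, ⟨n10, n11, n12⟩, ⟨n13, n14⟩, n15⟩ := hnd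
  have cab : Commute a b := hcom a (by simp) b (by simp)
  have cac : Commute a c := hcom a (by simp) c (by simp)
  have cae : Commute a e := hcom a (by simp) e (by simp)
  have cbc : Commute b c := hcom b (by simp) c (by simp)
  have cbe : Commute b e := hcom b (by simp) e (by simp)
  have cbf : Commute b f := hcom b (by simp) f (by simp)
  have cbh : Commute b h := hcom b (by simp) h (by simp)
  have cce : Commute c e := hcom c (by simp) e (by simp)
  have ccf : Commute c f := hcom c (by simp) f (by simp)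
  have cch : Commute c h := hcom c (by simp) h (by simp)
  have cef : Commute e f := hcom e (by simp) f (by simp)
  have ceh : Commute e h := hcom e (by simp) h (by simp)
  have cfh : Commute f h := hcom f (by simp) h (by simp)
  have hp2 : a * c = b * e * (f * h) := by
    have key : a * c = b * (c * e * (f * h)) * c := by
      rw [← hp, ← mul_assoc, ← cab.eq, mul_assoc a b b, mul_self hD.1 hb, mul_one]
    rw [key, show b * (c * e * (f * h)) * c = b * (c * (e * (f * h)) * c) by group,
      conj_fix_of_commute hD.1 hc (cce.mul_right (ccf.mul_right cch))]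
    group
  have hstep : ∀ {b c : G}, b ∈ perp D a → c ∈ perp D a → c ≠ b → Commute b c → e ≠ b → Commute b e →
      Commute c e → Commute c f → Commute c h → c ≠ e → c ≠ f → c ≠ h → a * b = c * e * (f * h) →
      ∀ x ∈ perp D a, Commute x b → Commute x c := by
    intro b c hb hc hcb hbc heb hbe hce hcf hch m1 m2 m3 hp x hx hxb
    by_cases hxb' : x = b
    · rw [hxb']; exact hbc
    refine hT₂ a ha b hb c ⟨hc, hc.1, hcb, hbc⟩ e ⟨⟨he, Ne.symm n3, cae⟩, he, heb, hbe⟩ m1 ?_ x
      ⟨hx, hx.1, hxb', hxb.symm⟩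
    intro y hy
    refine six_iff hD.1 hc.1 he hf hh hy.1.1 hce hcf hch cef ceh cfh m1 m2 m3 n13 n14 n15 ?_
    rw [← hp]
    exact hy.1.2.2.symm.mul_right hy.2.2.2.symm
  refine n6 (hT a ha b ⟨hb, fun h' => n1 h'.symm, cab⟩ c ⟨hc, fun h' => n2 h'.symm, cac⟩ fun x hx => ⟨?_, ?_⟩)
  · exact hstep ⟨hb, fun h' => n1 h'.symm, cab⟩ ⟨hc, fun h' => n2 h'.symm, cac⟩ (Ne.symm n6) cbc (Ne.symm n7)
      cbe cce ccf cch n10 n11 n12 hp x hx
  · exact hstep ⟨hc, fun h' => n2 h'.symm, cac⟩ ⟨hb, fun h' => n1 h'.symm, cab⟩ n6 cbc.symm (Ne.symm n10)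
      cce cbe cbf cbh n7 n8 n9 hp2 x hx

/-- uniqueness of factorisations into three commuting transpositions -/
theorem triple_unique (hD : Cfsg.IsThreeTranspositionGroup D) (hprim : Cfsg.IsPrimitiveUnderConj D)
    (hZ : Subgroup.center G = ⊥) (hT : ∀ a ∈ D, NoTwins D a)
    (hT₂ : ∀ a ∈ D, ∀ b ∈ perp D a, NoTwins₂ D a b)
    {a b c e f h : G} (hmem : ∀ u ∈ [a, b, c], u ∈ D) (hmem' : ∀ u ∈ [e, f, h], u ∈ D)
    (hcom : ∀ u ∈ [a, b, c], ∀ v ∈ [a, b, c], Commute u v)
    (hcom' : ∀ u ∈ [e, f, h], ∀ v ∈ [e, f, h], Commute u v)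
    (hnd : [a, b, c].Nodup) (hnd' : [e, f, h].Nodup) (hp : a * b * c = e * f * h) :
    ∀ x, x ∈ [a, b, c] → x ∈ [e, f, h] := by
  obtain ⟨ha, hb, hc⟩ : a ∈ D ∧ b ∈ D ∧ c ∈ D := by simpa [List.forall_mem_cons] using hmem
  obtain ⟨he, hf, hh⟩ : e ∈ D ∧ f ∈ D ∧ h ∈ D := by simpa [List.forall_mem_cons] using hmem'
  simp only [List.nodup_cons, List.mem_cons, List.not_mem_nil, or_false, not_or, List.nodup_nil,
    and_true, not_false_eq_true] at hnd hnd'
  obtain ⟨⟨n1, n2⟩, n3⟩ := hnd
  obtain ⟨⟨m1, m2⟩, m3⟩ := hnd'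
  have cab : Commute a b := hcom a (by simp) b (by simp)
  have cac : Commute a c := hcom a (by simp) c (by simp)
  have cbc : Commute b c := hcom b (by simp) c (by simp)
  have cef : Commute e f := hcom' e (by simp) f (by simp)
  have ceh : Commute e h := hcom' e (by simp) h (by simp)
  have cfh : Commute f h := hcom' f (by simp) h (by simp)
  have common : ∀ {u u₁ u₂ v v₁ v₂ : G}, u₁ ∈ D → u₂ ∈ D → v₁ ∈ D → v₂ ∈ D → Commute u₁ u₂ →
      Commute v₁ v₂ → u₁ ≠ u₂ → v₁ ≠ v₂ → u * (u₁ * u₂) = v * (v₁ * v₂) → u = v →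
      ∀ x, x = u ∨ x = u₁ ∨ x = u₂ → x = v ∨ x = v₁ ∨ x = v₂ := by
    intro u u₁ u₂ v v₁ v₂ h1 h2 h3 h4 c1 c2 k1 k2 hp huv x hx
    subst huv
    rcases pair_unique hD hprim hZ h1 h2 h3 h4 c1 c2 k1 k2 (mul_left_cancel hp) with ⟨rfl, rfl⟩ | ⟨rfl, rfl⟩
    · exact hx
    · rcases hx with h | h | h
      · exact Or.inl h
      · exact Or.inr (Or.inr h)
      · exact Or.inr (Or.inl h)
  have cperm : ∀ {u v w : G}, Commute u v → u * v * w = v * (u * w) := by
    intro u v w huv; rw [huv.eq, mul_assoc]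
  have cperm' : ∀ {u v w : G}, Commute u w → Commute v w → u * v * w = w * (u * v) := by
    intro u v w h1 h2; exact (h1.mul_left h2).eq
  -- a common member reduces to pairs
  by_cases hmeet : ∃ u ∈ [a, b, c], u ∈ [e, f, h]
  · obtain ⟨u, hu, hu'⟩ := hmeet
    intro x hx
    simp only [List.mem_cons, List.not_mem_nil, or_false] at hu hu' hx ⊢
    obtain ⟨u₁, u₂, d1, d2, c1, k1, hpu, hxu⟩ : ∃ u₁ u₂, u₁ ∈ D ∧ u₂ ∈ D ∧ Commute u₁ u₂ ∧ u₁ ≠ u₂ ∧
        a * b * c = u * (u₁ * u₂) ∧ (x = u ∨ x = u₁ ∨ x = u₂) := by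
      rcases hu with rfl | rfl | rfl
      · exact ⟨b, c, hb, hc, cbc, n3, mul_assoc _ _ _, hx⟩
      · exact ⟨a, c, ha, hc, cac, n2, cperm cab, or_left_comm.mp hx⟩
      · exact ⟨a, b, ha, hb, cab, n1, cperm' cac cbc, or_rotate.mp (or_rotate.mp hx)⟩
    obtain ⟨v₁, v₂, d3, d4, c2, k2, hpv, hxv⟩ : ∃ v₁ v₂, v₁ ∈ D ∧ v₂ ∈ D ∧ Commute v₁ v₂ ∧ v₁ ≠ v₂ ∧
        e * f * h = u * (v₁ * v₂) ∧ ((x = u ∨ x = v₁ ∨ x = v₂) → x = e ∨ x = f ∨ x = h) := by
      rcases hu' with rfl | rfl | rfl
      · exact ⟨f, h, hf, hh, cfh, m3, mul_assoc _ _ _, id⟩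
      · exact ⟨e, h, he, hh, ceh, m2, cperm cef, or_left_comm.mp⟩
      · exact ⟨e, f, he, hf, cef, m1, cperm' ceh cfh, or_rotate.mp⟩
    exact hxv (common d1 d2 d3 d4 c1 c2 k1 k2 (by rw [← hpu, ← hpv, hp]) rfl x hxu)
  exfalso
  push Not at hmeet
  have comm_j : ∀ v ∈ [e, f, h], Commute v (a * b * c) := by
    intro v hv
    rw [hp]
    exact ((hcom' v hv e (by simp)).mul_right (hcom' v hv f (by simp))).mul_right (hcom' v hv h (by simp))
  -- each member of the second triple commutes with the first triple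
  have cross : ∀ v ∈ [e, f, h], Commute v a ∧ Commute v b ∧ Commute v c := by
    intro v hv
    have hvD := hmem' v hv
    have hj := comm_j v hv
    by_cases hva : Commute v a
    · have h2 : Commute v (b * c) := by
        have := hva.mul_right hj
        rwa [mul_assoc a b c, ← mul_assoc a a, mul_self hD.1 ha, one_mul] at this
      exact ⟨hva, comm_of_comm_mul hD.1 hb hc hvD cbc n3 h2⟩
    · exfalso
      by_cases hvb : Commute v b
      · have h2 : Commute v (a * c) := by
          have := hvb.mul_right hj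
          rwa [cperm cab, ← mul_assoc b b, mul_self hD.1 hb, one_mul] at this
        exact hva (comm_of_comm_mul hD.1 ha hc hvD cac n2 h2).1
      · by_cases hvc : Commute v c
        · have h2 : Commute v (a * b) := by
            have := hj.mul_right hvc
            rwa [mul_assoc (a * b), mul_self hD.1 hc, mul_one] at this
          exact hva (comm_of_comm_mul hD.1 ha hb hvD cab n1 h2).1
        · exact three_not_commute hD.1 ha hb hc hvD cab cac cbc n3 hva hvb hvc (by rwa [← mul_assoc])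
  refine no_six hD hT hT₂ (a := a) (b := b) (c := c) (e := e) (f := f) (h := h) ?_ ?_ ?_ ?_
  · simp [List.forall_mem_cons, ha, hb, hc, he, hf, hh]
  · intro u hu v hv
    rw [show [a, b, c, e, f, h] = [a, b, c] ++ [e, f, h] from rfl, List.mem_append] at hu hv
    have cr : ∀ u ∈ [a, b, c], ∀ v ∈ [e, f, h], Commute v u := by
      intro u hu v hv
      obtain ⟨p1, p2, p3⟩ := cross v hv
      simp only [List.mem_cons, List.not_mem_nil, or_false] at hu
      rcases hu with rfl | rfl | rfl <;> assumption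
    rcases hu with hu | hu <;> rcases hv with hv | hv
    · exact hcom u hu v hv
    · exact (cr u hu v hv).symm
    · exact cr v hv u hu
    · exact hcom' u hu v hv
  · rw [show [a, b, c, e, f, h] = [a, b, c] ++ [e, f, h] from rfl, List.nodup_append]
    refine ⟨by simp [n1, n2, n3], by simp [m1, m2, m3], fun u hu v hv huv => hmeet u hu (huv ▸ hv)⟩
  · rw [mul_assoc c e, ← mul_assoc e f h, ← hp]
    have : Commute c (a * b) := cac.symm.mul_right cbc.symm
    rw [← mul_assoc, this.eq, mul_assoc, mul_self hD.1 hc, mul_one]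

end Cfsg.Agent.Lib.FischerMTypes.Primitive
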