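import Mathlib
import Cfsg.Agent.Lib.FischerMTypes.Primitive
import Cfsg.Agent.S0280

/-!
Consequences of the definitions of the types M(22) and M(23): the distinguished set is one class,
there are no twins, the 2-core is trivial.  The simplicity of PSU(6,2) is an explicit hypothesis.
-/

set_option autoImplicit false
set_option linter.style.haveILetI false
set_option linter.unusedSectionVars false

namespace Cfsg.Agent.Lib.FischerMTypes.Levels

open Cfsg.Agent.Lib.FischerMTypes.Basic Cfsg.Agent.Lib.FischerMTypes.Primitive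

/-- simplicity of PSU(6,2), to be supplied -/
def SimplePSU : Prop := ∀ (F : Type) [Field F] [Fintype F], Fintype.card F = 4 → IsSimpleGroup (Cfsg.PSU 6 F 2)

theorem psu_dvd (F : Type) [Field F] [Fintype F] (hF : Fintype.card F = 4) :
    2 ^ 15 ∣ Nat.card (Cfsg.PSU 6 F 2) ∧ 3 ∣ Nat.card (Cfsg.PSU 6 F 2) := by
  have h := Cfsg.Agent.S0280.result (F := F) (q := 2) (by rw [hF]; norm_num) 6 (by norm_num)
  have hp : (∏ i ∈ Finset.range 6, (if Even i then 2 ^ (i + 1) + 1 else 2 ^ (i + 1) - 1 : ℕ)) =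
      3 * 3 * 9 * 15 * 33 * 63 := by
    simp [Finset.prod_range_succ, Nat.even_iff]
  rw [hp] at h
  norm_num at h
  constructor <;> omega

theorem gl_not_dvd (m : ℕ) (hm : m = 6 ∨ m = 7) :
    ¬ 2 ^ 15 ∣ Nat.card (Matrix.GeneralLinearGroup (Fin m) (ZMod 3)) := by
  haveI : Fact (Nat.Prime 3) := ⟨by norm_num⟩
  rw [Matrix.card_GL_field]
  rcases hm with rfl | rfl <;> simp [Fin.prod_univ_succ, ZMod.card] <;> decide

theorem reflection_not_dvd {X : Type*} [Group X] {m : ℕ} (hm : m = 6 ∨ m = 7) {μ c : ZMod 3}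
    (h : Cfsg.IsProjReflectionGroupModThree X m μ c) : ¬ 2 ^ 15 ∣ Nat.card X := by
  haveI : Fact (Nat.Prime 3) := ⟨by norm_num⟩
  obtain ⟨Q, -, -, ⟨e⟩⟩ := h
  intro hd
  rw [Nat.card_congr e.toEquiv] at hd
  exact gl_not_dvd m hm ((hd.trans (Subgroup.card_quotient_dvd_card _)).trans
    ((Subgroup.card_subgroup_dvd_card _).trans (Subgroup.card_subgroup_dvd_card _)))

section Generic

variable {X : Type*} [Group X] [Finite X] {E : Set X}

/-- properties of the subgroup generated by the members commuting with `d` -/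
structure Good (E : Set X) (d : X) : Prop where
  split : ∀ O : Set X, O ⊆ perp E d → (∀ e ∈ perp E d, ∀ o ∈ O, e * o * e ∈ O) →
    (∀ o ∈ O, ∀ e ∈ perp E d, Commute e o) ∨
      ∀ e ∈ perp E d, ∃ g ∈ Subgroup.closure O, ∀ x ∈ perp E d, Commute x (g⁻¹ * e)
  core : Cfsg.pCore 2 ↥(Subgroup.closure (perp E d)) ≤ Subgroup.center ↥(Subgroup.closure (perp E d))
  noncomm : ∃ x ∈ perp E d, ∃ y ∈ perp E d, ¬ Commute x y
  dvd : 2 ^ 15 ∣ Nat.card (↥(Subgroup.closure (perp E d)) ⧸ Subgroup.center ↥(Subgroup.closure (perp E d)))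

theorem perp_closed' (hE : IsClosedSet E) (a : X) : IsClosedSet (perp E a) := by
  refine ⟨⟨fun d h => hE.1.1 d h.1, fun d h e h' => hE.1.2 d h.1 e h'.1⟩, fun g hg y hy => ?_⟩
  have hga : g * a * g = a := conj_fix_of_commute hE.1 hg.1 hg.2.2.symm
  refine ⟨hE.2 g hg.1 y hy.1, fun h => hy.2.1 ?_, ?_⟩
  · rw [← conj_self_inv hE.1 hg.1 y, h, hga]
  · rw [← hga]; exact (conj_comm_iff hE.1 hg.1).mpr hy.2.2

theorem conj_mem_all (hE : IsClosedSet E) (hgen : Subgroup.closure E = ⊤) (g : X) :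
    ∀ d ∈ E, g * d * g⁻¹ ∈ E := conj_mem_of_mem_closure hE (hgen ▸ Subgroup.mem_top g)

theorem center_of_commute_all (hgen : Subgroup.closure E = ⊤) {v : X} (h : ∀ e ∈ E, Commute e v) :
    v ∈ Subgroup.center X := by
  rw [Subgroup.mem_center_iff]
  intro g
  have hg : g ∈ Subgroup.closure E := hgen ▸ Subgroup.mem_top g
  induction hg using Subgroup.closure_induction with
  | mem x hx => exact (h x hx).eq
  | one => simp
  | mul x y _ _ hx hy => exact (Commute.mul_left hx hy).eq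
  | inv x _ hx => exact (Commute.inv_left hx).eq

theorem commute_closure {S : Set X} {u : X} (h : ∀ s ∈ S, Commute u s) :
    ∀ g ∈ Subgroup.closure S, Commute u g := by
  intro g hg
  induction hg using Subgroup.closure_induction with
  | mem x hx => exact h x hx
  | one => exact Commute.one_right u
  | mul x y _ _ hx hy => exact hx.mul_right hy
  | inv x _ hx => exact hx.inv_right

/-- one class, from goodness at `d` and a small group at a non-commuting pair -/
theorem single_class (hE : IsClosedSet E) (hgen : Subgroup.closure E = ⊤) (hZ : Subgroup.center X = ⊥)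
    {d c : X} (hd : d ∈ E) (hc : c ∈ E) (hdc : ¬ Commute d c) (hg : Good E d)
    (hL : ¬ 2 ^ 15 ∣ Nat.card (↥(Subgroup.closure (perp E d ∩ perp E c)) ⧸
      Subgroup.center ↥(Subgroup.closure (perp E d ∩ perp E c)))) :
    ∀ v ∈ E, ∃ g : X, g * d * g⁻¹ = v := by
  by_contra hcon
  push Not at hcon
  let D₂ : Set X := {v | v ∈ E ∧ ∀ g : X, g * d * g⁻¹ ≠ v}
  have hne : ∃ v, v ∈ D₂ := by obtain ⟨v, hv, h⟩ := hcon; exact ⟨v, hv, h⟩
  have hcomm : ∀ u ∈ E, u ∉ D₂ → ∀ v ∈ D₂, Commute u v := by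
    intro u hu hu2 v hv
    by_contra huv
    simp only [D₂, Set.mem_ofPred_eq, not_and, not_forall, not_not] at hu2
    obtain ⟨g, hg'⟩ := hu2 hu
    refine hv.2 (u * v * g) ?_
    have h := braid hE.1 hu hv.1 huv
    calc u * v * g * d * (u * v * g)⁻¹ = u * (v * (g * d * g⁻¹) * v⁻¹) * u⁻¹ := by group
      _ = u * (v * u * v) * u := by rw [hg', inv_eq hE.1 hv.1, inv_eq hE.1 hu]
      _ = v := by rw [← h, conj_self_inv hE.1 hu]
  have hdD : d ∉ D₂ := fun h => h.2 1 (by simp)
  have hcD : c ∉ D₂ := fun h => hdc (hcomm d hd hdD c h)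
  have hsub : D₂ ⊆ perp E d := fun v hv => ⟨hv.1, fun h => hdD (h ▸ hv), hcomm d hd hdD v hv⟩
  have hsub' : D₂ ⊆ perp E c := fun v hv => ⟨hv.1, fun h => hcD (h ▸ hv), hcomm c hc hcD v hv⟩
  have hclo : ∀ e ∈ E, ∀ o ∈ D₂, e * o * e ∈ D₂ := by
    intro e he o ho
    refine ⟨hE.2 e he o ho.1, fun g hg' => ho.2 (e * g) ?_⟩
    calc e * g * d * (e * g)⁻¹ = e * (g * d * g⁻¹) * e⁻¹ := by group
      _ = o := by rw [hg', inv_eq hE.1 he, conj_self_inv hE.1 he]
  rcases hg.split D₂ hsub (fun e he o ho => hclo e he.1 o ho) with h | h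
  · obtain ⟨v, hv⟩ := hne
    have : v ∈ Subgroup.center X := center_of_commute_all hgen fun e he => by
      by_cases he2 : e ∈ D₂
      · exact h v hv e (hsub he2)
      · exact hcomm e he he2 v hv
    rw [hZ, Subgroup.mem_bot] at this
    exact ne_one hE.1 hv.1 this
  · let H := Subgroup.closure (perp E d)
    let L := Subgroup.closure (perp E d ∩ perp E c)
    have hLH : L ≤ H := Subgroup.closure_mono Set.inter_subset_left
    have h2L : Subgroup.closure D₂ ≤ L := Subgroup.closure_mono fun v hv => ⟨hsub hv, hsub' hv⟩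
    have key : ∀ x : ↥H, ∃ g ∈ Subgroup.closure D₂, ∀ y ∈ perp E d, Commute y (g⁻¹ * (x : X)) := by
      rintro ⟨x, hx⟩
      induction hx using Subgroup.closure_induction with
      | mem x hx => exact h x hx
      | one => exact ⟨1, one_mem _, fun y _ => by simp⟩
      | mul x y hx hy ihx ihy =>
        obtain ⟨g, hg1, hg2⟩ := ihx
        obtain ⟨k, hk1, hk2⟩ := ihy
        refine ⟨g * k, mul_mem hg1 hk1, fun z hz => ?_⟩
        have hc' : Commute k (g⁻¹ * x) :=
          (commute_closure (u := g⁻¹ * x) (fun s hs => (hg2 s (hsub hs)).symm) k hk1).symm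
        have : (g * k)⁻¹ * (x * y) = (g⁻¹ * x) * (k⁻¹ * y) := by
          calc (g * k)⁻¹ * (x * y) = k⁻¹ * (g⁻¹ * x) * y := by group
            _ = (g⁻¹ * x) * k⁻¹ * y := by rw [hc'.inv_left.eq]
            _ = _ := by group
        rw [this]
        exact (hg2 z hz).mul_right (hk2 z hz)
      | inv x hx ih =>
        obtain ⟨g, hg1, hg2⟩ := ih
        refine ⟨g⁻¹, inv_mem hg1, fun z hz => ?_⟩
        have hc' : Commute g (g⁻¹ * x) :=
          (commute_closure (u := g⁻¹ * x) (fun s hs => (hg2 s (hsub hs)).symm) g hg1).symm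
        have : g⁻¹⁻¹ * x⁻¹ = (g⁻¹ * x)⁻¹ := by
          rw [mul_inv_rev, inv_inv]
          calc g * x⁻¹ = g * ((g⁻¹ * x)⁻¹ * g⁻¹) := by group
            _ = g * (g⁻¹ * (g⁻¹ * x)⁻¹) := by rw [hc'.inv_inv.eq]
            _ = (g⁻¹ * x)⁻¹ := by group
            _ = x⁻¹ * g := by group
        rw [this]
        exact (hg2 z hz).inv_right
    let θ : ↥L →* ↥H ⧸ Subgroup.center ↥H := (QuotientGroup.mk' _).comp (Subgroup.inclusion hLH)
    have hcent : ∀ x : ↥H, (∀ y ∈ perp E d, Commute y (x : X)) → x ∈ Subgroup.center ↥H := by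
      intro x hx
      rw [Subgroup.mem_center_iff]
      rintro ⟨g, hg⟩
      exact Subtype.ext (commute_closure (u := (x : X)) (fun s hs => (hx s hs).symm) g hg).eq.symm
    have hsurj : Function.Surjective θ := by
      intro q
      obtain ⟨x, rfl⟩ := QuotientGroup.mk_surjective q
      obtain ⟨g, hg1, hg2⟩ := key x
      refine ⟨⟨g, h2L hg1⟩, (QuotientGroup.eq.mpr (hcent _ fun y hy => ?_))⟩
      simpa using hg2 y hy
    have hker : θ.ker = Subgroup.center ↥L := by
      ext l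
      rw [MonoidHom.mem_ker]
      constructor
      · intro hl
        rw [Subgroup.mem_center_iff]
        intro k
        have := Subgroup.mem_center_iff.mp ((QuotientGroup.eq_one_iff _).mp hl) (Subgroup.inclusion hLH k)
        exact Subtype.ext (congrArg (fun t : ↥H => (t : X)) this)
      · intro hl
        refine (QuotientGroup.eq_one_iff _).mpr (hcent _ fun y hy => ?_)
        obtain ⟨g, hg1, hg2⟩ := h y hy
        have h1 : Commute (l : X) g := by
          have := Subgroup.mem_center_iff.mp hl ⟨g, h2L hg1⟩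
          exact (congrArg (fun t : ↥L => (t : X)) this).symm
        have h2 : Commute (l : X) (g⁻¹ * y) :=
          (commute_closure (S := perp E d) (u := g⁻¹ * y) (fun s hs => (hg2 s hs).symm) _ (hLH l.2)).symm
        have := h1.mul_right h2
        rw [← mul_assoc, mul_inv_cancel, one_mul] at this
        exact this.symm
    refine hL ?_
    have e := (QuotientGroup.quotientMulEquivOfEq hker.symm).trans
      (QuotientGroup.quotientKerEquivOfSurjective θ hsurj)
    rw [Nat.card_congr e.toEquiv]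
    exact hg.dvd

theorem sameComm_conj (hE : IsClosedSet E) (hgen : Subgroup.closure E = ⊤) (g : X) {u v : X}
    (h : SameComm E u v) : SameComm E (g * u * g⁻¹) (g * v * g⁻¹) := by
  intro f hf
  have := h _ (conj_mem_all hE hgen g⁻¹ f hf)
  rw [← commute_conj_iff g, ← commute_conj_iff g _ v] at this
  simpa [mul_assoc] using this

/-- twins in the whole set do not occur -/
theorem no_twins (hE : IsClosedSet E) (hgen : Subgroup.closure E = ⊤) {d : X} (hd : d ∈ E)
    (hg : Good E d) (htr : ∀ v ∈ E, ∃ g : X, g * d * g⁻¹ = v) :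
    ∀ u ∈ E, ∀ v ∈ E, SameComm E u v → u = v := by
  intro u hu v hv huv
  by_contra hne
  obtain ⟨g, hgu⟩ := htr u hu
  obtain ⟨w, hw, hwd, hdw⟩ : ∃ w ∈ E, w ≠ d ∧ SameComm E d w := by
    refine ⟨g⁻¹ * v * g, by simpa using conj_mem_all hE hgen g⁻¹ v hv, fun h => hne ?_, ?_⟩
    · rw [← hgu, ← h]; group
    · have := sameComm_conj hE hgen g⁻¹ huv
      rw [← hgu] at this
      simpa [mul_assoc] using this
  have hallc : ∀ x ∈ perp E d, ∀ y ∈ perp E d, Commute x y := by
    intro x hx y hy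
    by_cases hxw : SameComm E x d
    · have : Commute d y := hy.2.2
      exact ((hxw y hy.1).mpr this.symm).symm
    obtain ⟨k, hk⟩ := htr x hx.1
    obtain ⟨x', hx', hxx', hne'⟩ : ∃ x' ∈ E, SameComm E x x' ∧ x ≠ x' := by
      refine ⟨k * w * k⁻¹, conj_mem_all hE hgen k w hw, hk ▸ sameComm_conj hE hgen k hdw, fun h => hwd ?_⟩
      rw [← hk] at h
      simpa using h.symm
    have hx'p : x' ∈ perp E d := ⟨hx', fun h => hxw (h ▸ hxx'), (hxx' d hd).mp hx.2.2⟩
    have hm := hg.core (mul_mem_pCore (perp_closed' hE d) hx hx'p fun e he => hxx' e he.1)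
    have := congrArg Subtype.val (Subgroup.mem_center_iff.mp hm ⟨y, Subgroup.subset_closure hy⟩)
    exact (comm_of_comm_mul hE.1 hx.1 hx' hy.1 (hxx'.commute hx.1) hne' this).1.symm
  obtain ⟨x, hx, y, hy, hxy⟩ := hg.noncomm
  exact hxy (hallc x hx y hy)

/-- the 2-core is trivial -/
theorem core_bot (hE : IsClosedSet E) (hgen : Subgroup.closure E = ⊤) (hZ : Subgroup.center X = ⊥)
    {d : X} (hd : d ∈ E) (hg : Good E d) (htr : ∀ v ∈ E, ∃ g : X, g * d * g⁻¹ = v) :
    Cfsg.pCore 2 X = ⊥ := by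
  haveI : Fact (Nat.Prime 2) := ⟨Nat.prime_two⟩
  set N := Cfsg.pCore 2 X with hN
  have hNn : N.Normal := Cfsg.Agent.Lib.LargeExtra.Basic.pCore_normal' X
  have hN2 : IsPGroup 2 N := Cfsg.Agent.Lib.LargeExtra.Basic.pCore_isPGroup X
  let O : Set X := {v | v ∈ perp E d ∧ ∃ n ∈ N, n * d * n⁻¹ = v}
  have hcommN : ∀ n ∈ N, Commute d (n * d * n⁻¹) := by
    intro n hn
    by_contra hc
    have h3 := cube_eq_one hE.1 hd (conj_mem_all hE hgen n d hd) hc
    have hm : d * (n * d * n⁻¹) ∈ N := by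
      have := N.mul_mem (hNn.conj_mem n hn d) (N.inv_mem hn)
      rwa [inv_eq hE.1 hd, show d * n * d * n⁻¹ = d * (n * d * n⁻¹) by group] at this
    obtain ⟨k, hk⟩ := (IsPGroup.iff_orderOf.mp hN2) ⟨_, hm⟩
    have h3' : orderOf (d * (n * d * n⁻¹)) ∣ 3 := orderOf_dvd_of_pow_eq_one h3
    rw [Subgroup.orderOf_mk] at hk
    rw [hk] at h3'
    have : (2 : ℕ) ^ k = 1 := Nat.eq_one_of_dvd_coprimes (a := 2 ^ k) (b := 3)
      (Nat.Coprime.pow_left k (by norm_num)) dvd_rfl h3'
    rw [this, orderOf_eq_one_iff] at hk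
    refine hc ?_
    rw [eq_inv_of_mul_eq_one_right hk, inv_eq hE.1 hd]
  have hOsub : O ⊆ perp E d := fun v hv => hv.1
  have hOclo : ∀ e ∈ perp E d, ∀ o ∈ O, e * o * e ∈ O := by
    rintro e he o ⟨ho, n, hn, rfl⟩
    refine ⟨(perp_closed' hE d).2 e he _ ho, e * n * e⁻¹, hNn.conj_mem n hn e, ?_⟩
    rw [mul_inv_rev, mul_inv_rev, inv_inv, show e * n * e⁻¹ * d * (e * (n⁻¹ * e⁻¹)) =
      e * n * (e⁻¹ * d * e) * n⁻¹ * e⁻¹ by group, inv_eq hE.1 he.1,
      conj_fix_of_commute hE.1 he.1 he.2.2.symm]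
    group
  have hOab : ∀ o ∈ O, ∀ o' ∈ O, Commute o o' := by
    rintro _ ⟨-, n, hn, rfl⟩ _ ⟨-, m, hm, rfl⟩
    rw [← commute_conj_iff n⁻¹]
    simpa [mul_assoc] using hcommN (n⁻¹ * m) (N.mul_mem (N.inv_mem hn) hm)
  have hOcent : ∀ o ∈ O, ∀ e ∈ perp E d, Commute e o := by
    rcases hg.split O hOsub hOclo with h | h
    · exact h
    · exfalso
      obtain ⟨x, hx, y, hy, hxy⟩ := hg.noncomm
      obtain ⟨g, hg1, hg2⟩ := h x hx
      obtain ⟨k, hk1, hk2⟩ := h y hy
      have hgk : Commute g k :=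
        commute_closure (fun s hs => (commute_closure (fun t ht => hOab s hs t ht) g hg1).symm) k hk1
      have hgy : Commute g (k⁻¹ * y) :=
        (commute_closure (u := k⁻¹ * y) (fun s hs => (hk2 s (hOsub hs)).symm) g hg1).symm
      have h1 : Commute g y := by
        have := hgk.mul_right hgy
        rwa [← mul_assoc, mul_inv_cancel, one_mul] at this
      have h2 := (hg2 y hy).symm
      have := h1.mul_left h2
      rw [← mul_assoc, mul_inv_cancel, one_mul] at this
      exact hxy this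
  have hfix : ∀ n ∈ N, n * d * n⁻¹ = d := by
    intro n hn
    by_contra hne
    have hv : n * d * n⁻¹ ∈ O :=
      ⟨⟨conj_mem_all hE hgen n d hd, hne, hcommN n hn⟩, n, hn, rfl⟩
    refine hne (no_twins hE hgen hd hg htr _ (conj_mem_all hE hgen n d hd) d hd ?_)
    intro e he
    have hsub : ∀ f ∈ E, Commute f d → Commute f (n * d * n⁻¹) := fun f hf hfd => by
      by_cases hfd' : f = d
      · rw [hfd']; exact hcommN n hn
      · exact hOcent _ hv f ⟨hf, hfd', hfd.symm⟩
    let C : X → Set X := fun v => {x | x ∈ E ∧ Commute x v}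
    have himg : C (n * d * n⁻¹) = (fun x => n * x * n⁻¹) '' C d := by
      ext x
      constructor
      · intro hx
        refine ⟨n⁻¹ * x * n, ⟨by simpa using conj_mem_all hE hgen n⁻¹ x hx.1, ?_⟩, by group⟩
        rw [← commute_conj_iff n]
        simpa [mul_assoc] using hx.2
      · rintro ⟨y, hy, rfl⟩
        exact ⟨conj_mem_all hE hgen n y hy.1, (commute_conj_iff n y d).mpr hy.2⟩
    have heq : C d = C (n * d * n⁻¹) :=
      Set.eq_of_subset_of_ncard_le (fun x hx => ⟨hx.1, hsub x hx.1 hx.2⟩)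
        (by rw [himg, Set.ncard_image_of_injective _ (fun a b h => by simpa using h)]) (Set.toFinite _)
    exact ⟨fun h => ((heq ▸ ⟨he, h⟩ : e ∈ C d)).2, hsub e he⟩
  rw [← le_bot_iff, ← hZ]
  intro n hn
  refine center_of_commute_all hgen fun v hv => ?_
  obtain ⟨g, rfl⟩ := htr v hv
  have := mul_inv_eq_iff_eq_mul.mp (hfix _ (hNn.conj_mem n hn g⁻¹))
  rw [← commute_conj_iff g⁻¹]
  simpa [mul_assoc, Commute, SemiconjBy] using this.symm

end Generic

end Cfsg.Agent.Lib.FischerMTypes.Levels
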