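import Mathlib
import Cfsg.Agent.Lib.FischerMTypes.Levels

/-!
The types M(22), M(23), M(24): goodness of the witnesses and the level-two property.
-/

set_option autoImplicit false
set_option linter.style.haveILetI false
set_option linter.unusedSectionVars false

namespace Cfsg.Agent.Lib.FischerMTypes.Types

open Cfsg.Agent.Lib.FischerMTypes.Basic Cfsg.Agent.Lib.FischerMTypes.Primitive
  Cfsg.Agent.Lib.FischerMTypes.Levels

variable {X : Type*} [Group X]

theorem closure_congr_one {S T : Set X} (h : ∀ x, x ≠ 1 → (x ∈ S ↔ x ∈ T)) :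
    Subgroup.closure S = Subgroup.closure T := by
  refine le_antisymm ((Subgroup.closure_le _).mpr fun x hx => ?_) ((Subgroup.closure_le _).mpr fun x hx => ?_)
  · by_cases h1 : x = 1
    · rw [h1]; exact one_mem _
    · exact Subgroup.subset_closure ((h x h1).mp hx)
  · by_cases h1 : x = 1
    · rw [h1]; exact one_mem _
    · exact Subgroup.subset_closure ((h x h1).mpr hx)

theorem perp_erase (E : Set X) (d : X) :
    Subgroup.closure (perp (E \ {1}) d) = Subgroup.closure (perp E d) :=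
  closure_congr_one fun x hx => by simp [hx]

theorem perp₂_erase (E : Set X) (d c : X) :
    Subgroup.closure (perp (E \ {1}) d ∩ perp (E \ {1}) c) = Subgroup.closure (perp E d ∩ perp E c) :=
  closure_congr_one fun x hx => by simp [hx]

theorem mem_erase_of_noncommute {E : Set X} {d c : X} (hd : d ∈ E) (hc : c ∈ E) (h : ¬ Commute d c) :
    d ∈ E \ {1} ∧ c ∈ E \ {1} :=
  ⟨⟨hd, fun h1 => h (by rw [Set.mem_singleton_iff.mp h1]; exact Commute.one_left c)⟩,
    ⟨hc, fun h1 => h (by rw [Set.mem_singleton_iff.mp h1]; exact Commute.one_right d)⟩⟩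

/-- properties of a closed generating set used one level up -/
structure Quot (X : Type*) [Group X] (E : Set X) : Prop where
  closed : IsClosedSet E
  gen : Subgroup.closure E = ⊤
  centre : Subgroup.center X = ⊥

/-- erasing one from the image of a closed set in the quotient by the centre -/
theorem image_erase_closed {G : Type*} [Group G] {S : Set G} (hS : IsClosedSet S) (H : Subgroup G)
    (hH : H = Subgroup.closure S) :
    IsClosedSet (((QuotientGroup.mk : ↥H → ↥H ⧸ Subgroup.center ↥H) '' {x : ↥H | (x : G) ∈ S}) \ {1}) ∧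
    Subgroup.closure (((QuotientGroup.mk : ↥H → ↥H ⧸ Subgroup.center ↥H) '' {x : ↥H | (x : G) ∈ S}) \ {1}) = ⊤ := by
  let π := QuotientGroup.mk' (Subgroup.center ↥H)
  refine ⟨⟨⟨?_, ?_⟩, ?_⟩, ?_⟩
  · rintro _ ⟨⟨x, hx, rfl⟩, hne⟩
    refine orderOf_eq_prime ?_ hne
    show π x ^ 2 = 1
    rw [← map_pow, sq, show x * x = 1 from Subtype.ext (mul_self hS.1 hx), map_one]
  · rintro _ ⟨⟨x, hx, rfl⟩, -⟩ _ ⟨⟨y, hy, rfl⟩, -⟩
    show (π x * π y) ^ 2 = 1 ∨ (π x * π y) ^ 3 = 1
    rw [← map_mul, ← map_pow, ← map_pow]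
    rcases hS.1.2 _ hx _ hy with h | h
    · exact Or.inl (by rw [show (x * y) ^ 2 = 1 from Subtype.ext (by simpa using h), map_one])
    · exact Or.inr (by rw [show (x * y) ^ 3 = 1 from Subtype.ext (by simpa using h), map_one])
  · rintro _ ⟨⟨g, hg, rfl⟩, -⟩ _ ⟨⟨x, hx, rfl⟩, hne⟩
    refine ⟨⟨g * x * g, hS.2 _ hg _ hx, rfl⟩, fun h => hne ?_⟩
    have hgg : g * g = 1 := Subtype.ext (mul_self hS.1 hg)
    have h' : π g * π x * π g = 1 := h
    show π x = 1
    calc π x = π (g * g) * π x * π (g * g) := by rw [hgg, map_one]; simp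
      _ = π g * (π g * π x * π g) * π g := by rw [map_mul]; group
      _ = 1 := by rw [h', mul_one, ← map_mul, hgg, map_one]
  · have htop : Subgroup.closure {x : ↥H | (x : G) ∈ S} = ⊤ := by
      subst hH; exact Subgroup.closure_closure_coe_preimage
    rw [closure_congr_one (T := (QuotientGroup.mk : ↥H → ↥H ⧸ Subgroup.center ↥H) '' {x : ↥H | (x : G) ∈ S})
      fun x hx => by simp [hx]]
    rw [show (QuotientGroup.mk : ↥H → ↥H ⧸ Subgroup.center ↥H) = ⇑π from rfl, ← MonoidHom.map_closure,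
      htop, ← MonoidHom.range_eq_map, MonoidHom.range_eq_top.mpr (QuotientGroup.mk'_surjective _)]

variable [Finite X] {E : Set X}

theorem two_core_map {G K : Type*} [Group G] [Finite G] [Group K] (f : G →* K) (hf : Function.Surjective f) :
    (Cfsg.pCore 2 G).map f ≤ Cfsg.pCore 2 K :=
  le_sSup ⟨(Cfsg.Agent.Lib.LargeExtra.Basic.pCore_normal' G).map f hf,
    (Cfsg.Agent.Lib.LargeExtra.Basic.pCore_isPGroup G).map f⟩

theorem core_le_center {G : Type*} [Group G] [Finite G] (h : Cfsg.pCore 2 (G ⧸ Subgroup.center G) = ⊥) :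
    Cfsg.pCore 2 G ≤ Subgroup.center G := by
  intro x hx
  have := two_core_map (QuotientGroup.mk' (Subgroup.center G)) (QuotientGroup.mk'_surjective _) ⟨x, hx, rfl⟩
  rw [h, Subgroup.mem_bot] at this
  exact (QuotientGroup.eq_one_iff x).mp this

theorem commute_center {G : Type*} [Group G] {H : Subgroup G} {x : ↥H} (hx : x ∈ Subgroup.center ↥H)
    {y : G} (hy : y ∈ H) : Commute y (x : G) :=
  congrArg Subtype.val (Subgroup.mem_center_iff.mp hx ⟨y, hy⟩)

/-- goodness when the central quotient is PSU(6,2) -/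
theorem good_of_psu (hS : SimplePSU) (hE : IsClosedSet E) (d : X)
    (h : ∃ (F : Type) (_ : Field F) (_ : Fintype F), Fintype.card F = 4 ∧
      Nonempty (↥(Subgroup.closure (perp E d)) ⧸ Subgroup.center ↥(Subgroup.closure (perp E d)) ≃*
        Cfsg.PSU 6 F 2)) : Good E d := by
  obtain ⟨F, iF, iF', hF, ⟨e⟩⟩ := h
  obtain ⟨h15, h3⟩ := psu_dvd F hF
  haveI := hS F hF
  set H := Subgroup.closure (perp E d) with hH
  set π := QuotientGroup.mk' (Subgroup.center ↥H)
  haveI : Nontrivial (↥H ⧸ Subgroup.center ↥H) := e.toEquiv.nontrivial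
  haveI : IsSimpleGroup (↥H ⧸ Subgroup.center ↥H) :=
    IsSimpleGroup.isSimpleGroup_of_surjective e.symm.toMonoidHom e.symm.surjective
  have hdvd : 2 ^ 15 ∣ Nat.card (↥H ⧸ Subgroup.center ↥H) := by rw [Nat.card_congr e.toEquiv]; exact h15
  haveI : Fact (Nat.Prime 2) := ⟨Nat.prime_two⟩
  refine ⟨fun O hO hclo => ?_, core_le_center ?_, ?_, hdvd⟩
  · have hOH : Subgroup.closure O ≤ H := Subgroup.closure_mono hO
    let N := ((Subgroup.closure O).subgroupOf H).map π
    have hN : N.Normal := by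
      refine Subgroup.Normal.map ⟨fun n hn g => ?_⟩ π (QuotientGroup.mk'_surjective _)
      rw [Subgroup.mem_subgroupOf] at hn ⊢
      have hmap : ∀ k ∈ H, ∀ o ∈ O, k * o * k⁻¹ ∈ O := by
        intro k hk
        induction hk using Subgroup.closure_induction_left with
        | one => simp
        | mul_left x hx y _ ih =>
          intro o ho
          simpa [mul_assoc, inv_eq hE.1 hx.1] using hclo x hx _ (ih o ho)
        | inv_mul_cancel x hx y _ ih =>
          intro o ho
          simpa [mul_assoc, inv_eq hE.1 hx.1] using hclo x hx _ (ih o ho)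
      have : (Subgroup.closure O).map (MulAut.conj (g : X)).toMonoidHom ≤ Subgroup.closure O := by
        rw [MonoidHom.map_closure, Subgroup.closure_le]
        rintro _ ⟨o, ho, rfl⟩
        exact Subgroup.subset_closure (hmap g g.2 o ho)
      exact this ⟨_, hn, rfl⟩
    rcases hN.eq_bot_or_eq_top with hb | ht
    · refine Or.inl fun o ho e' he => ?_
      have hmem : π ⟨o, hOH (Subgroup.subset_closure ho)⟩ ∈ N :=
        Subgroup.mem_map_of_mem π (Subgroup.mem_subgroupOf.mpr (Subgroup.subset_closure ho))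
      rw [hb, Subgroup.mem_bot] at hmem
      exact commute_center ((QuotientGroup.eq_one_iff _).mp hmem) (Subgroup.subset_closure he)
    · refine Or.inr fun e' he => ?_
      have hmem : π ⟨e', Subgroup.subset_closure he⟩ ∈ N := ht ▸ Subgroup.mem_top _
      obtain ⟨g, hg, hge⟩ := hmem
      exact ⟨g, Subgroup.mem_subgroupOf.mp hg, fun x hx =>
        commute_center (x := g⁻¹ * ⟨e', Subgroup.subset_closure he⟩)
          (QuotientGroup.eq.mp (show (QuotientGroup.mk g : ↥H ⧸ Subgroup.center ↥H) = QuotientGroup.mk ⟨e', Subgroup.subset_closure he⟩ from hge)) (Subgroup.subset_closure hx)⟩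
  · rcases (Cfsg.Agent.Lib.LargeExtra.Basic.pCore_normal' (↥H ⧸ Subgroup.center ↥H)).eq_bot_or_eq_top with h | h
    · exact h
    · exfalso
      have hp := Cfsg.Agent.Lib.LargeExtra.Basic.pCore_isPGroup (↥H ⧸ Subgroup.center ↥H)
      rw [h] at hp
      obtain ⟨k, hk⟩ := (hp.of_equiv Subgroup.topEquiv).exists_card_eq
      rw [Nat.card_congr e.toEquiv] at hk
      rw [hk] at h3
      have := (Nat.prime_three.dvd_of_dvd_pow h3)
      omega
  · by_contra hc
    push Not at hc
    have hctr : Subgroup.center ↥H = ⊤ := by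
      rw [eq_top_iff]
      rintro ⟨g, hg⟩ -
      rw [Subgroup.mem_center_iff]
      rintro ⟨k, hk⟩
      exact Subtype.ext (commute_closure (u := g) (fun s hs =>
        (commute_closure (u := s) (fun t ht => hc s hs t ht) g hg).symm) k hk).eq.symm
    obtain ⟨a, b, hab⟩ := exists_pair_ne (↥H ⧸ Subgroup.center ↥H)
    obtain ⟨a', rfl⟩ := QuotientGroup.mk_surjective a
    obtain ⟨b', rfl⟩ := QuotientGroup.mk_surjective b
    exact hab (QuotientGroup.eq.mpr (hctr ▸ Subgroup.mem_top _))

/-- consequences used one level up -/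
structure Solid (X : Type*) [Group X] (E : Set X) : Prop where
  core : Cfsg.pCore 2 X = ⊥
  transitive : ∀ u ∈ E, ∀ v ∈ E, ∃ g : X, g * u * g⁻¹ = v
  dvd : 2 ^ 15 ∣ Nat.card X
  noncomm : ∃ u ∈ E, ∃ v ∈ E, ¬ Commute u v
  /-- transpositions with equal commuting sets inside a perp are central there -/
  noTwins : ∀ a ∈ E, ∀ b ∈ perp E a, ∀ c ∈ perp E a, b ≠ c → SameComm (perp E a) b c →
    ∀ x ∈ perp E a, Commute x b

theorem solid_of_good (hq : Quot X E) {d c : X} (hd : d ∈ E) (hc : c ∈ E) (hdc : ¬ Commute d c)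
    (hg : Good E d) (hL : ¬ 2 ^ 15 ∣ Nat.card (↥(Subgroup.closure (perp E d ∩ perp E c)) ⧸
      Subgroup.center ↥(Subgroup.closure (perp E d ∩ perp E c)))) : Solid X E := by
  have hs := single_class hq.closed hq.gen hq.centre hd hc hdc hg hL
  refine ⟨core_bot hq.closed hq.gen hq.centre hd hg hs, fun u hu v hv => ?_, ?_, ⟨d, hd, c, hc, hdc⟩, ?_⟩
  · obtain ⟨g, hg'⟩ := hs u hu
    obtain ⟨k, hk⟩ := hs v hv
    exact ⟨k * g⁻¹, by rw [← hg', ← hk]; group⟩
  · exact hg.dvd.trans ((Subgroup.card_quotient_dvd_card _).trans (Subgroup.card_subgroup_dvd_card _))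
  · intro a ha b hb c' hc' hne hsame
    obtain ⟨g, hga⟩ := hs a ha
    have mem : ∀ y, g⁻¹ * y * g ∈ perp E d ↔ y ∈ perp E a := by
      intro y
      show (g⁻¹ * y * g ∈ E ∧ g⁻¹ * y * g ≠ d ∧ Commute d (g⁻¹ * y * g)) ↔ _
      refine and_congr ⟨fun h => ?_, fun h => ?_⟩ (and_congr ?_ ?_)
      · simpa [mul_assoc] using conj_mem_all hq.closed hq.gen g _ h
      · simpa using conj_mem_all hq.closed hq.gen g⁻¹ _ h
      · rw [← hga]
        exact not_congr ⟨fun h => by rw [← h]; group, fun h => by rw [h]; group⟩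
      · rw [← commute_conj_iff g, ← hga]; simp [mul_assoc]
    have hm := hg.core (mul_mem_pCore (perp_closed' hq.closed d) ((mem b).mpr hb) ((mem c').mpr hc') (by
      intro f hf
      have hf' := (mem (g * f * g⁻¹)).mp (by simpa [mul_assoc] using hf)
      have := hsame _ hf'
      rw [← commute_conj_iff g⁻¹, ← commute_conj_iff g⁻¹ _ c'] at this
      simpa [mul_assoc] using this))
    intro x hx
    have h1 := commute_center hm (Subgroup.subset_closure ((mem x).mpr hx))
    rw [← commute_conj_iff g] at h1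
    have h2 : Commute x (b * c') := by simpa [mul_assoc] using h1
    exact (comm_of_comm_mul hq.closed.1 hb.1 hc'.1 hx.1 ((hsame b hb).mp (Commute.refl b)) hne h2).1

/-- goodness when the central quotient is solid -/
theorem good_of_solid {d : X} (hE : IsClosedSet E)
    (hY : Solid (↥(Subgroup.closure (perp E d)) ⧸ Subgroup.center ↥(Subgroup.closure (perp E d)))
      (((QuotientGroup.mk : ↥(Subgroup.closure (perp E d)) → _) '' {x | (x : X) ∈ perp E d}) \ {1})) :
    Good E d := by
  set H := Subgroup.closure (perp E d) with hH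
  refine ⟨fun O hO hclo => ?_, core_le_center hY.core, ?_, hY.dvd⟩
  · by_cases hall : ∀ o ∈ O, ∀ e ∈ perp E d, Commute e o
    · exact Or.inl hall
    push Not at hall
    obtain ⟨o, ho, f, hf, hfo⟩ := hall
    refine Or.inr fun e he => ?_
    by_cases hec : ∀ x ∈ perp E d, Commute x e
    · exact ⟨1, one_mem _, fun x hx => by simpa using hec x hx⟩
    push Not at hec
    obtain ⟨f', hf', hfe⟩ := hec
    have hne : ∀ {y : X} (hy : y ∈ perp E d) {z : X}, z ∈ perp E d → ¬ Commute z y →
        (QuotientGroup.mk (⟨y, Subgroup.subset_closure hy⟩ : ↥H) : ↥H ⧸ Subgroup.center ↥H) ∈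
          ((QuotientGroup.mk : ↥H → _) '' {x | (x : X) ∈ perp E d}) \ {1} := by
      intro y hy z hz hzy
      exact ⟨⟨_, hy, rfl⟩, fun h => hzy (commute_center ((QuotientGroup.eq_one_iff _).mp h)
        (Subgroup.subset_closure hz))⟩
    obtain ⟨q, hq⟩ := hY.transitive _ (hne (hO ho) hf hfo) _ (hne he hf' hfe)
    obtain ⟨k, rfl⟩ := QuotientGroup.mk_surjective q
    have hko : (k : X) * o * (k : X)⁻¹ ∈ O := by
      have : ∀ k ∈ H, ∀ o ∈ O, k * o * k⁻¹ ∈ O := by
        intro k hk
        induction hk using Subgroup.closure_induction_left with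
        | one => simp
        | mul_left x hx y _ ih =>
          intro o ho
          simpa [mul_assoc, inv_eq hE.1 hx.1] using hclo x hx _ (ih o ho)
        | inv_mul_cancel x hx y _ ih =>
          intro o ho
          simpa [mul_assoc, inv_eq hE.1 hx.1] using hclo x hx _ (ih o ho)
      exact this k k.2 o ho
    refine ⟨_, Subgroup.subset_closure hko, fun x hx => ?_⟩
    exact commute_center (x := (k * ⟨o, Subgroup.subset_closure (hO ho)⟩ * k⁻¹)⁻¹ * ⟨e, Subgroup.subset_closure he⟩)
      (QuotientGroup.eq.mp (show (QuotientGroup.mk (k * ⟨o, Subgroup.subset_closure (hO ho)⟩ * k⁻¹) :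
        ↥H ⧸ Subgroup.center ↥H) = QuotientGroup.mk ⟨e, Subgroup.subset_closure he⟩ from hq))
      (Subgroup.subset_closure hx)
  · obtain ⟨_, ⟨⟨x, hx, rfl⟩, -⟩, _, ⟨⟨y, hy, rfl⟩, -⟩, hxy⟩ := hY.noncomm
    exact ⟨x, hx, y, hy, fun h => hxy ((show Commute x y from Subtype.ext h).map (QuotientGroup.mk' _))⟩

/-- groups of type M(22) are solid -/
theorem solid_of_M22 (hS : SimplePSU) (hE : IsClosedSet (E \ {1})) (hgen : Subgroup.closure (E \ {1}) = ⊤)
    (h : Cfsg.IsOfTypeM22 X E) : Solid X (E \ {1}) := by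
  obtain ⟨hZ, d, hd, c, hc, hdc, hH, c₃, -, hL⟩ := h
  obtain ⟨hd', hc'⟩ := mem_erase_of_noncommute hd hc hdc
  refine solid_of_good ⟨hE, hgen, hZ⟩ hd' hc' hdc (good_of_psu hS hE d ?_) ?_
  · rw [perp_erase]; exact hH
  · rw [perp₂_erase]; exact reflection_not_dvd (Or.inl rfl) hL

/-- groups of type M(23) are solid -/
theorem solid_of_M23 (hS : SimplePSU) (hE : IsClosedSet (E \ {1})) (hgen : Subgroup.closure (E \ {1}) = ⊤)
    (h : Cfsg.IsOfTypeM23 X E) : Solid X (E \ {1}) := by
  obtain ⟨hZ, d, hd, c, hc, hdc, hH, c₃, -, hL⟩ := h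
  obtain ⟨hd', hc'⟩ := mem_erase_of_noncommute hd hc hdc
  refine solid_of_good ⟨hE, hgen, hZ⟩ hd' hc' hdc (good_of_solid hE ?_) ?_
  · have key : ∀ (K : Subgroup X) (S S₀ : Set X), K = Subgroup.closure S → IsClosedSet S →
        (∀ x, x ≠ 1 → (x ∈ S ↔ x ∈ S₀)) →
        Cfsg.IsOfTypeM22 (↥K ⧸ Subgroup.center ↥K) ((QuotientGroup.mk : ↥K → _) '' {x : ↥K | (x : X) ∈ S₀}) →
        Solid (↥K ⧸ Subgroup.center ↥K) (((QuotientGroup.mk : ↥K → _) '' {x : ↥K | (x : X) ∈ S}) \ {1}) := by
      intro K S S₀ hK hS' hag h22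
      obtain ⟨h1, h2⟩ := image_erase_closed hS' K hK
      have himg : ((QuotientGroup.mk : ↥K → ↥K ⧸ Subgroup.center ↥K) '' {x : ↥K | (x : X) ∈ S}) \ {1} =
          ((QuotientGroup.mk : ↥K → ↥K ⧸ Subgroup.center ↥K) '' {x : ↥K | (x : X) ∈ S₀}) \ {1} := by
        ext q
        constructor <;> rintro ⟨⟨x, hx, rfl⟩, hne⟩ <;> refine ⟨⟨x, ?_, rfl⟩, hne⟩
        · exact (hag _ fun h => hne (by rw [show x = 1 from Subtype.ext h]; rfl)).mp hx
        · exact (hag _ fun h => hne (by rw [show x = 1 from Subtype.ext h]; rfl)).mpr hx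
      rw [himg] at h1 h2 ⊢
      exact solid_of_M22 hS h1 h2 h22
    refine key _ _ (perp E d) rfl (perp_closed' hE d) (fun x hx => by simp [hx]) ?_
    rw [perp_erase]
    exact hH
  · rw [perp₂_erase]; exact reflection_not_dvd (Or.inr rfl) hL

end Cfsg.Agent.Lib.FischerMTypes.Types
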