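import Mathlib
import Cfsg.Agent.Lib.FischerMTypes.Types

/-!
The level-two property in groups of type M(23) and M(24) and uniqueness of factorisations.
-/

set_option autoImplicit false
set_option linter.style.haveILetI false
set_option linter.unusedSectionVars false

namespace Cfsg.Agent.Lib.FischerMTypes.Unique

open Cfsg.Agent.Lib.FischerMTypes.Basic Cfsg.Agent.Lib.FischerMTypes.Primitive
  Cfsg.Agent.Lib.FischerMTypes.Levels Cfsg.Agent.Lib.FischerMTypes.Types

variable {G : Type*} [Group G] [Finite G] {D : Set G}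

/-- the image in the quotient by the centre of a member of `perp D d` -/
def im (D : Set G) (d : G) {y : G} (hy : y ∈ perp D d) :
    ↥(Subgroup.closure (perp D d)) ⧸ Subgroup.center ↥(Subgroup.closure (perp D d)) :=
  QuotientGroup.mk ⟨y, Subgroup.subset_closure hy⟩

theorem im_ne_one (hD : Cfsg.IsThreeTranspositionGroup D) (hprim : Cfsg.IsPrimitiveUnderConj D)
    (hZ : Subgroup.center G = ⊥) {d : G} (hd : d ∈ D) {y : G} (hy : y ∈ perp D d) : im D d hy ≠ 1 := by
  intro h
  exact hy.2.1 (eq_of_comm_perp hD hprim hZ hd hy.1 hy.2.2 fun x hx =>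
    commute_center (x := ⟨y, Subgroup.subset_closure hy⟩) ((QuotientGroup.eq_one_iff _).mp h)
      (Subgroup.subset_closure hx)).symm

theorem im_commute_iff (hD : Cfsg.IsThreeTranspositionGroup D) {d x y : G} (hx : x ∈ perp D d)
    (hy : y ∈ perp D d) : Commute (im D d hx) (im D d hy) ↔ Commute x y := by
  have h3 : Cfsg.IsThreeTranspositionSet {u : ↥(Subgroup.closure (perp D d)) | (u : G) ∈ D} :=
    ⟨fun u hu => by rw [← Subgroup.orderOf_coe]; exact hD.1.1 _ hu, fun u hu v hv => by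
      rcases hD.1.2 _ hu _ hv with h | h
      · exact Or.inl (Subtype.ext (by simpa using h))
      · exact Or.inr (Subtype.ext (by simpa using h))⟩
  rw [im, im, commute_mk_iff h3 (x := ⟨x, Subgroup.subset_closure hx⟩) (e := ⟨y, Subgroup.subset_closure hy⟩) hx.1 hy.1]
  exact ⟨fun h => congrArg Subtype.val h, fun h => Subtype.ext h⟩

theorem im_injective (hD : Cfsg.IsThreeTranspositionGroup D) (hprim : Cfsg.IsPrimitiveUnderConj D)
    (hZ : Subgroup.center G = ⊥) {d : G} (hd : d ∈ D) {x y : G} (hx : x ∈ perp D d)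
    (hy : y ∈ perp D d) (h : im D d hx = im D d hy) : x = y := by
  by_contra hne
  have hc : Commute x y := (im_commute_iff hD hx hy).mp (by rw [h])
  have hm := QuotientGroup.eq.mp h
  refine hx.2.1 (eq_of_comm_perp hD hprim hZ hd hx.1 hx.2.2 fun u hu => ?_).symm
  have := commute_center hm (Subgroup.subset_closure hu)
  simp only [Subgroup.coe_mul, InvMemClass.coe_inv, inv_eq hD.1 hx.1] at this
  exact (comm_of_comm_mul hD.1 hx.1 hy.1 hu.1 hc hne this).1

theorem im_ne_one' (hs : SubsetEq D) {d : G} (hd : d ∈ D) {y : G} (hy : y ∈ perp D d) : im D d hy ≠ 1 := by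
  intro h
  exact hy.2.1 (hs.of_perp hd hy.1 hy.2.2 fun x hx =>
    commute_center (x := ⟨y, Subgroup.subset_closure hy⟩) ((QuotientGroup.eq_one_iff _).mp h)
      (Subgroup.subset_closure hx)).symm

theorem im_injective' (hD : Cfsg.IsThreeTranspositionGroup D) (hs : SubsetEq D) {d : G} (hd : d ∈ D) {x y : G}
    (hx : x ∈ perp D d) (hy : y ∈ perp D d) (h : im D d hx = im D d hy) : x = y := by
  by_contra hne
  have hc : Commute x y := (im_commute_iff hD hx hy).mp (by rw [h])
  have hm := QuotientGroup.eq.mp h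
  refine hx.2.1 (hs.of_perp hd hx.1 hx.2.2 fun u hu => ?_).symm
  have := commute_center hm (Subgroup.subset_closure hu)
  simp only [Subgroup.coe_mul, InvMemClass.coe_inv, inv_eq hD.1 hx.1] at this
  exact (comm_of_comm_mul hD.1 hx.1 hy.1 hu.1 hc hne this).1

/-- the level-two property at a transposition whose perp quotient is solid -/
theorem noTwins₂_of_solid (hD : Cfsg.IsThreeTranspositionGroup D) (hprim : Cfsg.IsPrimitiveUnderConj D)
    (hZ : Subgroup.center G = ⊥) {d : G} (hd : d ∈ D)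
    (hY : Solid (↥(Subgroup.closure (perp D d)) ⧸ Subgroup.center ↥(Subgroup.closure (perp D d)))
      (((QuotientGroup.mk : ↥(Subgroup.closure (perp D d)) → _) '' {x | (x : G) ∈ perp D d}) \ {1})) :
    ∀ a ∈ D, ∀ b ∈ perp D a, NoTwins₂ D a b := by
  have key : ∀ b ∈ perp D d, NoTwins₂ D d b := by
    intro b hb c hc e he hne hs x hx
    have hmem : ∀ {y : G} (hy : y ∈ perp D d), im D d hy ∈
        (((QuotientGroup.mk : ↥(Subgroup.closure (perp D d)) → _) '' {x | (x : G) ∈ perp D d}) \ {1}) :=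
      fun {y} hy => ⟨⟨_, hy, rfl⟩, im_ne_one hD hprim hZ hd hy⟩
    have hperp : ∀ {y : G} (hy : y ∈ perp₂ D d b), im D d hy.1 ∈
        perp (((QuotientGroup.mk : ↥(Subgroup.closure (perp D d)) → _) '' {x | (x : G) ∈ perp D d}) \ {1})
          (im D d hb) := by
      intro y hy
      exact ⟨hmem hy.1, fun h => hy.2.2.1 (im_injective hD hprim hZ hd hy.1 hb h),
        (im_commute_iff hD hb hy.1).mpr hy.2.2.2⟩
    rw [← im_commute_iff hD hx.1 hc.1]
    refine hY.noTwins _ (hmem hb) _ (hperp hc) _ (hperp he)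
      (fun h => hne (im_injective hD hprim hZ hd hc.1 he.1 h)) ?_ _ (hperp hx)
    rintro _ ⟨⟨⟨⟨y, hyH⟩, hy, rfl⟩, hy1⟩, hne', hcom⟩
    have hy' : y ∈ perp₂ D d b :=
      ⟨hy, hy.1, fun h => hne' (by subst h; rfl), (im_commute_iff hD hb hy).mp hcom⟩
    show Commute (im D d hy) _ ↔ Commute (im D d hy) _
    rw [im_commute_iff hD hy hc.1, im_commute_iff hD hy he.1]
    exact hs y hy'
  intro a ha b hb
  obtain ⟨g, hg⟩ := hprim.1 d hd a ha
  have hb' : g⁻¹ * b * g ∈ perp D d := by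
    rw [← conj_mem_perp_iff hD g d, hg]
    simpa [mul_assoc] using hb
  have := (key _ hb').conj hD g
  rw [hg, show g * (g⁻¹ * b * g) * g⁻¹ = b by group] at this
  exact this

/-- both levels without twins for the types M(23), M(24) -/
theorem levels (hS : SimplePSU) (hD : Cfsg.IsThreeTranspositionGroup D) (hprim : Cfsg.IsPrimitiveUnderConj D)
    (h : Cfsg.IsOfTypeM23 G D ∨ Cfsg.IsOfTypeM24 G D) :
    Subgroup.center G = ⊥ ∧ ∀ a ∈ D, ∀ b ∈ perp D a, NoTwins₂ D a b := by
  rcases h with ⟨hZ, d, hd, c, -, -, hH, -⟩ | ⟨hZ, d, hd, c, -, -, hH, -⟩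
  · obtain ⟨h1, h2⟩ := image_erase_closed (perp_closed hD d) (Subgroup.closure (perp D d)) rfl
    exact ⟨hZ, noTwins₂_of_solid hD hprim hZ hd (solid_of_M22 hS h1 h2 hH)⟩
  · obtain ⟨h1, h2⟩ := image_erase_closed (perp_closed hD d) (Subgroup.closure (perp D d)) rfl
    exact ⟨hZ, noTwins₂_of_solid hD hprim hZ hd (solid_of_M23 hS h1 h2 hH)⟩

theorem noTwins_all (hD : Cfsg.IsThreeTranspositionGroup D) (hprim : Cfsg.IsPrimitiveUnderConj D)
    (hZ : Subgroup.center G = ⊥) {d₀ : G} (hd₀ : d₀ ∈ D)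
    (h2 : Cfsg.pCore 2 ↥(Subgroup.closure (perp D d₀)) ≤ Subgroup.center ↥(Subgroup.closure (perp D d₀))) :
    ∀ a ∈ D, NoTwins D a :=
  (noTwins_of_core hD hprim hZ hd₀ h2).all hD hprim hd₀

/-- uniqueness of factorisations into at most three commuting transpositions -/
theorem factor_unique (hD : Cfsg.IsThreeTranspositionGroup D) (hprim : Cfsg.IsPrimitiveUnderConj D)
    (hZ : Subgroup.center G = ⊥) (hT : ∀ a ∈ D, NoTwins D a)
    (hT₂ : ∀ a ∈ D, ∀ b ∈ perp D a, NoTwins₂ D a b) (m : ℕ) (hm : m ≤ 3) (l l' : List G)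
    (hl : l.Nodup ∧ l.length = m ∧ (∀ a ∈ l, a ∈ D) ∧ (∀ a ∈ l, ∀ b ∈ l, Commute a b))
    (hl' : l'.Nodup ∧ l'.length = m ∧ (∀ a ∈ l', a ∈ D) ∧ (∀ a ∈ l', ∀ b ∈ l', Commute a b))
    (hp : l.prod = l'.prod) : ∀ x : G, x ∈ l ↔ x ∈ l' := by
  obtain ⟨hn, hlen, hd, hc⟩ := hl
  obtain ⟨hn', hlen', hd', hc'⟩ := hl'
  intro x
  interval_cases m
  · rw [List.length_eq_zero_iff] at hlen hlen'
    simp [hlen, hlen']
  · obtain ⟨a, rfl⟩ := List.length_eq_one_iff.mp hlen
    obtain ⟨b, rfl⟩ := List.length_eq_one_iff.mp hlen'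
    simp only [List.prod_singleton] at hp
    rw [hp]
  · obtain ⟨a, b, rfl⟩ := List.length_eq_two.mp hlen
    obtain ⟨c, e, rfl⟩ := List.length_eq_two.mp hlen'
    simp only [List.prod_cons, List.prod_nil, mul_one] at hp
    rcases pair_unique hD hprim hZ (hd a (by simp)) (hd b (by simp)) (hd' c (by simp)) (hd' e (by simp))
      (hc a (by simp) b (by simp)) (hc' c (by simp) e (by simp)) (by simpa using hn) (by simpa using hn') hp
      with ⟨rfl, rfl⟩ | ⟨rfl, rfl⟩
    · exact Iff.rfl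
    · simp [or_comm]
  · obtain ⟨a, b, c, rfl⟩ := List.length_eq_three.mp hlen
    obtain ⟨e, f, g, rfl⟩ := List.length_eq_three.mp hlen'
    simp only [List.prod_cons, List.prod_nil, mul_one, ← mul_assoc] at hp
    exact ⟨triple_unique hD hprim hZ hT hT₂ hd hd' hc hc' hn hn' hp x,
      triple_unique hD hprim hZ hT hT₂ hd' hd hc' hc hn' hn hp.symm x⟩

end Cfsg.Agent.Lib.FischerMTypes.Unique
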