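import Mathlib
import Cfsg.Agent.Lib.FischerMTypes.Unique
import Cfsg.Agent.Lib.UnitaryFour.Classes

/-!
Type M(22): the transpositions commuting with a given one behave like the isotropic points of a
six-dimensional unitary space over four elements; statements on pairs, lines and traces.
-/

set_option autoImplicit false
set_option linter.style.haveILetI false
set_option linter.unusedSectionVars false

namespace Cfsg.Agent.Lib.FischerMTypes.Lines

open Cfsg.Agent.Lib.FischerMTypes.Basic Cfsg.Agent.Lib.FischerMTypes.Primitive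
  Cfsg.Agent.Lib.FischerMTypes.Levels Cfsg.Agent.Lib.FischerMTypes.Types
  Cfsg.Agent.Lib.FischerMTypes.Unique
open Cfsg.Agent.Lib.Unitary (exists_SU_isotropic_pair exists_SU_isotropic exists_hyp herm_add_left
  herm_add_right herm_smul_left herm_smul_right herm_eq_zero_symm)
open Cfsg.Agent.Lib.UnitaryFour.Transvection Cfsg.Agent.Lib.UnitaryFour.Classes

variable {G : Type*} [Group G] [Finite G] {D : Set G}

/-- members of `perp₂ D a b` with the trace of `c` -/
abbrev traceClass (D : Set G) (a b c : G) : Set G :=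
  {y | y ∈ perp₂ D a b ∧ SameComm (perp₂ D a b) c y}

/-- five commuting members of `perp D a` with product central on `perp D a` -/
structure Five (D : Set G) (a b c p q r : G) : Prop where
  mem : ∀ y ∈ [b, c, p, q, r], y ∈ perp D a
  nodup : [b, c, p, q, r].Nodup
  comm : ∀ y ∈ [b, c, p, q, r], ∀ z ∈ [b, c, p, q, r], Commute y z
  central : ∀ x ∈ perp D a, Commute x (b * c * (p * q * r))

/-- the point and line properties of `perp D a` -/
structure LineData (D : Set G) (a : G) : Prop where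
  second : ∀ b ∈ perp D a, ∃ c ∈ perp D a, c ≠ b ∧ Commute b c
  five : ∀ b ∈ perp D a, ∀ c ∈ perp D a, b ≠ c → Commute b c → ∃ p q r, Five D a b c p q r
  bound : ∀ b ∈ perp D a, ∀ c ∈ perp₂ D a b, (traceClass D a b c).ncard ≤ 4
  trans : ∀ b ∈ perp D a, ∀ c ∈ perp D a, b ≠ c → Commute b c →
    ∀ b' ∈ perp D a, ∀ c' ∈ perp D a, b' ≠ c' → Commute b' c' →
      ∃ h ∈ Subgroup.closure (perp D a), h * b * h⁻¹ = b' ∧ h * c * h⁻¹ = c'

theorem five_conj (hD : Cfsg.IsThreeTranspositionGroup D) (g : G) {a b c p q r : G}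
    (h : Five D a b c p q r) :
    Five D (g * a * g⁻¹) (g * b * g⁻¹) (g * c * g⁻¹) (g * p * g⁻¹) (g * q * g⁻¹) (g * r * g⁻¹) := by
  have hl : [g * b * g⁻¹, g * c * g⁻¹, g * p * g⁻¹, g * q * g⁻¹, g * r * g⁻¹] =
      [b, c, p, q, r].map (MulAut.conj g) := by simp
  refine ⟨?_, ?_, ?_, fun x hx => ?_⟩
  · rw [hl]
    intro y hy
    obtain ⟨z, hz, rfl⟩ := List.mem_map.mp hy
    exact (conj_mem_perp_iff hD g a z).mpr (h.mem z hz)
  · rw [hl]; exact h.nodup.map (MulAut.conj g).injective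
  · rw [hl]
    intro y hy z hz
    obtain ⟨y', hy', rfl⟩ := List.mem_map.mp hy
    obtain ⟨z', hz', rfl⟩ := List.mem_map.mp hz
    exact (commute_conj_iff g y' z').mpr (h.comm y' hy' z' hz')
  · have hx' : g⁻¹ * x * g ∈ perp D a :=
      (conj_mem_perp_iff hD g a _).mp (by simpa [mul_assoc] using hx)
    have := (commute_conj_iff g _ _).mpr (h.central _ hx')
    simpa [mul_assoc] using this

theorem sameComm_conj' (hD : Cfsg.IsThreeTranspositionGroup D) (g : G) {a b c y : G}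
    (h : SameComm (perp₂ D a b) c y) :
    SameComm (perp₂ D (g * a * g⁻¹) (g * b * g⁻¹)) (g * c * g⁻¹) (g * y * g⁻¹) := by
  intro x hx
  have hx' : g⁻¹ * x * g ∈ perp₂ D a b :=
    ⟨(conj_mem_perp_iff hD g a _).mp (by simpa [mul_assoc] using hx.1),
      (conj_mem_perp_iff hD g b _).mp (by simpa [mul_assoc] using hx.2)⟩
  have := h _ hx'
  rw [← commute_conj_iff g, ← commute_conj_iff g _ y] at this
  simpa [mul_assoc] using this

theorem LineData.conj (hD : Cfsg.IsThreeTranspositionGroup D) {d : G} (h : LineData D d) (g : G) :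
    LineData D (g * d * g⁻¹) := by
  have back : ∀ {y : G}, y ∈ perp D (g * d * g⁻¹) → g⁻¹ * y * g ∈ perp D d := fun {y} hy =>
    (conj_mem_perp_iff hD g d _).mp (by simpa [mul_assoc] using hy)
  have hcb : ∀ {y z : G}, Commute y z → Commute (g⁻¹ * y * g) (g⁻¹ * z * g) := fun {y z} hc => by
    simpa using (commute_conj_iff g⁻¹ y z).mpr hc
  have hne : ∀ {y z : G}, y ≠ z → g⁻¹ * y * g ≠ g⁻¹ * z * g := fun {y z} hn he => hn (by simpa using he)
  refine ⟨fun b hb => ?_, fun b hb c hc hn hcm => ?_, fun b hb c hc => ?_,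
    fun b hb c hc hn hcm b' hb' c' hc' hn' hcm' => ?_⟩
  · obtain ⟨c, hc, hn, hcm⟩ := h.second _ (back hb)
    refine ⟨g * c * g⁻¹, (conj_mem_perp_iff hD g d c).mpr hc, fun he => hn ?_, ?_⟩
    · rw [← he]; group
    · have := (commute_conj_iff g _ _).mpr hcm
      simpa [mul_assoc] using this
  · obtain ⟨p, q, r, h5⟩ := h.five _ (back hb) _ (back hc) (hne hn) (hcb hcm)
    refine ⟨g * p * g⁻¹, g * q * g⁻¹, g * r * g⁻¹, ?_⟩
    have := five_conj hD g h5
    rwa [show g * (g⁻¹ * b * g) * g⁻¹ = b by group, show g * (g⁻¹ * c * g) * g⁻¹ = c by group] at this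
  · have hc' : g⁻¹ * c * g ∈ perp₂ D d (g⁻¹ * b * g) := by
      refine ⟨back hc.1, (conj_mem_perp_iff hD g _ _).mp ?_⟩
      simpa [mul_assoc] using hc.2
    refine le_trans (Set.ncard_le_ncard_of_injOn (fun y => g⁻¹ * y * g) ?_ (fun y _ z _ he => by simpa using he)
      (Set.toFinite _)) (h.bound _ (back hb) _ hc')
    intro y hy
    refine ⟨⟨back hy.1.1, (conj_mem_perp_iff hD g _ _).mp ?_⟩, ?_⟩
    · simpa [mul_assoc] using hy.1.2
    · have := sameComm_conj' hD g⁻¹ hy.2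
      simpa [mul_assoc] using this
  · obtain ⟨k, hk, hkb, hkc⟩ := h.trans _ (back hb) _ (back hc) (hne hn) (hcb hcm) _ (back hb') _ (back hc')
      (hne hn') (hcb hcm')
    refine ⟨g * k * g⁻¹, ?_, ?_, ?_⟩
    · have hle : (Subgroup.closure (perp D d)).map (MulAut.conj g).toMonoidHom ≤
          Subgroup.closure (perp D (g * d * g⁻¹)) := by
        rw [MonoidHom.map_closure, Subgroup.closure_le]
        rintro _ ⟨y, hy, rfl⟩
        exact Subgroup.subset_closure ((conj_mem_perp_iff hD g d y).mpr hy)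
      exact hle ⟨k, hk, rfl⟩
    · calc g * k * g⁻¹ * b * (g * k * g⁻¹)⁻¹ = g * (k * (g⁻¹ * b * g) * k⁻¹) * g⁻¹ := by group
        _ = b' := by rw [hkb]; group
    · calc g * k * g⁻¹ * c * (g * k * g⁻¹)⁻¹ = g * (k * (g⁻¹ * c * g) * k⁻¹) * g⁻¹ := by group
        _ = c' := by rw [hkc]; group

variable {F : Type*} [Field F] [Fintype F]

local notation "h⟪" u ", " v "⟫" => Cfsg.hermForm 6 F 2 u v

/-- the properties hold where the quotient is a central quotient of SU(6,2) -/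
theorem lineData_witness (hD : Cfsg.IsThreeTranspositionGroup D) (hs : SubsetEq D)
    {d : G} (hd : d ∈ D) (hF : Fintype.card F = 2 ^ 2)
    (φ : Cfsg.SU 6 F 2 →* ↥(Subgroup.closure (perp D d)) ⧸ Subgroup.center ↥(Subgroup.closure (perp D d)))
    (hφ : Function.Surjective φ) (hk : φ.ker ≤ Subgroup.center (Cfsg.SU 6 F 2)) : LineData D d := by
  obtain ⟨hcl, hgen⟩ := image_erase_closed (perp_closed hD d) (Subgroup.closure (perp D d)) rfl
  set E := (((QuotientGroup.mk : ↥(Subgroup.closure (perp D d)) →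
    ↥(Subgroup.closure (perp D d)) ⧸ Subgroup.center ↥(Subgroup.closure (perp D d))) ''
      {x | (x : G) ∈ perp D d}) \ {1}) with hE
  have hmemE : ∀ {y : G} (hy : y ∈ perp D d), im D d hy ∈ E := fun {y} hy =>
    ⟨⟨_, hy, rfl⟩, im_ne_one' hs hd hy⟩
  have hvec : ∀ {y : G} (hy : y ∈ perp D d), ∃ (v : Fin 6 → F) (hv : h⟪v, v⟫ = 0),
      v ≠ 0 ∧ im D d hy = φ (tv hF v hv) := fun {y} hy =>
    exists_tv_eq φ hF hφ hk (E := E) (fun x hx => ⟨ne_one hcl.1 hx, mul_self hcl.1 hx⟩) hcl.1.2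
      (fun g x hx => conj_mem_of_mem_closure hcl (hgen ▸ Subgroup.mem_top g) x hx) _ (hmemE hy)
  have hcomm : ∀ {y z : G} (hy : y ∈ perp D d) (hz : z ∈ perp D d) {v w : Fin 6 → F} (hv : h⟪v, v⟫ = 0)
      (hw : h⟪w, w⟫ = 0), im D d hy = φ (tv hF v hv) → im D d hz = φ (tv hF w hw) →
      (Commute y z ↔ h⟪v, w⟫ = 0) := by
    intro y z hy hz v w hv hw e1 e2
    rw [← im_commute_iff hD hy hz, e1, e2]
    exact commute_iff φ hF hk hv hw
  have heq : ∀ {y z : G} (hy : y ∈ perp D d) (hz : z ∈ perp D d) {v w : Fin 6 → F} (hv : h⟪v, v⟫ = 0)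
      (hw : h⟪w, w⟫ = 0), v ≠ 0 → w ≠ 0 → im D d hy = φ (tv hF v hv) → im D d hz = φ (tv hF w hw) →
      (y = z ↔ ∃ a : F, a ≠ 0 ∧ w = a • v) := by
    intro y z hy hz v w hv hw hv0 hw0 e1 e2
    rw [← eq_iff_parallel φ hF hk hv hw hv0 hw0, ← e1, ← e2]
    exact ⟨fun h => by subst h; rfl, fun h => im_injective' hD hs hd hy hz h⟩
  have hmove : ∀ (g : Cfsg.SU 6 F 2) {y : G} (hy : y ∈ perp D d) {v : Fin 6 → F} (hv : h⟪v, v⟫ = 0),
      im D d hy = φ (tv hF v hv) → ∀ k : ↥(Subgroup.closure (perp D d)), QuotientGroup.mk k = φ g →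
      ∃ hy' : (k : G) * y * (k : G)⁻¹ ∈ perp D d,
        im D d hy' = φ (tv hF (act g v) (by rw [act_herm]; exact hv)) := by
    intro g y hy v hv e1 k hk'
    refine ⟨conj_mem_of_mem_closure (perp_closed hD d) k.2 y hy, ?_⟩
    rw [tv_conj hF g hv, map_mul, map_mul, map_inv, ← e1, ← hk']
    rfl
  -- every isotropic point occurs
  have hpt : ∀ (w : Fin 6 → F) (hw : h⟪w, w⟫ = 0), w ≠ 0 →
      ∃ (y : G) (hy : y ∈ perp D d), im D d hy = φ (tv hF w hw) := by
    intro w hw hw0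
    obtain ⟨y₀, hy₀⟩ : (perp D d).Nonempty := by
      by_contra hempty
      have : E = ∅ := by
        rw [Set.not_nonempty_iff_eq_empty] at hempty
        simp [hE, hempty]
      rw [this, Subgroup.closure_empty] at hgen
      exact UnitaryFour.Classes.ne_one φ hF hk hw hw0 (Subgroup.mem_bot.mp (hgen ▸ Subgroup.mem_top _))
    obtain ⟨v, hv, hv0, e1⟩ := hvec hy₀
    obtain ⟨A, hdet, hA⟩ := exists_SU_isotropic hF (by norm_num) hv0 hv hw0 hw
    obtain ⟨k, hk'⟩ := QuotientGroup.mk_surjective (φ (⟨⟨A.1.1, hdet⟩, A.2⟩ : Cfsg.SU 6 F 2))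
    obtain ⟨hy', e2⟩ := hmove _ hy₀ hv e1 k hk'
    exact ⟨_, hy', e2.trans (congrArg φ (tv_eq_of_eq hF hA _ _))⟩
  have hline : ∀ {b c : G} (hb : b ∈ perp D d) (hc : c ∈ perp D d), b ≠ c → Commute b c →
      ∃ (u v : Fin 6 → F) (hu : h⟪u, u⟫ = 0) (hv : h⟪v, v⟫ = 0), LinearIndependent F ![u, v] ∧
        h⟪u, v⟫ = 0 ∧ im D d hb = φ (tv hF u hu) ∧ im D d hc = φ (tv hF v hv) := by
    intro b c hb hc hn hcm
    obtain ⟨u, hu, hu0, e1⟩ := hvec hb
    obtain ⟨v, hv, hv0, e2⟩ := hvec hc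
    refine ⟨u, v, hu, hv, ?_, (hcomm hb hc hu hv e1 e2).mp hcm, e1, e2⟩
    rw [LinearIndependent.pair_iff' hu0]
    intro a ha
    refine hn ((heq hb hc hu hv hu0 hv0 e1 e2).mpr ⟨a, fun h0 => hv0 ?_, ha.symm⟩)
    rw [← ha, h0, zero_smul]
  refine ⟨fun b hb => ?_, fun b hb c hc hn hcm => ?_, fun b hb c hc => ?_,
    fun b hb c hc hn hcm b' hb' c' hc' hn' hcm' => ?_⟩
  · -- a second point orthogonal to a given one
    obtain ⟨u, hu, hu0, e1⟩ := hvec hb
    obtain ⟨f, hf⟩ := exists_hyp hF hu0 hu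
    obtain ⟨g, hg, hgo, -⟩ := hf.exists_complement hF
    have hw : h⟪g 0 + g 1, g 0 + g 1⟫ = 0 := by
      simp [herm_add_left, herm_add_right _ _ _ hF, hg _ _]
      linear_combination two_eq_zero hF
    have hw0 : g 0 + g 1 ≠ 0 := fun h => by
      have := congrArg (fun z => h⟪z, g 0⟫) h
      simp [herm_add_left, hg _ _, Cfsg.Agent.Lib.Unitary.herm_zero_left] at this
    obtain ⟨c, hc, e2⟩ := hpt _ hw hw0
    refine ⟨c, hc, fun he => ?_, (hcomm hb hc hu hw e1 e2).mpr ?_⟩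
    · obtain ⟨a, -, ha⟩ := (heq hb hc hu hw hu0 hw0 e1 e2).mp he.symm
      have := congrArg (fun z => h⟪z, g 0⟫) ha
      simp [herm_add_left, herm_smul_left, hg _ _, herm_eq_zero_symm hF (hgo 0).1] at this
    · simp [herm_add_right _ _ _ hF, herm_eq_zero_symm hF (hgo _).1]
  · -- the five points of a line
    obtain ⟨u, v, hu, hv, hli, huv, e1, e2⟩ := hline hb hc hn hcm
    obtain ⟨o, ho0, ho1, ho⟩ := exists_omega hF
    have ho2 : o + 1 ≠ 0 := fun h => ho1 (by linear_combination h - two_eq_zero hF)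
    have hco : ∀ α β α' β' : F, α • u + β • v = α' • u + β' • v → α = α' ∧ β = β' := by
      intro α β α' β' h
      have := LinearIndependent.pair_iff.mp hli (α - α') (β - β') (by rw [sub_smul, sub_smul, ← sub_eq_zero.mpr h]; abel)
      exact ⟨sub_eq_zero.mp this.1, sub_eq_zero.mp this.2⟩
    have hw0 : ∀ a : F, u + a • v ≠ 0 := fun a h =>
      one_ne_zero (hco 1 a 0 0 (by simpa using h)).1
    have hY : ∀ a : F, ∃ (y : G) (hy : y ∈ perp D d),
        im D d hy = φ (tv hF (u + a • v) (herm_line hF hu hv huv a)) := fun a => hpt _ _ (hw0 a)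
    choose Y hY eY using hY
    have hu0 : u ≠ 0 := hli.ne_zero 0
    have hv0 : v ≠ 0 := hli.ne_zero 1
    have hYY : ∀ {a a' : F}, Y a = Y a' → a = a' := by
      intro a a' he
      obtain ⟨k, -, hk'⟩ := (heq (hY a) (hY a') _ _ (hw0 a) (hw0 a') (eY a) (eY a')).mp he
      rw [smul_add, smul_smul] at hk'
      obtain ⟨h1, h2⟩ := hco 1 a' k (k * a) (by simpa using hk')
      rw [h2, ← h1, one_mul]
    have hYb : ∀ {a : F}, a ≠ 0 → Y a ≠ b := by
      intro a ha he
      obtain ⟨k, -, hk'⟩ := (heq (hY a) hb _ hu (hw0 a) hu0 (eY a) e1).mp he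
      rw [smul_add, smul_smul] at hk'
      obtain ⟨h1, h2⟩ := hco 1 0 k (k * a) (by simpa using hk')
      rw [← h1, one_mul] at h2
      exact ha h2.symm
    have hYc : ∀ {a : F}, Y a ≠ c := by
      intro a he
      obtain ⟨k, hk0, hk'⟩ := (heq (hY a) hc _ hv (hw0 a) hv0 (eY a) e2).mp he
      rw [smul_add, smul_smul] at hk'
      exact hk0 (hco 0 1 k (k * a) (by simpa using hk')).1.symm
    have hvecs : ∀ y ∈ [b, c, Y 1, Y o, Y (o + 1)], ∃ (hy : y ∈ perp D d) (α β : F)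
        (h : h⟪α • u + β • v, α • u + β • v⟫ = 0), im D d hy = φ (tv hF (α • u + β • v) h) := by
      intro y hy
      simp only [List.mem_cons, List.not_mem_nil, or_false] at hy
      have hall : ∀ a : F, ∃ (hy : Y a ∈ perp D d) (α β : F)
          (h : h⟪α • u + β • v, α • u + β • v⟫ = 0), im D d hy = φ (tv hF (α • u + β • v) h) := fun a =>
        ⟨hY a, 1, a, by rw [one_smul]; exact herm_line hF hu hv huv a,
          (eY a).trans (congrArg φ (tv_eq_of_eq hF (by rw [one_smul]) _ _))⟩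
      rcases hy with rfl | rfl | rfl | rfl | rfl
      · exact ⟨hb, 1, 0, by simpa using hu, e1.trans (congrArg φ (tv_eq_of_eq hF (by simp) _ _))⟩
      · exact ⟨hc, 0, 1, by simpa using hv, e2.trans (congrArg φ (tv_eq_of_eq hF (by simp) _ _))⟩
      · exact hall 1
      · exact hall o
      · exact hall (o + 1)
    refine ⟨Y 1, Y o, Y (o + 1), ⟨fun y hy => (hvecs y hy).fst, ?_, fun y hy z hz => ?_, fun x hx => ?_⟩⟩
    · simp only [List.nodup_cons, List.mem_cons, List.not_mem_nil, or_false, not_or, List.nodup_nil,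
        and_true, not_false_eq_true]
      exact ⟨⟨hn, (hYb one_ne_zero).symm, (hYb ho0).symm, (hYb ho2).symm⟩, ⟨hYc.symm, hYc.symm, hYc.symm⟩,
        ⟨fun h => ho1 (hYY h).symm, fun h => ho0 (by linear_combination -(hYY h))⟩,
        fun h => one_ne_zero (α := F) (by linear_combination -(hYY h))⟩
    · obtain ⟨hy', α, β, hh, ey⟩ := hvecs y hy
      obtain ⟨hz', α', β', hh', ez⟩ := hvecs z hz
      refine (hcomm hy' hz' hh hh' ey ez).mpr ?_
      simp [herm_add_left, herm_add_right _ _ _ hF, herm_smul_left, herm_smul_right, hu, hv, huv,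
        herm_eq_zero_symm hF huv]
    · have hone : im D d hb * im D d hc * (im D d (hY 1) * im D d (hY o) * im D d (hY (o + 1))) = 1 := by
        rw [e1, e2, eY, eY, eY, ← map_mul, ← map_mul, ← map_mul, ← map_mul, (tv_comm hF hu hv huv).eq]
        rw [← map_one φ, ← tv_line hF hu hv huv ho]
        congr 1
        simp only [mul_assoc]
      have hmem : (⟨b, Subgroup.subset_closure hb⟩ * ⟨c, Subgroup.subset_closure hc⟩ *
          (⟨Y 1, Subgroup.subset_closure (hY 1)⟩ * ⟨Y o, Subgroup.subset_closure (hY o)⟩ *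
            ⟨Y (o + 1), Subgroup.subset_closure (hY (o + 1))⟩) : ↥(Subgroup.closure (perp D d))) ∈
          Subgroup.center ↥(Subgroup.closure (perp D d)) := (QuotientGroup.eq_one_iff _).mp hone
      simpa using commute_center hmem (Subgroup.subset_closure hx)
  · -- at most four points with a given trace
    obtain ⟨u, v, hu, hv, hli, huv, e1, e2⟩ := hline hb hc.1 hc.2.2.1.symm hc.2.2.2
    have hu0 : u ≠ 0 := hli.ne_zero 0
    have hw : ∀ a : F, h⟪a • u + v, a • u + v⟫ = 0 := fun a => by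
      simp [herm_add_left, herm_add_right _ _ _ hF, herm_smul_left, herm_smul_right, hu, hv, huv,
        herm_eq_zero_symm hF huv]
    have hw0 : ∀ a : F, a • u + v ≠ 0 := fun a h =>
      one_ne_zero (LinearIndependent.pair_iff.mp hli a 1 (by simpa using h)).2
    have hY : ∀ a : F, ∃ (y : G) (hy : y ∈ perp D d), im D d hy = φ (tv hF (a • u + v) (hw a)) :=
      fun a => hpt _ _ (hw0 a)
    choose Y hY eY using hY
    have hsub : traceClass D d b c ⊆ Y '' Set.univ := by
      rintro y ⟨hy, hsame⟩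
      obtain ⟨w, hww, hw0', e3⟩ := hvec hy.1
      have hwu : h⟪w, u⟫ = 0 := (hcomm hy.1 hb hww hu e3 e1).mp hy.2.2.2.symm
      have hwv : h⟪w, v⟫ = 0 := (hcomm hy.1 hc.1 hww hv e3 e2).mp ((hsame c hc).mp (Commute.refl c)).symm
      obtain ⟨α, β, hwl⟩ := mem_line hF hli hu hv huv hwu hwv fun z hz hzu hznp hzv => by
        have hz0 : z ≠ 0 := fun h => hznp 0 (by rw [h, zero_smul])
        obtain ⟨x, hx, e4⟩ := hpt z hz hz0
        have hxb : Commute x b := (hcomm hx hb hz hu e4 e1).mpr hzu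
        have hxne : x ≠ b := fun he => by
          obtain ⟨a, ha, hza⟩ := (heq hx hb hz hu hz0 hu0 e4 e1).mp he
          exact hznp a⁻¹ (by rw [hza, smul_smul, inv_mul_cancel₀ ha, one_smul])
        have hxy : Commute x y :=
          (hsame x ⟨hx, hx.1, hxne, hxb.symm⟩).mp ((hcomm hx hc.1 hz hv e4 e2).mpr hzv)
        exact (hcomm hx hy.1 hz hww e4 e3).mp hxy
      have hβ : β ≠ 0 := by
        intro h0
        rw [h0, zero_smul, add_zero] at hwl
        refine hy.2.2.1 ((heq hb hy.1 hu hww hu0 hw0' e1 e3).mpr ⟨α, fun hα => hw0' ?_, hwl⟩).symm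
        rw [hwl, hα, zero_smul]
      refine ⟨α * β⁻¹, Set.mem_univ _, (heq (hY _) hy.1 (hw _) hww (hw0 _) hw0' (eY _) e3).mpr ⟨β, hβ, ?_⟩⟩
      rw [hwl, smul_add, smul_smul]
      congr 2
      field_simp
    refine (Set.ncard_le_ncard hsub (Set.toFinite _)).trans ((Set.ncard_image_le Set.finite_univ).trans ?_)
    rw [Set.ncard_univ, Nat.card_eq_fintype_card, hF]
    norm_num
  · -- transitivity on pairs
    obtain ⟨u, v, hu, hv, hli, huv, e1, e2⟩ := hline hb hc hn hcm
    obtain ⟨u', v', hu', hv', hli', huv', e1', e2'⟩ := hline hb' hc' hn' hcm'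
    obtain ⟨A, a, ha, hdet, hA1, hA2⟩ := exists_SU_isotropic_pair hF hli hu hv huv hli' hu' hv' huv'
    obtain ⟨k, hk'⟩ := QuotientGroup.mk_surjective (φ (⟨⟨A.1.1, hdet⟩, A.2⟩ : Cfsg.SU 6 F 2))
    obtain ⟨hb2, eb⟩ := hmove _ hb hu e1 k hk'
    obtain ⟨hc2, ec⟩ := hmove _ hc hv e2 k hk'
    refine ⟨k, k.2, im_injective' hD hs hd hb2 hb' ?_, im_injective' hD hs hd hc2 hc' ?_⟩
    · rw [eb, e1', ← tv_smul hF hu' ha (by simp [herm_smul_left, herm_smul_right, hu'])]
      exact congrArg φ (tv_eq_of_eq hF hA1 _ _)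
    · rw [ec, e2']
      exact congrArg φ (tv_eq_of_eq hF hA2 _ _)

/-- the properties at every transposition of a group of type M(22) -/
theorem lineData (hD : Cfsg.IsThreeTranspositionGroup D) (hprim : Cfsg.IsPrimitiveUnderConj D)
    (h : Cfsg.IsOfTypeM22 G D) : Subgroup.center G = ⊥ ∧ ∀ a ∈ D, LineData D a := by
  obtain ⟨hZ, d, hd, c, -, -, ⟨F, iF, iF', hF, ⟨e⟩⟩, -⟩ := h
  refine ⟨hZ, fun a ha => ?_⟩
  obtain ⟨g, rfl⟩ := hprim.1 d hd a ha
  refine (lineData_witness hD (subsetEq_of_primitive hD hprim hZ) hd (F := F) (by rw [hF]; norm_num)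
    (e.symm.toMonoidHom.comp (QuotientGroup.mk' _)) (e.symm.surjective.comp (QuotientGroup.mk'_surjective _))
    ?_).conj hD g
  intro x hx
  rw [MonoidHom.mem_ker, MonoidHom.comp_apply] at hx
  exact (QuotientGroup.eq_one_iff x).mp (e.symm.injective (hx.trans (map_one _).symm))

end Cfsg.Agent.Lib.FischerMTypes.Lines
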