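import Mathlib
import Cfsg.Agent.Lib.FischerMTypes.Lines
import Cfsg.Agent.Lib.UnitaryFour.Stabilizer

/-!
Type M(22): at every transposition `a` the set `perp D a` is indexed by the isotropic points of the
six-dimensional unitary space over four elements.
-/

set_option autoImplicit false
set_option linter.style.haveILetI false
set_option linter.unusedSectionVars false

namespace Cfsg.Agent.Lib.FischerMTypes.PointModel

open Cfsg.Agent.Lib.FischerMTypes.Basic Cfsg.Agent.Lib.FischerMTypes.Primitive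
  Cfsg.Agent.Lib.FischerMTypes.Levels Cfsg.Agent.Lib.FischerMTypes.Types
  Cfsg.Agent.Lib.FischerMTypes.Unique
open Cfsg.Agent.Lib.Unitary (exists_SU_isotropic herm_smul_left herm_smul_right)
open Cfsg.Agent.Lib.UnitaryFour.Transvection Cfsg.Agent.Lib.UnitaryFour.Classes

variable {G : Type*} [Group G] [Finite G] {D : Set G}
variable {F : Type} [Field F] [Fintype F]

local notation "h⟪" u ", " v "⟫" => Cfsg.hermForm 6 F 2 u v

/-- `perp D a` modelled by a central quotient map from SU(6,2) -/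
structure Ctx (D : Set G) (a : G) (F : Type) [Field F] [Fintype F] where
  hD : Cfsg.IsThreeTranspositionGroup D
  hsub : SubsetEq D
  ha : a ∈ D
  hF : Fintype.card F = 2 ^ 2
  φ : Cfsg.SU 6 F 2 →* ↥(Subgroup.closure (perp D a)) ⧸ Subgroup.center ↥(Subgroup.closure (perp D a))
  surj : Function.Surjective φ
  ker : φ.ker ≤ Subgroup.center (Cfsg.SU 6 F 2)

variable {a : G} (C : Ctx D a F)

namespace Ctx

include C in
theorem quot_closed : IsClosedSet
      (((QuotientGroup.mk : ↥(Subgroup.closure (perp D a)) →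
        ↥(Subgroup.closure (perp D a)) ⧸ Subgroup.center ↥(Subgroup.closure (perp D a))) ''
        {x | (x : G) ∈ perp D a}) \ {1}) ∧
    Subgroup.closure (((QuotientGroup.mk : ↥(Subgroup.closure (perp D a)) →
        ↥(Subgroup.closure (perp D a)) ⧸ Subgroup.center ↥(Subgroup.closure (perp D a))) ''
        {x | (x : G) ∈ perp D a}) \ {1}) = ⊤ :=
  image_erase_closed (perp_closed C.hD a) (Subgroup.closure (perp D a)) rfl

theorem exists_vec {y : G} (hy : y ∈ perp D a) :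
    ∃ (v : Fin 6 → F) (hv : h⟪v, v⟫ = 0), v ≠ 0 ∧ im D a hy = C.φ (tv C.hF v hv) :=
  exists_tv_eq C.φ C.hF C.surj C.ker
    (fun x hx => ⟨ne_one C.quot_closed.1.1 hx, mul_self C.quot_closed.1.1 hx⟩) C.quot_closed.1.1.2
    (fun g x hx => conj_mem_of_mem_closure C.quot_closed.1 (C.quot_closed.2 ▸ Subgroup.mem_top g) x hx) _
    ⟨⟨_, hy, rfl⟩, im_ne_one' C.hsub C.ha hy⟩

theorem exists_point {w : Fin 6 → F} (hw : h⟪w, w⟫ = 0) (hw0 : w ≠ 0) :
    ∃ (y : G) (hy : y ∈ perp D a), im D a hy = C.φ (tv C.hF w hw) := by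
  obtain ⟨y₀, hy₀⟩ : (perp D a).Nonempty := by
    by_contra hempty
    rw [Set.not_nonempty_iff_eq_empty] at hempty
    have hgen := C.quot_closed.2
    rw [show {x : ↥(Subgroup.closure (perp D a)) | (x : G) ∈ perp D a} = ∅ by
      ext x; simp [hempty], Set.image_empty, Set.empty_diff, Subgroup.closure_empty] at hgen
    exact UnitaryFour.Classes.ne_one C.φ C.hF C.ker hw hw0 (Subgroup.mem_bot.mp (hgen ▸ Subgroup.mem_top _))
  obtain ⟨v, hv, hv0, e1⟩ := C.exists_vec hy₀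
  obtain ⟨A, hdet, hA⟩ := exists_SU_isotropic C.hF (by norm_num) hv0 hv hw0 hw
  set g : Cfsg.SU 6 F 2 := ⟨⟨A.1.1, hdet⟩, A.2⟩
  obtain ⟨k, hk⟩ := QuotientGroup.mk_surjective (C.φ g)
  refine ⟨_, conj_mem_of_mem_closure (perp_closed C.hD a) k.2 y₀ hy₀, ?_⟩
  rw [show tv C.hF w hw = tv C.hF (act g v) (by rw [act_herm]; exact hv) from tv_eq_of_eq C.hF hA.symm _ _,
    tv_conj C.hF g hv, map_mul, map_mul, map_inv, ← e1, ← hk]
  rfl

open Classical in
/-- the transposition at an isotropic vector -/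
noncomputable def pt (v : Fin 6 → F) : G :=
  if h : h⟪v, v⟫ = 0 ∧ v ≠ 0 then (C.exists_point h.1 h.2).choose else a

theorem pt_spec {v : Fin 6 → F} (hv : h⟪v, v⟫ = 0) (hv0 : v ≠ 0) :
    ∃ hy : C.pt v ∈ perp D a, im D a hy = C.φ (tv C.hF v hv) := by
  rw [pt, dif_pos ⟨hv, hv0⟩]
  exact (C.exists_point hv hv0).choose_spec

theorem pt_mem {v : Fin 6 → F} (hv : h⟪v, v⟫ = 0) (hv0 : v ≠ 0) : C.pt v ∈ perp D a :=
  (C.pt_spec hv hv0).fst

theorem pt_im {v : Fin 6 → F} (hv : h⟪v, v⟫ = 0) (hv0 : v ≠ 0) :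
    im D a (C.pt_mem hv hv0) = C.φ (tv C.hF v hv) :=
  (C.pt_spec hv hv0).snd

theorem pt_comm {v w : Fin 6 → F} (hv : h⟪v, v⟫ = 0) (hv0 : v ≠ 0) (hw : h⟪w, w⟫ = 0) (hw0 : w ≠ 0) :
    Commute (C.pt v) (C.pt w) ↔ h⟪v, w⟫ = 0 := by
  rw [← im_commute_iff C.hD (C.pt_mem hv hv0) (C.pt_mem hw hw0), C.pt_im hv hv0, C.pt_im hw hw0]
  exact commute_iff C.φ C.hF C.ker hv hw

theorem pt_eq {v w : Fin 6 → F} (hv : h⟪v, v⟫ = 0) (hv0 : v ≠ 0) (hw : h⟪w, w⟫ = 0) (hw0 : w ≠ 0) :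
    C.pt v = C.pt w ↔ ∃ c : F, c ≠ 0 ∧ w = c • v := by
  rw [← eq_iff_parallel C.φ C.hF C.ker hv hw hv0 hw0, ← C.pt_im hv hv0, ← C.pt_im hw hw0]
  constructor
  · intro h; congr 1
  · exact fun h => im_injective' C.hD C.hsub C.ha (C.pt_mem hv hv0) (C.pt_mem hw hw0) h

theorem exists_pt {y : G} (hy : y ∈ perp D a) : ∃ v, h⟪v, v⟫ = 0 ∧ v ≠ 0 ∧ C.pt v = y := by
  obtain ⟨v, hv, hv0, e⟩ := C.exists_vec hy
  exact ⟨v, hv, hv0, im_injective' C.hD C.hsub C.ha (C.pt_mem hv hv0) hy (by rw [C.pt_im hv hv0, e])⟩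

theorem pt_smul {v : Fin 6 → F} (hv : h⟪v, v⟫ = 0) (hv0 : v ≠ 0) {c : F} (hc : c ≠ 0) :
    C.pt (c • v) = C.pt v :=
  ((C.pt_eq hv hv0 (by simp [herm_smul_left, herm_smul_right, hv]) (smul_ne_zero hc hv0)).mpr
    ⟨c, hc, rfl⟩).symm

theorem pt_conj {v : Fin 6 → F} (hv : h⟪v, v⟫ = 0) (hv0 : v ≠ 0) (g : Cfsg.SU 6 F 2)
    {k : ↥(Subgroup.closure (perp D a))} (hk : QuotientGroup.mk k = C.φ g) :
    (k : G) * C.pt v * (k : G)⁻¹ = C.pt (act g v) := by
  have hw : h⟪act g v, act g v⟫ = 0 := by rw [act_herm]; exact hv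
  have hw0 : act g v ≠ 0 := fun h => hv0 (by
    rw [← act_inv_self g v, h]; simp [act_def])
  refine im_injective' C.hD C.hsub C.ha
    (conj_mem_of_mem_closure (perp_closed C.hD a) k.2 _ (C.pt_mem hv hv0)) (C.pt_mem hw hw0) ?_
  rw [C.pt_im hw hw0, tv_conj C.hF g hv hw, map_mul, map_mul, map_inv, ← C.pt_im hv hv0, ← hk]
  rfl

/-- numbers of points from numbers of vectors -/
theorem three_mul_ncard (P : G → Prop) :
    3 * {y | y ∈ perp D a ∧ P y}.ncard = {v : Fin 6 → F | h⟪v, v⟫ = 0 ∧ v ≠ 0 ∧ P (C.pt v)}.ncard := by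
  classical
  have hsel : ∀ y : {y // y ∈ perp D a ∧ P y}, ∃ v, h⟪v, v⟫ = 0 ∧ v ≠ 0 ∧ C.pt v = y.1 :=
    fun y => C.exists_pt y.2.1
  choose r hr1 hr2 hr3 using hsel
  let f : {y // y ∈ perp D a ∧ P y} × {c : F // c ≠ 0} → {v : Fin 6 → F // h⟪v, v⟫ = 0 ∧ v ≠ 0 ∧ P (C.pt v)} :=
    fun p => ⟨p.2.1 • r p.1, by simp [herm_smul_left, herm_smul_right, hr1 p.1],
      smul_ne_zero p.2.2 (hr2 p.1), by rw [C.pt_smul (hr1 p.1) (hr2 p.1) p.2.2, hr3]; exact p.1.2.2⟩
  have hf : Function.Bijective f := by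
    constructor
    · rintro ⟨y, c, hc⟩ ⟨y', c', hc'⟩ he
      have he' : c • r y = c' • r y' := congrArg Subtype.val he
      have : y = y' := Subtype.ext (by
        rw [← hr3 y, ← hr3 y', ← C.pt_smul (hr1 y) (hr2 y) hc, he', C.pt_smul (hr1 y') (hr2 y') hc'])
      subst this
      rw [Prod.mk.injEq]
      exact ⟨rfl, Subtype.ext (smul_left_injective F (hr2 y) he')⟩
    · rintro ⟨v, hv, hv0, hP⟩
      set y : {y // y ∈ perp D a ∧ P y} := ⟨C.pt v, C.pt_mem hv hv0, hP⟩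
      obtain ⟨c, hc, he⟩ := (C.pt_eq (hr1 y) (hr2 y) hv hv0).mp (hr3 y)
      exact ⟨(y, ⟨c, hc⟩), Subtype.ext he.symm⟩
  have h3 : Nat.card {c : F // c ≠ 0} = 3 := by
    rw [Nat.card_eq_fintype_card, Fintype.card_subtype_compl, C.hF, Fintype.card_subtype_eq]
    norm_num
  rw [← Nat.card_coe_set_eq, ← Nat.card_coe_set_eq]
  show 3 * Nat.card {y // y ∈ perp D a ∧ P y} = Nat.card {v : Fin 6 → F // h⟪v, v⟫ = 0 ∧ v ≠ 0 ∧ P (C.pt v)}
  rw [← Nat.card_congr (Equiv.ofBijective f hf), Nat.card_prod, h3, mul_comm]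

end Ctx

/-- a model exists at every transposition, from one class without inclusions of commuting sets -/
theorem exists_ctx' (hD : Cfsg.IsThreeTranspositionGroup D) (hcl : ∀ a ∈ D, ∀ b ∈ D, ∃ g : G, g * a * g⁻¹ = b)
    (hsub : SubsetEq D) (h : Cfsg.IsOfTypeM22 G D) :
    ∃ (F : Type) (_ : Field F) (_ : Fintype F), ∀ a ∈ D, Nonempty (Ctx D a F) := by
  obtain ⟨hZ, d, hd, c, -, -, ⟨F, iF, iF', hF, ⟨e⟩⟩, -⟩ := h
  refine ⟨F, iF, iF', fun a ha => ?_⟩
  obtain ⟨g, hg⟩ := hcl d hd a ha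
  set H := Subgroup.closure (perp D d) with hHdef
  set K := Subgroup.closure (perp D a) with hKdef
  have hmap : H.map (MulAut.conj g).toMonoidHom = K := by
    rw [hHdef, hKdef, MonoidHom.map_closure]
    congr 1
    ext y
    constructor
    · rintro ⟨x, hx, rfl⟩
      rw [← hg]
      exact (conj_mem_perp_iff hD g d x).mpr hx
    · intro hy
      refine ⟨g⁻¹ * y * g, (conj_mem_perp_iff hD g d _).mp ?_, by simp [mul_assoc]⟩
      rw [hg]
      simpa [mul_assoc] using hy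
  let ε : ↥H ≃* ↥K :=
    (Subgroup.equivMapOfInjective H (MulAut.conj g).toMonoidHom (MulAut.conj g).injective).trans
      (MulEquiv.subgroupCongr hmap)
  have hcen : ∀ x : ↥H, x ∈ Subgroup.center ↥H ↔ ε x ∈ Subgroup.center ↥K := by
    intro x
    simp only [Subgroup.mem_center_iff]
    constructor
    · intro hx y
      obtain ⟨y, rfl⟩ := ε.surjective y
      rw [← map_mul, ← map_mul, hx y]
    · intro hx y
      exact ε.injective (by rw [map_mul, map_mul, hx (ε y)])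
  let θ : ↥H ⧸ Subgroup.center ↥H →* ↥K ⧸ Subgroup.center ↥K :=
    QuotientGroup.map _ _ ε.toMonoidHom fun x hx => (hcen x).mp hx
  have hθinj : Function.Injective θ := by
    rw [injective_iff_map_eq_one]
    intro q hq
    obtain ⟨x, rfl⟩ := QuotientGroup.mk_surjective q
    exact (QuotientGroup.eq_one_iff x).mpr ((hcen x).mpr ((QuotientGroup.eq_one_iff _).mp hq))
  have hθsurj : Function.Surjective θ := by
    intro q
    obtain ⟨y, rfl⟩ := QuotientGroup.mk_surjective q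
    obtain ⟨x, rfl⟩ := ε.surjective y
    exact ⟨QuotientGroup.mk x, rfl⟩
  refine ⟨⟨hD, hsub, ha, by rw [hF]; norm_num,
    θ.comp (e.symm.toMonoidHom.comp (QuotientGroup.mk' _)),
    hθsurj.comp (e.symm.surjective.comp (QuotientGroup.mk'_surjective _)), fun x hx => ?_⟩⟩
  rw [MonoidHom.mem_ker, MonoidHom.comp_apply, MonoidHom.comp_apply] at hx
  exact (QuotientGroup.eq_one_iff x).mp (e.symm.injective
    ((hθinj (hx.trans (map_one θ).symm)).trans (map_one e.symm).symm))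

/-- a model exists at every transposition of a group of type M(22) -/
theorem exists_ctx (hD : Cfsg.IsThreeTranspositionGroup D) (hprim : Cfsg.IsPrimitiveUnderConj D)
    (h : Cfsg.IsOfTypeM22 G D) :
    ∃ (F : Type) (_ : Field F) (_ : Fintype F), ∀ a ∈ D, Nonempty (Ctx D a F) :=
  exists_ctx' hD hprim.1 (subsetEq_of_primitive hD hprim h.1) h

end Cfsg.Agent.Lib.FischerMTypes.PointModel
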