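import Mathlib
import Cfsg.Agent.Lib.FischerMTypes.PointModel
import Cfsg.Agent.Lib.UnitaryFour.Counts

/-!
Type M(22): numbers of transpositions in `perp D a` commuting with given ones, and transitivity of
the stabiliser of a point.
-/

set_option autoImplicit false
set_option linter.style.haveILetI false
set_option linter.unusedSectionVars false

namespace Cfsg.Agent.Lib.FischerMTypes.PointModel

open Cfsg.Agent.Lib.FischerMTypes.Basic Cfsg.Agent.Lib.FischerMTypes.Primitive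
  Cfsg.Agent.Lib.FischerMTypes.Levels Cfsg.Agent.Lib.FischerMTypes.Types
open Cfsg.Agent.Lib.Unitary (Hyp herm_smul_left herm_smul_right herm_eq_zero_symm herm_zero_left
  herm_add_right herm_conj)
open Cfsg.Agent.Lib.UnitaryFour.Transvection Cfsg.Agent.Lib.UnitaryFour.Classes
  Cfsg.Agent.Lib.UnitaryFour.Counts Cfsg.Agent.Lib.UnitaryFour.Stabilizer

variable {G : Type*} [Group G] [Finite G] {D : Set G}
variable {F : Type} [Field F] [Fintype F]

local notation "h⟪" u ", " v "⟫" => Cfsg.hermForm 6 F 2 u v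

variable {a : G} (C : Ctx D a F)

namespace Ctx

theorem li_pair {v w : Fin 6 → F} (hv : h⟪v, v⟫ = 0) (hv0 : v ≠ 0) (hw : h⟪w, w⟫ = 0) (hw0 : w ≠ 0)
    (hne : C.pt v ≠ C.pt w) : LinearIndependent F ![v, w] := by
  rw [LinearIndependent.pair_iff' hv0]
  intro c hc
  refine hne ((C.pt_eq hv hv0 hw hw0).mpr ⟨c, fun h => hw0 ?_, hc.symm⟩)
  rw [← hc, h, zero_smul]

include C in
theorem exists_iso_ne_zero : ∃ v : Fin 6 → F, h⟪v, v⟫ = 0 ∧ v ≠ 0 := by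
  by_contra h
  push Not at h
  have hsub : {v : Fin 6 → F | h⟪v, v⟫ = 0} ⊆ {0} := fun v hv => h v hv
  have := Set.ncard_le_ncard hsub
  rw [count_all C.hF, Set.ncard_singleton] at this
  omega

include C in
theorem ncard_perp : (perp D a).ncard = 693 := by
  have h := C.three_mul_ncard (fun _ => True)
  simp only [and_true, Set.setOf_mem_eq] at h
  have hz : {v : Fin 6 → F | h⟪v, v⟫ = 0 ∧ v ≠ 0} = {v | h⟪v, v⟫ = 0} \ {0} := rfl
  rw [hz, Set.ncard_sdiff_singleton_of_mem (show (0 : Fin 6 → F) ∈ {v : Fin 6 → F | h⟪v, v⟫ = 0} from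
    herm_zero_left _), count_all C.hF] at h
  omega

include C in
theorem ncard_edge {b : G} (hb : b ∈ perp D a) : (perp₂ D a b).ncard = 180 := by
  obtain ⟨e, he, he0, rfl⟩ := C.exists_pt hb
  have h := C.three_mul_ncard (fun y => y ≠ C.pt e ∧ Commute (C.pt e) y)
  have hset : perp₂ D a (C.pt e) = {y | y ∈ perp D a ∧ (y ≠ C.pt e ∧ Commute (C.pt e) y)} :=
    Set.ext fun y => ⟨fun hy => ⟨hy.1, hy.2.2⟩, fun hy => ⟨hy.1, hy.1.1, hy.2⟩⟩
  have hz : {v : Fin 6 → F | h⟪v, v⟫ = 0 ∧ v ≠ 0 ∧ C.pt v ≠ C.pt e ∧ Commute (C.pt e) (C.pt v)} =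
      {v | h⟪v, e⟫ = 0 ∧ h⟪v, v⟫ = 0} \ Set.range (fun c : F => c • e) := by
    ext v
    constructor
    · rintro ⟨hv, hv0, hne, hc⟩
      refine ⟨⟨herm_eq_zero_symm C.hF ((C.pt_comm he he0 hv hv0).mp hc), hv⟩, ?_⟩
      rintro ⟨c, rfl⟩
      exact hne (C.pt_smul he he0 fun h => hv0 (by simp [h]))
    · rintro ⟨⟨hve, hv⟩, hnr⟩
      have hv0 : v ≠ 0 := fun h => hnr ⟨0, by simp [h]⟩
      refine ⟨hv, hv0, fun h => ?_, (C.pt_comm he he0 hv hv0).mpr (herm_eq_zero_symm C.hF hve)⟩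
      obtain ⟨c, -, rfl⟩ := (C.pt_eq he he0 hv hv0).mp h.symm
      exact hnr ⟨c, rfl⟩
  rw [hz, Set.ncard_sdiff ?_ (Set.toFinite _), count_one C.hF he0 he,
    Set.ncard_range_of_injective (smul_left_injective F he0), Nat.card_eq_fintype_card, C.hF] at h
  · rw [hset]; omega
  · rintro _ ⟨c, rfl⟩
    exact ⟨by simp [herm_smul_left, he], by simp [herm_smul_left, herm_smul_right, he]⟩

include C in
theorem ncard_edge₂ {b c : G} (hb : b ∈ perp D a) (hc : c ∈ perp D a) (hne : b ≠ c) (hbc : Commute b c) :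
    {y | y ∈ perp D a ∧ (y ≠ b ∧ y ≠ c ∧ Commute b y ∧ Commute c y)}.ncard = 51 := by
  obtain ⟨e, he, he0, rfl⟩ := C.exists_pt hb
  obtain ⟨s, hs, hs0, rfl⟩ := C.exists_pt hc
  have h := C.three_mul_ncard (fun y => y ≠ C.pt e ∧ y ≠ C.pt s ∧ Commute (C.pt e) y ∧ Commute (C.pt s) y)
  have hes : h⟪e, s⟫ = 0 := (C.pt_comm he he0 hs hs0).mp hbc
  have hli := C.li_pair he he0 hs hs0 hne
  have hz : {v : Fin 6 → F | h⟪v, v⟫ = 0 ∧ v ≠ 0 ∧ (C.pt v ≠ C.pt e ∧ C.pt v ≠ C.pt s ∧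
      Commute (C.pt e) (C.pt v) ∧ Commute (C.pt s) (C.pt v))} =
      {v | h⟪v, e⟫ = 0 ∧ h⟪v, s⟫ = 0 ∧ h⟪v, v⟫ = 0} \
        (Set.range (fun c : F => c • e) ∪ (fun c : F => c • s) '' {c | c ≠ 0}) := by
    ext v
    constructor
    · rintro ⟨hv, hv0, n1, n2, c1, c2⟩
      refine ⟨⟨herm_eq_zero_symm C.hF ((C.pt_comm he he0 hv hv0).mp c1),
        herm_eq_zero_symm C.hF ((C.pt_comm hs hs0 hv hv0).mp c2), hv⟩, ?_⟩
      rintro (⟨k, rfl⟩ | ⟨k, hk, rfl⟩)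
      · exact n1 (C.pt_smul he he0 fun h => hv0 (by simp [h]))
      · exact n2 (C.pt_smul hs hs0 hk)
    · rintro ⟨⟨hve, hvs, hv⟩, hnr⟩
      have hv0 : v ≠ 0 := fun h => hnr (Or.inl ⟨0, by simp [h]⟩)
      refine ⟨hv, hv0, fun h => ?_, fun h => ?_, (C.pt_comm he he0 hv hv0).mpr (herm_eq_zero_symm C.hF hve),
        (C.pt_comm hs hs0 hv hv0).mpr (herm_eq_zero_symm C.hF hvs)⟩
      · obtain ⟨k, -, rfl⟩ := (C.pt_eq he he0 hv hv0).mp h.symm
        exact hnr (Or.inl ⟨k, rfl⟩)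
      · obtain ⟨k, hk, rfl⟩ := (C.pt_eq hs hs0 hv hv0).mp h.symm
        exact hnr (Or.inr ⟨k, hk, rfl⟩)
  have hdisj : Disjoint (Set.range (fun c : F => c • e)) ((fun c : F => c • s) '' {c | c ≠ 0}) := by
    rw [Set.disjoint_left]
    rintro _ ⟨k, rfl⟩ ⟨l, hl, hkl⟩
    exact hl (LinearIndependent.pair_iff.mp hli (-k) l (by
      rw [neg_smul, show l • s = k • e from hkl, neg_add_cancel])).2
  have hn : (Set.range (fun c : F => c • e) ∪ (fun c : F => c • s) '' {c | c ≠ 0}).ncard = 7 := by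
    rw [Set.ncard_union_eq hdisj, Set.ncard_range_of_injective (smul_left_injective F he0),
      Set.ncard_image_of_injective _ (smul_left_injective F hs0),
      show {c : F | c ≠ 0} = {(0 : F)}ᶜ from rfl, Set.ncard_compl, Set.ncard_singleton,
      Nat.card_eq_fintype_card, C.hF]
    norm_num
  rw [hz, Set.ncard_sdiff ?_ (Set.toFinite _), count_two C.hF hli he hs hes, hn] at h
  · omega
  · rintro _ (⟨k, rfl⟩ | ⟨k, -, rfl⟩)
    · exact ⟨by simp [herm_smul_left, he], by simp [herm_smul_left, hes], by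
        simp [herm_smul_left, herm_smul_right, he]⟩
    · exact ⟨by simp [herm_smul_left, herm_eq_zero_symm C.hF hes], by simp [herm_smul_left, hs], by
        simp [herm_smul_left, herm_smul_right, hs]⟩

include C in
/-- two non-commuting points are the images of a hyperbolic pair -/
theorem exists_hyp_pt {b c : G} (hb : b ∈ perp D a) (hc : c ∈ perp D a) (hbc : ¬ Commute b c) :
    ∃ e f : Fin 6 → F, Hyp 2 e f ∧ e ≠ 0 ∧ f ≠ 0 ∧ C.pt e = b ∧ C.pt f = c := by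
  obtain ⟨e, he, he0, rfl⟩ := C.exists_pt hb
  obtain ⟨f, hf, hf0, rfl⟩ := C.exists_pt hc
  have hef : h⟪e, f⟫ ≠ 0 := fun h => hbc ((C.pt_comm he he0 hf hf0).mpr h)
  have hpos := pow_ne_zero 2 hef
  refine ⟨e, h⟪e, f⟫ • f, ⟨he, by simp [herm_smul_left, herm_smul_right, hf], ?_⟩, he0,
    smul_ne_zero hef hf0, rfl, C.pt_smul hf hf0 hef⟩
  rw [herm_smul_right, mul_comm]
  exact norm_eq_one C.hF hef

include C in
theorem ncard_nonedge {b c : G} (hb : b ∈ perp D a) (hc : c ∈ perp D a) (hbc : ¬ Commute b c) :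
    {y | y ∈ perp D a ∧ (Commute b y ∧ Commute c y)}.ncard = 45 := by
  obtain ⟨e, f, hef, he0, hf0, rfl, rfl⟩ := C.exists_hyp_pt hb hc hbc
  have h := C.three_mul_ncard (fun y => Commute (C.pt e) y ∧ Commute (C.pt f) y)
  have hz : {v : Fin 6 → F | h⟪v, v⟫ = 0 ∧ v ≠ 0 ∧ (Commute (C.pt e) (C.pt v) ∧ Commute (C.pt f) (C.pt v))} =
      {v | h⟪v, e⟫ = 0 ∧ h⟪v, f⟫ = 0 ∧ h⟪v, v⟫ = 0} \ {0} := by
    ext v
    constructor
    · rintro ⟨hv, hv0, c1, c2⟩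
      exact ⟨⟨herm_eq_zero_symm C.hF ((C.pt_comm hef.1 he0 hv hv0).mp c1),
        herm_eq_zero_symm C.hF ((C.pt_comm hef.2.1 hf0 hv hv0).mp c2), hv⟩, hv0⟩
    · rintro ⟨⟨hve, hvf, hv⟩, hv0⟩
      exact ⟨hv, hv0, (C.pt_comm hef.1 he0 hv hv0).mpr (herm_eq_zero_symm C.hF hve),
        (C.pt_comm hef.2.1 hf0 hv hv0).mpr (herm_eq_zero_symm C.hF hvf)⟩
  rw [hz, Set.ncard_sdiff_singleton_of_mem
    (show (0 : Fin 6 → F) ∈ {v : Fin 6 → F | h⟪v, e⟫ = 0 ∧ h⟪v, f⟫ = 0 ∧ h⟪v, v⟫ = 0} from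
      ⟨herm_zero_left _, herm_zero_left _, herm_zero_left _⟩),
    count_hyp C.hF hef] at h
  omega

include C in
theorem ncard_nonedge_point {b c q : G} (hb : b ∈ perp D a) (hc : c ∈ perp D a) (hbc : ¬ Commute b c)
    (hq : q ∈ perp D a) (hqb : Commute b q) (hqc : Commute c q) :
    {y | y ∈ perp D a ∧ (y ≠ q ∧ Commute b y ∧ Commute c y ∧ Commute q y)}.ncard = 12 := by
  obtain ⟨e, f, hef, he0, hf0, rfl, rfl⟩ := C.exists_hyp_pt hb hc hbc
  obtain ⟨u, hu, hu0, rfl⟩ := C.exists_pt hq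
  have hue : h⟪u, e⟫ = 0 := herm_eq_zero_symm C.hF ((C.pt_comm hef.1 he0 hu hu0).mp hqb)
  have huf : h⟪u, f⟫ = 0 := herm_eq_zero_symm C.hF ((C.pt_comm hef.2.1 hf0 hu hu0).mp hqc)
  have h := C.three_mul_ncard
    (fun y => y ≠ C.pt u ∧ Commute (C.pt e) y ∧ Commute (C.pt f) y ∧ Commute (C.pt u) y)
  have hz : {v : Fin 6 → F | h⟪v, v⟫ = 0 ∧ v ≠ 0 ∧ (C.pt v ≠ C.pt u ∧ Commute (C.pt e) (C.pt v) ∧
      Commute (C.pt f) (C.pt v) ∧ Commute (C.pt u) (C.pt v))} =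
      {v | h⟪v, e⟫ = 0 ∧ h⟪v, f⟫ = 0 ∧ h⟪v, u⟫ = 0 ∧ h⟪v, v⟫ = 0} \ Set.range (fun c : F => c • u) := by
    ext v
    constructor
    · rintro ⟨hv, hv0, n1, c1, c2, c3⟩
      refine ⟨⟨herm_eq_zero_symm C.hF ((C.pt_comm hef.1 he0 hv hv0).mp c1),
        herm_eq_zero_symm C.hF ((C.pt_comm hef.2.1 hf0 hv hv0).mp c2),
        herm_eq_zero_symm C.hF ((C.pt_comm hu hu0 hv hv0).mp c3), hv⟩, ?_⟩
      rintro ⟨k, rfl⟩
      exact n1 (C.pt_smul hu hu0 fun h => hv0 (by simp [h]))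
    · rintro ⟨⟨hve, hvf, hvu, hv⟩, hnr⟩
      have hv0 : v ≠ 0 := fun h => hnr ⟨0, by simp [h]⟩
      refine ⟨hv, hv0, fun h => ?_, (C.pt_comm hef.1 he0 hv hv0).mpr (herm_eq_zero_symm C.hF hve),
        (C.pt_comm hef.2.1 hf0 hv hv0).mpr (herm_eq_zero_symm C.hF hvf),
        (C.pt_comm hu hu0 hv hv0).mpr (herm_eq_zero_symm C.hF hvu)⟩
      obtain ⟨k, -, rfl⟩ := (C.pt_eq hu hu0 hv hv0).mp h.symm
      exact hnr ⟨k, rfl⟩
  rw [hz, Set.ncard_sdiff ?_ (Set.toFinite _), count_hyp_point C.hF hef hu0 hu hue huf,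
    Set.ncard_range_of_injective (smul_left_injective F hu0), Nat.card_eq_fintype_card, C.hF] at h
  · omega
  · rintro _ ⟨k, rfl⟩
    exact ⟨by simp [herm_smul_left, hue], by simp [herm_smul_left, huf], by simp [herm_smul_left, hu],
      by simp [herm_smul_left, herm_smul_right, hu]⟩

include C in
theorem ncard_plane {b c q x : G} (hb : b ∈ perp D a) (hc : c ∈ perp D a) (hq : q ∈ perp D a)
    (hbc : Commute b c) (hbq : Commute b q) (hcq : Commute c q) (n1 : b ≠ c)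
    (hx : x ∈ perp D a) (hxb : Commute x b) (hxc : Commute x c) (hxq : ¬ Commute x q) :
    {y | y ∈ perp D a ∧ (y ≠ b ∧ y ≠ c ∧ y ≠ q ∧ Commute b y ∧ Commute c y ∧ Commute q y)}.ncard = 18 := by
  obtain ⟨u, hu, hu0, rfl⟩ := C.exists_pt hb
  obtain ⟨v, hv, hv0, rfl⟩ := C.exists_pt hc
  obtain ⟨w, hw, hw0, rfl⟩ := C.exists_pt hq
  obtain ⟨z, hz', hz0, rfl⟩ := C.exists_pt hx
  have huv : h⟪u, v⟫ = 0 := (C.pt_comm hu hu0 hv hv0).mp hbc
  have huw : h⟪u, w⟫ = 0 := (C.pt_comm hu hu0 hw hw0).mp hbq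
  have hvw : h⟪v, w⟫ = 0 := (C.pt_comm hv hv0 hw hw0).mp hcq
  have hwz : h⟪w, z⟫ ≠ 0 := fun h => hxq ((C.pt_comm hw hw0 hz' hz0).mpr h).symm
  have huz : h⟪u, z⟫ = 0 := (C.pt_comm hu hu0 hz' hz0).mp hxb.symm
  have hvz : h⟪v, z⟫ = 0 := (C.pt_comm hv hv0 hz' hz0).mp hxc.symm
  have hli2 := C.li_pair hu hu0 hv hv0 n1
  have hli : LinearIndependent F ![u, v, w] := by
    rw [Fintype.linearIndependent_iff]
    intro k hk
    rw [Fin.sum_univ_three] at hk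
    simp only [Matrix.cons_val] at hk
    have h1 := congrArg (fun t => h⟪t, z⟫) hk
    simp only [Cfsg.Agent.Lib.Unitary.herm_add_left, herm_smul_left, huz, hvz, herm_zero_left, mul_zero,
      zero_add, mul_eq_zero] at h1
    have h2 := h1.resolve_right hwz
    rw [h2, zero_smul, add_zero] at hk
    obtain ⟨k0, k1⟩ := LinearIndependent.pair_iff.mp hli2 _ _ hk
    intro j; fin_cases j
    · exact k0
    · exact k1
    · exact h2
  have hr : ∀ i j : Fin 3, h⟪![u, v, w] i, ![u, v, w] j⟫ = 0 := by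
    intro i j
    fin_cases i <;> fin_cases j <;>
      simp [hu, hv, hw, huv, huw, hvw, herm_eq_zero_symm C.hF huv, herm_eq_zero_symm C.hF huw,
        herm_eq_zero_symm C.hF hvw]
  have h := C.three_mul_ncard (fun y => y ≠ C.pt u ∧ y ≠ C.pt v ∧ y ≠ C.pt w ∧ Commute (C.pt u) y ∧
    Commute (C.pt v) y ∧ Commute (C.pt w) y)
  have hset : {t : Fin 6 → F | h⟪t, t⟫ = 0 ∧ t ≠ 0 ∧ (C.pt t ≠ C.pt u ∧ C.pt t ≠ C.pt v ∧ C.pt t ≠ C.pt w ∧
      Commute (C.pt u) (C.pt t) ∧ Commute (C.pt v) (C.pt t) ∧ Commute (C.pt w) (C.pt t))} =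
      {t | (∀ i, h⟪t, ![u, v, w] i⟫ = 0) ∧ h⟪t, t⟫ = 0} \
        Set.range (fun p : Fin 3 × F => p.2 • ![u, v, w] p.1) := by
    ext t
    constructor
    · rintro ⟨ht, ht0, m1, m2, m3, c1, c2, c3⟩
      refine ⟨⟨fun i => ?_, ht⟩, ?_⟩
      · fin_cases i
        · exact herm_eq_zero_symm C.hF ((C.pt_comm hu hu0 ht ht0).mp c1)
        · exact herm_eq_zero_symm C.hF ((C.pt_comm hv hv0 ht ht0).mp c2)
        · exact herm_eq_zero_symm C.hF ((C.pt_comm hw hw0 ht ht0).mp c3)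
      · rintro ⟨⟨i, k⟩, rfl⟩
        have hk : k ≠ 0 := fun h => ht0 (by simp [h])
        fin_cases i
        · exact m1 (C.pt_smul hu hu0 hk)
        · exact m2 (C.pt_smul hv hv0 hk)
        · exact m3 (C.pt_smul hw hw0 hk)
    · rintro ⟨⟨hi, ht⟩, hnr⟩
      have ht0 : t ≠ 0 := fun h => hnr ⟨(0, 0), by simp [h]⟩
      refine ⟨ht, ht0, fun h => ?_, fun h => ?_, fun h => ?_,
        (C.pt_comm hu hu0 ht ht0).mpr (herm_eq_zero_symm C.hF (hi 0)),
        (C.pt_comm hv hv0 ht ht0).mpr (herm_eq_zero_symm C.hF (hi 1)),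
        (C.pt_comm hw hw0 ht ht0).mpr (herm_eq_zero_symm C.hF (hi 2))⟩
      · obtain ⟨k, -, rfl⟩ := (C.pt_eq hu hu0 ht ht0).mp h.symm
        exact hnr ⟨(0, k), rfl⟩
      · obtain ⟨k, -, rfl⟩ := (C.pt_eq hv hv0 ht ht0).mp h.symm
        exact hnr ⟨(1, k), rfl⟩
      · obtain ⟨k, -, rfl⟩ := (C.pt_eq hw hw0 ht ht0).mp h.symm
        exact hnr ⟨(2, k), rfl⟩
  have hn : (Set.range (fun p : Fin 3 × F => p.2 • ![u, v, w] p.1)).ncard = 10 := by
    classical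
    have hr' : Set.range (fun p : Fin 3 × F => p.2 • ![u, v, w] p.1) =
        insert 0 ((fun p : Fin 3 × {c : F // c ≠ 0} => p.2.1 • ![u, v, w] p.1) '' Set.univ) := by
      ext t
      constructor
      · rintro ⟨⟨i, k⟩, rfl⟩
        by_cases hk : k = 0
        · left; simp [hk]
        · right; exact ⟨(i, ⟨k, hk⟩), trivial, rfl⟩
      · rintro (rfl | ⟨⟨i, k⟩, -, rfl⟩)
        · exact ⟨(0, 0), by simp⟩
        · exact ⟨(i, k.1), rfl⟩
    have hinj : Function.Injective (fun p : Fin 3 × {c : F // c ≠ 0} => p.2.1 • ![u, v, w] p.1) := by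
      rintro ⟨i, k, hk⟩ ⟨j, l, hl⟩ he
      have he' : k • ![u, v, w] i = l • ![u, v, w] j := he
      by_cases hij : i = j
      · subst hij
        exact Prod.ext rfl (Subtype.ext (smul_left_injective F (hli.ne_zero i) he'))
      · exfalso
        have := Fintype.linearIndependent_iff.mp hli (Pi.single i k - Pi.single j l) (by
          simp [sub_smul, Finset.sum_sub_distrib, Pi.single_apply, ite_smul, he'])
        exact hk (by simpa [hij] using this i)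
    rw [hr', Set.ncard_insert_of_notMem ?_ (Set.toFinite _), Set.ncard_image_of_injective _ hinj,
      Set.ncard_univ, Nat.card_prod, Nat.card_eq_fintype_card, Fintype.card_fin,
      Nat.card_eq_fintype_card, Fintype.card_subtype_compl, C.hF, Fintype.card_subtype_eq]
    · norm_num
    rintro ⟨⟨i, k, hk⟩, -, h0⟩
    exact smul_ne_zero hk (hli.ne_zero i) h0
  rw [hset, Set.ncard_sdiff ?_ (Set.toFinite _), count_plane C.hF hli hr, hn] at h
  · omega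
  · rintro _ ⟨⟨i, k⟩, rfl⟩
    exact ⟨fun j => by simp [herm_smul_left, hr i j], by simp [herm_smul_left, herm_smul_right, hr i i]⟩

/-- the transpositions of `perp D a` commuting with `b` -/
abbrev pointStar (D : Set G) (a b : G) : Set G := {u | u ∈ perp D a ∧ Commute b u}

theorem exists_mk_of_tvPerp {e : Fin 6 → F} (he : h⟪e, e⟫ = 0) (he0 : e ≠ 0) {g : Cfsg.SU 6 F 2}
    (hg : g ∈ tvPerp C.hF {e}) :
    ∃ k : ↥(Subgroup.closure (perp D a)), QuotientGroup.mk k = C.φ g ∧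
      (k : G) ∈ Subgroup.closure (pointStar D a (C.pt e)) := by
  induction hg using Subgroup.closure_induction with
  | mem t ht =>
    obtain ⟨u, hu, hu0, hS, rfl⟩ := ht
    refine ⟨⟨C.pt u, Subgroup.subset_closure (C.pt_mem hu hu0)⟩, C.pt_im hu hu0,
      Subgroup.subset_closure ⟨C.pt_mem hu hu0, ?_⟩⟩
    exact (C.pt_comm he he0 hu hu0).mpr (herm_eq_zero_symm C.hF (hS e rfl))
  | one => exact ⟨1, (map_one C.φ).symm, one_mem _⟩
  | mul x y _ _ ihx ihy =>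
    obtain ⟨k, hk, hkm⟩ := ihx
    obtain ⟨l, hl, hlm⟩ := ihy
    exact ⟨k * l, by rw [map_mul, ← hk, ← hl]; rfl, mul_mem hkm hlm⟩
  | inv x _ ih =>
    obtain ⟨k, hk, hkm⟩ := ih
    exact ⟨k⁻¹, by rw [map_inv, ← hk]; rfl, inv_mem hkm⟩

include C in
/-- transitivity on the points not commuting with a given one -/
theorem exists_move_off {b x y : G} (hb : b ∈ perp D a) (hx : x ∈ perp D a) (hy : y ∈ perp D a)
    (hbx : ¬ Commute b x) (hby : ¬ Commute b y) :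
    ∃ g ∈ Subgroup.closure (pointStar D a b), g * x * g⁻¹ = y := by
  obtain ⟨e, he, he0, rfl⟩ := C.exists_pt hb
  have hnorm : ∀ {z : G}, z ∈ perp D a → ¬ Commute (C.pt e) z →
      ∃ v, h⟪v, v⟫ = 0 ∧ v ≠ 0 ∧ C.pt v = z ∧ h⟪e, v⟫ = 1 := by
    intro z hz hnc
    obtain ⟨v, hv, hv0, rfl⟩ := C.exists_pt hz
    have hev : h⟪e, v⟫ ≠ 0 := fun h => hnc ((C.pt_comm he he0 hv hv0).mpr h)
    exact ⟨h⟪e, v⟫ • v, by simp [herm_smul_left, herm_smul_right, hv], smul_ne_zero hev hv0,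
      C.pt_smul hv hv0 hev, by rw [herm_smul_right, mul_comm]; exact norm_eq_one C.hF hev⟩
  obtain ⟨v, hv, hv0, rfl, h1⟩ := hnorm hx hbx
  obtain ⟨w, hw, hw0, rfl, h2⟩ := hnorm hy hby
  obtain ⟨g, hg, hgv⟩ := exists_move C.hF he hv hw h1 h2
  obtain ⟨k, hk, hkm⟩ := C.exists_mk_of_tvPerp he he0 hg
  exact ⟨k, hkm, by rw [C.pt_conj hv hv0 g hk, hgv]⟩

include C in
/-- the stabiliser of a point modulo the centre -/
theorem exists_stab {b : G} (hb : b ∈ perp D a) {h : G} (hh : h ∈ Subgroup.closure (perp D a))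
    (hfix : h * b * h⁻¹ = b) :
    ∃ k ∈ Subgroup.closure (pointStar D a b), ∀ y ∈ perp D a, Commute y (k⁻¹ * h) := by
  obtain ⟨e, he, he0, rfl⟩ := C.exists_pt hb
  obtain ⟨g, hg⟩ := C.surj (QuotientGroup.mk ⟨h, hh⟩)
  have hge := C.pt_conj he he0 g hg.symm
  rw [show ((⟨h, hh⟩ : ↥(Subgroup.closure (perp D a))) : G) = h from rfl, hfix] at hge
  have hge0 : act g e ≠ 0 := fun h => he0 (by rw [← act_inv_self g e, h]; simp [act_def])
  obtain ⟨c, hc, hce⟩ := (C.pt_eq he he0 (by rw [act_herm]; exact he) hge0).mp hge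
  -- remove the scalar
  obtain ⟨z, hz, hzv⟩ : ∃ z ∈ Subgroup.center (Cfsg.SU 6 F 2), ∀ v, act z v = c⁻¹ • v := by
    have hc3 : c⁻¹ ^ 3 = 1 := cube_eq_one C.hF (inv_ne_zero hc)
    let zM : Cfsg.SU 6 F 2 := ⟨⟨c⁻¹ • (1 : Matrix (Fin 6) (Fin 6) F), by
      rw [Matrix.det_smul, Matrix.det_one, mul_one, Fintype.card_fin, show (6 : ℕ) = 3 * 2 by norm_num,
        pow_mul, hc3, one_pow]⟩, fun u v => by
        show h⟪(c⁻¹ • (1 : Matrix (Fin 6) (Fin 6) F)).mulVec u, (c⁻¹ • (1 : Matrix (Fin 6) (Fin 6) F)).mulVec v⟫ = _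
        rw [Matrix.smul_mulVec, Matrix.smul_mulVec, Matrix.one_mulVec, Matrix.one_mulVec, herm_smul_left,
          herm_smul_right, ← mul_assoc, norm_eq_one C.hF (inv_ne_zero hc), one_mul]⟩
    have hv : ∀ v, act zM v = c⁻¹ • v := fun v => by
      show (c⁻¹ • (1 : Matrix (Fin 6) (Fin 6) F)).mulVec v = _
      rw [Matrix.smul_mulVec, Matrix.one_mulVec]
    exact ⟨zM, (Cfsg.Agent.Lib.Unitary.mem_center_SU_iff C.hF (by norm_num) zM).mpr ⟨c⁻¹, hv⟩, hv⟩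
  have hfix' : act (z * g) e = e := by rw [act_mul, hzv, hce, smul_smul, inv_mul_cancel₀ hc, one_smul]
  obtain ⟨k, hk, hkm⟩ := C.exists_mk_of_tvPerp he he0 (mem_tvPerp_of_fix C.hF he0 he hfix')
  refine ⟨k, hkm, fun y hy => ?_⟩
  obtain ⟨v, hv, hv0, rfl⟩ := C.exists_pt hy
  have h1 := C.pt_conj hv hv0 g hg.symm
  have h2 := C.pt_conj hv hv0 (z * g) hk
  rw [act_mul, hzv, C.pt_smul (by rw [act_herm]; exact hv)
    (fun h => hv0 (by rw [← act_inv_self g v, h]; simp [act_def])) (inv_ne_zero hc), ← h1] at h2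
  show C.pt v * ((k : G)⁻¹ * h) = (k : G)⁻¹ * h * C.pt v
  have h3 : (k : G) * C.pt v * (k : G)⁻¹ = h * C.pt v * h⁻¹ := h2
  calc C.pt v * ((k : G)⁻¹ * h) = (k : G)⁻¹ * ((k : G) * C.pt v * (k : G)⁻¹) * h := by group
    _ = (k : G)⁻¹ * (h * C.pt v * h⁻¹) * h := by rw [h3]
    _ = (k : G)⁻¹ * h * C.pt v := by group

end Ctx

end Cfsg.Agent.Lib.FischerMTypes.PointModel
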