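import Mathlib
import Cfsg.Agent.Lib.FischerMTypes.PointCounts

/-!
Type M(22): in a point model the common neighbours of a non-commuting pair pin down its line of
three, and so the centre of the group generated by a perp set has order two.
-/

set_option autoImplicit false
set_option linter.style.haveILetI false
set_option linter.unusedSectionVars false

namespace Cfsg.Agent.Lib.FischerMTypes.PointModel

open Cfsg.Agent.Lib.FischerMTypes.Basic Cfsg.Agent.Lib.FischerMTypes.Primitive
  Cfsg.Agent.Lib.FischerMTypes.Levels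
open Cfsg.Agent.Lib.Unitary
open Cfsg.Agent.Lib.UnitaryFour.Transvection Cfsg.Agent.Lib.UnitaryFour.Stabilizer

variable {G : Type*} [Group G] [Finite G] {D : Set G}
variable {F : Type} [Field F] [Fintype F]

local notation "h⟪" u ", " v "⟫" => Cfsg.hermForm 6 F 2 u v

variable {a : G} (C : Ctx D a F)

namespace Ctx

include C in
/-- a point commuting with all common neighbours of a non-commuting pair is on its line -/
theorem line_points {q x y : G} (hq : q ∈ perp D a) (hx : x ∈ perp D a) (hy : y ∈ perp D a)
    (hqx : ¬ Commute q x) (h : ∀ w ∈ perp D a, Commute q w → Commute x w → Commute y w) :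
    y = q ∨ y = x ∨ y = q * x * q := by
  obtain ⟨e, f, hef, he0, hf0, hqe, hxf⟩ := C.exists_hyp_pt hq hx hqx
  obtain ⟨g, hg⟩ := exists_Frame C.hF hef
  have key : ∀ z ∈ perp D a, (∀ w ∈ perp D a, Commute q w → Commute x w → Commute z w) →
      z = q ∨ z = x ∨ z = C.pt (e + f) := by
    intro z hz hzw
    obtain ⟨v, hv, hv0, rfl⟩ := C.exists_pt hz
    have hperp : ∀ c : Fin 4 → F, Cfsg.hermForm 4 F 2 c c = 0 → h⟪v, lin g c⟫ = 0 := by
      intro c hc
      by_cases hl : lin g c = 0
      · rw [hl]; exact herm_zero_right _ C.hF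
      have hiso : h⟪lin g c, lin g c⟫ = 0 := by rw [hg.lin_herm C.hF]; exact hc
      refine (C.pt_comm hv hv0 hiso hl).mp (hzw _ (C.pt_mem hiso hl) ?_ ?_)
      · rw [← hqe]; exact (C.pt_comm hef.1 he0 hiso hl).mpr (herm_eq_zero_symm C.hF (hg.lin_orth c).1)
      · rw [← hxf]; exact (C.pt_comm hef.2.1 hf0 hiso hl).mpr (herm_eq_zero_symm C.hF (hg.lin_orth c).2)
    have hspan : ∀ c : Fin 4 → F, c ∈ Submodule.span F {v : Fin 4 → F | Cfsg.hermForm 4 F 2 v v = 0} →
        h⟪v, lin g c⟫ = 0 := by
      intro c hc
      induction hc using Submodule.span_induction with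
      | mem u hu => exact hperp u hu
      | zero => rw [show lin g (0 : Fin 4 → F) = 0 by simp [lin]]; exact herm_zero_right _ C.hF
      | add a b _ _ ha hb => rw [lin_add, herm_add_right _ _ _ C.hF, ha, hb, add_zero]
      | smul a u _ hu => rw [lin_smul, herm_smul_right, hu, mul_zero]
    have hcoef : ∀ i, h⟪v, g i⟫ = 0 := fun i => by
      have := hspan _ (single_mem_span C.hF (by norm_num) i)
      rwa [show lin g (Pi.single i (1 : F)) = g i by simp [lin, Pi.single_apply, ite_smul]] at this
    have hexp : v = h⟪v, f⟫ • e + h⟪v, e⟫ • f := by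
      conv_lhs => rw [hg.expand C.hF v]
      simp [lin, hcoef]
    set α := h⟪v, f⟫ with hα
    set β := h⟪v, e⟫ with hβ
    by_cases hb : β = 0
    · left
      have hα0 : α ≠ 0 := fun h0 => hv0 (by rw [hexp, hb, h0]; simp)
      rw [← hqe, hexp, hb, zero_smul, add_zero, C.pt_smul hef.1 he0 hα0]
    by_cases ha : α = 0
    · right; left
      rw [← hxf, hexp, ha, zero_smul, zero_add, C.pt_smul hef.2.1 hf0 hb]
    right; right
    have hfe : h⟪f, e⟫ = 1 := hef.symm' C.hF
    have hq0 : α * β ^ 2 + β * α ^ 2 = 0 := by
      have h0 := hv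
      rw [hexp] at h0
      simp only [herm_add_left, herm_add_right _ _ _ C.hF, herm_smul_left, herm_smul_right, hef.1,
        hef.2.1, hef.2.2, hfe, mul_zero, mul_one, zero_add, add_zero] at h0
      linear_combination h0
    have heq : α = β := by
      have h1 : α * β * (α + β) = 0 := by linear_combination hq0
      rcases mul_eq_zero.mp h1 with h1 | h1
      · exact absurd h1 (mul_ne_zero ha hb)
      · linear_combination h1 - β * two_eq_zero C.hF
    rw [hexp, heq, ← smul_add]
    have hiso : h⟪e + f, e + f⟫ = 0 := by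
      simp only [herm_add_left, herm_add_right _ _ _ C.hF, hef.1, hef.2.1, hef.2.2, hfe, zero_add, add_zero]
      linear_combination two_eq_zero C.hF
    refine C.pt_smul hiso (fun h0 => hv0 ?_) hb
    rw [hexp, heq, ← smul_add, h0, smul_zero]
  have hthird : q * x * q ∈ perp D a := (perp_closed C.hD a).2 q hq x hx
  have h3 : ∀ w ∈ perp D a, Commute q w → Commute x w → Commute (q * x * q) w :=
    fun w _ h1 h2 => (h1.mul_left h2).mul_left h1
  rcases key y hy h with rfl | rfl | h1
  · exact Or.inl rfl
  · exact Or.inr (Or.inl rfl)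
  rcases key _ hthird h3 with h2 | h2 | h2
  · exact absurd (show Commute q x by
      have : x = q := by
        rw [← conj_self_inv C.hD.1 hq.1 x, h2, mul_assoc, mul_self C.hD.1 hq.1, mul_one]
      rw [this]) hqx
  · exact absurd (show Commute q x from calc
      q * x = q * x * (q * q) := by rw [mul_self C.hD.1 hq.1, mul_one]
      _ = (q * x * q) * q := by group
      _ = x * q := by rw [h2]) hqx
  · exact Or.inr (Or.inr (h1.trans h2.symm))

end Ctx

end Cfsg.Agent.Lib.FischerMTypes.PointModel
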