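import Mathlib
import Cfsg.Prelude.Def_FischerSpaces
import Cfsg.Agent.Lib.OrthStd.Models
import Cfsg.Agent.Lib.Forms.Bridge

/-!
The order of a six-dimensional projective reflection group over three elements divides half the
order of a six-dimensional orthogonal group.
-/

set_option autoImplicit false
set_option linter.unusedSectionVars false
set_option linter.style.haveILetI false

namespace Cfsg.Agent.Lib.FischerMTypes.ReflectionBound

open Module QuadraticMap Cfsg.Agent.Lib.Forms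

/-- reflections of one norm generate a proper subgroup, of index divisible by two -/
theorem two_mul_card_reflectionSubgroup_dvd {n : ℕ} (hn : 2 ≤ n) (Q : QuadraticForm (ZMod 3) (Fin n → ZMod 3))
    (hQ : Nondeg Q) (c : ZMod 3) :
    2 * Nat.card (Cfsg.reflectionSubgroup (⇑Q) c) ∣ Nat.card (orth Q) := by
  have h2 : (2 : ZMod 3) ≠ 0 := by decide
  haveI : Fact (Nat.Prime 3) := ⟨Nat.prime_three⟩
  have hn' : 2 ≤ finrank (ZMod 3) (Fin n → ZMod 3) := by rw [finrank_fin_fun]; exact hn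
  set ψ := (omegaHom hQ h2 (1 : ZMod 3)).comp (toOrth Q).toMonoidHom with hψ
  have hsurj : Function.Surjective ψ := (omegaHom_surjective hQ h2 hn' one_ne_zero).comp (toOrth Q).surjective
  -- all reflections of norm `c` have one image
  obtain ⟨p, hp, hpp⟩ : ∃ p : Multiplicative (ZMod 2) × ℤˣ,
      (∀ g ∈ Cfsg.reflectionsOfNorm (⇑Q) c, ψ g ∈ Subgroup.zpowers p) ∧ p * p = 1 := by
    by_cases hex : ∃ v, Q v = c ∧ c ≠ 0
    · obtain ⟨v, hv, hc⟩ := hex
      refine ⟨omegaHom hQ h2 1 (orefl Q v), ?_, ?_⟩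
      · rintro g ⟨w, hw, hgw⟩
        obtain rfl := eq_irefl Q hgw
        obtain ⟨k, hk⟩ := orefl_conj_of_eq hQ (v := v) (w := w) (by rw [hv]; exact hc) one_ne_zero
          (by rw [one_mul, one_mul, hv, hw])
        refine Subgroup.mem_zpowers_iff.mpr ⟨1, ?_⟩
        rw [zpow_one, hψ, MonoidHom.comp_apply, MulEquiv.coe_toMonoidHom, toOrth_irefl, ← hk, map_mul, map_mul,
          map_inv, mul_comm (omegaHom hQ h2 1 k), mul_inv_cancel_right]
      · rw [← map_mul, show orefl Q v * orefl Q v = 1 from Subtype.ext (refl_mul_self Q v), map_one]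
    · refine ⟨1, ?_, one_mul 1⟩
      rintro g ⟨w, hw, hgw⟩
      obtain rfl := eq_irefl Q hgw
      have hc : c = 0 := by
        by_contra hc
        exact hex ⟨w, hw, hc⟩
      have : orefl Q w = 1 := Subtype.ext (LinearEquiv.ext fun x => by
        show refl Q w x = x
        rw [refl_apply, hw, hc, inv_zero, zero_mul, zero_smul, sub_zero])
      rw [hψ, MonoidHom.comp_apply, MulEquiv.coe_toMonoidHom, toOrth_irefl, this, map_one]
      exact one_mem _
  have hle : Cfsg.reflectionSubgroup (⇑Q) c ≤ (Subgroup.zpowers p).comap ψ :=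
    (Subgroup.closure_le _).mpr hp
  have hcard : Nat.card (Subgroup.zpowers p) ∣ 2 := by
    rw [Nat.card_zpowers]
    exact orderOf_dvd_of_pow_eq_one (by rw [pow_two]; exact hpp)
  have hidx : 2 ∣ (Cfsg.reflectionSubgroup (⇑Q) c).index := by
    refine dvd_trans ?_ (Subgroup.index_dvd_of_le hle)
    rw [Subgroup.index_comap_of_surjective _ hsurj]
    have h4 : Nat.card (Multiplicative (ZMod 2) × ℤˣ) = 4 := by simp
    have hm := Subgroup.card_mul_index (Subgroup.zpowers p)
    rw [h4] at hm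
    rcases (Nat.dvd_prime Nat.prime_two).mp hcard with h | h <;> rw [h] at hm <;> omega
  rw [← Nat.card_congr (toOrth Q).toEquiv, ← Subgroup.card_mul_index (Cfsg.reflectionSubgroup (⇑Q) c), mul_comm 2]
  exact mul_dvd_mul_left _ hidx

/-- the orders of the six-dimensional orthogonal groups over three elements -/
theorem card_orth_six (Q : QuadraticForm (ZMod 3) (Fin 6 → ZMod 3)) (hQ : Nondeg Q) :
    Nat.card (orth Q) = 2 * 12130560 ∨ Nat.card (orth Q) = 2 * 13063680 := by
  haveI : Fact (Nat.Prime 3) := ⟨Nat.prime_three⟩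
  rcases classify Q hQ with ⟨m, hm, he⟩ | ⟨m, c, -, -, hm, -⟩ | ⟨m, a, b, hab, hm, he⟩
  · rw [finrank_fin_fun] at hm
    obtain rfl : m = 3 := by omega
    left
    rw [card_orth_congr he, ← OrthStd.card_isometry (OrthStd.quadFormPlus_eq 3),
      OrthStd.card_orth_plus (F := ZMod 3) (q := 3) (ZMod.card 3) 3 (by norm_num)]
    rfl
  · rw [finrank_fin_fun] at hm; omega
  · rw [finrank_fin_fun] at hm
    obtain rfl : m = 2 := by omega
    right
    rw [card_orth_congr he, ← card_orth_congr ⟨OrthStd.minusIso 2 a b⟩,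
      ← OrthStd.card_isometry (OrthStd.quadFormMinus_eq 2 a b)]
    exact (OrthStd.card_orth_minus (F := ZMod 3) (q := 3) (ZMod.card 3) 3 (by norm_num) hab).trans (by rfl)

/-- bound on the order of the projective reflection group -/
theorem proj_card_dvd {X : Type*} [Group X] {μ c : ZMod 3}
    (h : Cfsg.IsProjReflectionGroupModThree X 6 μ c) : Nat.card X ∣ 12130560 ∨ Nat.card X ∣ 13063680 := by
  haveI : Fact (Nat.Prime 3) := ⟨Nat.prime_three⟩
  obtain ⟨Q, hQ, -, ⟨e⟩⟩ := h
  have hQ' : Nondeg Q := (nondeg_iff Q).1 hQ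
  have h1 := two_mul_card_reflectionSubgroup_dvd (by norm_num) Q hQ' c
  have h2 : Nat.card X ∣ Nat.card (Cfsg.reflectionSubgroup (⇑Q) c) := by
    rw [Nat.card_congr e.toEquiv]
    exact Subgroup.card_quotient_dvd_card _
  rcases card_orth_six Q hQ' with h3 | h3 <;> rw [h3] at h1
  · exact Or.inl (h2.trans (Nat.dvd_of_mul_dvd_mul_left two_pos h1))
  · exact Or.inr (h2.trans (Nat.dvd_of_mul_dvd_mul_left two_pos h1))

/-- two vectors of norm `c`, independent and not orthogonal -/
theorem exists_two_vectors (Q : QuadraticForm (ZMod 3) (Fin 6 → ZMod 3)) (hQ : Nondeg Q) (c : ZMod 3) :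
    ∃ v w, Q v = c ∧ Q w = c ∧ polar Q v w = 2 * c ∧ w ≠ v ∧ w ≠ -v := by
  haveI : Fact (Nat.Prime 3) := ⟨Nat.prime_three⟩
  have key : ∀ {W : Type} [AddCommGroup W] [Module (ZMod 3) W] (R : QuadraticForm (ZMod 3) W),
      Q.Equivalent R → (∀ c : ZMod 3, ∃ x y : W, R x = c ∧ R y = c ∧ polar R x y = 2 * c ∧ y ≠ x ∧ y ≠ -x) →
      ∃ v w, Q v = c ∧ Q w = c ∧ polar Q v w = 2 * c ∧ w ≠ v ∧ w ≠ -v := by
    intro W _ _ R ⟨e⟩ h
    obtain ⟨x, y, hx, hy, hxy, h1, h2⟩ := h c
    refine ⟨e.symm x, e.symm y, by rw [e.symm.map_app, hx], by rw [e.symm.map_app, hy], ?_, ?_, ?_⟩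
    · rw [polar, ← map_add, e.symm.map_app, e.symm.map_app, e.symm.map_app, ← polar, hxy]
    · exact fun h => h1 (e.symm.injective h)
    · exact fun h => h2 (e.symm.toLinearEquiv.injective (h.trans (map_neg e.symm.toLinearEquiv x).symm))
  have plus : ∀ (m : ℕ) (c : ZMod 3), ∃ x y : Fin (m + 2) ⊕ Fin (m + 2) → ZMod 3, qPlus (m + 2) x = c ∧
      qPlus (m + 2) y = c ∧ polar (qPlus (m + 2)) x y = 2 * c ∧ y ≠ x ∧ y ≠ -x := by
    intro m c
    refine ⟨Sum.elim (Pi.single 0 1) (Pi.single 0 c), Sum.elim (Pi.single 0 1 + Pi.single 1 1) (Pi.single 0 c),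
      ?_, ?_, ?_, ?_, ?_⟩
    · simp [qPlus_apply, Pi.single_apply]
    · simp [qPlus_apply, Pi.single_apply]
    · simp [qPlus_polar, Pi.single_apply, add_mul, Finset.sum_add_distrib]
      ring
    · intro h
      have := congrFun h (Sum.inl 1)
      simp at this
    · intro h
      have := congrFun h (Sum.inl 1)
      simp at this
  rcases classify Q hQ with ⟨m, hm, he⟩ | ⟨m, d, -, -, hm, -⟩ | ⟨m, a, b, -, hm, he⟩
  · rw [finrank_fin_fun] at hm
    obtain rfl : m = 1 + 2 := by omega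
    exact key _ he (plus 1)
  · rw [finrank_fin_fun] at hm; omega
  · rw [finrank_fin_fun] at hm
    obtain rfl : m = 0 + 2 := by omega
    refine key _ he fun c => ?_
    obtain ⟨x, y, hx, hy, hxy, h1, h2⟩ := plus 0 c
    refine ⟨(x, 0), (y, 0), ?_, ?_, ?_, fun h => h1 (congrArg Prod.fst h), fun h => h2 (by
      have := congrArg Prod.fst h; simpa using this)⟩
    · simp [QuadraticMap.prod_apply, hx]
    · simp [QuadraticMap.prod_apply, hy]
    · simp only [polar, Prod.mk_add_mk, add_zero, QuadraticMap.prod_apply, QuadraticMap.map_zero]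
      simpa [polar] using hxy

/-- the projective reflection group is not trivial -/
theorem proj_nontrivial {X : Type*} [Group X] {μ c : ZMod 3} (hc : c ≠ 0)
    (h : Cfsg.IsProjReflectionGroupModThree X 6 μ c) : Nontrivial X := by
  haveI : Fact (Nat.Prime 3) := ⟨Nat.prime_three⟩
  obtain ⟨Q, hQ, -, ⟨e⟩⟩ := h
  obtain ⟨v, w, hv, hw, hvw, n1, n2⟩ := exists_two_vectors Q ((nondeg_iff Q).1 hQ) c
  have hmem : ∀ {u}, Q u = c → irefl Q u ∈ Cfsg.reflectionSubgroup (⇑Q) c := fun {u} hu =>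
    Subgroup.subset_closure ⟨u, hu, irefl_coe Q u⟩
  have hnc : (⟨irefl Q v, hmem hv⟩ : Cfsg.reflectionSubgroup (⇑Q) c) ∉ Subgroup.center _ := by
    intro hmc
    have h1 := congrArg (fun g : Cfsg.reflectionSubgroup (⇑Q) c => toOrth Q g.1)
      (Subgroup.mem_center_iff.mp hmc ⟨irefl Q w, hmem hw⟩)
    simp only [Subgroup.coe_mul, map_mul, toOrth_irefl] at h1
    have h2 : refl Q w (refl Q v w) = refl Q v (refl Q w w) :=
      congrArg (fun g : orth Q => (g.1 : (Fin 6 → ZMod 3) → (Fin 6 → ZMod 3)) w) h1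
    rw [refl_self Q (hw ▸ hc), refl_apply Q v w, hvw, hv, map_neg, refl_apply Q v w, hvw, hv, map_sub,
      map_smul, refl_self Q (hw ▸ hc), refl_apply Q w v, hw, polar_comm Q w v, hvw] at h2
    have hinv : c⁻¹ * (2 * c) = 2 := by rw [mul_comm 2, ← mul_assoc, inv_mul_cancel₀ hc, one_mul]
    rw [hinv] at h2
    have h3 : (4 : ZMod 3) • w - (4 : ZMod 3) • v = (0 : Fin 6 → ZMod 3) := by linear_combination (norm := module) h2
    rw [show (4 : ZMod 3) = 1 from rfl, one_smul, one_smul, sub_eq_zero] at h3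
    exact n1 h3
  haveI : Nontrivial (Cfsg.reflectionSubgroup (⇑Q) c ⧸ Subgroup.center (Cfsg.reflectionSubgroup (⇑Q) c)) :=
    ⟨⟨QuotientGroup.mk ⟨irefl Q v, hmem hv⟩, 1, fun h => hnc ((QuotientGroup.eq_one_iff _).mp h)⟩⟩
  exact e.toEquiv.nontrivial

end Cfsg.Agent.Lib.FischerMTypes.ReflectionBound
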