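import Mathlib
import Cfsg.Agent.Lib.FischerMTypes.PointCounts

/-!
Type M(22): the transpositions in `perp D a` commuting with two non-commuting ones give a copy of
SU(4,2) in the central quotient.
-/

set_option autoImplicit false
set_option linter.style.haveILetI false
set_option linter.unusedSectionVars false

namespace Cfsg.Agent.Lib.FischerMTypes.PointModel

open Cfsg.Agent.Lib.FischerMTypes.Basic Cfsg.Agent.Lib.FischerMTypes.Primitive
open Cfsg.Agent.Lib.Unitary (herm_eq_zero_symm)
open Cfsg.Agent.Lib.UnitaryFour.Transvection Cfsg.Agent.Lib.UnitaryFour.Classes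
  Cfsg.Agent.Lib.UnitaryFour.Stabilizer

variable {G : Type*} [Group G] [Finite G] {D : Set G}
variable {F : Type} [Field F] [Fintype F]

local notation "h⟪" u ", " v "⟫" => Cfsg.hermForm 6 F 2 u v

/-- the image in the central quotient at `a` of the group generated by the members commuting with `b` and `c` -/
def pairImage (D : Set G) (a b c : G) :
    Subgroup (↥(Subgroup.closure (perp D a)) ⧸ Subgroup.center ↥(Subgroup.closure (perp D a))) :=
  ((Subgroup.closure {y | y ∈ perp D a ∧ (Commute b y ∧ Commute c y)}).subgroupOf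
    (Subgroup.closure (perp D a))).map (QuotientGroup.mk' _)

theorem card_SU_four (hF : Fintype.card F = 2 ^ 2) : Nat.card (Cfsg.SU 4 F 2) = 25920 := by
  have h := Cfsg.Agent.Lib.Unitary.card_SU (n := 4) hF (by norm_num)
  rw [Cfsg.Agent.Lib.Unitary.card_GU hF] at h
  simp [Finset.prod_range_succ, Nat.even_iff] at h
  omega

variable {a : G} (C : Ctx D a F)

namespace Ctx

include C in
theorem pairImage_u4 {b c : G} (hb : b ∈ perp D a) (hc : c ∈ perp D a) (hbc : ¬ Commute b c) :
    25920 ∣ Nat.card (pairImage D a b c) ∧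
      ∀ r ∈ pairImage D a b c, (∀ r' ∈ pairImage D a b c, Commute r r') → r = 1 := by
  obtain ⟨e, f, hef, he0, hf0, rfl, rfl⟩ := C.exists_hyp_pt hb hc hbc
  obtain ⟨g, hfr⟩ := exists_Frame C.hF hef
  choose s hs hsA using fun A : Cfsg.SU 4 F 2 => exists_actsAs C.hF hfr A
  let ι : Cfsg.SU 4 F 2 →* Cfsg.SU 6 F 2 :=
    MonoidHom.mk' s fun A B => (hsA (A * B)).unique C.hF hfr ((hsA A).mul (hsA B))
  -- the range of `ι` is the whole fixer of the pair
  have hrange : ι.range = tvPerp C.hF {e, f} := by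
    refine le_antisymm ?_ ((Subgroup.closure_le _).mpr ?_)
    · rintro _ ⟨A, rfl⟩
      exact hs A
    · rintro t ⟨u, hu, -, hS, rfl⟩
      set x : Fin 4 → F := fun i => h⟪u, g i⟫
      have hux : u = lin g x := by
        have := hfr.expand C.hF u
        rwa [hS e (by simp), hS f (by simp), zero_smul, zero_smul, zero_add, zero_add] at this
      have hx : Cfsg.hermForm 4 F 2 x x = 0 := by rw [← hfr.lin_herm C.hF, ← hux, hu]
      refine ⟨tv C.hF x hx, (hsA (tv C.hF x hx)).unique C.hF hfr ⟨?_, ?_, fun y => ?_⟩⟩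
      · rw [act_tv, herm_eq_zero_symm C.hF (hS e (by simp)), zero_smul, add_zero]
      · rw [act_tv, herm_eq_zero_symm C.hF (hS f (by simp)), zero_smul, add_zero]
      · rw [act_tv, show (tv C.hF x hx).1.1.mulVec y = y + Cfsg.hermForm 4 F 2 y x • x from act_tv C.hF hx y,
          lin_add, lin_smul, hux, hfr.lin_herm C.hF]
  have hfixe : ∀ A, act (ι A) e = e := fun A => (hsA A).1
  have hιinj : Function.Injective ι := by
    intro A B hAB
    refine ext' fun x => ?_
    have h1 := (hsA A).2.2 x
    rw [show s A = s B from hAB, (hsA B).2.2 x] at h1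
    have := congrArg (fun v => fun i => h⟪v, g i⟫) h1
    simpa [lin, Cfsg.Agent.Lib.Unitary.orthonormal_coeff hfr.on, act_def] using this.symm
  have hker : ∀ t ∈ ι.range, C.φ t = 1 → t = 1 := by
    rintro _ ⟨A, rfl⟩ ht
    exact eq_one_of_central_fix C.hF (C.ker (MonoidHom.mem_ker.mpr ht)) he0 (hfixe A)
  -- the image of the fixer
  have himage : pairImage D a (C.pt e) (C.pt f) = (tvPerp C.hF {e, f}).map C.φ := by
    rw [pairImage, tvPerp, MonoidHom.map_closure]
    refine le_antisymm ?_ ((Subgroup.closure_le _).mpr ?_)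
    · rintro _ ⟨⟨k, hkH⟩, hk, rfl⟩
      rw [SetLike.mem_coe, Subgroup.mem_subgroupOf] at hk
      simp only at hk
      induction hk using Subgroup.closure_induction with
      | mem y hy =>
        obtain ⟨v, hv, hv0, rfl⟩ := C.exists_pt hy.1
        refine Subgroup.subset_closure ⟨tv C.hF v hv, ⟨v, hv, hv0, ?_, rfl⟩, (C.pt_im hv hv0).symm⟩
        intro s hs'
        rcases hs' with rfl | rfl
        · exact herm_eq_zero_symm C.hF ((C.pt_comm hef.1 he0 hv hv0).mp hy.2.1)
        · exact herm_eq_zero_symm C.hF ((C.pt_comm hef.2.1 hf0 hv hv0).mp hy.2.2)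
      | one => exact one_mem _
      | mul x y hx hy ihx ihy =>
        have hxH := Subgroup.closure_mono (fun z (hz : z ∈ {y | y ∈ perp D a ∧ _}) => hz.1) hx
        have hyH := Subgroup.closure_mono (fun z (hz : z ∈ {y | y ∈ perp D a ∧ _}) => hz.1) hy
        exact mul_mem (ihx hxH) (ihy hyH)
      | inv x hx ihx =>
        have hxH := Subgroup.closure_mono (fun z (hz : z ∈ {y | y ∈ perp D a ∧ _}) => hz.1) hx
        exact inv_mem (ihx hxH)
    · rintro _ ⟨t, ⟨v, hv, hv0, hS, rfl⟩, rfl⟩
      refine ⟨⟨C.pt v, Subgroup.subset_closure (C.pt_mem hv hv0)⟩, ?_, C.pt_im hv hv0⟩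
      rw [SetLike.mem_coe, Subgroup.mem_subgroupOf]
      exact Subgroup.subset_closure ⟨C.pt_mem hv hv0,
        (C.pt_comm hef.1 he0 hv hv0).mpr (herm_eq_zero_symm C.hF (hS e (by simp))),
        (C.pt_comm hef.2.1 hf0 hv hv0).mpr (herm_eq_zero_symm C.hF (hS f (by simp)))⟩
  rw [himage, ← hrange, ← MonoidHom.range_comp]
  refine ⟨?_, ?_⟩
  · have hinj : Function.Injective (C.φ.comp ι) := by
      rw [injective_iff_map_eq_one]
      intro A hA
      exact hιinj ((hker _ ⟨A, rfl⟩ hA).trans (map_one ι).symm)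
    rw [← Nat.card_congr (MonoidHom.ofInjective hinj).toEquiv, card_SU_four C.hF]
  · rintro _ ⟨A, rfl⟩ hc
    have hA : A ∈ Subgroup.center (Cfsg.SU 4 F 2) := by
      rw [Subgroup.mem_center_iff]
      intro B
      refine hιinj (mul_inv_eq_one.mp (hker _ ⟨B * A * (A * B)⁻¹, by simp⟩ ?_))
      rw [map_mul, map_inv, mul_inv_eq_one]
      simp only [map_mul]
      exact (hc _ ⟨B, rfl⟩).eq.symm
    obtain ⟨l, hl⟩ := (Cfsg.Agent.Lib.Unitary.mem_center_SU_iff C.hF (by norm_num) A).mp hA
    have hdet : l ^ 4 = 1 := by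
      have hM : A.1.1 = l • (1 : Matrix (Fin 4) (Fin 4) F) := Matrix.toLin'.injective (LinearMap.ext fun x => by
        rw [Matrix.toLin'_apply, Matrix.toLin'_apply, Matrix.smul_mulVec, Matrix.one_mulVec]; exact hl x)
      have := A.1.2
      rwa [hM, Matrix.det_smul, Matrix.det_one, mul_one, Fintype.card_fin] at this
    have hl0 : l ≠ 0 := fun h => by rw [h] at hdet; simp at hdet
    have hl1 : l = 1 := by
      rw [pow_succ, cube_eq_one C.hF hl0, one_mul] at hdet
      exact hdet
    have : A = 1 := ext' fun x => by rw [act_one]; exact (hl x).trans (by rw [hl1, one_smul])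
    rw [this, map_one]

end Ctx

end Cfsg.Agent.Lib.FischerMTypes.PointModel
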