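import Mathlib
import Cfsg.Agent.Lib.FischerMTypes.Lines

/-!
Type M(22): six pairwise commuting transpositions with product one through every commuting triple,
and exactly two factorisations into three commuting transpositions.
-/

set_option autoImplicit false
set_option linter.style.haveILetI false
set_option linter.unusedSectionVars false

namespace Cfsg.Agent.Lib.FischerMTypes.SixSets

open Cfsg.Agent.Lib.FischerMTypes.Basic Cfsg.Agent.Lib.FischerMTypes.Primitive
  Cfsg.Agent.Lib.FischerMTypes.Levels Cfsg.Agent.Lib.FischerMTypes.Types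
  Cfsg.Agent.Lib.FischerMTypes.Lines

variable {G : Type*} [Group G] [Finite G] {D : Set G}

theorem five_trace (hD : Cfsg.IsThreeTranspositionGroup D) {a b c p q r : G} (h : Five D a b c p q r) :
    c ∈ perp₂ D a b ∧ p ∈ traceClass D a b c ∧ q ∈ traceClass D a b c ∧ r ∈ traceClass D a b c ∧
      [c, p, q, r].Nodup := by
  obtain ⟨hb, hc, hp, hq, hr⟩ : b ∈ perp D a ∧ c ∈ perp D a ∧ p ∈ perp D a ∧ q ∈ perp D a ∧ r ∈ perp D a :=
    ⟨h.mem b (by simp), h.mem c (by simp), h.mem p (by simp), h.mem q (by simp), h.mem r (by simp)⟩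
  have hnd := h.nodup
  simp only [List.nodup_cons, List.mem_cons, List.not_mem_nil, or_false, not_or, List.nodup_nil,
    and_true, not_false_eq_true] at hnd
  obtain ⟨⟨n1, n2, n3, n4⟩, ⟨n5, n6, n7⟩, ⟨n8, n9⟩, n10⟩ := hnd
  have cm : ∀ {y z : G}, y ∈ [b, c, p, q, r] → z ∈ [b, c, p, q, r] → Commute y z := fun hy hz => h.comm _ hy _ hz
  have hc2 : c ∈ perp₂ D a b := ⟨hc, hc.1, Ne.symm n1, cm (by simp) (by simp)⟩
  have key : ∀ x ∈ perp₂ D a b, Commute x (c * (p * q * r)) := by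
    intro x hx
    have := (hx.2.2.2.symm).mul_right (h.central x hx.1)
    rwa [show b * (b * c * (p * q * r)) = (b * b) * (c * (p * q * r)) by group, mul_self hD.1 hb.1, one_mul]
      at this
  refine ⟨hc2, ⟨⟨hp, hp.1, Ne.symm n2, cm (by simp) (by simp)⟩, fun x hx => ?_⟩,
    ⟨⟨hq, hq.1, Ne.symm n3, cm (by simp) (by simp)⟩, fun x hx => ?_⟩,
    ⟨⟨hr, hr.1, Ne.symm n4, cm (by simp) (by simp)⟩, fun x hx => ?_⟩, ?_⟩
  · refine six_iff hD.1 hc.1 hp.1 hq.1 hr.1 hx.1.1 (cm (by simp) (by simp)) (cm (by simp) (by simp))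
      (cm (by simp) (by simp)) (cm (by simp) (by simp)) (cm (by simp) (by simp)) (cm (by simp) (by simp))
      n5 n6 n7 n8 n9 n10 ?_
    rw [show c * p * (q * r) = c * (p * q * r) by group]
    exact key x hx
  · refine six_iff hD.1 hc.1 hq.1 hp.1 hr.1 hx.1.1 (cm (by simp) (by simp)) (cm (by simp) (by simp))
      (cm (by simp) (by simp)) (cm (by simp) (by simp)) (cm (by simp) (by simp)) (cm (by simp) (by simp))
      n6 n5 n7 (Ne.symm n8) n10 n9 ?_
    rw [show c * q * (p * r) = c * (q * p * r) by group, (cm (y := q) (z := p) (by simp) (by simp)).eq]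
    exact key x hx
  · refine six_iff hD.1 hc.1 hr.1 hp.1 hq.1 hx.1.1 (cm (by simp) (by simp)) (cm (by simp) (by simp))
      (cm (by simp) (by simp)) (cm (by simp) (by simp)) (cm (by simp) (by simp)) (cm (by simp) (by simp))
      n7 n5 n6 (Ne.symm n9) (Ne.symm n10) n8 ?_
    rw [show c * r * (p * q) = c * (r * (p * q)) by group,
      ((cm (y := r) (z := p) (by simp) (by simp)).mul_right (cm (y := r) (z := q) (by simp) (by simp))).eq]
    exact key x hx
  · simp [n5, n6, n7, n8, n9, n10]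

/-- three further members of a trace class are determined -/
theorem trace_unique {a b c p q r : G} (hL : LineData D a) (hb : b ∈ perp D a) (hc : c ∈ perp₂ D a b)
    (hp : p ∈ traceClass D a b c) (hq : q ∈ traceClass D a b c) (hr : r ∈ traceClass D a b c)
    (hnd : [c, p, q, r].Nodup) : ∀ y ∈ traceClass D a b c, y ∈ [c, p, q, r] := by
  classical
  have hcS : c ∈ traceClass D a b c := ⟨hc, SameComm.refl c⟩
  have hsub : (([c, p, q, r].toFinset : Finset G) : Set G) ⊆ traceClass D a b c := by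
    intro y hy
    simp only [List.coe_toFinset, Set.mem_ofPred_eq, List.mem_cons, List.not_mem_nil, or_false] at hy
    rcases hy with rfl | rfl | rfl | rfl <;> assumption
  have heq := Set.eq_of_subset_of_ncard_le hsub (by
    rw [Set.ncard_coe_finset, List.toFinset_card_of_nodup hnd]
    exact hL.bound b hb c hc) (Set.toFinite _)
  intro y hy
  rw [← heq] at hy
  simpa using hy

theorem prod_unique {a b c p q r p' q' r' : G} (hL : LineData D a) (hb : b ∈ perp D a)
    (hc : c ∈ perp₂ D a b) (hp : p ∈ traceClass D a b c) (hq : q ∈ traceClass D a b c)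
    (hr : r ∈ traceClass D a b c) (hnd : [c, p, q, r].Nodup) (hp' : p' ∈ traceClass D a b c)
    (hq' : q' ∈ traceClass D a b c) (hr' : r' ∈ traceClass D a b c) (hnd' : [c, p', q', r'].Nodup) :
    p * q * r = p' * q' * r' := by
  have hsub : [c, p', q', r'] ⊆ [c, p, q, r] := by
    intro y hy
    refine trace_unique hL hb hc hp hq hr hnd y ?_
    simp only [List.mem_cons, List.not_mem_nil, or_false] at hy
    rcases hy with rfl | rfl | rfl | rfl
    · exact ⟨hc, SameComm.refl _⟩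
    all_goals assumption
  have hperm := ((List.subperm_of_subset hnd' hsub).perm_of_length_le le_rfl).cons_inv
  have cm : ∀ {y z : G}, y ∈ traceClass D a b c → z ∈ traceClass D a b c → Commute y z := fun {y z} hy hz =>
    (hz.2 y hy.1).mp ((hy.2 y hy.1).mpr (Commute.refl y))
  have := hperm.prod_eq' (by simp [cm hp' hq', cm hp' hr', cm hq' hr'])
  simpa [mul_assoc] using this.symm

/-- the element attached to the transposition `a` -/
def IsT (D : Set G) (a t : G) : Prop := ∃ b c p q r, Five D a b c p q r ∧ t = a * (b * c * (p * q * r))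

theorem IsT.commute {a t : G} (h : IsT D a t) {x : G} (hx : x ∈ D) (hxa : Commute x a) : Commute x t := by
  obtain ⟨b, c, p, q, r, h5, rfl⟩ := h
  refine hxa.mul_right ?_
  by_cases hne : x = a
  · subst hne
    exact (((h5.mem b (by simp)).2.2).mul_right (h5.mem c (by simp)).2.2).mul_right
      ((((h5.mem p (by simp)).2.2).mul_right (h5.mem q (by simp)).2.2).mul_right (h5.mem r (by simp)).2.2)
  · exact h5.central x ⟨hx, hne, hxa.symm⟩

theorem IsT.conj (hD : Cfsg.IsThreeTranspositionGroup D) (g : G) {a t : G} (h : IsT D a t) :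
    IsT D (g * a * g⁻¹) (g * t * g⁻¹) := by
  obtain ⟨b, c, p, q, r, h5, rfl⟩ := h
  exact ⟨_, _, _, _, _, five_conj hD g h5, by group⟩

theorem IsT.unique (hD : Cfsg.IsThreeTranspositionGroup D) {a : G} (hL : LineData D a) (ha : a ∈ D) {t t' : G}
    (h : IsT D a t) (h' : IsT D a t') : t = t' := by
  have hcomm : ∀ s ∈ perp D a, Commute t s := fun s hs => (h.commute hs.1 hs.2.2.symm).symm
  obtain ⟨b, c, p, q, r, h5, rfl⟩ := h
  obtain ⟨b', c', p', q', r', h5', rfl⟩ := h'
  have hne : ∀ {u v x y z : G}, [u, v, x, y, z].Nodup → u ≠ v := fun hn he => by simp [he] at hn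
  obtain ⟨k, hk, hkb, hkc⟩ := hL.trans b (h5.mem b (by simp)) c (h5.mem c (by simp)) (hne h5.nodup)
    (h5.comm b (by simp) c (by simp)) b' (h5'.mem b' (by simp)) c' (h5'.mem c' (by simp)) (hne h5'.nodup)
    (h5'.comm b' (by simp) c' (by simp))
  have hka : k * a * k⁻¹ = a := by
    rw [← (commute_closure (u := a) (fun s hs => hs.2.2) k hk).eq, mul_inv_cancel_right]
  have hkt : k * (a * (b * c * (p * q * r))) * k⁻¹ = a * (b * c * (p * q * r)) := by
    rw [← (commute_closure hcomm k hk).eq, mul_inv_cancel_right]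
  have hk5 := five_conj hD k h5
  rw [hka, hkb, hkc] at hk5
  obtain ⟨hc2, m1, m2, m3, hnd⟩ := five_trace hD hk5
  obtain ⟨-, m1', m2', m3', hnd'⟩ := five_trace hD h5'
  have hpr := prod_unique hL (h5'.mem b' (by simp)) hc2 m1 m2 m3 hnd m1' m2' m3' hnd'
  rw [← hkt, ← hpr, ← hkb, ← hkc]
  conv_rhs => rw [← hka]
  group

/-- the attached element moves along commuting pairs -/
theorem IsT.step (hD : Cfsg.IsThreeTranspositionGroup D) (hL : ∀ v ∈ D, LineData D v) {a b t : G}
    (ha : a ∈ D) (hb : b ∈ perp D a) (h : IsT D a t) : IsT D b t := by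
  obtain ⟨c, hc, hcb, hbc⟩ := (hL a ha).second b hb
  obtain ⟨p, q, r, h5⟩ := (hL a ha).five b hb c hc (Ne.symm hcb) hbc
  have ht := IsT.unique hD (hL a ha) ha h ⟨b, c, p, q, r, h5, rfl⟩
  have hab : a ∈ perp D b := ⟨ha, Ne.symm hb.2.1, hb.2.2.symm⟩
  have hcb' : c ∈ perp D b := ⟨hc.1, hcb, hbc⟩
  obtain ⟨p', q', r', h5'⟩ := (hL b hb.1).five a hab c hcb' (Ne.symm hc.2.1) hc.2.2
  obtain ⟨-, m1, m2, m3, hnd⟩ := five_trace hD h5
  obtain ⟨hc2, m1', m2', m3', hnd'⟩ := five_trace hD h5'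
  have flip : ∀ {y : G}, y ∈ traceClass D a b c → y ∈ traceClass D b a c := fun {y} hy =>
    ⟨⟨hy.1.2, hy.1.1⟩, fun x hx => hy.2 x ⟨hx.2, hx.1⟩⟩
  have hpr := prod_unique (hL b hb.1) hab hc2 (flip m1) (flip m2) (flip m3) hnd m1' m2' m3' hnd'
  refine ⟨a, c, p', q', r', h5', ?_⟩
  rw [ht, ← hpr]
  calc a * (b * c * (p * q * r)) = (a * b) * (c * (p * q * r)) := by group
    _ = (b * a) * (c * (p * q * r)) := by rw [hb.2.2.eq]
    _ = b * (a * c * (p * q * r)) := by group

/-- the attached element is trivial -/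
theorem IsT.eq_one (hD : Cfsg.IsThreeTranspositionGroup D) (hprim : Cfsg.IsPrimitiveUnderConj D)
    (hZ : Subgroup.center G = ⊥) (hL : ∀ v ∈ D, LineData D v) {a t : G} (ha : a ∈ D) (h : IsT D a t) :
    t = 1 := by
  have hblock := hprim.2.2 {v | v ∈ D ∧ IsT D v t} (fun v hv => hv.1) (fun k => by
    by_cases hd : Disjoint ((fun x => k * x * k⁻¹) '' {v | v ∈ D ∧ IsT D v t}) {v | v ∈ D ∧ IsT D v t}
    · exact Or.inr hd
    left
    obtain ⟨w, ⟨v, hv, rfl⟩, hw⟩ := Set.not_disjoint_iff.mp hd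
    have hkt : k * t * k⁻¹ = t := IsT.unique hD (hL _ hw.1) hw.1 (hv.2.conj hD k) hw.2
    ext u
    constructor
    · rintro ⟨u', hu', rfl⟩
      exact ⟨hD.2.1 k u' hu'.1, hkt ▸ hu'.2.conj hD k⟩
    · intro hu
      refine ⟨k⁻¹ * u * k, ⟨by simpa using hD.2.1 k⁻¹ u hu.1, ?_⟩, by group⟩
      have := hu.2.conj hD k⁻¹
      rwa [show k⁻¹ * t * k⁻¹⁻¹ = t by
        conv_lhs => rw [← hkt]
        group, inv_inv] at this)
  obtain ⟨b, c, p, q, r, h5, rfl⟩ := id h
  rcases hblock with hs | hall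
  · exact absurd (hs ⟨ha, h⟩ ⟨(h5.mem b (by simp)).1, h.step hD hL ha (h5.mem b (by simp))⟩)
      (Ne.symm (h5.mem b (by simp)).2.1)
  · have hc : a * (b * c * (p * q * r)) ∈ Subgroup.center G :=
      center_of_commute_all hD.2.2 fun v hv => (((Set.ext_iff.mp hall v).mpr hv).2.commute hv
        (Commute.refl v))
    rwa [hZ, Subgroup.mem_bot] at hc

/-- two triples with equal products and a common member coincide -/
theorem same_of_meet (hD : Cfsg.IsThreeTranspositionGroup D) (hprim : Cfsg.IsPrimitiveUnderConj D)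
    (hZ : Subgroup.center G = ⊥) {l l' : List G}
    (hl : l.Nodup ∧ l.length = 3 ∧ (∀ a ∈ l, a ∈ D) ∧ (∀ a ∈ l, ∀ b ∈ l, Commute a b))
    (hl' : l'.Nodup ∧ l'.length = 3 ∧ (∀ a ∈ l', a ∈ D) ∧ (∀ a ∈ l', ∀ b ∈ l', Commute a b))
    (hp : l.prod = l'.prod) {u : G} (hu : u ∈ l) (hu' : u ∈ l') : ∀ x : G, x ∈ l ↔ x ∈ l' := by
  classical
  have split : ∀ {m : List G}, (m.Nodup ∧ m.length = 3 ∧ (∀ a ∈ m, a ∈ D) ∧ (∀ a ∈ m, ∀ b ∈ m, Commute a b)) →
      u ∈ m → ∃ u₁ u₂, u₁ ∈ D ∧ u₂ ∈ D ∧ Commute u₁ u₂ ∧ u₁ ≠ u₂ ∧ m.prod = u * (u₁ * u₂) ∧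
        ∀ x, x ∈ m ↔ x = u ∨ x = u₁ ∨ x = u₂ := by
    rintro m ⟨hn, hlen, hd, hc⟩ hum
    have hperm := List.perm_cons_erase hum
    obtain ⟨u₁, u₂, he⟩ : ∃ u₁ u₂, m.erase u = [u₁, u₂] := List.length_eq_two.mp (by
      rw [List.length_erase_of_mem hum, hlen])
    rw [he] at hperm
    have hn' := hperm.nodup_iff.mp hn
    refine ⟨u₁, u₂, hd _ (hperm.mem_iff.mpr (by simp)), hd _ (hperm.mem_iff.mpr (by simp)),
      hc _ (hperm.mem_iff.mpr (by simp)) _ (hperm.mem_iff.mpr (by simp)), fun h => by simp [h] at hn', ?_, ?_⟩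
    · rw [hperm.prod_eq' (List.pairwise_iff_forall_sublist.mpr fun hs =>
        hc _ (hs.subset (by simp)) _ (hs.subset (by simp)))]
      simp
    · intro x; simp [hperm.mem_iff]
  obtain ⟨u₁, u₂, a1, a2, ac, an, ap, ax⟩ := split hl hu
  obtain ⟨v₁, v₂, b1, b2, bc, bn, bp, bx⟩ := split hl' hu'
  intro x
  rw [ax, bx]
  rcases pair_unique hD hprim hZ a1 a2 b1 b2 ac bc an bn (mul_left_cancel (ap ▸ bp ▸ hp)) with
    ⟨rfl, rfl⟩ | ⟨rfl, rfl⟩
  · exact Iff.rfl
  · tauto

/-- a member of a triple with the same product commutes with the other triple -/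
theorem cross (hD : Cfsg.IsThreeTranspositionGroup D) {a b c v : G} (ha : a ∈ D) (hb : b ∈ D) (hc : c ∈ D)
    (hv : v ∈ D) (cab : Commute a b) (cac : Commute a c) (cbc : Commute b c) (n1 : a ≠ b) (n2 : a ≠ c)
    (n3 : b ≠ c) (hj : Commute v (a * b * c)) : Commute v a ∧ Commute v b ∧ Commute v c := by
  by_cases hva : Commute v a
  · have h2 : Commute v (b * c) := by
      have := hva.mul_right hj
      rwa [mul_assoc a b c, ← mul_assoc a a, mul_self hD.1 ha, one_mul] at this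
    exact ⟨hva, comm_of_comm_mul hD.1 hb hc hv cbc n3 h2⟩
  · exfalso
    by_cases hvb : Commute v b
    · have h2 : Commute v (a * c) := by
        have := hvb.mul_right hj
        rwa [cab.eq, mul_assoc b a c, ← mul_assoc b b, mul_self hD.1 hb, one_mul] at this
      exact hva (comm_of_comm_mul hD.1 ha hc hv cac n2 h2).1
    · by_cases hvc : Commute v c
      · have h2 : Commute v (a * b) := by
          have := hj.mul_right hvc
          rwa [mul_assoc (a * b), mul_self hD.1 hc, mul_one] at this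
        exact hva (comm_of_comm_mul hD.1 ha hb hv cab n1 h2).1
      · exact three_not_commute hD.1 ha hb hc hv cab cac cbc n3 hva hvb hvc (by rwa [← mul_assoc])

/-- exactly two factorisations into three commuting transpositions -/
theorem two_factorisations (hD : Cfsg.IsThreeTranspositionGroup D) (hprim : Cfsg.IsPrimitiveUnderConj D)
    (hZ : Subgroup.center G = ⊥) (hL : ∀ v ∈ D, LineData D v) (j : G) (l₀ : List G)
    (hl₀ : l₀.Nodup ∧ l₀.length = 3 ∧ (∀ a ∈ l₀, a ∈ D) ∧ (∀ a ∈ l₀, ∀ b ∈ l₀, Commute a b) ∧ l₀.prod = j) :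
    ∃ l₁ l₂ : List G,
      (l₁.Nodup ∧ l₁.length = 3 ∧ (∀ a ∈ l₁, a ∈ D) ∧ (∀ a ∈ l₁, ∀ b ∈ l₁, Commute a b) ∧ l₁.prod = j) ∧
      (l₂.Nodup ∧ l₂.length = 3 ∧ (∀ a ∈ l₂, a ∈ D) ∧ (∀ a ∈ l₂, ∀ b ∈ l₂, Commute a b) ∧ l₂.prod = j) ∧
      ¬ (∀ x : G, x ∈ l₁ ↔ x ∈ l₂) ∧
      ∀ l : List G, (l.Nodup ∧ l.length = 3 ∧ (∀ a ∈ l, a ∈ D) ∧ (∀ a ∈ l, ∀ b ∈ l, Commute a b) ∧ l.prod = j) →
        ((∀ x : G, x ∈ l ↔ x ∈ l₁) ∨ (∀ x : G, x ∈ l ↔ x ∈ l₂)) := by
  obtain ⟨hn, hlen, hd, hc, hp⟩ := hl₀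
  obtain ⟨a, b, c, rfl⟩ := List.length_eq_three.mp hlen
  obtain ⟨ha, hb, hc'⟩ : a ∈ D ∧ b ∈ D ∧ c ∈ D := by simpa [List.forall_mem_cons] using hd
  have hn' := hn
  simp only [List.nodup_cons, List.mem_cons, List.not_mem_nil, or_false, not_or, List.nodup_nil,
    and_true, not_false_eq_true] at hn'
  obtain ⟨⟨n1, n2⟩, n3⟩ := hn'
  have cab : Commute a b := hc a (by simp) b (by simp)
  have cac : Commute a c := hc a (by simp) c (by simp)
  have cbc : Commute b c := hc b (by simp) c (by simp)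
  have hbp : b ∈ perp D a := ⟨hb, Ne.symm n1, cab⟩
  have hcp : c ∈ perp D a := ⟨hc', Ne.symm n2, cac⟩
  obtain ⟨p, q, r, h5⟩ := (hL a ha).five b hbp c hcp n3 cbc
  have ht : a * (b * c * (p * q * r)) = 1 := IsT.eq_one hD hprim hZ hL ha ⟨b, c, p, q, r, h5, rfl⟩
  have mp := h5.mem p (by simp)
  have mq := h5.mem q (by simp)
  have mr := h5.mem r (by simp)
  have cpq : Commute p q := h5.comm p (by simp) q (by simp)
  have cpr : Commute p r := h5.comm p (by simp) r (by simp)
  have cqr : Commute q r := h5.comm q (by simp) r (by simp)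
  have hrev : (p * q * r)⁻¹ = p * q * r := by
    rw [mul_inv_rev, mul_inv_rev, inv_eq hD.1 mp.1, inv_eq hD.1 mq.1, inv_eq hD.1 mr.1, ← cpq.eq,
      ← (cpr.mul_left cqr).eq]
  have hj : j = p * q * r := by
    rw [← hp, ← hrev]
    refine eq_inv_of_mul_eq_one_left ?_
    rw [← ht]
    simp only [List.prod_cons, List.prod_nil, mul_one]
    group
  have hnd5 := h5.nodup
  simp only [List.nodup_cons, List.mem_cons, List.not_mem_nil, or_false, not_or, List.nodup_nil,
    and_true, not_false_eq_true] at hnd5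
  obtain ⟨⟨-, m2, m3, m4⟩, ⟨m5, m6, m7⟩, ⟨m8, m9⟩, m10⟩ := hnd5
  have hl₂ : [p, q, r].Nodup ∧ [p, q, r].length = 3 ∧ (∀ x ∈ [p, q, r], x ∈ D) ∧
      (∀ x ∈ [p, q, r], ∀ y ∈ [p, q, r], Commute x y) ∧ [p, q, r].prod = j := by
    refine ⟨by simp [m8, m9, m10], rfl, ?_, fun x hx y hy => ?_, by simp [hj, mul_assoc]⟩
    · simp [List.forall_mem_cons, mp.1, mq.1, mr.1]
    · exact h5.comm x (List.mem_cons_of_mem _ (List.mem_cons_of_mem _ hx)) y
        (List.mem_cons_of_mem _ (List.mem_cons_of_mem _ hy))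
  refine ⟨[a, b, c], [p, q, r], ⟨hn, hlen, hd, hc, hp⟩, hl₂, fun h => ?_, ?_⟩
  · have := (h a).mp (by simp)
    simp only [List.mem_cons, List.not_mem_nil, or_false] at this
    rcases this with h | h | h
    · exact mp.2.1 h.symm
    · exact mq.2.1 h.symm
    · exact mr.2.1 h.symm
  rintro l ⟨ln, llen, ld, lc, lp⟩
  by_cases hm : ∃ u ∈ l, u ∈ [a, b, c] ∨ u ∈ [p, q, r]
  · obtain ⟨u, hu, hu' | hu'⟩ := hm
    · exact Or.inl (same_of_meet hD hprim hZ ⟨ln, llen, ld, lc⟩ ⟨hn, hlen, hd, hc⟩ (lp.trans hp.symm) hu hu')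
    · exact Or.inr (same_of_meet hD hprim hZ ⟨ln, llen, ld, lc⟩ ⟨hl₂.1, hl₂.2.1, hl₂.2.2.1, hl₂.2.2.2.1⟩
        (lp.trans hl₂.2.2.2.2.symm) hu hu')
  exfalso
  push Not at hm
  obtain ⟨e, f, k, rfl⟩ := List.length_eq_three.mp llen
  have hprod : e * f * k = a * b * c := by simpa [mul_assoc] using lp.trans hp.symm
  have hx : ∀ v ∈ [e, f, k], v ∈ perp D a ∧ v ≠ b ∧ v ≠ c ∧ Commute b v ∧ Commute c v := by
    intro v hv
    obtain ⟨o1, -⟩ := hm v hv
    simp only [List.mem_cons, List.not_mem_nil, or_false, not_or] at o1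
    have hvj : Commute v (a * b * c) := by
      rw [← hprod]
      exact ((lc v hv e (by simp)).mul_right (lc v hv f (by simp))).mul_right (lc v hv k (by simp))
    obtain ⟨k1, k2, k3⟩ := cross hD ha hb hc' (ld v hv) cab cac cbc n1 n2 n3 hvj
    exact ⟨⟨ld v hv, o1.1, k1.symm⟩, o1.2.1, o1.2.2, k2.symm, k3.symm⟩
  have h5' : Five D a b c e f k := by
    refine ⟨?_, ?_, ?_, fun x hxp => ?_⟩
    · intro y hy
      rcases List.mem_cons.mp hy with rfl | hy
      · exact hbp
      rcases List.mem_cons.mp hy with rfl | hy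
      · exact hcp
      exact (hx y hy).1
    · refine List.nodup_cons.mpr ⟨?_, List.nodup_cons.mpr ⟨fun h => (hx c h).2.2.1 rfl, ln⟩⟩
      rw [List.mem_cons]
      exact fun h => h.elim n3 fun h => (hx b h).2.1 rfl
    · have cr : ∀ u ∈ [b, c], ∀ v ∈ [e, f, k], Commute u v := by
        intro u hu v hv
        simp only [List.mem_cons, List.not_mem_nil, or_false] at hu
        rcases hu with rfl | rfl
        · exact (hx v hv).2.2.2.1
        · exact (hx v hv).2.2.2.2
      intro u hu v hv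
      rw [show [b, c, e, f, k] = [b, c] ++ [e, f, k] from rfl, List.mem_append] at hu hv
      rcases hu with hu | hu <;> rcases hv with hv | hv
      · exact hc u (List.mem_cons_of_mem _ hu) v (List.mem_cons_of_mem _ hv)
      · exact cr u hu v hv
      · exact (cr v hv u hu).symm
      · exact lc u hu v hv
    · have hone : b * c * (a * b * c) = a := by
        calc b * c * (a * b * c) = b * (c * (a * b)) * c := by group
          _ = b * (a * b * c) * c := by rw [(cac.mul_left cbc).eq]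
          _ = b * a * b * (c * c) := by group
          _ = a * (b * b) := by rw [← cab.eq, mul_self hD.1 hc', mul_one, mul_assoc]
          _ = a := by rw [mul_self hD.1 hb, mul_one]
      rw [hprod, hone]
      exact hxp.2.2.symm
  obtain ⟨hc2, m1, m2', m3', hnd⟩ := five_trace hD h5
  obtain ⟨-, s1, -, -, -⟩ := five_trace hD h5'
  have := trace_unique (hL a ha) hbp hc2 m1 m2' m3' hnd e s1
  have he := hm e (by simp)
  simp only [List.mem_cons, List.not_mem_nil, or_false, not_or] at this he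
  rcases this with h | h | h | h
  · exact he.1.2.2 h
  · exact he.2.1 h
  · exact he.2.2.1 h
  · exact he.2.2.2 h

end Cfsg.Agent.Lib.FischerMTypes.SixSets
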