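import Mathlib
import Cfsg.Agent.Lib.FischerMTypes.PointU4
import Cfsg.Agent.Lib.FischerMTypes.SixSets

/-!
Type M(22): one orbit of non-commuting partners with common neighbours, and the two moment
identities for the trace of a non-commuting pair inside `perp D a`.
-/

set_option autoImplicit false
set_option linter.style.haveILetI false
set_option linter.unusedSectionVars false

namespace Cfsg.Agent.Lib.FischerMTypes.TraceCounts

open Cfsg.Agent.Lib.FischerMTypes.Basic Cfsg.Agent.Lib.FischerMTypes.Primitive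
  Cfsg.Agent.Lib.FischerMTypes.Levels Cfsg.Agent.Lib.FischerMTypes.Lines
  Cfsg.Agent.Lib.FischerMTypes.SixSets Cfsg.Agent.Lib.FischerMTypes.PointModel

variable {G : Type*} [Group G] [Finite G] {D : Set G}
variable {F : Type} [Field F] [Fintype F]

/-- a group of type M(22) with models of all perp sets -/
structure Sys (D : Set G) (F : Type) [Field F] [Fintype F] where
  hD : Cfsg.IsThreeTranspositionGroup D
  hprim : Cfsg.IsPrimitiveUnderConj D
  hZ : Subgroup.center G = ⊥
  ctx : ∀ a ∈ D, Ctx D a F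
  lines : ∀ a ∈ D, LineData D a
  refl : ∃ d ∈ D, ∃ c ∈ D, ¬ Commute d c ∧ ∃ c₃ : ZMod 3, c₃ ≠ 0 ∧ Cfsg.IsProjReflectionGroupModThree
    (↥(Subgroup.closure (perp₂ D d c)) ⧸ Subgroup.center ↥(Subgroup.closure (perp₂ D d c))) 6 1 c₃

theorem exists_sys (hD : Cfsg.IsThreeTranspositionGroup D) (hprim : Cfsg.IsPrimitiveUnderConj D)
    (h : Cfsg.IsOfTypeM22 G D) :
    ∃ (F : Type) (_ : Field F) (_ : Fintype F), Nonempty (Sys D F) := by
  obtain ⟨F, iF, iF', hctx⟩ := exists_ctx hD hprim h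
  obtain ⟨hZ, hL⟩ := lineData hD hprim h
  obtain ⟨-, d, hd, c, hc, hdc, -, c₃, hc₃, hr⟩ := h
  exact ⟨F, iF, iF', ⟨⟨hD, hprim, hZ, fun a ha => (hctx a ha).some, hL, d, hd, c, hc, hdc, c₃, hc₃, hr⟩⟩⟩

/-- the members not commuting with `a` having a common neighbour with it -/
abbrev near (D : Set G) (a : G) : Set G := {x | x ∈ D ∧ ¬ Commute a x ∧ (perp₂ D a x).Nonempty}

namespace Sys

variable (S : Sys D F)

include S in
theorem self_mem_closure {a : G} (ha : a ∈ D) : a ∈ Subgroup.closure (perp D a) := by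
  obtain ⟨e, he, he0⟩ := (S.ctx a ha).exists_iso_ne_zero
  have hb := (S.ctx a ha).pt_mem he he0
  obtain ⟨c, hc, hcb, hbc⟩ := (S.lines a ha).second _ hb
  obtain ⟨p, q, r, h5⟩ := (S.lines a ha).five _ hb c hc (Ne.symm hcb) hbc
  have ht : a * ((S.ctx a ha).pt e * c * (p * q * r)) = 1 :=
    IsT.eq_one S.hD S.hprim S.hZ S.lines ha ⟨_, _, _, _, _, h5, rfl⟩
  refine (congrArg (fun z => z ∈ Subgroup.closure (perp D a)) (eq_inv_of_mul_eq_one_left ht)).mpr ?_
  exact inv_mem (mul_mem (mul_mem (Subgroup.subset_closure hb) (Subgroup.subset_closure hc))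
    (mul_mem (mul_mem (Subgroup.subset_closure (h5.mem p (by simp)))
      (Subgroup.subset_closure (h5.mem q (by simp)))) (Subgroup.subset_closure (h5.mem r (by simp)))))

include S in
theorem star_le_closure {a p : G} (ha : a ∈ D) :
    Subgroup.closure (Ctx.pointStar D p a) ≤ Subgroup.closure (perp D a) := by
  rw [Subgroup.closure_le]
  intro u hu
  by_cases hua : u = a
  · subst hua; exact S.self_mem_closure ha
  · exact Subgroup.subset_closure ⟨hu.1.1, hua, hu.2⟩

include S in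
/-- single transitivity in `perp D a` -/
theorem exists_conj_perp {a b b' : G} (ha : a ∈ D) (hb : b ∈ perp D a) (hb' : b' ∈ perp D a) :
    ∃ h ∈ Subgroup.closure (perp D a), h * b * h⁻¹ = b' := by
  obtain ⟨c, hc, hcb, hbc⟩ := (S.lines a ha).second b hb
  obtain ⟨c', hc', hcb', hbc'⟩ := (S.lines a ha).second b' hb'
  obtain ⟨h, hh, hhb, -⟩ := (S.lines a ha).trans b hb c hc (Ne.symm hcb) hbc b' hb' c' hc' (Ne.symm hcb') hbc'
  exact ⟨h, hh, hhb⟩

theorem closure_fix {a h : G} (hh : h ∈ Subgroup.closure (perp D a)) : h * a * h⁻¹ = a := by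
  rw [← (commute_closure (u := a) (fun s hs => hs.2.2) h hh).eq, mul_inv_cancel_right]

include S in
/-- one orbit of near partners -/
theorem exists_conj_near {a x x' : G} (ha : a ∈ D) (hx : x ∈ near D a) (hx' : x' ∈ near D a) :
    ∃ k ∈ Subgroup.closure (perp D a), k * x * k⁻¹ = x' := by
  obtain ⟨p, hp⟩ := hx.2.2
  obtain ⟨p', hp'⟩ := hx'.2.2
  obtain ⟨h, hh, hhp⟩ := S.exists_conj_perp ha hp.1 hp'.1
  have hfa := closure_fix hh
  have hx'' : h * x * h⁻¹ ∈ perp D p' := by
    rw [← hhp]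
    exact (conj_mem_perp_iff S.hD h p x).mpr ⟨hx.1, Ne.symm hp.2.2.1, hp.2.2.2.symm⟩
  have hnc : ¬ Commute a (h * x * h⁻¹) := by
    intro hc
    rw [← hfa] at hc
    exact hx.2.1 ((commute_conj_iff h a x).mp hc)
  obtain ⟨g, hg, hgx⟩ := (S.ctx p' hp'.1.1).exists_move_off (b := a) ⟨ha, Ne.symm hp'.1.2.1, hp'.1.2.2.symm⟩
    hx'' ⟨hx'.1, Ne.symm hp'.2.2.1, hp'.2.2.2.symm⟩ hnc hx'.2.1
  refine ⟨g * h, mul_mem (S.star_le_closure ha hg) hh, ?_⟩
  rw [← hgx]; group

theorem ncard_perp₂_conj (hD : Cfsg.IsThreeTranspositionGroup D) (g a x : G) :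
    (perp₂ D (g * a * g⁻¹) (g * x * g⁻¹)).ncard = (perp₂ D a x).ncard := by
  have : perp₂ D (g * a * g⁻¹) (g * x * g⁻¹) = (fun y => g * y * g⁻¹) '' perp₂ D a x := by
    ext y
    constructor
    · intro hy
      refine ⟨g⁻¹ * y * g, ⟨(conj_mem_perp_iff hD g a _).mp ?_, (conj_mem_perp_iff hD g x _).mp ?_⟩, by group⟩
      · simpa [mul_assoc] using hy.1
      · simpa [mul_assoc] using hy.2
    · rintro ⟨z, hz, rfl⟩
      exact ⟨(conj_mem_perp_iff hD g a z).mpr hz.1, (conj_mem_perp_iff hD g x z).mpr hz.2⟩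
  rw [this, Set.ncard_image_of_injective _ fun u v h => by simpa using h]

include S in
/-- the trace size is the same for all near pairs -/
theorem ncard_trace_eq {a x b y : G} (ha : a ∈ D) (hx : x ∈ near D a) (hb : b ∈ D) (hy : y ∈ near D b) :
    (perp₂ D a x).ncard = (perp₂ D b y).ncard := by
  obtain ⟨g, rfl⟩ := S.hprim.1 a ha b hb
  have hy' : g⁻¹ * y * g ∈ near D a := by
    obtain ⟨z, hz⟩ := hy.2.2
    refine ⟨by simpa using S.hD.2.1 g⁻¹ y hy.1, fun hc => hy.2.1 ?_, g⁻¹ * z * g, ?_, ?_⟩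
    · simpa [mul_assoc] using (commute_conj_iff g _ _).mpr hc
    · exact (conj_mem_perp_iff S.hD g a _).mp (by simpa [mul_assoc] using hz.1)
    · exact (conj_mem_perp_iff S.hD g _ _).mp (by simpa [mul_assoc] using hz.2)
  obtain ⟨k, hk, hkx⟩ := S.exists_conj_near ha hx hy'
  rw [← ncard_perp₂_conj S.hD (g * k) a x,
    show g * k * a * (g * k)⁻¹ = g * (k * a * k⁻¹) * g⁻¹ by group, closure_fix hk,
    show g * k * x * (g * k)⁻¹ = g * (k * x * k⁻¹) * g⁻¹ by group, hkx,
    show g * (g⁻¹ * y * g) * g⁻¹ = y by group]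

include S in
theorem ncard_trace_nbr {a x p : G} (ha : a ∈ D) (hx : x ∈ D) (hax : ¬ Commute a x) (hp : p ∈ perp₂ D a x) :
    {y | y ∈ perp₂ D a x ∧ (y ≠ p ∧ Commute p y)}.ncard = 45 := by
  have hap : a ∈ perp D p := ⟨ha, Ne.symm hp.1.2.1, hp.1.2.2.symm⟩
  have hxp : x ∈ perp D p := ⟨hx, Ne.symm hp.2.2.1, hp.2.2.2.symm⟩
  rw [← (S.ctx p hp.1.1).ncard_nonedge hap hxp hax]
  congr 1
  ext y
  constructor
  · rintro ⟨hy, hyp, hpy⟩
    exact ⟨⟨hy.1.1, hyp, hpy⟩, hy.1.2.2, hy.2.2.2⟩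
  · rintro ⟨hy, hay, hxy⟩
    exact ⟨⟨⟨hy.1, fun h => hax (by rw [h] at hxy; exact hxy.symm), hay⟩,
      ⟨hy.1, fun h => hax (by rw [h] at hay; exact hay), hxy⟩⟩, hy.2.1, hy.2.2⟩

include S in
theorem ncard_perp_trace_compl {a x p : G} (ha : a ∈ D) (hx : x ∈ D) (hax : ¬ Commute a x)
    (hp : p ∈ perp₂ D a x) :
    {f | f ∈ perp D a \ perp₂ D a x ∧ Commute p f}.ncard = 135 := by
  have h1 := (S.ctx a ha).ncard_edge hp.1
  have h2 := S.ncard_trace_nbr ha hx hax hp
  have hsplit : perp₂ D a p = {f | f ∈ perp D a \ perp₂ D a x ∧ Commute p f} ∪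
      {y | y ∈ perp₂ D a x ∧ (y ≠ p ∧ Commute p y)} := by
    ext y
    constructor
    · intro hy
      by_cases hL : y ∈ perp₂ D a x
      · exact Or.inr ⟨hL, hy.2.2.1, hy.2.2.2⟩
      · exact Or.inl ⟨⟨hy.1, hL⟩, hy.2.2.2⟩
    · rintro (⟨⟨hy, hL⟩, hc⟩ | ⟨hy, hn, hc⟩)
      · exact ⟨hy, hy.1, fun h => hL (h ▸ hp), hc⟩
      · exact ⟨hy.1, hy.1.1, hn, hc⟩
  rw [hsplit, Set.ncard_union_eq (Set.disjoint_left.mpr fun y hy hy' => hy.1.2 hy'.1)] at h1
  omega

include S in
theorem ncard_pair_compl {a x p q : G} (ha : a ∈ D) (hp : p ∈ perp₂ D a x) (hq : q ∈ perp₂ D a x)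
    (hne : p ≠ q) :
    {f | f ∈ perp D a \ perp₂ D a x ∧ (Commute p f ∧ Commute q f)}.ncard +
      {y | y ∈ perp₂ D a x ∧ (y ≠ p ∧ y ≠ q ∧ Commute p y ∧ Commute q y)}.ncard =
        open Classical in if Commute p q then 51 else 45 := by
  classical
  have htot : {y | y ∈ perp D a ∧ (y ≠ p ∧ y ≠ q ∧ Commute p y ∧ Commute q y)}.ncard =
      if Commute p q then 51 else 45 := by
    split_ifs with hc
    · exact (S.ctx a ha).ncard_edge₂ hp.1 hq.1 hne hc
    · rw [← (S.ctx a ha).ncard_nonedge hp.1 hq.1 hc]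
      congr 1
      ext y
      exact ⟨fun h => ⟨h.1, h.2.2.2.1, h.2.2.2.2⟩, fun h =>
        ⟨h.1, fun he => hc (he ▸ h.2.2).symm, fun he => hc (he ▸ h.2.1), h.2.1, h.2.2⟩⟩
  rw [← htot, ← Set.ncard_union_eq (Set.disjoint_left.mpr fun y hy hy' => hy.1.2 hy'.1)]
  congr 1
  ext y
  constructor
  · rintro (⟨⟨hy, hL⟩, c1, c2⟩ | ⟨hy, h⟩)
    · exact ⟨hy, fun h => hL (h ▸ hp), fun h => hL (h ▸ hq), c1, c2⟩
    · exact ⟨hy.1, h⟩
  · rintro ⟨hy, h⟩
    by_cases hL : y ∈ perp₂ D a x
    · exact Or.inr ⟨hL, h⟩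
    · exact Or.inl ⟨⟨hy, hL⟩, h.2.2⟩

include S in
/-- first and second moment of the number of trace members commuting with an outside point -/
theorem moments {a x : G} (ha : a ∈ D) (hx : x ∈ near D a) :
    ∃ U : Finset G, (U : Set G) = perp D a \ perp₂ D a x ∧
      U.card + (perp₂ D a x).ncard = 693 ∧ 46 ≤ (perp₂ D a x).ncard ∧
      ∑ f ∈ U, {p | p ∈ perp₂ D a x ∧ Commute p f}.ncard = 135 * (perp₂ D a x).ncard ∧
      ∑ f ∈ U, ({p | p ∈ perp₂ D a x ∧ Commute p f}.ncard) ^ 2 + 1620 * (perp₂ D a x).ncard =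
        45 * (perp₂ D a x).ncard ^ 2 := by
  classical
  set U := (Set.toFinite (perp D a \ perp₂ D a x)).toFinset with hU
  set L := (Set.toFinite (perp₂ D a x)).toFinset with hL
  have hUmem : ∀ f, f ∈ U ↔ f ∈ perp D a \ perp₂ D a x := fun f => Set.Finite.mem_toFinset _
  have hLmem : ∀ f, f ∈ L ↔ f ∈ perp₂ D a x := fun f => Set.Finite.mem_toFinset _
  have hUc : (U : Set G) = perp D a \ perp₂ D a x := Set.Finite.coe_toFinset _
  have hn : L.card = (perp₂ D a x).ncard := (Set.ncard_eq_toFinset_card _ _).symm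
  have cf : ∀ (s : Finset G) (T : Set G) (P : G → Prop) [DecidablePred P], (∀ y, y ∈ s ↔ y ∈ T) →
      (s.filter P).card = {y | y ∈ T ∧ P y}.ncard := by
    intro s T P _ hs
    rw [← Set.ncard_coe_finset]
    congr 1
    ext y
    simp [hs y]
  have hN : ∀ f, {p | p ∈ perp₂ D a x ∧ Commute p f}.ncard = ∑ p ∈ L, if Commute p f then 1 else 0 := by
    intro f
    rw [Finset.sum_boole, Nat.cast_id, cf L _ _ hLmem]
  have hstar : ∀ p ∈ L, (L.filter fun y => y ≠ p ∧ Commute p y).card = 45 := fun p hp => by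
    rw [cf L _ _ hLmem]
    exact S.ncard_trace_nbr ha hx.1 hx.2.1 ((hLmem p).mp hp)
  have hn46 : 46 ≤ L.card := by
    obtain ⟨p, hp⟩ := hx.2.2
    have h45 := hstar p ((hLmem p).mpr hp)
    have hsub : insert p (L.filter fun y => y ≠ p ∧ Commute p y) ⊆ L :=
      Finset.insert_subset ((hLmem p).mpr hp) (Finset.filter_subset _ _)
    have := Finset.card_le_card hsub
    rw [Finset.card_insert_of_notMem (by simp), h45] at this
    omega
  refine ⟨U, hUc, ?_, hn ▸ hn46, ?_, ?_⟩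
  · rw [← Set.ncard_coe_finset U, hUc, add_comm, ← (S.ctx a ha).ncard_perp]
    exact (add_comm _ _).trans
      (Set.ncard_sdiff_add_ncard_of_subset (show perp₂ D a x ⊆ perp D a from fun y hy => hy.1) (Set.toFinite _))
  · simp only [hN]
    rw [Finset.sum_comm, Finset.sum_eq_card_nsmul (b := 135), hn, smul_eq_mul, mul_comm]
    intro p hp
    rw [Finset.sum_boole, Nat.cast_id, cf U _ _ hUmem]
    exact S.ncard_perp_trace_compl ha hx.1 hx.2.1 ((hLmem p).mp hp)
  · -- second moment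
    have hsq : ∀ f, ({p | p ∈ perp₂ D a x ∧ Commute p f}.ncard) ^ 2 =
        ∑ p ∈ L, ∑ q ∈ L, if Commute p f ∧ Commute q f then 1 else 0 := by
      intro f
      rw [sq, hN, Finset.sum_mul_sum]
      refine Finset.sum_congr rfl fun p _ => Finset.sum_congr rfl fun q _ => ?_
      by_cases h1 : Commute p f <;> by_cases h2 : Commute q f <;> simp [h1, h2]
    have hrow : ∀ p ∈ L, (∑ q ∈ L, ∑ f ∈ U, if Commute p f ∧ Commute q f then 1 else 0) + 1620 = 45 * L.card := by
      intro p hp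
      have hp' := (hLmem p).mp hp
      rw [← Finset.add_sum_erase L _ hp]
      have hd : (∑ f ∈ U, if Commute p f ∧ Commute p f then 1 else 0) = 135 := by
        simp only [and_self]
        rw [Finset.sum_boole, Nat.cast_id, cf U _ _ hUmem]
        exact S.ncard_perp_trace_compl ha hx.1 hx.2.1 hp'
      rw [hd]
      have hq : ∀ q ∈ L.erase p, (∑ f ∈ U, if Commute p f ∧ Commute q f then 1 else 0) +
          (L.filter fun y => y ≠ p ∧ y ≠ q ∧ Commute p y ∧ Commute q y).card =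
            45 + if Commute p q then 6 else 0 := by
        intro q hq
        rw [Finset.sum_boole, Nat.cast_id, cf U _ _ hUmem, cf L _ _ hLmem,
          S.ncard_pair_compl ha hp' ((hLmem q).mp (Finset.mem_of_mem_erase hq))
            (Ne.symm (Finset.ne_of_mem_erase hq))]
        split_ifs <;> rfl
      have hsum := Finset.sum_congr rfl hq
      rw [Finset.sum_add_distrib, Finset.sum_add_distrib, Finset.sum_const, smul_eq_mul,
        Finset.card_erase_of_mem hp, ← Finset.sum_filter, Finset.sum_const, smul_eq_mul] at hsum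
      have h45 : ((L.erase p).filter fun q => Commute p q).card = 45 := by
        rw [← hstar p hp]
        congr 1
        ext q
        simp only [Finset.mem_filter, Finset.mem_erase]
        tauto
      have hdsum : ∑ q ∈ L.erase p, (L.filter fun y => y ≠ p ∧ y ≠ q ∧ Commute p y ∧ Commute q y).card = 45 * 44 := by
        simp only [Finset.card_filter]
        rw [Finset.sum_comm]
        have : ∀ y ∈ L, (∑ q ∈ L.erase p, if y ≠ p ∧ y ≠ q ∧ Commute p y ∧ Commute q y then 1 else 0) =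
            if y ≠ p ∧ Commute p y then 44 else 0 := by
          intro y hy
          by_cases hyp : y ≠ p ∧ Commute p y
          · rw [if_pos hyp, ← Finset.sum_filter, Finset.sum_const, smul_eq_mul, mul_one]
            have hset : (L.erase p).filter (fun q => y ≠ p ∧ y ≠ q ∧ Commute p y ∧ Commute q y) =
                (L.filter fun z => z ≠ y ∧ Commute y z).erase p := by
              ext q
              simp only [Finset.mem_filter, Finset.mem_erase]
              constructor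
              · rintro ⟨⟨h1, h2⟩, -, h3, -, h4⟩
                exact ⟨h1, h2, Ne.symm h3, h4.symm⟩
              · rintro ⟨h1, h2, h3, h4⟩
                exact ⟨⟨h1, h2⟩, hyp.1, Ne.symm h3, hyp.2, h4.symm⟩
            rw [hset, Finset.card_erase_of_mem, hstar y hy]
            exact Finset.mem_filter.mpr ⟨hp, Ne.symm hyp.1, hyp.2.symm⟩
          · rw [if_neg hyp]
            refine Finset.sum_eq_zero fun q _ => if_neg fun h => hyp ⟨h.1, h.2.2.1⟩
        rw [Finset.sum_congr rfl this, ← Finset.sum_filter, Finset.sum_const, smul_eq_mul, hstar p hp]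
      omega
    have hswap : ∑ f ∈ U, ({p | p ∈ perp₂ D a x ∧ Commute p f}.ncard) ^ 2 =
        ∑ p ∈ L, ∑ q ∈ L, ∑ f ∈ U, if Commute p f ∧ Commute q f then 1 else 0 := by
      simp only [hsq]
      rw [Finset.sum_comm]
      exact Finset.sum_congr rfl fun p _ => Finset.sum_comm
    have htot := Finset.sum_congr rfl hrow
    rw [Finset.sum_add_distrib, Finset.sum_const, Finset.sum_const, smul_eq_mul, smul_eq_mul, ← hswap] at htot
    rw [← hn, sq L.card]
    linarith [htot]

end Sys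

end Cfsg.Agent.Lib.FischerMTypes.TraceCounts
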