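import Mathlib
import Cfsg.Agent.Lib.FischerMTypes.TraceCounts
import Cfsg.Agent.Lib.FischerMTypes.ReflectionBound

/-!
Type M(22): a non-commuting pair has exactly 126 common neighbours, the commuting graph has
diameter two, and there are 3510 transpositions.
-/

set_option autoImplicit false
set_option linter.style.haveILetI false
set_option linter.unusedSectionVars false

namespace Cfsg.Agent.Lib.FischerMTypes.TraceSize

open Cfsg.Agent.Lib.FischerMTypes.Basic Cfsg.Agent.Lib.FischerMTypes.Primitive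
  Cfsg.Agent.Lib.FischerMTypes.Levels Cfsg.Agent.Lib.FischerMTypes.PointModel
  Cfsg.Agent.Lib.FischerMTypes.TraceCounts Cfsg.Agent.Lib.FischerMTypes.ReflectionBound

variable {G : Type*} [Group G] [Finite G] {D : Set G}
variable {F : Type} [Field F] [Fintype F]

theorem near_symm {a x : G} (ha : a ∈ D) (hx : x ∈ near D a) : a ∈ near D x := by
  obtain ⟨p, hp⟩ := hx.2.2
  exact ⟨ha, fun h => hx.2.1 h.symm, p, hp.2, hp.1⟩

variable (S : Sys D F)

include S in
theorem trace_bounds {a x : G} (ha : a ∈ D) (hx : x ∈ near D a) :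
    126 ≤ (perp₂ D a x).ncard ∧ (perp₂ D a x).ncard ≤ 198 ∧
      ((perp₂ D a x).ncard = 126 →
        ∀ f ∈ perp D a, f ∉ perp₂ D a x → {p | p ∈ perp₂ D a x ∧ Commute p f}.ncard = 30) := by
  obtain ⟨U, hU, hc, h46, h1, h2⟩ := S.moments ha hx
  set n := (perp₂ D a x).ncard
  set N : G → ℕ := fun f => {p | p ∈ perp₂ D a x ∧ Commute p f}.ncard
  have hcs : ((135 * n : ℕ) : ℤ) ^ 2 ≤ (U.card : ℤ) * ((∑ f ∈ U, (N f) ^ 2 : ℕ) : ℤ) := by
    have := sq_sum_le_card_mul_sum_sq (s := U) (f := fun f => (N f : ℤ))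
    rw [← h1]
    push_cast
    exact_mod_cast this
  have h2' : ((∑ f ∈ U, (N f) ^ 2 : ℕ) : ℤ) = 45 * (n : ℤ) ^ 2 - 1620 * n := by
    have := congrArg (fun k : ℕ => (k : ℤ)) h2
    push_cast at this
    push_cast
    linarith
  have hc' : (U.card : ℤ) = 693 - n := by omega
  rw [h2', hc'] at hcs
  push_cast at hcs
  have hn : (46 : ℤ) ≤ n := by exact_mod_cast h46
  have hq : ((n : ℤ) - 126) * ((n : ℤ) - 198) ≤ 0 := by
    by_contra hpos
    push Not at hpos
    nlinarith [mul_pos (show (0 : ℤ) < n by linarith) hpos]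
  refine ⟨?_, ?_, fun hn126 f hf hf' => ?_⟩
  · by_contra h
    have : (n : ℤ) ≤ 125 := by omega
    nlinarith
  · by_contra h
    have : (199 : ℤ) ≤ n := by omega
    nlinarith
  · have hzero : ∑ g ∈ U, ((N g : ℤ) - 30) ^ 2 = 0 := by
      have e1 := congrArg (fun k : ℕ => (k : ℤ)) h1
      have e2 := congrArg (fun k : ℕ => (k : ℤ)) h2
      push_cast at e1 e2
      have hU' : (U.card : ℤ) = 567 := by omega
      simp only [sub_sq, Finset.sum_add_distrib, Finset.sum_sub_distrib, Finset.sum_const, nsmul_eq_mul,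
        ← Finset.sum_mul, ← Finset.mul_sum, hU']
      rw [hn126] at e1 e2
      push_cast at e1 e2
      linarith
    have hfU : f ∈ U := by rw [← Finset.mem_coe, hU]; exact ⟨hf, hf'⟩
    have := (Finset.sum_eq_zero_iff_of_nonneg fun g _ => sq_nonneg _).mp hzero f hfU
    have h30 : (N f : ℤ) = 30 := by linarith [pow_eq_zero_iff (n := 2) (a := (N f : ℤ) - 30) (by norm_num) |>.mp this]
    exact_mod_cast h30

include S in
theorem ncard_near_mul {a x : G} (ha : a ∈ D) (hx : x ∈ near D a) :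
    (perp₂ D a x).ncard * (near D a).ncard = 354816 := by
  classical
  set P := (Set.toFinite (perp D a)).toFinset
  set X := (Set.toFinite (near D a)).toFinset
  have hPm : ∀ p, p ∈ P ↔ p ∈ perp D a := fun p => Set.Finite.mem_toFinset _
  have hXm : ∀ z, z ∈ X ↔ z ∈ near D a := fun z => Set.Finite.mem_toFinset _
  have hrowX : ∀ z ∈ X, (P.filter fun p => Commute z p).card = (perp₂ D a x).ncard := by
    intro z hz
    have hz' := (hXm z).mp hz
    rw [S.ncard_trace_eq ha hx ha hz', ← Set.ncard_coe_finset]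
    congr 1
    ext p
    simp only [Finset.coe_filter, hPm, Set.mem_ofPred_eq]
    exact ⟨fun h => ⟨h.1, h.1.1, fun he => hz'.2.1 (he ▸ h.1.2.2), h.2⟩, fun h => ⟨h.1, h.2.2.2⟩⟩
  have hrowP : ∀ p ∈ P, (X.filter fun z => Commute z p).card = 512 := by
    intro p hp
    have hp' := (hPm p).mp hp
    have hap : a ∈ perp D p := ⟨ha, Ne.symm hp'.2.1, hp'.2.2.symm⟩
    have hA : insert a (perp₂ D p a) = {y | y ∈ perp D p ∧ Commute a y} := by
      ext y
      constructor
      · rintro (rfl | hy)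
        · exact ⟨hap, Commute.refl y⟩
        · exact ⟨hy.1, hy.2.2.2⟩
      · intro hy
        by_cases h : y = a
        · exact Or.inl h
        · exact Or.inr ⟨hy.1, hy.1.1, h, hy.2⟩
    have h181 : {y | y ∈ perp D p ∧ Commute a y}.ncard = 181 := by
      rw [← hA, Set.ncard_insert_of_notMem (fun h => h.2.2.1 rfl), (S.ctx p hp'.1).ncard_edge hap]
    have hset : (↑(X.filter fun z => Commute z p) : Set G) = perp D p \ {y | y ∈ perp D p ∧ Commute a y} := by
      ext z
      simp only [Finset.coe_filter, hXm, Set.mem_ofPred_eq, Set.mem_sdiff]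
      constructor
      · rintro ⟨hz, hzp⟩
        have hzp' : z ∈ perp D p := ⟨hz.1, fun he => hz.2.1 (he ▸ hp'.2.2), hzp.symm⟩
        exact ⟨hzp', fun h => hz.2.1 h.2⟩
      · rintro ⟨hz, hn⟩
        exact ⟨⟨hz.1, fun h => hn ⟨hz, h⟩, p, hp', hp'.1, Ne.symm hz.2.1, hz.2.2.symm⟩, hz.2.2.symm⟩
    have hsub : {y | y ∈ perp D p ∧ Commute a y} ⊆ perp D p := fun y hy => hy.1
    rw [← Set.ncard_coe_finset, hset, Set.ncard_sdiff hsub (Set.toFinite _), h181,
      (S.ctx p hp'.1).ncard_perp]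
  have h1 : ∑ z ∈ X, (P.filter fun p => Commute z p).card = X.card * (perp₂ D a x).ncard := by
    rw [Finset.sum_eq_card_nsmul hrowX, smul_eq_mul]
  have h2 : ∑ p ∈ P, (X.filter fun z => Commute z p).card = P.card * 512 := by
    rw [Finset.sum_eq_card_nsmul hrowP, smul_eq_mul]
  have hsw : ∑ z ∈ X, (P.filter fun p => Commute z p).card = ∑ p ∈ P, (X.filter fun z => Commute z p).card := by
    simp only [Finset.card_filter]
    exact Finset.sum_comm
  rw [h1, h2, ← Set.ncard_eq_toFinset_card, ← Set.ncard_eq_toFinset_card, (S.ctx a ha).ncard_perp] at hsw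
  rw [mul_comm]
  exact hsw.trans (by norm_num)

include S in
/-- the group on a trace has order divisible by the trace size times twice that of U4(2) -/
theorem trace_group_dvd {d c : G} (hd : d ∈ D) (hnear : c ∈ near D d) :
    (perp₂ D d c).ncard * 51840 ∣ Nat.card (↥(Subgroup.closure (perp₂ D d c)) ⧸
      Subgroup.center ↥(Subgroup.closure (perp₂ D d c))) := by
  have hc := hnear.1
  have hdc := hnear.2.1
  have hne := hnear.2.2
  obtain ⟨p, hp⟩ := hne
  set L := perp₂ D d c with hL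
  set N := Subgroup.closure L with hN
  have hLN : ∀ y ∈ L, y ∈ N := fun y hy => Subgroup.subset_closure hy
  have hn126 : 126 ≤ L.ncard := (trace_bounds S hd hnear).1
  -- one class inside the trace
  have hclose : ∀ g : ↥N, ∀ y ∈ L, (g : G) * y * (g : G)⁻¹ ∈ L := fun g y hy =>
    conj_mem_of_mem_closure (perp₂_closed S.hD d c) g.2 y hy
  have hstep : ∀ y ∈ L, ∀ z ∈ L, ¬ Commute y z → ∃ g : ↥N, (g : G) * y * (g : G)⁻¹ = z := by
    intro y hy z hz hyz
    refine ⟨⟨y * z, mul_mem (hLN y hy) (hLN z hz)⟩, ?_⟩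
    show y * z * y * (y * z)⁻¹ = z
    rw [mul_inv_rev, inv_eq S.hD.1 hy.1.1, inv_eq S.hD.1 hz.1.1]
    have hb := braid S.hD.1 hz.1.1 hy.1.1 (fun h => hyz h.symm)
    calc y * z * y * (z * y) = y * (z * y * z) * y := by group
      _ = y * (y * z * y) * y := by rw [hb]
      _ = z := conj_self_inv S.hD.1 hy.1.1 z
  have htrans : ∀ z ∈ L, ∃ g : ↥N, (g : G) * p * (g : G)⁻¹ = z := by
    intro z hz
    by_cases hpz : Commute p z
    swap
    · exact hstep p hp z hz hpz
    obtain ⟨u, hu, hu1, hu2⟩ : ∃ u ∈ L, ¬ Commute p u ∧ ¬ Commute u z := by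
      by_contra hcon
      push Not at hcon
      have hsub : L ⊆ ({p, z} : Set G) ∪ {y | y ∈ L ∧ (y ≠ p ∧ Commute p y)} ∪ {y | y ∈ L ∧ (y ≠ z ∧ Commute z y)} := by
        intro y hy
        by_cases h1 : y = p
        · exact Or.inl (Or.inl (Or.inl h1))
        by_cases h2 : y = z
        · exact Or.inl (Or.inl (Or.inr h2))
        by_cases hc' : Commute p y
        · exact Or.inl (Or.inr ⟨hy, h1, hc'⟩)
        · exact Or.inr ⟨hy, h2, (hcon y hy hc').symm⟩
      have h1 := (Set.ncard_le_ncard hsub (Set.toFinite _)).trans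
        ((Set.ncard_union_le _ _).trans (Nat.add_le_add_right (Set.ncard_union_le _ _) _))
      have h2 : ({p, z} : Set G).ncard ≤ 2 := (Set.ncard_insert_le _ _).trans (by rw [Set.ncard_singleton])
      rw [S.ncard_trace_nbr hd hc hdc hp, S.ncard_trace_nbr hd hc hdc hz] at h1
      omega
    obtain ⟨g, hg⟩ := hstep p hp u hu hu1
    obtain ⟨k, hk⟩ := hstep u hu z hz hu2
    exact ⟨k * g, by rw [← hk, ← hg, Subgroup.coe_mul]; group⟩
  -- orbit and stabiliser
  letI : MulAction ↥N ↥L :=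
    { smul := fun g y => ⟨(g : G) * y.1 * (g : G)⁻¹, hclose g y.1 y.2⟩
      one_smul := fun y => Subtype.ext (by show (1 : G) * y.1 * (1 : G)⁻¹ = y.1; group)
      mul_smul := fun g h y => Subtype.ext (by
        show ((g * h : ↥N) : G) * y.1 * ((g * h : ↥N) : G)⁻¹ = (g : G) * ((h : G) * y.1 * (h : G)⁻¹) * (g : G)⁻¹
        rw [Subgroup.coe_mul]; group) }
  haveI : MulAction.IsPretransitive ↥N ↥L := MulAction.IsPretransitive.mk fun y z => by
    obtain ⟨g, hg⟩ := htrans y.1 y.2
    obtain ⟨k, hk⟩ := htrans z.1 z.2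
    refine ⟨k * g⁻¹, Subtype.ext ?_⟩
    show ((k * g⁻¹ : ↥N) : G) * y.1 * ((k * g⁻¹ : ↥N) : G)⁻¹ = z.1
    rw [← hk, ← hg, Subgroup.coe_mul, Subgroup.coe_inv]; group
  set St := MulAction.stabilizer ↥N (⟨p, hp⟩ : ↥L) with hSt
  have hindex : St.index = L.ncard := by
    rw [MulAction.index_stabilizer_of_transitive, Nat.card_coe_set_eq]
  set π := QuotientGroup.mk' (Subgroup.center ↥N) with hπ
  have hZSt : π.ker ≤ St := by
    intro g hg
    rw [QuotientGroup.ker_mk'] at hg
    refine Subtype.ext ?_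
    show (g : G) * p * (g : G)⁻¹ = p
    have := congrArg Subtype.val (Subgroup.mem_center_iff.mp hg ⟨p, hLN p hp⟩)
    rw [← (show p * (g : G) = (g : G) * p from this), mul_inv_cancel_right]
  set A := St.map π
  have hAidx : A.index = L.ncard := by
    rw [Subgroup.index_map_eq _ (QuotientGroup.mk'_surjective _) hZSt, hindex]
  -- the subgroup at `p`
  set T : Set G := {y | y ∈ perp D p ∧ (Commute d y ∧ Commute c y)}
  have hdp : d ∈ perp D p := ⟨hd, Ne.symm hp.1.2.1, hp.1.2.2.symm⟩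
  have hcp : c ∈ perp D p := ⟨hc, Ne.symm hp.2.2.1, hp.2.2.2.symm⟩
  have hTL : T ⊆ L := by
    rintro y ⟨hy, hdy, hcy⟩
    exact ⟨⟨hy.1, fun h => hdc (by rw [h] at hcy; exact hcy.symm), hdy⟩,
      ⟨hy.1, fun h => hdc (by rw [h] at hdy; exact hdy), hcy⟩⟩
  set M := Subgroup.closure (insert p T) with hM
  have hMN : M ≤ N := Subgroup.closure_mono (Set.insert_subset hp hTL)
  have hpH : p ∈ Subgroup.closure (perp D p) := S.self_mem_closure hp.1.1
  have hMH : M ≤ Subgroup.closure (perp D p) :=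
    (Subgroup.closure_le _).mpr (Set.insert_subset hpH fun y hy => Subgroup.subset_closure hy.1)
  let α : ↥M →* ↥N ⧸ Subgroup.center ↥N := π.comp (Subgroup.inclusion hMN)
  let β : ↥M →* ↥(Subgroup.closure (perp D p)) ⧸ Subgroup.center ↥(Subgroup.closure (perp D p)) :=
    (QuotientGroup.mk' _).comp (Subgroup.inclusion hMH)
  have hpcent : (⟨p, hpH⟩ : ↥(Subgroup.closure (perp D p))) ∈ Subgroup.center ↥(Subgroup.closure (perp D p)) := by
    rw [Subgroup.mem_center_iff]
    rintro ⟨g, hg⟩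
    exact Subtype.ext (commute_closure (u := p) (fun s hs => hs.2.2) g hg).eq.symm
  have hrange : β.range = pairImage D p d c := by
    refine le_antisymm ?_ ?_
    · rintro _ ⟨⟨x, hx⟩, rfl⟩
      induction hx using Subgroup.closure_induction with
      | mem y hy =>
        rcases Set.mem_insert_iff.mp hy with rfl | hy
        · rw [show β ⟨y, _⟩ = 1 from (QuotientGroup.eq_one_iff _).mpr hpcent]; exact one_mem _
        · exact ⟨⟨y, Subgroup.subset_closure hy.1⟩, Subgroup.mem_subgroupOf.mpr (Subgroup.subset_closure hy), rfl⟩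
      | one => exact one_mem _
      | mul x y hx hy ihx ihy => exact mul_mem ihx ihy
      | inv x hx ihx => exact inv_mem ihx
    · rintro _ ⟨⟨x, hxH⟩, hx, rfl⟩
      rw [SetLike.mem_coe, Subgroup.mem_subgroupOf] at hx
      exact ⟨⟨x, Subgroup.closure_mono (Set.subset_insert p T) hx⟩, rfl⟩
  obtain ⟨hdvd, hcent⟩ := (S.ctx p hp.1.1).pairImage_u4 hdp hcp hdc
  have hker : α.ker ≤ β.ker := by
    intro x hx
    have hxc : Subgroup.inclusion hMN x ∈ Subgroup.center ↥N := (QuotientGroup.eq_one_iff _).mp hx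
    refine hcent _ (hrange ▸ ⟨x, rfl⟩) fun r hr => ?_
    rw [← hrange] at hr
    obtain ⟨y, rfl⟩ := hr
    have := congrArg Subtype.val (Subgroup.mem_center_iff.mp hxc (Subgroup.inclusion hMN y))
    show β x * β y = β y * β x
    rw [← map_mul, ← map_mul, show x * y = y * x from Subtype.ext this.symm]
  have heven : 2 ∣ α.ker.relIndex β.ker := by
    have hpM : p ∈ M := Subgroup.subset_closure (Set.mem_insert p T)
    let pp : ↥β.ker := ⟨⟨p, hpM⟩, (QuotientGroup.eq_one_iff _).mpr hpcent⟩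
    have hnotin : pp ∉ α.ker.subgroupOf β.ker := by
      intro h
      have hz : (⟨p, hLN p hp⟩ : ↥N) ∈ Subgroup.center ↥N :=
        (QuotientGroup.eq_one_iff _).mp (Subgroup.mem_subgroupOf.mp h)
      have hall : L ⊆ insert p {y | y ∈ L ∧ (y ≠ p ∧ Commute p y)} := by
        intro y hy
        by_cases h1 : y = p
        · exact Or.inl h1
        · exact Or.inr ⟨hy, h1, (congrArg Subtype.val (Subgroup.mem_center_iff.mp hz ⟨y, hLN y hy⟩) :
            y * p = p * y).symm⟩
      have := (Set.ncard_le_ncard hall (Set.toFinite _)).trans (Set.ncard_insert_le _ _)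
      rw [S.ncard_trace_nbr hd hc hdc hp] at this
      omega
    have hsq : (QuotientGroup.mk pp : ↥β.ker ⧸ α.ker.subgroupOf β.ker) ^ 2 = 1 := by
      rw [← QuotientGroup.mk_pow, show pp ^ 2 = 1 from Subtype.ext (Subtype.ext (by
        simp [pp, pow_two, mul_self S.hD.1 hp.1.1])), QuotientGroup.mk_one]
    have hord := orderOf_eq_prime hsq (fun h => hnotin ((QuotientGroup.eq_one_iff pp).mp h))
    rw [Subgroup.relIndex, Subgroup.index_eq_card, ← hord]
    exact orderOf_dvd_natCard _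
  have hA : 2 * 25920 ∣ Nat.card A := by
    have h1 : Nat.card α.range ∣ Nat.card A := Subgroup.card_dvd_of_le (by
      rintro _ ⟨⟨x, hx⟩, rfl⟩
      refine ⟨⟨x, hMN hx⟩, Subtype.ext ?_, rfl⟩
      show x * p * x⁻¹ = p
      have hxp := commute_closure (u := p) (S := insert p T) (fun s hs => by
        rcases hs with rfl | hs
        · exact Commute.refl s
        · exact hs.1.2.2) x hx
      rw [← hxp.eq, mul_inv_cancel_right])
    refine dvd_trans ?_ h1
    rw [← Subgroup.index_ker, ← Subgroup.relIndex_mul_index hker]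
    refine mul_dvd_mul heven ?_
    rw [Subgroup.index_ker, hrange]
    exact hdvd
  have hQ : L.ncard * 51840 ∣ Nat.card (↥N ⧸ Subgroup.center ↥N) := by
    rw [← Subgroup.card_mul_index A, hAidx, mul_comm (Nat.card A)]
    exact mul_dvd_mul_left _ hA
  exact hQ

include S in
/-- the trace at the witness pair: transitivity and the bound by the reflection group -/
theorem exists_near_dvd : ∃ d ∈ D, ∃ c ∈ near D d,
    (perp₂ D d c).ncard ∣ 234 ∨ (perp₂ D d c).ncard ∣ 252 := by
  obtain ⟨d, hd, c, hc, hdc, c₃, hc₃, hr⟩ := S.refl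
  have hne : (perp₂ D d c).Nonempty := by
    by_contra h
    rw [Set.not_nonempty_iff_eq_empty] at h
    haveI := proj_nontrivial hc₃ hr
    obtain ⟨u, v, huv⟩ := exists_pair_ne
      (↥(Subgroup.closure (perp₂ D d c)) ⧸ Subgroup.center ↥(Subgroup.closure (perp₂ D d c)))
    obtain ⟨u, rfl⟩ := QuotientGroup.mk_surjective u
    obtain ⟨v, rfl⟩ := QuotientGroup.mk_surjective v
    have hbot : Subgroup.closure (perp₂ D d c) = ⊥ := by
      rw [show perp₂ D d c = (∅ : Set G) from h, Subgroup.closure_empty]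
    have e : ∀ w : ↥(Subgroup.closure (perp₂ D d c)), w = 1 := fun w =>
      Subtype.ext (Subgroup.mem_bot.mp (hbot ▸ w.2 : (w : G) ∈ (⊥ : Subgroup G)))
    exact huv (by rw [e u, e v])
  have hnear : c ∈ near D d := ⟨hc, hdc, hne⟩
  refine ⟨d, hd, c, hnear, ?_⟩
  rcases proj_card_dvd hr with h | h
  · exact Or.inl (Nat.dvd_of_mul_dvd_mul_right (by norm_num : 0 < 51840)
      (((trace_group_dvd S hd hnear).trans h).trans (by norm_num)))
  · exact Or.inr (Nat.dvd_of_mul_dvd_mul_right (by norm_num : 0 < 51840)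
      (((trace_group_dvd S hd hnear).trans h).trans (by norm_num)))

include S in
/-- a non-commuting pair with a common neighbour has exactly 126 -/
theorem ncard_trace_near {a x : G} (ha : a ∈ D) (hx : x ∈ near D a) : (perp₂ D a x).ncard = 126 := by
  obtain ⟨d, hd, c, hc, hdvd⟩ := exists_near_dvd S
  rw [S.ncard_trace_eq ha hx hd hc]
  obtain ⟨h1, h2, -⟩ := trace_bounds S hd hc
  have h3 : (perp₂ D d c).ncard ∣ 354816 := ⟨_, (ncard_near_mul S hd hc).symm⟩
  generalize (perp₂ D d c).ncard = n at h1 h2 h3 hdvd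
  interval_cases n <;> omega

include S in
/-- in `perp D a` a point outside the trace of `x` commutes with thirty members of the trace -/
theorem ncard_meet {a x f : G} (ha : a ∈ D) (hx : x ∈ near D a) (hf : f ∈ perp D a) (hf' : f ∉ perp₂ D a x) :
    {p | p ∈ perp₂ D a x ∧ Commute p f}.ncard = 30 :=
  (trace_bounds S ha hx).2.2 (ncard_trace_near S ha hx) f hf hf'

include S in
/-- every non-commuting pair has a common neighbour -/
theorem mem_near {a x : G} (ha : a ∈ D) (hx : x ∈ D) (hax : ¬ Commute a x) : x ∈ near D a := by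
  set B : Set G := {v | v ∈ D ∧ (v = a ∨ v ∈ perp D a ∨ v ∈ near D a)}
  have hclo : ∀ v ∈ B, ∀ w ∈ D, Commute v w → w ∈ B := by
    intro v hv w hw hvw
    refine ⟨hw, ?_⟩
    by_cases hwa : w = a
    · exact Or.inl hwa
    by_cases hc : Commute a w
    · exact Or.inr (Or.inl ⟨hw, hwa, hc⟩)
    refine Or.inr (Or.inr ⟨hw, hc, ?_⟩)
    rcases hv.2 with rfl | hv' | hv'
    · exact absurd hvw hc
    · exact ⟨v, hv', hv.1, fun h => hc (h ▸ hv'.2.2), hvw.symm⟩
    · by_cases hwv : w = v
      · subst hwv; exact hv'.2.2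
      have hw' : w ∈ perp D v := ⟨hw, hwv, hvw⟩
      have hw'' : w ∉ perp₂ D v a := fun h => hc h.2.2.2
      have h30 := ncard_meet S hv.1 (near_symm ha hv') hw' hw''
      obtain ⟨q, hq, hqw⟩ := Set.nonempty_of_ncard_ne_zero (by omega :
        {p | p ∈ perp₂ D v a ∧ Commute p w}.ncard ≠ 0)
      exact ⟨q, hq.2, hq.1.1, fun h => hc (h ▸ hq.2.2.2), hqw.symm⟩
  -- the component of `a`
  set R : G → G → Prop := fun u v => u ∈ D ∧ v ∈ D ∧ Commute u v
  set C : Set G := {v | v ∈ D ∧ Relation.ReflTransGen R a v}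
  have hCB : C ⊆ B := by
    rintro v ⟨-, hv⟩
    induction hv with
    | refl => exact ⟨ha, Or.inl rfl⟩
    | tail _ h ih => exact hclo _ ih _ h.2.1 h.2.2
  have hsymm : ∀ u v, Relation.ReflTransGen R u v → Relation.ReflTransGen R v u := fun u v h => by
    induction h with
    | refl => exact .refl
    | tail _ h ih => exact Relation.ReflTransGen.head ⟨h.2.1, h.1, h.2.2.symm⟩ ih
  have hmove : ∀ (g : G) u v, Relation.ReflTransGen R u v →
      Relation.ReflTransGen R (g * u * g⁻¹) (g * v * g⁻¹) := fun g u v h =>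
    Relation.ReflTransGen.lift (fun y => g * y * g⁻¹) (fun p q hpq => ⟨S.hD.2.1 g p hpq.1, S.hD.2.1 g q hpq.2.1, (commute_conj_iff g p q).mpr hpq.2.2⟩) _ _ h
  have hblock : ∀ g : G, (fun z => g * z * g⁻¹) '' C = C ∨ Disjoint ((fun z => g * z * g⁻¹) '' C) C := by
    intro g
    by_cases hd : Disjoint ((fun z => g * z * g⁻¹) '' C) C
    · exact Or.inr hd
    left
    obtain ⟨z, ⟨u, hu, rfl⟩, hz⟩ := Set.not_disjoint_iff.mp hd
    have hga : Relation.ReflTransGen R a (g * a * g⁻¹) := hz.2.trans (hsymm _ _ (hmove g _ _ hu.2))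
    ext z
    constructor
    · rintro ⟨v, hv, rfl⟩
      exact ⟨S.hD.2.1 g v hv.1, hga.trans (hmove g _ _ hv.2)⟩
    · intro hv
      refine ⟨g⁻¹ * z * g, ⟨by simpa using S.hD.2.1 g⁻¹ z hv.1, ?_⟩, by group⟩
      have := hmove g⁻¹ _ _ ((hsymm _ _ hga).trans hv.2)
      simpa [mul_assoc] using this
  obtain ⟨p, hp⟩ : (perp D a).Nonempty := Set.nonempty_of_ncard_ne_zero (by rw [(S.ctx a ha).ncard_perp]; norm_num)
  rcases S.hprim.2.2 C (fun v hv => hv.1) hblock with h | h
  · exact absurd (h ⟨hp.1, .single ⟨ha, hp.1, hp.2.2⟩⟩ ⟨ha, .refl⟩) hp.2.1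
  · obtain ⟨-, h1 | h1 | h1⟩ := hCB (h.symm ▸ hx : x ∈ C)
    · exact absurd (h1 ▸ Commute.refl a) hax
    · exact absurd h1.2.2 hax
    · exact h1

include S in
theorem near_eq_far {a : G} (ha : a ∈ D) : near D a = {x | x ∈ D ∧ ¬ Commute a x} :=
  Set.ext fun _ => ⟨fun h => ⟨h.1, h.2.1⟩, fun h => mem_near S ha h.1 h.2⟩

include S in
/-- the trace of any non-commuting pair -/
theorem ncard_trace {a x : G} (ha : a ∈ D) (hx : x ∈ D) (hax : ¬ Commute a x) : (perp₂ D a x).ncard = 126 :=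
  ncard_trace_near S ha (mem_near S ha hx hax)

include S in
theorem ncard_far {a : G} (ha : a ∈ D) : {x | x ∈ D ∧ ¬ Commute a x}.ncard = 2816 := by
  rw [← near_eq_far S ha]
  obtain ⟨x, hx⟩ : {x | x ∈ D ∧ ¬ Commute a x}.Nonempty := by
    by_contra h
    obtain ⟨d, hd, c, hc, hdc, -⟩ := S.refl
    obtain ⟨g, rfl⟩ := S.hprim.1 a ha d hd
    refine h ⟨g⁻¹ * c * g, by simpa using S.hD.2.1 g⁻¹ c hc, fun he => hdc ?_⟩
    simpa [mul_assoc] using (commute_conj_iff g _ _).mpr he
  have h := ncard_near_mul S ha (mem_near S ha hx.1 hx.2)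
  rw [ncard_trace S ha hx.1 hx.2] at h
  omega

include S in
theorem ncard_class : D.ncard = 3510 := by
  obtain ⟨a, ha, -⟩ := S.hprim.2.1
  have h : D = insert a (perp D a ∪ {x | x ∈ D ∧ ¬ Commute a x}) := by
    ext x
    constructor
    · intro hx
      by_cases h1 : x = a
      · exact Or.inl h1
      by_cases h2 : Commute a x
      · exact Or.inr (Or.inl ⟨hx, h1, h2⟩)
      · exact Or.inr (Or.inr ⟨hx, h2⟩)
    · rintro (rfl | h | h)
      · exact ha
      · exact h.1
      · exact h.1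
  rw [h, Set.ncard_insert_of_notMem, Set.ncard_union_eq, (S.ctx a ha).ncard_perp, ncard_far S ha]
  · exact Set.disjoint_left.mpr fun x h1 h2 => h2.2 h1.2.2
  · rintro (h1 | h1)
    · exact h1.2.1 rfl
    · exact h1.2 (Commute.refl a)

end Cfsg.Agent.Lib.FischerMTypes.TraceSize
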