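import Mathlib
import Cfsg.Agent.Lib.FischerMTypes.TraceSize
import Cfsg.Agent.Lib.FischerMTypes.LinePoints

/-!
Type M(22): the centraliser of a transposition is generated by its perp set, whose centre has
order two.  Moves between transpositions along pairs with common neighbours are independent of all
choices, which gives a section of the cosets of `closure (perp D a)` fixed by the whole group.
-/

set_option autoImplicit false
set_option linter.style.haveILetI false
set_option linter.unusedSectionVars false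

namespace Cfsg.Agent.Lib.FischerMTypes.StabilizerM22

open Cfsg.Agent.Lib.FischerMTypes.Basic Cfsg.Agent.Lib.FischerMTypes.Primitive
  Cfsg.Agent.Lib.FischerMTypes.Levels Cfsg.Agent.Lib.FischerMTypes.PointModel
  Cfsg.Agent.Lib.FischerMTypes.TraceCounts Cfsg.Agent.Lib.FischerMTypes.TraceSize

variable {G : Type*} [Group G] [Finite G] {D : Set G}
variable {F : Type} [Field F] [Fintype F]

theorem conj_commute {g u v : G} (h : Commute u v) : Commute (g * u * g⁻¹) (g * v * g⁻¹) :=
  (commute_conj_iff g u v).mpr h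

variable (S : Sys D F)

include S in
/-- an element of `closure (perp D q)` commuting with all of `perp D q` is `1` or `q` -/
theorem center_perp {q z : G} (hq : q ∈ D) (hz : z ∈ Subgroup.closure (perp D q))
    (hcz : ∀ y ∈ perp D q, Commute y z) : z = 1 ∨ z = q := by
  obtain ⟨x, hx, hqx⟩ : ∃ x ∈ D, ¬ Commute q x :=
    Set.nonempty_of_ncard_ne_zero (by rw [ncard_far S hq]; norm_num :
      {x | x ∈ D ∧ ¬ Commute q x}.ncard ≠ 0)
  have hfix := Sys.closure_fix hz
  have htrace := ncard_trace S hq hx hqx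
  obtain ⟨p, hp⟩ : (perp₂ D q x).Nonempty := Set.nonempty_of_ncard_ne_zero (by omega)
  have hqp : q ∈ perp D p := ⟨hq, Ne.symm hp.1.2.1, hp.1.2.2.symm⟩
  have hxp : x ∈ perp D p := ⟨hx, Ne.symm hp.2.2.1, hp.2.2.2.symm⟩
  have hzp : z * p * z⁻¹ = p := by rw [← (hcz p hp.1).eq, mul_inv_cancel_right]
  have hyp : z * x * z⁻¹ ∈ perp D p := by rw [← hzp]; exact (conj_mem_perp_iff S.hD z p x).mpr hxp
  have hw : ∀ w ∈ perp D p, Commute q w → Commute x w → Commute (z * x * z⁻¹) w := by
    intro w hw h1 h2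
    by_cases hwq : w = q
    · subst hwq; exact absurd h2.symm hqx
    have hzw : z * w * z⁻¹ = w := by rw [← (hcz w ⟨hw.1, hwq, h1⟩).eq, mul_inv_cancel_right]
    rw [← hzw]
    exact conj_commute h2
  -- an element fixing `x` that commutes with `q` and with `perp D q` is trivial
  have htriv : ∀ u ∈ Subgroup.closure (perp D q), (∀ y ∈ perp D q, Commute y u) → u * x * u⁻¹ = x → u = 1 := by
    intro u hu huy hux
    have hcent : u ∈ Subgroup.center G := by
      refine center_of_commute_all S.hD.2.2 fun y hy => ?_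
      by_cases hyq : y = q
      · subst hyq; exact commute_closure (fun s hs => hs.2.2) u hu
      by_cases hc : Commute q y
      · exact huy y ⟨hy, hyq, hc⟩
      obtain ⟨k, hk, rfl⟩ := S.exists_conj_near hq (mem_near S hq hx hqx) (mem_near S hq hy hc)
      have hku : Commute u k := commute_closure (fun s hs => (huy s hs).symm) k hk
      have hxu : Commute x u := by
        show x * u = u * x
        calc x * u = u * x * u⁻¹ * u := by rw [hux]
          _ = u * x := by group
      exact ((hku.mul_right hxu.symm).mul_right hku.inv_right).symm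
    rwa [S.hZ, Subgroup.mem_bot] at hcent
  rcases (S.ctx p hp.1.1).line_points hqp hxp hyp hqx hw with h | h | h
  · exfalso
    have h' : z * x * z⁻¹ = z * q * z⁻¹ := by rw [h, hfix]
    exact hqx (by rw [show x = q by simpa using h'])
  · exact Or.inl (htriv z hz hcz h)
  · refine Or.inr ?_
    have hqH := S.self_mem_closure hq
    have hqz : q * z = 1 := by
      refine htriv _ (mul_mem hqH hz) (fun y hy => hy.2.2.symm.mul_right (hcz y hy)) ?_
      calc q * z * x * (q * z)⁻¹ = q * (z * x * z⁻¹) * q⁻¹ := by group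
        _ = q * (q * x * q) * q := by rw [h, inv_eq S.hD.1 hq]
        _ = x := conj_self_inv S.hD.1 hq x
    rw [← inv_eq S.hD.1 hq, eq_inv_of_mul_eq_one_right hqz]

theorem conj_mem_closure_perp (hD : Cfsg.IsThreeTranspositionGroup D) {g v u h : G}
    (hgv : g * v * g⁻¹ = u) (hh : h ∈ Subgroup.closure (perp D v)) :
    g * h * g⁻¹ ∈ Subgroup.closure (perp D u) := by
  induction hh using Subgroup.closure_induction with
  | mem y hy => exact Subgroup.subset_closure (hgv ▸ (conj_mem_perp_iff hD g v y).mpr hy)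
  | one => simp
  | mul x y _ _ hx hy =>
    rw [show g * (x * y) * g⁻¹ = g * x * g⁻¹ * (g * y * g⁻¹) by group]
    exact mul_mem hx hy
  | inv x _ hx =>
    rw [show g * x⁻¹ * g⁻¹ = (g * x * g⁻¹)⁻¹ by group]
    exact inv_mem hx

include S in
/-- two elements of `closure (perp D q)` moving `u` to the same place agree modulo `closure (perp D u)` -/
theorem move_eq {q u g g' : G} (hq : q ∈ D) (hu : u ∈ perp D q) (hg : g ∈ Subgroup.closure (perp D q))
    (hg' : g' ∈ Subgroup.closure (perp D q)) (he : g * u * g⁻¹ = g' * u * g'⁻¹) :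
    g⁻¹ * g' ∈ Subgroup.closure (perp D u) := by
  set h := g⁻¹ * g'
  have hh : h ∈ Subgroup.closure (perp D q) := mul_mem (inv_mem hg) hg'
  have hfix : h * u * h⁻¹ = u := by
    calc h * u * h⁻¹ = g⁻¹ * (g' * u * g'⁻¹) * g := by simp only [h]; group
      _ = g⁻¹ * (g * u * g⁻¹) * g := by rw [he]
      _ = u := by group
  obtain ⟨k, hk, hkc⟩ := (S.ctx q hq).exists_stab hu hh hfix
  have hkq : k ∈ Subgroup.closure (perp D q) := Subgroup.closure_mono (fun y hy => hy.1) hk
  have hku : k ∈ Subgroup.closure (perp D u) := S.star_le_closure hu.1 hk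
  have hqu : q ∈ perp D u := ⟨hq, Ne.symm hu.2.1, hu.2.2.symm⟩
  rw [show h = k * (k⁻¹ * h) by group]
  refine mul_mem hku ?_
  rcases center_perp S hq (mul_mem (inv_mem hkq) hh) hkc with hz | hz <;> rw [hz]
  · exact one_mem _
  · exact Subgroup.subset_closure hqu

theorem mul_conj_eq (hD : Cfsg.IsThreeTranspositionSet D) {u v : G} (hu : u ∈ D) (hv : v ∈ D)
    (h : ¬ Commute u v) : u * v * u * (u * v)⁻¹ = v := by
  rw [mul_inv_rev, inv_eq hD hu, inv_eq hD hv]
  calc u * v * u * (v * u) = u * (v * u * v) * u := by group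
    _ = u * (u * v * u) * u := by rw [braid hD hv hu (fun hc => h hc.symm)]
    _ = v := conj_self_inv hD hu v

theorem two_step_eq (hD : Cfsg.IsThreeTranspositionSet D) {u x v : G} (hu : u ∈ D) (hx : x ∈ D)
    (hv : v ∈ D) (hux : ¬ Commute u x) (hxv : ¬ Commute x v) :
    x * v * (u * x) * u * (x * v * (u * x))⁻¹ = v := by
  calc x * v * (u * x) * u * (x * v * (u * x))⁻¹ = x * v * (u * x * u * (u * x)⁻¹) * (x * v)⁻¹ := by group
    _ = v := by rw [mul_conj_eq hD hu hx hux, mul_conj_eq hD hx hv hxv]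

include S in
/-- the move between commuting transpositions through a common non-neighbour is well defined -/
theorem step_eq {u v x x' : G} (hu : u ∈ D) (hv : v ∈ D) (hne : u ≠ v) (huv : Commute u v)
    (hx : x ∈ D) (hxu : ¬ Commute u x) (hxv : ¬ Commute x v)
    (hx' : x' ∈ D) (hxu' : ¬ Commute u x') (hxv' : ¬ Commute x' v) :
    (x * v * (u * x))⁻¹ * (x' * v * (u * x')) ∈ Subgroup.closure (perp D u) := by
  have hv' : v ∈ perp D u := ⟨hv, Ne.symm hne, huv⟩
  -- common neighbours
  have hq : ∀ y ∈ D, ¬ Commute u y → ¬ Commute y v → ∃ q, q ∈ perp₂ D u v ∧ y ∈ perp D q := by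
    intro y hy hyu hyv
    have h30 := ncard_meet S hu (mem_near S hu hy hyu) hv' (fun h => hyv h.2.2.2)
    obtain ⟨q, hq, hqv⟩ := Set.nonempty_of_ncard_ne_zero (by omega :
      {p | p ∈ perp₂ D u y ∧ Commute p v}.ncard ≠ 0)
    refine ⟨q, ⟨hq.1, hq.1.1, fun h => hyv (h ▸ hq.2.2.2), hqv.symm⟩, hy, Ne.symm hq.2.2.1, hq.2.2.2.symm⟩
  obtain ⟨q, hq1, hxq⟩ := hq x hx hxu hxv
  obtain ⟨q', hq1', hxq'⟩ := hq x' hx' hxu' hxv'
  have hq2 : ∀ {q : G}, q ∈ perp₂ D u v → u ∈ perp D q ∧ v ∈ perp D q := fun hq =>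
    ⟨⟨hu, Ne.symm hq.1.2.1, hq.1.2.2.symm⟩, hv, Ne.symm hq.2.2.1, hq.2.2.2.symm⟩
  have same : ∀ {q : G}, q ∈ perp₂ D u v → ∀ {y z : G}, y ∈ perp D q → z ∈ perp D q → ¬ Commute u y →
      ¬ Commute y v → ¬ Commute u z → ¬ Commute z v →
      (y * v * (u * y))⁻¹ * (z * v * (u * z)) ∈ Subgroup.closure (perp D u) := by
    intro q hq y z hy hz h1 h2 h3 h4
    obtain ⟨huq, hvq⟩ := hq2 hq
    have hm : ∀ {w : G}, w ∈ perp D q → w * v * (u * w) ∈ Subgroup.closure (perp D q) := fun hw =>
      mul_mem (mul_mem (Subgroup.subset_closure hw) (Subgroup.subset_closure hvq))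
        (mul_mem (Subgroup.subset_closure huq) (Subgroup.subset_closure hw))
    refine move_eq S hq.1.1 huq (hm hy) (hm hz) ?_
    rw [two_step_eq S.hD.1 hu hy.1 hv h1 h2, two_step_eq S.hD.1 hu hz.1 hv h3 h4]
  by_cases hqq : q = q'
  · subst hqq; exact same hq1 hxq hxq' hxu hxv hxu' hxv'
  obtain ⟨huq, hvq⟩ := hq2 hq1
  obtain ⟨huq', hvq'⟩ := hq2 hq1'
  -- few common neighbours of `q`, `q'` commute with `u` or `v`
  obtain ⟨y, hy, hyu, hyv⟩ : ∃ y ∈ perp₂ D q q', ¬ Commute u y ∧ ¬ Commute y v := by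
    by_contra hcon
    push Not at hcon
    have hsub : perp₂ D q q' ⊆ insert u {y | y ∈ perp₂ D q q' ∧ (y ≠ u ∧ Commute u y)} ∪
        insert v {y | y ∈ perp₂ D q q' ∧ (y ≠ v ∧ Commute v y)} := by
      intro y hy
      by_cases hc : Commute u y
      · by_cases h1 : y = u
        · exact Or.inl (Or.inl h1)
        · exact Or.inl (Or.inr ⟨hy, h1, hc⟩)
      · by_cases h1 : y = v
        · exact Or.inr (Or.inl h1)
        · exact Or.inr (Or.inr ⟨hy, h1, (hcon y hy hc).symm⟩)
    have hle := (Set.ncard_le_ncard hsub (Set.toFinite _)).trans ((Set.ncard_union_le _ _).trans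
      (Nat.add_le_add (Set.ncard_insert_le _ _) (Set.ncard_insert_le _ _)))
    by_cases hc : Commute q q'
    · have hq'q : q' ∈ perp D q := ⟨hq1'.1.1, Ne.symm hqq, hc⟩
      have h51 : ∀ {w : G}, w ∈ perp D q → w ∈ perp D q' →
          {y | y ∈ perp₂ D q q' ∧ (y ≠ w ∧ Commute w y)}.ncard = 51 := by
        intro w hw hw'
        rw [← (S.ctx q hq1.1.1).ncard_edge₂ hq'q hw (Ne.symm hw'.2.1) hw'.2.2]
        congr 1
        ext y
        exact ⟨fun h => ⟨h.1.1, h.1.2.2.1, h.2.1, h.1.2.2.2, h.2.2⟩,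
          fun h => ⟨⟨h.1, h.1.1, h.2.1, h.2.2.2.1⟩, h.2.2.1, h.2.2.2.2⟩⟩
      rw [(S.ctx q hq1.1.1).ncard_edge hq'q, h51 huq huq', h51 hvq hvq'] at hle
      omega
    · rw [ncard_trace S hq1.1.1 hq1'.1.1 hc, S.ncard_trace_nbr hq1.1.1 hq1'.1.1 hc ⟨huq, huq'⟩,
        S.ncard_trace_nbr hq1.1.1 hq1'.1.1 hc ⟨hvq, hvq'⟩] at hle
      omega
  have h1 := same hq1 hxq hy.1 hxu hxv hyu hyv
  have h2 := same hq1' hy.2 hxq' hyu hyv hxu' hxv'
  have h12 := mul_mem h1 h2
  rwa [mul_assoc, mul_inv_cancel_left] at h12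

include S in
/-- triangles of pairwise non-commuting transpositions are trivial -/
theorem triangle_eq {a x w : G} (ha : a ∈ D) (hx : x ∈ D) (hw : w ∈ D) (hax : ¬ Commute a x)
    (haw : ¬ Commute a w) (hxw : ¬ Commute x w) :
    (a * w)⁻¹ * (x * w * (a * x)) ∈ Subgroup.closure (perp D a) := by
  have direct : ∀ {q v : G}, q ∈ perp₂ D a x → v ∈ D → Commute q v → ¬ Commute a v → ¬ Commute x v →
      (a * v)⁻¹ * (x * v * (a * x)) ∈ Subgroup.closure (perp D a) := by
    intro q v hq hv hqv hav hxv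
    have haq : a ∈ perp D q := ⟨ha, Ne.symm hq.1.2.1, hq.1.2.2.symm⟩
    have hxq : x ∈ perp D q := ⟨hx, Ne.symm hq.2.2.1, hq.2.2.2.symm⟩
    have hvq : v ∈ perp D q := ⟨hv, fun h => hav (h ▸ hq.1.2.2), hqv⟩
    refine move_eq S hq.1.1 haq
      (mul_mem (Subgroup.subset_closure haq) (Subgroup.subset_closure hvq))
      (mul_mem (mul_mem (Subgroup.subset_closure hxq) (Subgroup.subset_closure hvq))
        (mul_mem (Subgroup.subset_closure haq) (Subgroup.subset_closure hxq))) ?_
    rw [mul_conj_eq S.hD.1 ha hv hav, two_step_eq S.hD.1 ha hx hv hax hxv]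
  obtain ⟨q, hq⟩ : (perp₂ D a x).Nonempty :=
    Set.nonempty_of_ncard_ne_zero (by rw [ncard_trace S ha hx hax]; norm_num)
  by_cases hqw : Commute q w
  · exact direct hq hw hqw haw hxw
  -- pass to a neighbour of `w`
  obtain ⟨v, hv, hav, hxv⟩ : ∃ v ∈ perp₂ D q w, ¬ Commute a v ∧ ¬ Commute x v := by
    by_contra hcon
    push Not at hcon
    have haq : a ∈ perp D q := ⟨ha, Ne.symm hq.1.2.1, hq.1.2.2.symm⟩
    have hxq : x ∈ perp D q := ⟨hx, Ne.symm hq.2.2.1, hq.2.2.2.symm⟩
    have hsub : perp₂ D q w ⊆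
        {p | p ∈ perp₂ D q w ∧ Commute p a} ∪ {p | p ∈ perp₂ D q w ∧ Commute p x} := by
      intro y hy
      by_cases hc : Commute a y
      · exact Or.inl ⟨hy, hc.symm⟩
      · exact Or.inr ⟨hy, (hcon y hy hc).symm⟩
    have hle := (Set.ncard_le_ncard hsub (Set.toFinite _)).trans (Set.ncard_union_le _ _)
    have hnear := mem_near S hq.1.1 hw hqw
    rw [ncard_trace S hq.1.1 hw hqw,
      ncard_meet S hq.1.1 hnear haq (fun h => haw h.2.2.2.symm),
      ncard_meet S hq.1.1 hnear hxq (fun h => hxw h.2.2.2.symm)] at hle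
    omega
  have h1 := direct hq hv.1.1 hv.1.2.2 hav hxv
  have h2 := step_eq S hv.1.1 hw hv.2.2.1 hv.2.2.2.symm ha (fun h => hav h.symm) haw hx
    (fun h => hxv h.symm) hxw
  have hmove : v * a * v * (v * a)⁻¹ = a := mul_conj_eq S.hD.1 hv.1.1 ha (fun h => hav h.symm)
  have h3 := conj_mem_closure_perp S.hD hmove h2
  have key : (a * w)⁻¹ * (x * w * (a * x)) = v * a * ((a * w * (v * a))⁻¹ * (x * w * (v * x))) * (v * a)⁻¹ *
      ((a * v)⁻¹ * (x * v * (a * x))) := by
    simp only [mul_inv_rev, inv_eq S.hD.1 ha, inv_eq S.hD.1 hx, inv_eq S.hD.1 hw, inv_eq S.hD.1 hv.1.1,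
      mul_assoc]
    simp only [← mul_assoc, mul_self S.hD.1 ha, mul_self S.hD.1 hx, mul_self S.hD.1 hv.1.1, one_mul]
  rw [key]
  exact mul_mem h3 h1

/-- `g` is congruent modulo `closure (perp D a)` to the chosen move from `a` to `g * a * g⁻¹` -/
def Good (D : Set G) (a g : G) : Prop :=
  (g * a * g⁻¹ = a → g ∈ Subgroup.closure (perp D a)) ∧
  (¬ Commute a (g * a * g⁻¹) → (a * (g * a * g⁻¹))⁻¹ * g ∈ Subgroup.closure (perp D a)) ∧
  (g * a * g⁻¹ ≠ a → Commute a (g * a * g⁻¹) → ∀ y ∈ D, ¬ Commute a y → ¬ Commute y (g * a * g⁻¹) →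
    (y * (g * a * g⁻¹) * (a * y))⁻¹ * g ∈ Subgroup.closure (perp D a))

theorem good_one (a : G) : Good D a 1 := by
  refine ⟨fun _ => one_mem _, fun h => ?_, fun h => ?_⟩
  · simp at h
  · simp at h

include S in
theorem good_mul_fix {a d g : G} (ha : a ∈ D) (hd : d ∈ D) (had : Commute a d) (hg : Good D a g) :
    Good D a (d * g) := by
  have hdH : d ∈ Subgroup.closure (perp D a) := by
    by_cases h : d = a
    · rw [h]; exact S.self_mem_closure ha
    · exact Subgroup.subset_closure ⟨hd, h, had⟩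
  have hda : d * a * d⁻¹ = a := by rw [← had.eq, mul_inv_cancel_right]
  have hv : d * g * a * (d * g)⁻¹ = d * (g * a * g⁻¹) * d⁻¹ := by group
  have hcomm : Commute a (d * g * a * (d * g)⁻¹) ↔ Commute a (g * a * g⁻¹) := by
    rw [hv]
    conv_lhs => arg 1; rw [← hda]
    exact commute_conj_iff d a (g * a * g⁻¹)
  refine ⟨fun h => mul_mem hdH (hg.1 ?_), fun h => ?_, fun hne hc y hy hay hyv => ?_⟩
  · rw [hv] at h
    calc g * a * g⁻¹ = d⁻¹ * (d * (g * a * g⁻¹) * d⁻¹) * d := by group
      _ = d⁻¹ * (d * a * d⁻¹) * d := by rw [h, hda]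
      _ = a := by group
  · have := hg.2.1 (fun hc => h (hcomm.mpr hc))
    rw [hv]
    generalize g * a * g⁻¹ = v at this
    have e : (a * (d * v * d⁻¹))⁻¹ * (d * g) = d * ((a * v)⁻¹ * g) := by
      calc (a * (d * v * d⁻¹))⁻¹ * (d * g) = (d * a * d⁻¹ * (d * v * d⁻¹))⁻¹ * (d * g) := by rw [hda]
        _ = d * ((a * v)⁻¹ * g) := by group
    rw [e]
    exact mul_mem hdH this
  · have hne' : g * a * g⁻¹ ≠ a := fun h => hne (by rw [hv, h, hda])
    have hay' : ¬ Commute a (d⁻¹ * y * d) := fun h => hay (by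
      have := conj_commute (g := d) h
      rwa [hda, show d * (d⁻¹ * y * d) * d⁻¹ = y by group] at this)
    have hyv' : ¬ Commute (d⁻¹ * y * d) (g * a * g⁻¹) := fun h => hyv (by
      have := conj_commute (g := d) h
      rwa [← hv, show d * (d⁻¹ * y * d) * d⁻¹ = y by group] at this)
    have := hg.2.2 hne' (hcomm.mp hc) _ (by simpa using S.hD.2.1 d⁻¹ y hy) hay' hyv'
    rw [hv]
    generalize g * a * g⁻¹ = v at this
    have e : (y * (d * v * d⁻¹) * (a * y))⁻¹ * (d * g) = d * ((d⁻¹ * y * d * v * (a * (d⁻¹ * y * d)))⁻¹ * g) := by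
      calc (y * (d * v * d⁻¹) * (a * y))⁻¹ * (d * g)
          = (y * (d * v * d⁻¹) * (d * a * d⁻¹ * y))⁻¹ * (d * g) := by rw [hda]
        _ = d * ((d⁻¹ * y * d * v * (a * (d⁻¹ * y * d)))⁻¹ * g) := by group
    rw [e]
    exact mul_mem hdH this

include S in
theorem good_mul_far {a x g : G} (ha : a ∈ D) (hx : x ∈ D) (hax : ¬ Commute a x) (hg : Good D a g) :
    Good D a (x * g) := by
  set H := Subgroup.closure (perp D a)
  have haH : a ∈ H := S.self_mem_closure ha
  set v := g * a * g⁻¹ with hv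
  have hvD : v ∈ D := S.hD.2.1 g a ha
  set v' := x * g * a * (x * g)⁻¹ with hv'
  have hvv : v' = x * v * x := by
    calc v' = x * v * x⁻¹ := by rw [hv', hv]; group
      _ = x * v * x := by rw [inv_eq S.hD.1 hx]
  have hv'D : v' ∈ D := S.hD.2.1 (x * g) a ha
  by_cases hxv : Commute x v
  · -- the image stays
    have he : v' = v := by rw [hvv]; exact conj_fix_of_commute S.hD.1 hx hxv
    have hgx : g⁻¹ * x * g ∈ H := by
      have h1 : g⁻¹ * x * g ∈ D := by simpa using S.hD.2.1 g⁻¹ x hx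
      have h2 : Commute a (g⁻¹ * x * g) := by
        have := conj_commute (g := g⁻¹) hxv.symm
        simpa [hv, mul_assoc] using this
      by_cases h : g⁻¹ * x * g = a
      · rw [h]; exact haH
      · exact Subgroup.subset_closure ⟨h1, h, h2⟩
    have e : ∀ t : G, t * (x * g) = t * g * (g⁻¹ * x * g) := fun t => by group
    refine ⟨fun h => ?_, fun h => ?_, fun hne hc y hy hay hyv => ?_⟩ <;> rw [← hv'] at *
    · rw [show x * g = g * (g⁻¹ * x * g) by group]
      exact mul_mem (hg.1 (by rw [← hv, ← he]; exact h)) hgx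
    · rw [he] at h ⊢
      rw [e]; exact mul_mem (hg.2.1 h) hgx
    · rw [he] at hne hc hyv ⊢
      rw [e]; exact mul_mem (hg.2.2 hne hc y hy hay hyv) hgx
  by_cases hva : v = a
  · have hgH : g ∈ H := hg.1 hva
    have he : v' = x * a * x := by rw [hvv, hva]
    have hax' : ¬ Commute a (x * a * x) := by
      rw [← braid S.hD.1 ha hx hax]
      intro h
      have := (conj_comm_iff S.hD.1 ha).mpr h
      rw [conj_self_inv S.hD.1 ha, mul_self S.hD.1 ha, one_mul] at this
      exact hax this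
    refine ⟨fun h => ?_, fun h => ?_, fun hne hc => ?_⟩ <;> rw [← hv'] at *
    · exact absurd (Commute.refl a) (by rwa [← he, h] at hax')
    · have e : (a * v')⁻¹ * (x * g) = a * g := by
        rw [he, ← braid S.hD.1 ha hx hax]
        simp only [mul_inv_rev, inv_eq S.hD.1 ha, inv_eq S.hD.1 hx, mul_assoc]
        simp only [← mul_assoc, mul_self S.hD.1 ha, one_mul]
        simp [mul_assoc, ← mul_assoc x x, mul_self S.hD.1 hx, ← mul_assoc a a, mul_self S.hD.1 ha]
      rw [e]; exact mul_mem haH hgH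
    · exact absurd (he ▸ hc) hax'
  -- `v` is moved
  have hvx : ¬ Commute v x := fun h => hxv h.symm
  have hv'x : v' = v * x * v := by rw [hvv, braid S.hD.1 hx hvD hxv]
  by_cases hav : Commute a v
  · -- `v` in the perp set, so `v'` is far
    have hg' := hg.2.2 hva hav x hx hax hxv
    have hnc : ¬ Commute a v' := by
      intro h
      rw [hv'x] at h
      have := (conj_comm_iff S.hD.1 hvD).mpr h
      rw [conj_fix_of_commute S.hD.1 hvD hav.symm, conj_self_inv S.hD.1 hvD] at this
      exact hax this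
    refine ⟨fun h => absurd (Commute.refl a) (by rwa [hv', h] at hnc), fun _ => ?_,
      fun _ hc => absurd hc hnc⟩
    rw [← hv']
    have hvH : v ∈ H := Subgroup.subset_closure ⟨hvD, hva, hav⟩
    have e : (a * v')⁻¹ * (x * g) = v⁻¹ * ((x * v * (a * x))⁻¹ * g) := by
      have hvxv : x * v * x = v * x * v := braid S.hD.1 hx hvD hxv
      have h1 : a * v' * v⁻¹ = x * (x * v * (a * x)) := by
        rw [hv'x, inv_eq S.hD.1 hvD]
        calc a * (v * x * v) * v = a * v * x * (v * v) := by group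
          _ = v * a * x := by rw [mul_self S.hD.1 hvD, mul_one, hav.eq]
          _ = (x * x) * v * (a * x) := by rw [mul_self S.hD.1 hx]; group
          _ = x * (x * v * (a * x)) := by group
      calc (a * v')⁻¹ * (x * g) = v⁻¹ * ((a * v' * v⁻¹)⁻¹ * (x * g)) := by group
        _ = v⁻¹ * ((x * (x * v * (a * x)))⁻¹ * (x * g)) := by rw [h1]
        _ = v⁻¹ * ((x * v * (a * x))⁻¹ * g) := by group
    rw [e]
    exact mul_mem (inv_mem hvH) hg'
  -- `v` far
  have hg' := hg.2.1 hav
  by_cases hv'a : v' = a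
  · refine ⟨fun _ => ?_, fun h => absurd (Commute.refl a) (by rwa [← hv', hv'a] at h),
      fun h => absurd hv'a h⟩
    have hv2 : v = x * a * x := by rw [← hv'a, hvv, conj_self_inv S.hD.1 hx]
    have e : x * g = a * ((a * v)⁻¹ * g) := by
      rw [hv2, ← braid S.hD.1 ha hx hax]
      simp only [mul_inv_rev, inv_eq S.hD.1 ha, inv_eq S.hD.1 hx, mul_assoc]
      simp [← mul_assoc, mul_self S.hD.1 ha, mul_self S.hD.1 hx]
    rw [e]; exact mul_mem haH hg'
  have hvv' : ¬ Commute v v' := by
    intro h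
    rw [hv'x] at h
    have := (conj_comm_iff S.hD.1 hvD).mpr h
    rw [conj_fix_of_commute S.hD.1 hvD (Commute.refl v), conj_self_inv S.hD.1 hvD] at this
    exact hvx this
  -- the moved element is congruent to the move through `v`
  have hmove : (v * v' * (a * v))⁻¹ * (x * g) ∈ H := by
    have h1 : v * v' * (a * v) = x * (a * v) * a := by
      rw [hv'x]
      calc v * (v * x * v) * (a * v) = (v * v) * x * (v * a * v) := by group
        _ = x * (a * v * a) := by rw [mul_self S.hD.1 hvD, one_mul, braid S.hD.1 ha hvD hav]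
        _ = x * (a * v) * a := by group
    rw [h1, show (x * (a * v) * a)⁻¹ * (x * g) = a⁻¹ * ((a * v)⁻¹ * g) by group]
    exact mul_mem (inv_mem haH) hg'
  refine ⟨fun h => absurd h hv'a, fun h => ?_, fun _ hc y hy hay hyv => ?_⟩ <;> rw [← hv'] at *
  · have h1 := triangle_eq S ha hvD hv'D hav h hvv'
    have h2 := mul_mem h1 hmove
    rwa [mul_assoc, mul_inv_cancel_left] at h2
  · have h1 := step_eq S ha hv'D (Ne.symm hv'a) hc hy hay hyv hvD hav hvv'
    have h2 := mul_mem h1 hmove
    rwa [mul_assoc, mul_inv_cancel_left] at h2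

include S in
theorem good_all {a : G} (ha : a ∈ D) (g : G) : Good D a g := by
  have hstep : ∀ d ∈ D, ∀ g, Good D a g → Good D a (d * g) := fun d hd g hg => by
    by_cases h : Commute a d
    · exact good_mul_fix S ha hd h hg
    · exact good_mul_far S ha hd h hg
  induction (show g ∈ Subgroup.closure D from S.hD.2.2 ▸ Subgroup.mem_top g) using
    Subgroup.closure_induction_left with
  | one => exact good_one a
  | mul_left x hx y _ ih => exact hstep x hx y ih
  | inv_mul_cancel x hx y _ ih => rw [inv_eq S.hD.1 hx]; exact hstep x hx y ih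

include S in
/-- the centraliser of a transposition is generated by its perp set -/
theorem centralizer_eq {a : G} (ha : a ∈ D) :
    Subgroup.closure (perp D a) = Subgroup.centralizer ({a} : Set G) := by
  refine le_antisymm ((Subgroup.closure_le _).mpr fun y hy => ?_) fun g hg => ?_
  · rw [SetLike.mem_coe, Subgroup.mem_centralizer_singleton_iff]
    exact hy.2.2.eq.symm
  · rw [Subgroup.mem_centralizer_singleton_iff] at hg
    exact (good_all S ha g).1 (by rw [hg, mul_inv_cancel_right])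

include S in
theorem center_eq {a : G} (ha : a ∈ D) :
    Subgroup.center ↥(Subgroup.closure (perp D a)) =
      (Subgroup.zpowers a).subgroupOf (Subgroup.closure (perp D a)) := by
  ext ⟨z, hz⟩
  rw [Subgroup.mem_subgroupOf, Subgroup.mem_center_iff]
  constructor
  · intro h
    rcases center_perp S ha hz fun y hy => congrArg Subtype.val (h ⟨y, Subgroup.subset_closure hy⟩) with rfl | rfl
    · exact one_mem _
    · exact Subgroup.mem_zpowers _
  · rintro hmem ⟨y, hy⟩
    obtain ⟨n, hn⟩ := Subgroup.mem_zpowers_iff.mp hmem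
    have hc : Commute a y := commute_closure (fun s hs => hs.2.2) y hy
    refine Subtype.ext ?_
    show y * z = z * y
    rw [show z = a ^ n from hn.symm]
    exact (hc.zpow_left n).eq.symm

end Cfsg.Agent.Lib.FischerMTypes.StabilizerM22
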