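import Mathlib
import Cfsg.Agent.Lib.FischerMTypes.StabilizerM22
import Cfsg.Agent.S0280

/-!
Type M(22): the order of the group and the width of its class of transpositions.
-/

set_option autoImplicit false
set_option linter.style.haveILetI false
set_option linter.unusedSectionVars false

namespace Cfsg.Agent.Lib.FischerMTypes.PointModel

open Cfsg.Agent.Lib.FischerMTypes.Basic Cfsg.Agent.Lib.FischerMTypes.Primitive
  Cfsg.Agent.Lib.FischerMTypes.Levels
open Cfsg.Agent.Lib.Unitary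
open Cfsg.Agent.Lib.UnitaryFour.Transvection

variable {G : Type*} [Group G] [Finite G] {D : Set G}
variable {F : Type} [Field F] [Fintype F]

local notation "h⟪" u ", " v "⟫" => Cfsg.hermForm 6 F 2 u v

variable {a : G} (C : Ctx D a F)

namespace Ctx

/-- the model map kills the scalars -/
theorem ker_eq : C.φ.ker = Subgroup.center (Cfsg.SU 6 F 2) := by
  refine le_antisymm C.ker fun z hz => ?_
  obtain ⟨c, hc⟩ := (mem_center_SU_iff C.hF (by norm_num) z).mp hz
  obtain ⟨k, hk⟩ := QuotientGroup.mk_surjective (C.φ z)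
  rw [MonoidHom.mem_ker, ← hk, QuotientGroup.eq_one_iff, Subgroup.mem_center_iff]
  rintro ⟨g, hg⟩
  refine Subtype.ext (commute_closure (u := (k : G)) (fun y hy => ?_) g hg).eq.symm
  obtain ⟨v, hv, hv0, rfl⟩ := C.exists_pt hy
  have hcv : act z v = c • v := hc v
  have hc0 : c ≠ 0 := fun h => hv0 (by
    rw [← act_inv_self z v, hcv, h]; simp [act_def])
  have h := C.pt_conj hv hv0 z hk
  rw [hcv, C.pt_smul hv hv0 hc0] at h
  show (k : G) * C.pt v = C.pt v * (k : G)
  calc (k : G) * C.pt v = (k : G) * C.pt v * (k : G)⁻¹ * (k : G) := by group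
    _ = C.pt v * (k : G) := by rw [h]

include C in
theorem card_quot : Nat.card (↥(Subgroup.closure (perp D a)) ⧸
    Subgroup.center ↥(Subgroup.closure (perp D a))) = Nat.card (Cfsg.PSU 6 F 2) :=
  (Nat.card_congr ((QuotientGroup.quotientMulEquivOfEq (C.ker_eq).symm).trans
    (QuotientGroup.quotientKerEquivOfSurjective C.φ C.surj)).toEquiv).symm

include C in
theorem card_psu : Nat.card (Cfsg.PSU 6 F 2) = 2 ^ 15 * 3 ^ 6 * 5 * 7 * 11 := by
  have h := Cfsg.Agent.S0280.result (F := F) (q := 2) C.hF 6 (by norm_num)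
  have hp : (∏ i ∈ Finset.range 6, (if Even i then 2 ^ (i + 1) + 1 else 2 ^ (i + 1) - 1 : ℕ)) =
      3 * 3 * 9 * 15 * 33 * 63 := by
    simp [Finset.prod_range_succ, Nat.even_iff]
  rw [hp] at h
  norm_num at h
  omega

include C in
/-- at most 21 pairwise commuting points -/
theorem ncard_clique_le {E : Set G} (hE : E ⊆ perp D a) (hc : ∀ x ∈ E, ∀ y ∈ E, Commute x y) :
    E.ncard ≤ 21 := by
  set W := Submodule.span F {v : Fin 6 → F | h⟪v, v⟫ = 0 ∧ v ≠ 0 ∧ C.pt v ∈ E}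
  have hW : W ≤ Cfsg.Agent.Lib.Unitary.perp 2 W := by
    refine Submodule.span_le.mpr fun v hv => ?_
    rw [SetLike.mem_coe, mem_perp_span C.hF]
    intro w hw
    exact (C.pt_comm hv.1 hv.2.1 hw.1 hw.2.1).mp (hc _ hv.2.2 _ hw.2.2)
  have h3 : Module.finrank F W ≤ 3 := by
    have h1 := finrank_perp (q := 2) C.hF W
    have h2 := Submodule.finrank_mono hW
    omega
  have hcard : Nat.card W ≤ 64 := by
    rw [Module.natCard_eq_pow_finrank (K := F), Nat.card_eq_fintype_card, C.hF]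
    calc (2 ^ 2 : ℕ) ^ Module.finrank F W ≤ (2 ^ 2) ^ 3 := Nat.pow_le_pow_right (by norm_num) h3
      _ = 64 := by norm_num
  have h := C.three_mul_ncard (fun y => y ∈ E)
  rw [show {y | y ∈ perp D a ∧ y ∈ E} = E from Set.ext fun y => ⟨fun h => h.2, fun h => ⟨hE h, h⟩⟩] at h
  have hsub : {v : Fin 6 → F | h⟪v, v⟫ = 0 ∧ v ≠ 0 ∧ C.pt v ∈ E} ⊆ (W : Set (Fin 6 → F)) \ {0} :=
    fun v hv => ⟨Submodule.subset_span hv, hv.2.1⟩
  have hle := Set.ncard_le_ncard hsub (Set.toFinite _)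
  rw [Set.ncard_sdiff_singleton_of_mem (show (0 : Fin 6 → F) ∈ (W : Set (Fin 6 → F)) from W.zero_mem),
    ← Nat.card_coe_set_eq (W : Set (Fin 6 → F))] at hle
  have : Nat.card ((W : Set (Fin 6 → F)) : Type) = Nat.card W := rfl
  omega

include C in
/-- 21 pairwise commuting points -/
theorem exists_clique : ∃ E ⊆ perp D a, E.ncard = 21 ∧ ∀ x ∈ E, ∀ y ∈ E, Commute x y := by
  set W : Set (Fin 6 → F) := Set.range fun c : Fin 3 → F => (![c 0, c 0, c 1, c 1, c 2, c 2] : Fin 6 → F)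
  have horth : ∀ v ∈ W, ∀ w ∈ W, h⟪v, w⟫ = 0 := by
    rintro _ ⟨c, rfl⟩ _ ⟨d, rfl⟩
    simp only [Cfsg.hermForm, Fin.sum_univ_six, Matrix.cons_val]
    linear_combination (c 0 * d 0 ^ 2 + c 1 * d 1 ^ 2 + c 2 * d 2 ^ 2) * two_eq_zero C.hF
  have hWsmul : ∀ (k : F), ∀ v ∈ W, k • v ∈ W := by
    rintro k _ ⟨c, rfl⟩
    exact ⟨k • c, by ext i; fin_cases i <;> simp⟩
  have hcard : W.ncard = 64 := by
    rw [Set.ncard_range_of_injective ?_, Nat.card_eq_fintype_card, Fintype.card_fun, Fintype.card_fin, C.hF]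
    · norm_num
    intro c d hcd
    ext i
    fin_cases i
    · simpa using congrFun hcd 0
    · simpa using congrFun hcd 2
    · simpa using congrFun hcd 4
  refine ⟨{y | y ∈ perp D a ∧ ∃ v ∈ W, v ≠ 0 ∧ C.pt v = y}, fun y hy => hy.1, ?_, ?_⟩
  · have h := C.three_mul_ncard (fun y => ∃ v ∈ W, v ≠ 0 ∧ C.pt v = y)
    have hset : {v : Fin 6 → F | h⟪v, v⟫ = 0 ∧ v ≠ 0 ∧ ∃ w ∈ W, w ≠ 0 ∧ C.pt w = C.pt v} = W \ {0} := by
      ext v
      constructor
      · rintro ⟨hv, hv0, w, hw, hw0, he⟩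
        obtain ⟨k, hk, rfl⟩ := (C.pt_eq (horth w hw w hw) hw0 hv hv0).mp he
        exact ⟨hWsmul k w hw, hv0⟩
      · rintro ⟨hv, hv0⟩
        exact ⟨horth v hv v hv, hv0, v, hv, hv0, rfl⟩
    rw [hset, Set.ncard_sdiff_singleton_of_mem (show (0 : Fin 6 → F) ∈ W from ⟨0, by ext i; fin_cases i <;> simp⟩),
      hcard] at h
    omega
  · rintro _ ⟨-, v, hv, hv0, rfl⟩ _ ⟨-, w, hw, hw0, rfl⟩
    exact (C.pt_comm (horth v hv v hv) hv0 (horth w hw w hw) hw0).mpr (horth v hv w hw)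

end Ctx

end Cfsg.Agent.Lib.FischerMTypes.PointModel

namespace Cfsg.Agent.Lib.FischerMTypes.OrderWidth

open Cfsg.Agent.Lib.FischerMTypes.Basic Cfsg.Agent.Lib.FischerMTypes.Primitive
  Cfsg.Agent.Lib.FischerMTypes.Levels Cfsg.Agent.Lib.FischerMTypes.PointModel
  Cfsg.Agent.Lib.FischerMTypes.TraceCounts Cfsg.Agent.Lib.FischerMTypes.TraceSize
  Cfsg.Agent.Lib.FischerMTypes.StabilizerM22

variable {G : Type*} [Group G] [Finite G] {D : Set G}
variable {F : Type} [Field F] [Fintype F]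
variable (S : Sys D F)

include S in
theorem card_center_perp {a : G} (ha : a ∈ D) :
    Nat.card (Subgroup.center ↥(Subgroup.closure (perp D a))) = 2 := by
  rw [center_eq S ha, Nat.card_congr (Subgroup.subgroupOfEquivOfLe
    (Subgroup.zpowers_le.mpr (S.self_mem_closure ha))).toEquiv, Nat.card_zpowers, S.hD.1.1 a ha]

include S in
theorem card_closure_perp {a : G} (ha : a ∈ D) :
    Nat.card ↥(Subgroup.closure (perp D a)) = 2 ^ 16 * 3 ^ 6 * 5 * 7 * 11 := by
  rw [Subgroup.card_eq_card_quotient_mul_card_subgroup (Subgroup.center _), (S.ctx a ha).card_quot,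
    (S.ctx a ha).card_psu, card_center_perp S ha]
  norm_num

include S in
theorem card_centralizer {a : G} (ha : a ∈ D) :
    Nat.card ↥(Subgroup.centralizer ({a} : Set G)) = 2 ^ 16 * 3 ^ 6 * 5 * 7 * 11 := by
  rw [← centralizer_eq S ha, card_closure_perp S ha]

theorem card_eq_class_mul (hD : Cfsg.IsThreeTranspositionGroup D)
    (hcl : ∀ a ∈ D, ∀ b ∈ D, ∃ g : G, g * a * g⁻¹ = b) {a : G} (ha : a ∈ D) :
    Nat.card G = D.ncard * Nat.card ↥(Subgroup.centralizer ({a} : Set G)) := by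
  have hN := Subgroup.card_mul_index (Subgroup.centralizer ({a} : Set G))
  have hidx : (Subgroup.centralizer ({a} : Set G)).index = D.ncard := by
    rw [Subgroup.index_eq_card, ← Nat.card_coe_set_eq]
    refine Nat.card_congr (Equiv.ofBijective (Quotient.lift
      (fun g : G => (⟨g * a * g⁻¹, hD.2.1 g a ha⟩ : D)) ?_) ⟨?_, ?_⟩)
    · intro g g' h
      have h' := Subgroup.mem_centralizer_singleton_iff.mp (QuotientGroup.leftRel_apply.mp h)
      refine Subtype.ext ?_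
      show g * a * g⁻¹ = g' * a * g'⁻¹
      calc g * a * g⁻¹ = g * (a * (g⁻¹ * g')) * g'⁻¹ := by group
        _ = g * (g⁻¹ * g' * a) * g'⁻¹ := by rw [h']
        _ = g' * a * g'⁻¹ := by group
    · intro x y
      induction x using Quotient.inductionOn with | _ g => ?_
      induction y using Quotient.inductionOn with | _ g' => ?_
      intro h
      have h' : g * a * g⁻¹ = g' * a * g'⁻¹ := congrArg Subtype.val h
      refine Quotient.sound (QuotientGroup.leftRel_apply.mpr (Subgroup.mem_centralizer_singleton_iff.mpr ?_))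
      calc g⁻¹ * g' * a = g⁻¹ * (g' * a * g'⁻¹) * g' := by group
        _ = g⁻¹ * (g * a * g⁻¹) * g' := by rw [h']
        _ = a * (g⁻¹ * g') := by group
    · rintro ⟨b, hb⟩
      obtain ⟨g, hg⟩ := hcl a ha b hb
      exact ⟨Quotient.mk _ g, Subtype.ext hg⟩
  rw [← hN, hidx, mul_comm]

include S in
theorem card_group : Nat.card G = 2 ^ 17 * 3 ^ 9 * 5 ^ 2 * 7 * 11 * 13 := by
  obtain ⟨a, ha, -⟩ := S.hprim.2.1
  rw [card_eq_class_mul S.hD S.hprim.1 ha, ncard_class S, card_centralizer S ha]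
  norm_num

include S in
theorem width : Cfsg.commutingWidth D = 22 := by
  have hle : ∀ n ∈ {n : ℕ | ∃ E : Set G, E ⊆ D ∧ E.Finite ∧ (∀ a ∈ E, ∀ b ∈ E, Commute a b) ∧ E.ncard = n},
      n ≤ 22 := by
    rintro _ ⟨E, hE, -, hc, rfl⟩
    rcases E.eq_empty_or_nonempty with rfl | ⟨a, ha⟩
    · simp
    have h := (S.ctx a (hE ha)).ncard_clique_le (E := E \ {a})
      (fun y hy => ⟨hE hy.1, hy.2, hc a ha y hy.1⟩) (fun x hx y hy => hc x hx.1 y hy.1)
    rw [Set.ncard_sdiff_singleton_of_mem ha] at h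
    omega
  have hmem : 22 ∈ {n : ℕ | ∃ E : Set G, E ⊆ D ∧ E.Finite ∧ (∀ a ∈ E, ∀ b ∈ E, Commute a b) ∧ E.ncard = n} := by
    obtain ⟨a, ha, -⟩ := S.hprim.2.1
    obtain ⟨E, hE, h21, hc⟩ := (S.ctx a ha).exists_clique
    refine ⟨insert a E, Set.insert_subset ha fun y hy => (hE hy).1, Set.toFinite _, ?_, ?_⟩
    · rintro x (rfl | hx) y (rfl | hy)
      · exact Commute.refl _
      · exact (hE hy).2.2
      · exact (hE hx).2.2.symm
      · exact hc x hx y hy
    · rw [Set.ncard_insert_of_notMem (fun h => (hE h).2.1 rfl), h21]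
  exact le_antisymm (csSup_le ⟨22, hmem⟩ hle) (le_csSup ⟨22, hle⟩ hmem)

end Cfsg.Agent.Lib.FischerMTypes.OrderWidth
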