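import Mathlib
import Cfsg.Agent.Lib.FischerMTypes.Levels
import Cfsg.Agent.S0283

/-!
PSU(6,2) is simple, in the form used by the M-type library.
-/

set_option autoImplicit false

namespace Cfsg.Agent.Lib.FischerMTypes.Simple

theorem simple_psu : Cfsg.Agent.Lib.FischerMTypes.Levels.SimplePSU := fun F _ _ hF =>
  Cfsg.Agent.S0283.result (F := F) (q := 2) (by rw [hF]; norm_num) 6 (by norm_num) (by norm_num)

end Cfsg.Agent.Lib.FischerMTypes.Simple
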