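import Mathlib
import Cfsg.Agent.Lib.FischerMTypes.OrderWidth
import Cfsg.Agent.Lib.FischerMTypes.Simple

/-!
Type M(22): the group generated by a perp set is quasisimple, and the whole group is simple.

Six points of a hyperoval in a totally isotropic plane multiply to a central element; if the
transposition at the base were outside the derived group, all such products would be trivial, and
two hyperovals through a triangle would give three factorisations of one product.
-/

set_option autoImplicit false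
set_option linter.style.haveILetI false
set_option linter.unusedSectionVars false

namespace Cfsg.Agent.Lib.FischerMTypes.PointModel

open Cfsg.Agent.Lib.FischerMTypes.Basic Cfsg.Agent.Lib.FischerMTypes.Primitive
  Cfsg.Agent.Lib.FischerMTypes.Levels
open Cfsg.Agent.Lib.Unitary
open Cfsg.Agent.Lib.UnitaryFour.Transvection

variable {G : Type*} [Group G] [Finite G] {D : Set G}
variable {F : Type} [Field F] [Fintype F]

local notation "h⟪" u ", " v "⟫" => Cfsg.hermForm 6 F 2 u v

/-- vectors of a totally isotropic plane -/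
def planeVec (c : Fin 3 → F) : Fin 6 → F := ![c 0, c 0, c 1, c 1, c 2, c 2]

theorem planeVec_herm (hF : Fintype.card F = 2 ^ 2) (c d : Fin 3 → F) :
    h⟪planeVec c, planeVec d⟫ = 0 := by
  simp only [planeVec, Cfsg.hermForm, Fin.sum_univ_six, Matrix.cons_val]
  linear_combination (c 0 * d 0 ^ 2 + c 1 * d 1 ^ 2 + c 2 * d 2 ^ 2) * two_eq_zero hF

theorem planeVec_ne_zero {c : Fin 3 → F} (hc : c ≠ 0) : planeVec c ≠ 0 := fun h => hc (by
  ext i
  fin_cases i
  · simpa [planeVec] using congrFun h 0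
  · simpa [planeVec] using congrFun h 2
  · simpa [planeVec] using congrFun h 4)

theorem planeVec_smul (k : F) (c : Fin 3 → F) : planeVec (k • c) = k • planeVec c := by
  ext i; fin_cases i <;> simp [planeVec]

theorem planeVec_injective : Function.Injective (planeVec (F := F)) := fun c d h => by
  ext i
  fin_cases i
  · simpa [planeVec] using congrFun h 0
  · simpa [planeVec] using congrFun h 2
  · simpa [planeVec] using congrFun h 4

variable {a : G} (C : Ctx D a F)

namespace Ctx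

/-- the point with given plane coordinates -/
noncomputable def planePt (c : Fin 3 → F) : G := C.pt (planeVec c)

theorem planePt_mem {c : Fin 3 → F} (hc : c ≠ 0) : C.planePt c ∈ perp D a :=
  C.pt_mem (planeVec_herm C.hF c c) (planeVec_ne_zero hc)

theorem planePt_comm {c d : Fin 3 → F} (hc : c ≠ 0) (hd : d ≠ 0) : Commute (C.planePt c) (C.planePt d) :=
  (C.pt_comm (planeVec_herm C.hF c c) (planeVec_ne_zero hc) (planeVec_herm C.hF d d)
    (planeVec_ne_zero hd)).mpr (planeVec_herm C.hF c d)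

theorem planePt_eq {c d : Fin 3 → F} (hc : c ≠ 0) (hd : d ≠ 0) :
    C.planePt c = C.planePt d ↔ ∃ k : F, k ≠ 0 ∧ d = k • c := by
  rw [planePt, planePt, C.pt_eq (planeVec_herm C.hF c c) (planeVec_ne_zero hc) (planeVec_herm C.hF d d)
    (planeVec_ne_zero hd)]
  refine exists_congr fun k => and_congr_right fun _ => ?_
  rw [← planeVec_smul, planeVec_injective.eq_iff]

/-- six points whose rank-one forms cancel multiply to a central element -/
theorem hexad_central (c : Fin 6 → Fin 3 → F) (hc : ∀ i, c i ≠ 0)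
    (hsum : ∀ j k, ∑ i, c i j * c i k ^ 2 = 0) {y : G} (hy : y ∈ perp D a) :
    Commute y (C.planePt (c 0) * C.planePt (c 1) * C.planePt (c 2) *
      (C.planePt (c 3) * C.planePt (c 4) * C.planePt (c 5))) := by
  set t : Fin 6 → Cfsg.SU 6 F 2 := fun i => tv C.hF (planeVec (c i)) (planeVec_herm C.hF _ _)
  have ht : t 0 * t 1 * t 2 * (t 3 * t 4 * t 5) = 1 := by
    refine ext' fun v => ?_
    simp only [t, act_mul, act_tv, act_one, herm_add_left, herm_smul_left, planeVec_herm C.hF, mul_zero,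
      add_zero]
    have e : ∀ d : Fin 3 → F, h⟪v, planeVec d⟫ =
        (v 0 + v 1) * d 0 ^ 2 + (v 2 + v 3) * d 1 ^ 2 + (v 4 + v 5) * d 2 ^ 2 := fun d => by
      simp only [planeVec, Cfsg.hermForm, Fin.sum_univ_six, Matrix.cons_val]; ring
    have h00 := hsum 0 0
    have h01 := hsum 0 1
    have h02 := hsum 0 2
    have h10 := hsum 1 0
    have h11 := hsum 1 1
    have h12 := hsum 1 2
    have h20 := hsum 2 0
    have h21 := hsum 2 1
    have h22 := hsum 2 2
    simp only [Fin.sum_univ_six] at h00 h01 h02 h10 h11 h12 h20 h21 h22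
    ext l
    simp only [e, Pi.add_apply, Pi.smul_apply, smul_eq_mul]
    fin_cases l <;> simp only [planeVec, Matrix.cons_val, Fin.mk_zero, Fin.mk_one, Fin.reduceFinMk]
    · linear_combination (v 0 + v 1) * h00 + (v 2 + v 3) * h01 + (v 4 + v 5) * h02
    · linear_combination (v 0 + v 1) * h00 + (v 2 + v 3) * h01 + (v 4 + v 5) * h02
    · linear_combination (v 0 + v 1) * h10 + (v 2 + v 3) * h11 + (v 4 + v 5) * h12
    · linear_combination (v 0 + v 1) * h10 + (v 2 + v 3) * h11 + (v 4 + v 5) * h12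
    · linear_combination (v 0 + v 1) * h20 + (v 2 + v 3) * h21 + (v 4 + v 5) * h22
    · linear_combination (v 0 + v 1) * h20 + (v 2 + v 3) * h21 + (v 4 + v 5) * h22
  let p : Fin 6 → ↥(Subgroup.closure (perp D a)) := fun i =>
    ⟨C.planePt (c i), Subgroup.subset_closure (C.planePt_mem (hc i))⟩
  have hp : ∀ i, QuotientGroup.mk (p i) = C.φ (t i) := fun i =>
    C.pt_im (planeVec_herm C.hF _ _) (planeVec_ne_zero (hc i))
  have hz : p 0 * p 1 * p 2 * (p 3 * p 4 * p 5) ∈
      Subgroup.center ↥(Subgroup.closure (perp D a)) := by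
    rw [← QuotientGroup.eq_one_iff]
    simp only [QuotientGroup.mk_mul, hp]
    rw [← map_mul, ← map_mul, ← map_mul, ← map_mul, ← map_mul, ht, map_one]
  exact congrArg Subtype.val (Subgroup.mem_center_iff.mp hz ⟨y, Subgroup.subset_closure hy⟩)

include C in
/-- two hyperovals of a plane through a common triangle -/
theorem exists_hexads : ∃ c d : Fin 6 → Fin 3 → F, (∀ i, c i ≠ 0) ∧ (∀ i, d i ≠ 0) ∧
    (∀ j k, ∑ i, c i j * c i k ^ 2 = 0) ∧ (∀ j k, ∑ i, d i j * d i k ^ 2 = 0) ∧
    (c 0 = d 0 ∧ c 1 = d 1 ∧ c 2 = d 2) ∧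
    (C.planePt (c 0) ≠ C.planePt (c 1) ∧ C.planePt (c 0) ≠ C.planePt (c 2) ∧
      C.planePt (c 1) ≠ C.planePt (c 2) ∧ C.planePt (c 3) ≠ C.planePt (c 4) ∧
      C.planePt (c 3) ≠ C.planePt (c 5) ∧ C.planePt (c 4) ≠ C.planePt (c 5) ∧
      C.planePt (c 3) ≠ C.planePt (c 0) ∧ C.planePt (c 3) ≠ C.planePt (c 1) ∧
      C.planePt (c 3) ≠ C.planePt (c 2)) ∧
    C.planePt (d 3) ≠ C.planePt (d 4) ∧
      C.planePt (d 3) ≠ C.planePt (d 5) ∧ C.planePt (d 4) ≠ C.planePt (d 5) ∧
      C.planePt (d 3) ≠ C.planePt (c 0) ∧ C.planePt (d 3) ≠ C.planePt (c 1) ∧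
      C.planePt (d 3) ≠ C.planePt (c 2) ∧ C.planePt (c 3) ≠ C.planePt (d 3) ∧
      C.planePt (c 3) ≠ C.planePt (d 4) ∧ C.planePt (c 3) ≠ C.planePt (d 5) := by
  obtain ⟨w, hw0, hw1, hw⟩ := exists_omega C.hF
  have h2 := two_eq_zero C.hF
  have hw3 : w ^ 3 = 1 := cube_eq_one C.hF hw0
  set c : Fin 6 → Fin 3 → F := ![![1, 0, 0], ![0, 1, 0], ![0, 0, 1], ![1, 1, 1], ![1, w, w ^ 2], ![1, w ^ 2, w]]
  set d : Fin 6 → Fin 3 → F := ![![1, 0, 0], ![0, 1, 0], ![0, 0, 1], ![1, 1, w], ![1, w, 1], ![1, w ^ 2, w ^ 2]]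
  have hc : ∀ i, c i ≠ 0 := by
    intro i h
    fin_cases i <;> simp [c, funext_iff, Fin.forall_fin_succ] at h
  have hd : ∀ i, d i ≠ 0 := by
    intro i h
    fin_cases i <;> simp [d, funext_iff, Fin.forall_fin_succ] at h
  have hsc : ∀ j k, ∑ i, c i j * c i k ^ 2 = 0 := by
    intro j k
    fin_cases j <;> fin_cases k <;>
      simp only [c, Fin.sum_univ_six, Matrix.cons_val, Fin.mk_zero, Fin.mk_one, Fin.reduceFinMk]
    all_goals first
      | linear_combination 2 * h2
      | linear_combination hw + w * hw3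
      | linear_combination hw
      | linear_combination hw + 2 * w * hw3
      | linear_combination hw + w ^ 2 * hw3 + w * hw3
      | linear_combination hw + (w ^ 3 + 1) * hw3
      | linear_combination 2 * h2 + (w ^ 3 + 2) * hw3
  have hsd : ∀ j k, ∑ i, d i j * d i k ^ 2 = 0 := by
    intro j k
    fin_cases j <;> fin_cases k <;>
      simp only [d, Fin.sum_univ_six, Matrix.cons_val, Fin.mk_zero, Fin.mk_one, Fin.reduceFinMk]
    all_goals first
      | linear_combination 2 * h2
      | linear_combination hw + w * hw3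
      | linear_combination hw
      | linear_combination hw + 2 * w * hw3
      | linear_combination hw + w ^ 2 * hw3 + w * hw3
      | linear_combination hw + (w ^ 3 + 1) * hw3
      | linear_combination 2 * h2 + (w ^ 3 + 2) * hw3
  have hne : ∀ {u v : Fin 3 → F} (hu : u ≠ 0) (hv : v ≠ 0) (j l : Fin 3), u j * v l ≠ u l * v j →
      C.planePt u ≠ C.planePt v := by
    intro u v hu hv j l hjl he
    obtain ⟨k, -, rfl⟩ := (C.planePt_eq hu hv).mp he
    exact hjl (by simp only [Pi.smul_apply, smul_eq_mul]; ring)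
  have hw2 : w ^ 2 ≠ 1 := fun h => hw1 (by linear_combination hw3 - w * h)
  have hw12 : w ^ 2 ≠ w := fun h => hw1 (mul_left_cancel₀ hw0 (by linear_combination h))
  have pc : C.planePt (c 0) ≠ C.planePt (c 1) ∧ C.planePt (c 0) ≠ C.planePt (c 2) ∧
      C.planePt (c 1) ≠ C.planePt (c 2) ∧ C.planePt (c 3) ≠ C.planePt (c 4) ∧
      C.planePt (c 3) ≠ C.planePt (c 5) ∧ C.planePt (c 4) ≠ C.planePt (c 5) ∧
      C.planePt (c 3) ≠ C.planePt (c 0) ∧ C.planePt (c 3) ≠ C.planePt (c 1) ∧
      C.planePt (c 3) ≠ C.planePt (c 2) :=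
    ⟨hne (hc _) (hc _) 0 1 (by simp [c]), hne (hc _) (hc _) 0 2 (by simp [c]),
      hne (hc _) (hc _) 1 2 (by simp [c]), hne (hc _) (hc _) 0 1 (by simp [c, hw1]),
      hne (hc _) (hc _) 0 1 (by simp [c, hw2]), hne (hc _) (hc _) 0 1 (by simp [c, hw12]),
      hne (hc _) (hc _) 0 1 (by simp [c]), hne (hc _) (hc _) 0 1 (by simp [c]),
      hne (hc _) (hc _) 0 2 (by simp [c])⟩
  have pd : C.planePt (d 3) ≠ C.planePt (d 4) ∧
      C.planePt (d 3) ≠ C.planePt (d 5) ∧ C.planePt (d 4) ≠ C.planePt (d 5) ∧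
      C.planePt (d 3) ≠ C.planePt (c 0) ∧ C.planePt (d 3) ≠ C.planePt (c 1) ∧
      C.planePt (d 3) ≠ C.planePt (c 2) ∧ C.planePt (c 3) ≠ C.planePt (d 3) ∧
      C.planePt (c 3) ≠ C.planePt (d 4) ∧ C.planePt (c 3) ≠ C.planePt (d 5) :=
    ⟨hne (hd _) (hd _) 0 1 (by simp [d, hw1]),
      hne (hd _) (hd _) 0 1 (by simp [d, hw2]), hne (hd _) (hd _) 0 1 (by simp [d, hw12]),
      hne (hd _) (hc _) 0 1 (by simp [c, d]), hne (hd _) (hc _) 0 1 (by simp [c, d]),
      hne (hd _) (hc _) 0 2 (by simp [c, d]), hne (hc _) (hd _) 0 2 (by simp [c, d, hw1]),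
      hne (hc _) (hd _) 0 1 (by simp [c, d, hw1]), hne (hc _) (hd _) 0 1 (by simp [c, d, hw2])⟩
  exact ⟨c, d, hc, hd, hsc, hsd, ⟨by simp [c, d], by simp [c, d], by simp [c, d]⟩, pc, pd⟩

end Ctx

end Cfsg.Agent.Lib.FischerMTypes.PointModel

namespace Cfsg.Agent.Lib.FischerMTypes.QuasiM22

open Cfsg.Agent.Lib.FischerMTypes.Basic Cfsg.Agent.Lib.FischerMTypes.Primitive
  Cfsg.Agent.Lib.FischerMTypes.Levels Cfsg.Agent.Lib.FischerMTypes.PointModel
  Cfsg.Agent.Lib.FischerMTypes.TraceCounts Cfsg.Agent.Lib.FischerMTypes.TraceSize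
  Cfsg.Agent.Lib.FischerMTypes.SixSets
  Cfsg.Agent.Lib.FischerMTypes.StabilizerM22 Cfsg.Agent.Lib.FischerMTypes.OrderWidth
open Cfsg.Agent.Lib.UnitaryFour.Transvection
open scoped commutatorElement

variable {G : Type*} [Group G] [Finite G] {D : Set G}
variable {F : Type} [Field F] [Fintype F]
variable (S : Sys D F)

include S in
/-- a transposition lies in the derived group of its centraliser -/
theorem self_mem_commutator {a : G} (ha : a ∈ D) :
    (⟨a, S.self_mem_closure ha⟩ : ↥(Subgroup.closure (perp D a))) ∈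
      commutator ↥(Subgroup.closure (perp D a)) := by
  by_contra hcon
  set C := S.ctx a ha
  set H := Subgroup.closure (perp D a)
  -- products of six points lie in the derived group
  have hcl : ∀ {x y : G} (hx : x ∈ perp D a) (hy : y ∈ perp D a),
      Abelianization.of (⟨x, Subgroup.subset_closure hx⟩ : ↥H) =
        Abelianization.of (⟨y, Subgroup.subset_closure hy⟩ : ↥H) := by
    intro x y hx hy
    obtain ⟨k, hk, rfl⟩ := S.exists_conj_perp ha hx hy
    rw [show (⟨k * x * k⁻¹, Subgroup.subset_closure hy⟩ : ↥H) =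
      ⟨k, hk⟩ * ⟨x, Subgroup.subset_closure hx⟩ * ⟨k, hk⟩⁻¹ from rfl, map_mul, map_mul, map_inv,
      mul_comm, ← mul_assoc, inv_mul_cancel, one_mul]
  -- hence the product of a hexad is trivial
  have hone : ∀ c : Fin 6 → Fin 3 → F, (∀ i, c i ≠ 0) → (∀ j k, ∑ i, c i j * c i k ^ 2 = 0) →
      C.planePt (c 0) * C.planePt (c 1) * C.planePt (c 2) *
        (C.planePt (c 3) * C.planePt (c 4) * C.planePt (c 5)) = 1 := by
    intro c hc hsum
    let p : Fin 6 → ↥H := fun i => ⟨C.planePt (c i), Subgroup.subset_closure (C.planePt_mem (hc i))⟩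
    have hmem : p 0 * p 1 * p 2 * (p 3 * p 4 * p 5) ∈ commutator ↥H := by
      rw [← Abelianization.ker_of, MonoidHom.mem_ker]
      simp only [map_mul]
      have hs : ∀ i, Abelianization.of (p i) = Abelianization.of (p 0) := fun i =>
        hcl (C.planePt_mem (hc i)) (C.planePt_mem (hc 0))
      rw [hs 1, hs 2, hs 3, hs 4, hs 5]
      have h2 : Abelianization.of (p 0) * Abelianization.of (p 0) = 1 := by
        rw [← map_mul, show p 0 * p 0 = 1 from Subtype.ext (mul_self S.hD.1 (C.planePt_mem (hc 0)).1), map_one]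
      calc _ = (Abelianization.of (p 0) * Abelianization.of (p 0)) *
            (Abelianization.of (p 0) * Abelianization.of (p 0)) *
            (Abelianization.of (p 0) * Abelianization.of (p 0)) := by simp only [mul_assoc]
        _ = 1 := by rw [h2, one_mul, one_mul]
    rcases center_perp S ha (p 0 * p 1 * p 2 * (p 3 * p 4 * p 5)).2
      (fun y hy => C.hexad_central c hc hsum hy) with h | h
    · exact h
    · rw [show p 0 * p 1 * p 2 * (p 3 * p 4 * p 5) = (⟨a, S.self_mem_closure ha⟩ : ↥H) from Subtype.ext h]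
        at hmem
      exact absurd hmem hcon
  obtain ⟨c, d, hc, hd, hsc, hsd, ⟨q0, q1, q2⟩, ⟨c01, c02, c12, c34, c35, c45, c30, c31, c32⟩,
    d34, d35, d45, d30, d31, d32, e33, e34, e35⟩ := C.exists_hexads
  have tri : ∀ u v t : Fin 3 → F, u ≠ 0 → v ≠ 0 → t ≠ 0 → C.planePt u ≠ C.planePt v →
      C.planePt u ≠ C.planePt t → C.planePt v ≠ C.planePt t → ∀ j, C.planePt u * C.planePt v * C.planePt t = j →
      [C.planePt u, C.planePt v, C.planePt t].Nodup ∧ [C.planePt u, C.planePt v, C.planePt t].length = 3 ∧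
        (∀ x ∈ [C.planePt u, C.planePt v, C.planePt t], x ∈ D) ∧
        (∀ x ∈ [C.planePt u, C.planePt v, C.planePt t], ∀ y ∈ [C.planePt u, C.planePt v, C.planePt t], Commute x y) ∧
        [C.planePt u, C.planePt v, C.planePt t].prod = j := by
    intro u v t hu hv ht n1 n2 n3 j hj
    refine ⟨by simp [n1, n2, n3], rfl, ?_, ?_, by simp [← hj, mul_assoc]⟩
    · simp [(C.planePt_mem hu).1, (C.planePt_mem hv).1, (C.planePt_mem ht).1]
    · simp [C.planePt_comm hu hv, C.planePt_comm hu ht, C.planePt_comm hv ht, C.planePt_comm hv hu,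
        C.planePt_comm ht hu, C.planePt_comm ht hv]
  set j := C.planePt (c 0) * C.planePt (c 1) * C.planePt (c 2)
  have hflip : ∀ {x y z : G}, x ∈ D → y ∈ D → z ∈ D → Commute x y → Commute x z → Commute y z →
      (x * y * z)⁻¹ = x * y * z := by
    intro x y z hx hy hz cxy cxz cyz
    rw [mul_inv_rev, mul_inv_rev, inv_eq S.hD.1 hx, inv_eq S.hD.1 hy, inv_eq S.hD.1 hz, ← cxy.eq,
      ← (cxz.mul_left cyz).eq]
  have T0 := tri (c 0) (c 1) (c 2) (hc 0) (hc 1) (hc 2) c01 c02 c12 j rfl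
  have T1 := tri (c 3) (c 4) (c 5) (hc 3) (hc 4) (hc 5) c34 c35 c45 j (by
      rw [eq_inv_of_mul_eq_one_right (hone c hc hsc), hflip (C.planePt_mem (hc 0)).1
        (C.planePt_mem (hc 1)).1 (C.planePt_mem (hc 2)).1 (C.planePt_comm (hc 0) (hc 1))
        (C.planePt_comm (hc 0) (hc 2)) (C.planePt_comm (hc 1) (hc 2))])
  have T2 := tri (d 3) (d 4) (d 5) (hd 3) (hd 4) (hd 5) d34 d35 d45 j (by
      rw [eq_inv_of_mul_eq_one_right (hone d hd hsd), hflip (C.planePt_mem (hd 0)).1
        (C.planePt_mem (hd 1)).1 (C.planePt_mem (hd 2)).1 (C.planePt_comm (hd 0) (hd 1))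
        (C.planePt_comm (hd 0) (hd 2)) (C.planePt_comm (hd 1) (hd 2)), ← q0, ← q1, ← q2])
  obtain ⟨l₁, l₂, -, -, -, hall⟩ := two_factorisations S.hD S.hprim S.hZ S.lines j _ T0
  have ne01 : C.planePt (c 3) ∉ [C.planePt (c 0), C.planePt (c 1), C.planePt (c 2)] := by
    simp [c30, c31, c32]
  have ne02 : C.planePt (d 3) ∉ [C.planePt (c 0), C.planePt (c 1), C.planePt (c 2)] := by
    simp [d30, d31, d32]
  have ne12 : C.planePt (c 3) ∉ [C.planePt (d 3), C.planePt (d 4), C.planePt (d 5)] := by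
    simp [e33, e34, e35]
  rcases hall _ T0 with h0 | h0 <;> rcases hall _ T1 with h1 | h1 <;> rcases hall _ T2 with h2' | h2' <;>
    first
      | exact ne01 ((h0 _).mpr ((h1 _).mp (by simp)))
      | exact ne02 ((h0 _).mpr ((h2' _).mp (by simp)))
      | exact ne12 ((h2' _).mpr ((h1 _).mp (by simp)))

include S in
theorem simple_quot {a : G} (ha : a ∈ D) :
    IsSimpleGroup (↥(Subgroup.closure (perp D a)) ⧸ Subgroup.center ↥(Subgroup.closure (perp D a))) := by
  haveI := Simple.simple_psu F (by rw [(S.ctx a ha).hF]; norm_num)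
  exact ((QuotientGroup.quotientMulEquivOfEq ((S.ctx a ha).ker_eq).symm).trans
    (QuotientGroup.quotientKerEquivOfSurjective _ (S.ctx a ha).surj)).symm.isSimpleGroup

include S in
/-- the group generated by a perp set is perfect -/
theorem perfect {a : G} (ha : a ∈ D) : commutator ↥(Subgroup.closure (perp D a)) = ⊤ := by
  haveI := simple_quot S ha
  set H := Subgroup.closure (perp D a)
  set π := QuotientGroup.mk' (Subgroup.center ↥H)
  have hmap : (commutator ↥H).map π = ⊤ := by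
    have hn : ((commutator ↥H).map π).Normal :=
      Subgroup.Normal.map inferInstance π (QuotientGroup.mk'_surjective _)
    rcases hn.eq_bot_or_eq_top with h | h
    swap
    · exact h
    exfalso
    have hcomm : ∀ x y : ↥H ⧸ Subgroup.center ↥H, x * y = y * x := by
      intro x y
      obtain ⟨x, rfl⟩ := QuotientGroup.mk'_surjective _ x
      obtain ⟨y, rfl⟩ := QuotientGroup.mk'_surjective _ y
      have hm : π ⁅x, y⁆ ∈ (commutator ↥H).map π :=
        Subgroup.mem_map_of_mem _ (Subgroup.commutator_mem_commutator (Subgroup.mem_top x) (Subgroup.mem_top y))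
      rw [h, Subgroup.mem_bot, map_commutatorElement] at hm
      exact commutatorElement_eq_one_iff_mul_comm.mp hm
    letI : CommGroup (↥H ⧸ Subgroup.center ↥H) := { (inferInstance : Group _) with mul_comm := hcomm }
    have hp := IsSimpleGroup.prime_card (α := ↥H ⧸ Subgroup.center ↥H)
    rw [(S.ctx a ha).card_quot, (S.ctx a ha).card_psu] at hp
    norm_num at hp
  rw [eq_top_iff]
  intro x _
  obtain ⟨y, hy, hxy⟩ := ((Subgroup.eq_top_iff' _).mp hmap (π x))
  rw [show x = y * (y⁻¹ * x) by group]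
  refine mul_mem hy ?_
  have hz : y⁻¹ * x ∈ Subgroup.center ↥H := QuotientGroup.eq.mp hxy
  rw [center_eq S ha, Subgroup.mem_subgroupOf] at hz
  obtain ⟨n, hn⟩ := Subgroup.mem_zpowers_iff.mp hz
  rw [show y⁻¹ * x = (⟨a, S.self_mem_closure ha⟩ : ↥H) ^ n from Subtype.ext (by rw [Subgroup.coe_zpow]; exact hn.symm)]
  exact zpow_mem (self_mem_commutator S ha) n

include S in
theorem quasisimple {a : G} (ha : a ∈ D) : Cfsg.IsQuasisimple ↥(Subgroup.closure (perp D a)) :=
  ⟨⟨perfect S ha⟩, simple_quot S ha⟩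

include S in
theorem exists_perp_noncomm {a : G} (ha : a ∈ D) : ∃ b ∈ perp D a, ∃ c ∈ perp D a, ¬ Commute b c := by
  obtain ⟨b, hb⟩ : (perp D a).Nonempty :=
    Set.nonempty_of_ncard_ne_zero (by rw [(S.ctx a ha).ncard_perp]; norm_num)
  by_contra h
  push Not at h
  have hsub : perp D a ⊆ insert b (perp₂ D a b) := by
    intro y hy
    by_cases hyb : y = b
    · exact Or.inl hyb
    · exact Or.inr ⟨hy, hy.1, hyb, h b hb y hy⟩
  have hle := (Set.ncard_le_ncard hsub (Set.toFinite _)).trans (Set.ncard_insert_le _ _)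
  rw [(S.ctx a ha).ncard_perp, (S.ctx a ha).ncard_edge hb] at hle
  omega

include S in
/-- a non-trivial normal subgroup is the whole group -/
theorem simple : IsSimpleGroup G := by
  obtain ⟨a, ha, a', ha', hne⟩ := S.hprim.2.1
  haveI : Nontrivial G := ⟨⟨a, a', hne⟩⟩
  refine ⟨fun N hN => ?_⟩
  by_cases hbot : N = ⊥
  · exact Or.inl hbot
  right
  -- the orbit of `a` under `N`
  have htrans : ∀ b ∈ D, ∃ n ∈ N, n * a * n⁻¹ = b := by
    set O : Set G := {b | ∃ n ∈ N, n * a * n⁻¹ = b}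
    have hblock : ∀ g : G, (fun x => g * x * g⁻¹) '' O = O ∨ Disjoint ((fun x => g * x * g⁻¹) '' O) O := by
      intro g
      by_cases hd : Disjoint ((fun x => g * x * g⁻¹) '' O) O
      · exact Or.inr hd
      left
      obtain ⟨z, ⟨u, ⟨n, hn, rfl⟩, rfl⟩, m, hm, hmz⟩ := Set.not_disjoint_iff.mp hd
      have hga : g * a * g⁻¹ ∈ O := by
        refine ⟨(g * n * g⁻¹)⁻¹ * m, mul_mem (inv_mem (hN.conj_mem n hn g)) hm, ?_⟩
        calc (g * n * g⁻¹)⁻¹ * m * a * ((g * n * g⁻¹)⁻¹ * m)⁻¹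
            = (g * n * g⁻¹)⁻¹ * (m * a * m⁻¹) * (g * n * g⁻¹) := by group
          _ = g * a * g⁻¹ := by rw [hmz]; group
      obtain ⟨k, hk, hka⟩ := hga
      ext z
      constructor
      · rintro ⟨_, ⟨l, hl, rfl⟩, rfl⟩
        refine ⟨g * l * g⁻¹ * k, mul_mem (hN.conj_mem l hl g) hk, ?_⟩
        calc g * l * g⁻¹ * k * a * (g * l * g⁻¹ * k)⁻¹
            = g * l * g⁻¹ * (k * a * k⁻¹) * (g * l * g⁻¹)⁻¹ := by group
          _ = g * (l * a * l⁻¹) * g⁻¹ := by rw [hka]; group
      · rintro ⟨l, hl, rfl⟩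
        refine ⟨g⁻¹ * (l * k⁻¹) * g * a * (g⁻¹ * (l * k⁻¹) * g)⁻¹, ⟨_, ?_, rfl⟩, ?_⟩
        · simpa using hN.conj_mem _ (mul_mem hl (inv_mem hk)) g⁻¹
        · calc g * (g⁻¹ * (l * k⁻¹) * g * a * (g⁻¹ * (l * k⁻¹) * g)⁻¹) * g⁻¹
              = l * k⁻¹ * (g * a * g⁻¹) * (l * k⁻¹)⁻¹ := by group
            _ = l * a * l⁻¹ := by rw [← hka]; group
    rcases S.hprim.2.2 O (by rintro _ ⟨n, -, rfl⟩; exact S.hD.2.1 n a ha) hblock with h | h
    · exfalso
      apply hbot
      rw [eq_bot_iff, ← S.hZ]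
      intro n hn
      refine center_of_commute_all S.hD.2.2 fun e he => ?_
      obtain ⟨g, rfl⟩ := S.hprim.1 a ha e he
      have hfix : g⁻¹ * n * g * a * (g⁻¹ * n * g)⁻¹ = a :=
        h ⟨g⁻¹ * n * g, by simpa using hN.conj_mem n hn g⁻¹, rfl⟩ ⟨1, one_mem _, by group⟩
      show g * a * g⁻¹ * n = n * (g * a * g⁻¹)
      calc g * a * g⁻¹ * n = g * (g⁻¹ * n * g * a * (g⁻¹ * n * g)⁻¹) * g⁻¹ * n := by rw [hfix]
        _ = n * (g * a * g⁻¹) := by group
    · intro b hb
      rw [← h] at hb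
      exact hb
  set H := Subgroup.closure (perp D a)
  haveI : (N.subgroupOf H).Normal := hN.subgroupOf H
  set π := QuotientGroup.mk' (Subgroup.center ↥H)
  haveI := simple_quot S ha
  -- a product of two non-commuting members of the perp set lies in `N`
  obtain ⟨b, hb, c, hc, hbc⟩ := exists_perp_noncomm S ha
  have hbcN : b * c ∈ N := by
    obtain ⟨g, hg⟩ := S.hprim.1 a ha b hb.1
    obtain ⟨n, hn, hna⟩ := htrans (g⁻¹ * c * g) (by simpa using S.hD.2.1 g⁻¹ c hc.1)
    have hac : a * (g⁻¹ * c * g) ∈ N := by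
      rw [← hna, show a * (n * a * n⁻¹) = a * n * a⁻¹ * n⁻¹ * (n * (a * a) * n⁻¹) by group,
        mul_self S.hD.1 ha, mul_one, mul_inv_cancel, mul_one]
      exact mul_mem (hN.conj_mem n hn a) (inv_mem hn)
    have h := hN.conj_mem _ hac g
    rwa [show g * (a * (g⁻¹ * c * g)) * g⁻¹ = g * a * g⁻¹ * c by group, hg] at h
  -- so `N` contains the perfect group `H`
  have hHN : H ≤ N := by
    have hn : ((N.subgroupOf H).map π).Normal :=
      Subgroup.Normal.map inferInstance π (QuotientGroup.mk'_surjective _)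
    rcases hn.eq_bot_or_eq_top with h | h
    · exfalso
      have hm : π (⟨b, Subgroup.subset_closure hb⟩ * ⟨c, Subgroup.subset_closure hc⟩) ∈
          (N.subgroupOf H).map π := Subgroup.mem_map_of_mem _ hbcN
      rw [h, Subgroup.mem_bot, QuotientGroup.mk'_apply, QuotientGroup.eq_one_iff] at hm
      have h1 : b * (b * c) = b * c * b :=
        congrArg Subtype.val (Subgroup.mem_center_iff.mp hm ⟨b, Subgroup.subset_closure hb⟩)
      exact hbc (by
        show b * c = c * b
        calc b * c = b * c * b * b := by rw [mul_assoc _ b b, mul_self S.hD.1 hb.1, mul_one]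
          _ = b * (b * c) * b := by rw [h1]
          _ = c * b := by rw [← mul_assoc, mul_self S.hD.1 hb.1, one_mul])
    · have hle : commutator ↥H ≤ N.subgroupOf H := by
        rw [commutator_def, Subgroup.commutator_le]
        intro x _ y _
        obtain ⟨x', hx', hxe⟩ := (Subgroup.eq_top_iff' _).mp h (π x)
        obtain ⟨y', hy', hye⟩ := (Subgroup.eq_top_iff' _).mp h (π y)
        have : ∀ z : ↥H, x'⁻¹ * x ∈ Subgroup.center ↥H ∧ y'⁻¹ * y ∈ Subgroup.center ↥H := fun _ =>
          ⟨QuotientGroup.eq.mp hxe, QuotientGroup.eq.mp hye⟩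
        obtain ⟨cx, cy⟩ := this 1
        rw [show x = x' * (x'⁻¹ * x) by group, show y = y' * (y'⁻¹ * y) by group]
        generalize x'⁻¹ * x = u at cx
        generalize y'⁻¹ * y = v at cy
        have hu := Subgroup.mem_center_iff.mp cx
        have hv := Subgroup.mem_center_iff.mp cy
        have e : ⁅x' * u, y' * v⁆ = ⁅x', y'⁆ := by
          simp only [commutatorElement_def, mul_inv_rev]
          calc x' * u * (y' * v) * (u⁻¹ * x'⁻¹) * (v⁻¹ * y'⁻¹)
              = x' * (u * (y' * v)) * u⁻¹ * x'⁻¹ * v⁻¹ * y'⁻¹ := by group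
            _ = x' * y' * (v * x'⁻¹) * v⁻¹ * y'⁻¹ := by rw [← hu (y' * v)]; group
            _ = x' * y' * x'⁻¹ * y'⁻¹ := by rw [← hv x'⁻¹]; group
        rw [e, commutatorElement_def]
        exact mul_mem (mul_mem (mul_mem hx' hy') (inv_mem hx')) (inv_mem hy')
      rw [perfect S ha, top_le_iff, Subgroup.subgroupOf_eq_top] at hle
      exact hle
  rw [eq_top_iff]
  intro g _
  obtain ⟨n, hn, hna⟩ := htrans _ (S.hD.2.1 g a ha)
  rw [show g = n * (n⁻¹ * g) by group]
  refine mul_mem hn (hHN ?_)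
  show n⁻¹ * g ∈ Subgroup.closure (perp D a)
  rw [centralizer_eq S ha, Subgroup.mem_centralizer_singleton_iff]
  calc n⁻¹ * g * a = n⁻¹ * (g * a * g⁻¹) * g := by group
    _ = a * (n⁻¹ * g) := by rw [← hna]; group

end Cfsg.Agent.Lib.FischerMTypes.QuasiM22
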