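import Mathlib
import Cfsg.Agent.Lib.FischerMTypes.QuasiM22

/-!
Type M(22): a product of four distinct pairwise commuting transpositions is a product of at most
three, commuting with everything that commutes with the four.
-/

set_option autoImplicit false
set_option linter.style.haveILetI false
set_option linter.unusedSectionVars false

namespace Cfsg.Agent.Lib.FischerMTypes.PointModel

open Cfsg.Agent.Lib.FischerMTypes.Basic Cfsg.Agent.Lib.FischerMTypes.Primitive
  Cfsg.Agent.Lib.FischerMTypes.Levels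
open Cfsg.Agent.Lib.Unitary
open Cfsg.Agent.Lib.UnitaryFour.Transvection

variable {G : Type*} [Group G] [Finite G] {D : Set G}
variable {F : Type} [Field F] [Fintype F]

local notation "h⟪" u ", " v "⟫" => Cfsg.hermForm 6 F 2 u v

/-- the vector with coordinates `c` in a plane basis -/
def combo (e : Fin 3 → Fin 6 → F) (c : Fin 3 → F) : Fin 6 → F := c 0 • e 0 + c 1 • e 1 + c 2 • e 2

theorem combo_herm (hF : Fintype.card F = 2 ^ 2) {e : Fin 3 → Fin 6 → F}
    (he : ∀ i j, h⟪e i, e j⟫ = 0) (c d : Fin 3 → F) : h⟪combo e c, combo e d⟫ = 0 := by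
  simp [combo, herm_add_left, herm_add_right _ _ _ hF, herm_smul_left, herm_smul_right, he]

theorem combo_injective {e : Fin 3 → Fin 6 → F} (hli : LinearIndependent F e) :
    Function.Injective (combo e) := by
  intro c d h
  refine funext fun i => ?_
  have := Fintype.linearIndependent_iff.mp hli (fun i => c i - d i) (by
    rw [Fin.sum_univ_three]
    simp only [sub_smul]
    rw [combo, combo, ← sub_eq_zero] at h
    rw [← h]; abel) i
  exact sub_eq_zero.mp this

theorem combo_smul (e : Fin 3 → Fin 6 → F) (k : F) (c : Fin 3 → F) : combo e (k • c) = k • combo e c := by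
  simp [combo, smul_smul, smul_add]

variable {a : G} (C : Ctx D a F)

namespace Ctx

/-- six points of a plane whose rank-one forms cancel multiply to a central element -/
theorem hexad_central_gen {e : Fin 3 → Fin 6 → F} (he : ∀ i j, h⟪e i, e j⟫ = 0)
    (hli : LinearIndependent F e) (c : Fin 6 → Fin 3 → F) (hc : ∀ i, c i ≠ 0)
    (hsum : ∀ j k, ∑ i, c i j * c i k ^ 2 = 0) {y : G} (hy : y ∈ perp D a) :
    Commute y (C.pt (combo e (c 0)) * C.pt (combo e (c 1)) * C.pt (combo e (c 2)) *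
      (C.pt (combo e (c 3)) * C.pt (combo e (c 4)) * C.pt (combo e (c 5)))) := by
  have hne : ∀ i, combo e (c i) ≠ 0 := fun i h => hc i (combo_injective hli (h.trans (by simp [combo])))
  set t : Fin 6 → Cfsg.SU 6 F 2 := fun i => tv C.hF (combo e (c i)) (combo_herm C.hF he _ _)
  have ht : t 0 * t 1 * t 2 * (t 3 * t 4 * t 5) = 1 := by
    refine ext' fun v => ?_
    simp only [t, act_mul, act_tv, act_one, herm_add_left, herm_smul_left, combo_herm C.hF he, mul_zero,
      add_zero]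
    have e' : ∀ d : Fin 3 → F, h⟪v, combo e d⟫ =
        h⟪v, e 0⟫ * d 0 ^ 2 + h⟪v, e 1⟫ * d 1 ^ 2 + h⟪v, e 2⟫ * d 2 ^ 2 := fun d => by
      simp only [combo, herm_add_right _ _ _ C.hF, herm_smul_right]; ring
    have h00 := hsum 0 0
    have h01 := hsum 0 1
    have h02 := hsum 0 2
    have h10 := hsum 1 0
    have h11 := hsum 1 1
    have h12 := hsum 1 2
    have h20 := hsum 2 0
    have h21 := hsum 2 1
    have h22 := hsum 2 2
    simp only [Fin.sum_univ_six] at h00 h01 h02 h10 h11 h12 h20 h21 h22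
    simp only [e']
    generalize h⟪v, e 0⟫ = A₀
    generalize h⟪v, e 1⟫ = A₁
    generalize h⟪v, e 2⟫ = A₂
    ext l
    simp only [combo, Pi.add_apply, Pi.smul_apply, smul_eq_mul]
    linear_combination e 0 l * (A₀ * h00 + A₁ * h01 + A₂ * h02) +
      e 1 l * (A₀ * h10 + A₁ * h11 + A₂ * h12) + e 2 l * (A₀ * h20 + A₁ * h21 + A₂ * h22)
  let p : Fin 6 → ↥(Subgroup.closure (perp D a)) := fun i =>
    ⟨C.pt (combo e (c i)), Subgroup.subset_closure (C.pt_mem (combo_herm C.hF he _ _) (hne i))⟩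
  have hp : ∀ i, QuotientGroup.mk (p i) = C.φ (t i) := fun i =>
    C.pt_im (combo_herm C.hF he _ _) (hne i)
  have hz : p 0 * p 1 * p 2 * (p 3 * p 4 * p 5) ∈
      Subgroup.center ↥(Subgroup.closure (perp D a)) := by
    rw [← QuotientGroup.eq_one_iff]
    simp only [QuotientGroup.mk_mul, hp]
    rw [← map_mul, ← map_mul, ← map_mul, ← map_mul, ← map_mul, ht, map_one]
  exact congrArg Subtype.val (Subgroup.mem_center_iff.mp hz ⟨y, Subgroup.subset_closure hy⟩)

include C in
/-- distinct plane points stay distinct in any plane -/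
theorem combo_pt_ne {e : Fin 3 → Fin 6 → F} (he : ∀ i j, h⟪e i, e j⟫ = 0) (hli : LinearIndependent F e)
    {c d : Fin 3 → F} (hc : c ≠ 0) (hd : d ≠ 0) (h : C.planePt c ≠ C.planePt d) :
    C.pt (combo e c) ≠ C.pt (combo e d) := by
  intro h'
  have hz : ∀ {x : Fin 3 → F}, x ≠ 0 → combo e x ≠ 0 := fun hx h0 =>
    hx (combo_injective hli (h0.trans (by simp [combo])))
  obtain ⟨k, hk, hkc⟩ := (C.pt_eq (combo_herm C.hF he c c) (hz hc) (combo_herm C.hF he d d) (hz hd)).mp h'
  rw [← combo_smul] at hkc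
  exact h ((C.planePt_eq hc hd).mpr ⟨k, hk, combo_injective hli hkc⟩)

include C in
/-- frame of the standard hexads -/
theorem exists_hexads' : ∃ c d : Fin 6 → Fin 3 → F, (∀ i, c i ≠ 0) ∧ (∀ i, d i ≠ 0) ∧
    (∀ j k, ∑ i, c i j * c i k ^ 2 = 0) ∧ (∀ j k, ∑ i, d i j * d i k ^ 2 = 0) ∧
    (∀ e : Fin 3 → Fin 6 → F, combo e (c 0) = e 0 ∧ combo e (c 1) = e 1 ∧ combo e (c 2) = e 2 ∧
      combo e (d 0) = e 0 ∧ combo e (d 1) = e 1 ∧ combo e (d 2) = e 2) ∧
    (∀ i j : Fin 6, 3 ≤ i → i < j → C.planePt (c i) ≠ C.planePt (c j) ∧ C.planePt (d i) ≠ C.planePt (d j)) ∧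
    (∀ i : Fin 3, C.planePt (c 3) ≠ C.planePt (c i.castSucc.castSucc.castSucc) ∧
      C.planePt (d 3) ≠ C.planePt (c i.castSucc.castSucc.castSucc)) ∧
    C.planePt (c 3) ≠ C.planePt (d 3) ∧ C.planePt (c 3) ≠ C.planePt (d 4) ∧
      C.planePt (c 3) ≠ C.planePt (d 5) := by
  obtain ⟨w, hw0, hw1, hw⟩ := exists_omega C.hF
  have h2 := two_eq_zero C.hF
  have hw3 : w ^ 3 = 1 := cube_eq_one C.hF hw0
  have hw2 : w ^ 2 ≠ 1 := fun h => hw1 (by linear_combination hw3 - w * h)
  have hw12 : w ^ 2 ≠ w := fun h => hw1 (mul_left_cancel₀ hw0 (by linear_combination h))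
  have hne : ∀ {u v : Fin 3 → F} (hu : u ≠ 0) (hv : v ≠ 0) (j l : Fin 3), u j * v l ≠ u l * v j →
      C.planePt u ≠ C.planePt v := by
    intro u v hu hv j l hjl he
    obtain ⟨k, -, rfl⟩ := (C.planePt_eq hu hv).mp he
    exact hjl (by simp only [Pi.smul_apply, smul_eq_mul]; ring)
  obtain ⟨c, hc0, hc1, hc2, hc3, hc4, hc5⟩ : ∃ c : Fin 6 → Fin 3 → F, c 0 = ![1, 0, 0] ∧ c 1 = ![0, 1, 0] ∧
      c 2 = ![0, 0, 1] ∧ c 3 = ![1, 1, 1] ∧ c 4 = ![1, w, w ^ 2] ∧ c 5 = ![1, w ^ 2, w] :=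
    ⟨![![1, 0, 0], ![0, 1, 0], ![0, 0, 1], ![1, 1, 1], ![1, w, w ^ 2], ![1, w ^ 2, w]],
      by simp, by simp, by simp, by simp, by simp, by simp⟩
  obtain ⟨d, hd0, hd1, hd2, hd3, hd4, hd5⟩ : ∃ d : Fin 6 → Fin 3 → F, d 0 = ![1, 0, 0] ∧ d 1 = ![0, 1, 0] ∧
      d 2 = ![0, 0, 1] ∧ d 3 = ![1, 1, w] ∧ d 4 = ![1, w, 1] ∧ d 5 = ![1, w ^ 2, w ^ 2] :=
    ⟨![![1, 0, 0], ![0, 1, 0], ![0, 0, 1], ![1, 1, w], ![1, w, 1], ![1, w ^ 2, w ^ 2]],
      by simp, by simp, by simp, by simp, by simp, by simp⟩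
  have hc : ∀ i, c i ≠ 0 := by
    intro i h
    fin_cases i <;> simp [hc0, hc1, hc2, hc3, hc4, hc5, funext_iff, Fin.forall_fin_succ] at h
  have hd : ∀ i, d i ≠ 0 := by
    intro i h
    fin_cases i <;> simp [hd0, hd1, hd2, hd3, hd4, hd5, funext_iff, Fin.forall_fin_succ] at h
  have hsc : ∀ j k, ∑ i, c i j * c i k ^ 2 = 0 := by
    intro j k
    fin_cases j <;> fin_cases k <;>
      simp only [hc0, hc1, hc2, hc3, hc4, hc5, Fin.sum_univ_six, Matrix.cons_val, Fin.mk_zero, Fin.mk_one,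
        Fin.reduceFinMk]
    all_goals first
      | linear_combination 2 * h2
      | linear_combination hw + w * hw3
      | linear_combination hw
      | linear_combination hw + (w ^ 2 + w) * hw3
      | linear_combination hw + (w ^ 3 + 1) * hw3
      | linear_combination 2 * h2 + (w ^ 3 + 2) * hw3
  have hsd : ∀ j k, ∑ i, d i j * d i k ^ 2 = 0 := by
    intro j k
    fin_cases j <;> fin_cases k <;>
      simp only [hd0, hd1, hd2, hd3, hd4, hd5, Fin.sum_univ_six, Matrix.cons_val, Fin.mk_zero, Fin.mk_one,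
        Fin.reduceFinMk]
    all_goals first
      | linear_combination 2 * h2
      | linear_combination hw + w * hw3
      | linear_combination hw
      | linear_combination hw + (w ^ 2 + w) * hw3
      | linear_combination hw + (w ^ 3 + 1) * hw3
      | linear_combination 2 * h2 + (w ^ 3 + 2) * hw3
  refine ⟨c, d, hc, hd, hsc, hsd, fun e => ?_, fun i j hi hij => ?_, fun i => ?_, ?_, ?_, ?_⟩
  · simp [combo, hc0, hc1, hc2, hd0, hd1, hd2]
  · have hij' : (i = 3 ∧ j = 4) ∨ (i = 3 ∧ j = 5) ∨ (i = 4 ∧ j = 5) := by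
      revert hi hij; revert i j; decide
    rcases hij' with ⟨rfl, rfl⟩ | ⟨rfl, rfl⟩ | ⟨rfl, rfl⟩
    · exact ⟨hne (hc _) (hc _) 0 1 (by simp [hc3, hc4, hw1]), hne (hd _) (hd _) 0 1 (by simp [hd3, hd4, hw1])⟩
    · exact ⟨hne (hc _) (hc _) 0 1 (by simp [hc3, hc5, hw2]), hne (hd _) (hd _) 0 1 (by simp [hd3, hd5, hw2])⟩
    · exact ⟨hne (hc _) (hc _) 0 1 (by simp [hc4, hc5, hw12]), hne (hd _) (hd _) 0 1 (by simp [hd4, hd5, hw12])⟩
  · fin_cases i
    · exact ⟨hne (hc _) (hc _) 0 1 (by simp [hc0, hc3]), hne (hd _) (hc _) 0 1 (by simp [hc0, hd3])⟩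
    · exact ⟨hne (hc _) (hc _) 0 1 (by simp [hc1, hc3]), hne (hd _) (hc _) 0 1 (by simp [hc1, hd3])⟩
    · exact ⟨hne (hc _) (hc _) 0 2 (by simp [hc2, hc3]), hne (hd _) (hc _) 0 2 (by simp [hc2, hd3])⟩
  · exact hne (hc _) (hd _) 0 2 (by simp [hc3, hd3, hw1, Ne.symm hw1])
  · exact hne (hc _) (hd _) 0 1 (by simp [hc3, hd4, hw1, Ne.symm hw1])
  · exact hne (hc _) (hd _) 0 1 (by simp [hc3, hd5, hw2, Ne.symm hw2])

end Ctx

end Cfsg.Agent.Lib.FischerMTypes.PointModel

namespace Cfsg.Agent.Lib.FischerMTypes.Shorten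

open Cfsg.Agent.Lib.FischerMTypes.Basic Cfsg.Agent.Lib.FischerMTypes.Primitive
  Cfsg.Agent.Lib.FischerMTypes.Levels Cfsg.Agent.Lib.FischerMTypes.PointModel
  Cfsg.Agent.Lib.FischerMTypes.TraceCounts Cfsg.Agent.Lib.FischerMTypes.Lines
  Cfsg.Agent.Lib.FischerMTypes.SixSets
  Cfsg.Agent.Lib.FischerMTypes.StabilizerM22
open Cfsg.Agent.Lib.Unitary

variable {G : Type*} [Group G] [Finite G] {D : Set G}
variable {F : Type} [Field F] [Fintype F]
variable (S : Sys D F)

local notation "h⟪" u ", " v "⟫" => Cfsg.hermForm 6 F 2 u v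

/-- a list of three distinct pairwise commuting transpositions with product `j` -/
abbrev IsTriple (D : Set G) (j : G) (l : List G) : Prop :=
  l.Nodup ∧ l.length = 3 ∧ (∀ a ∈ l, a ∈ D) ∧ (∀ a ∈ l, ∀ b ∈ l, Commute a b) ∧ l.prod = j

include S in
/-- four distinct pairwise commuting transpositions shorten -/
theorem shorten {a b c d : G} (ha : a ∈ D) (hb : b ∈ perp D a) (hc : c ∈ perp D a) (hd : d ∈ perp D a)
    (hbc : b ≠ c) (hbd : b ≠ d) (hcd : c ≠ d) (cbc : Commute b c) (cbd : Commute b d) (ccd : Commute c d) :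
    ∃ l : List G, l.length ≤ 3 ∧ (∀ x ∈ l, x ∈ D) ∧ (∀ x ∈ l, ∀ y ∈ l, Commute x y) ∧
      (∀ x ∈ l, ∀ y ∈ D, Commute y a → Commute y b → Commute y c → Commute y d → Commute y x) ∧
      l.prod = a * (b * c * d) := by
  set C := S.ctx a ha with hC
  obtain ⟨u, hu, hu0, rfl⟩ := C.exists_pt hb
  obtain ⟨v, hv, hv0, rfl⟩ := C.exists_pt hc
  obtain ⟨w, hw, hw0, rfl⟩ := C.exists_pt hd
  have huv : h⟪u, v⟫ = 0 := (C.pt_comm hu hu0 hv hv0).mp cbc
  have huw : h⟪u, w⟫ = 0 := (C.pt_comm hu hu0 hw hw0).mp cbd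
  have hvw : h⟪v, w⟫ = 0 := (C.pt_comm hv hv0 hw hw0).mp ccd
  by_cases hdep : w ∈ Submodule.span F ({u, v} : Set (Fin 6 → F))
  · -- collinear: the other two points of the line
    obtain ⟨α, β, rfl⟩ := Submodule.mem_span_pair.mp hdep
    have hc2 : C.pt v ∈ perp₂ D a (C.pt u) := ⟨hc, hc.1, Ne.symm hbc, cbc⟩
    have hβ : β ≠ 0 := by
      intro h
      subst h
      rw [zero_smul, add_zero] at hw0 hbd
      exact hbd (C.pt_smul hu hu0 (fun h => hw0 (by simp [h]))).symm
    have hdT : C.pt (α • u + β • v) ∈ traceClass D a (C.pt u) (C.pt v) := by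
      refine ⟨⟨hd, hd.1, Ne.symm hbd, cbd⟩, fun x hx => ?_⟩
      obtain ⟨z, hz, hz0, rfl⟩ := C.exists_pt hx.1
      have hzu : h⟪z, u⟫ = 0 := herm_eq_zero_symm C.hF ((C.pt_comm hu hu0 hz hz0).mp hx.2.2.2)
      rw [C.pt_comm hz hz0 hv hv0, C.pt_comm hz hz0 hw hw0, herm_add_right _ _ _ C.hF, herm_smul_right,
        herm_smul_right, hzu, mul_zero, zero_add, mul_eq_zero]
      exact ⟨Or.inr, fun h => h.resolve_left (pow_ne_zero 2 hβ)⟩
    obtain ⟨p, q, r, h5⟩ := (S.lines a ha).five _ hb _ hc hbc cbc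
    obtain ⟨-, m1, m2, m3, hnd⟩ := five_trace S.hD h5
    have hone : a * (C.pt u * C.pt v * (p * q * r)) = 1 :=
      IsT.eq_one S.hD S.hprim S.hZ S.lines ha ⟨_, _, _, _, _, h5, rfl⟩
    have hmem := trace_unique (S.lines a ha) hb hc2 m1 m2 m3 hnd _ hdT
    have hcommT : ∀ x ∈ [p, q, r], x ∈ D ∧
        ∀ y ∈ D, Commute y a → Commute y (C.pt u) → Commute y (C.pt v) → Commute y x := by
      intro x hx
      have hxT : x ∈ traceClass D a (C.pt u) (C.pt v) := by
        simp only [List.mem_cons, List.not_mem_nil, or_false] at hx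
        rcases hx with rfl | rfl | rfl <;> assumption
      refine ⟨hxT.1.1.1, fun y hy hya hyb hyc => ?_⟩
      by_cases h1 : y = a
      · subst h1; exact hxT.1.1.2.2
      by_cases h2 : y = C.pt u
      · subst h2; exact hxT.1.2.2.2
      exact (hxT.2 y ⟨⟨hy, h1, hya.symm⟩, hy, h2, hyb.symm⟩).mp hyc
    have hcm : ∀ x ∈ [p, q, r], ∀ y ∈ [p, q, r], Commute x y := fun x hx y hy =>
      h5.comm x (List.mem_cons_of_mem _ (List.mem_cons_of_mem _ hx)) y
        (List.mem_cons_of_mem _ (List.mem_cons_of_mem _ hy))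
    generalize C.pt (α • u + β • v) = d' at *
    have hpick : ∀ (x y : G), x ∈ [p, q, r] → y ∈ [p, q, r] → p * q * r = d' * (x * y) →
        ∃ l : List G, l.length ≤ 3 ∧ (∀ z ∈ l, z ∈ D) ∧ (∀ z ∈ l, ∀ t ∈ l, Commute z t) ∧
          (∀ z ∈ l, ∀ t ∈ D, Commute t a → Commute t (C.pt u) → Commute t (C.pt v) → Commute t d' → Commute t z) ∧
          l.prod = a * (C.pt u * C.pt v * d') := by
      intro x y hx hy he
      refine ⟨[x, y], by simp, ?_, ?_, ?_, ?_⟩
      · simp [(hcommT x hx).1, (hcommT y hy).1]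
      · simp [hcm x hx y hy, (hcm x hx y hy).symm]
      · simp only [List.mem_cons, List.not_mem_nil, or_false]
        rintro z (rfl | rfl) t ht t1 t2 t3 -
        · exact (hcommT _ hx).2 t ht t1 t2 t3
        · exact (hcommT _ hy).2 t ht t1 t2 t3
      · have hxy : (x * y)⁻¹ = x * y := by
          rw [mul_inv_rev, inv_eq S.hD.1 (hcommT x hx).1, inv_eq S.hD.1 (hcommT y hy).1, (hcm x hx y hy).eq]
        rw [he] at hone
        simp only [List.prod_cons, List.prod_nil, mul_one]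
        rw [← hxy]
        refine inv_eq_of_mul_eq_one_left ?_
        calc a * (C.pt u * C.pt v * d') * (x * y) = a * (C.pt u * C.pt v * (d' * (x * y))) := by group
          _ = 1 := hone
    simp only [List.mem_cons, List.not_mem_nil, or_false] at hmem
    rcases hmem with h | rfl | rfl | rfl
    · exact absurd h.symm hcd
    · exact hpick q r (by simp) (by simp) (by group)
    · refine hpick p r (by simp) (by simp) ?_
      rw [(hcm p (by simp) d' (by simp)).eq, mul_assoc]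
    · refine hpick p q (by simp) (by simp) ?_
      exact ((hcm d' (by simp) p (by simp)).mul_right (hcm d' (by simp) q (by simp))).eq.symm
  -- a triangle
  set e : Fin 3 → Fin 6 → F := ![u, v, w] with he_def
  have hli : LinearIndependent F e := by
    have hli2 : LinearIndependent F ![u, v] := C.li_pair hu hu0 hv hv0 hbc
    rw [Fintype.linearIndependent_iff]
    intro k hk
    rw [Fin.sum_univ_three] at hk
    simp only [he_def, Matrix.cons_val] at hk
    have hk2 : k 2 = 0 := by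
      by_contra hne
      refine hdep (Submodule.mem_span_pair.mpr ⟨-(k 2)⁻¹ * k 0, -(k 2)⁻¹ * k 1, ?_⟩)
      have := congrArg (fun t => (k 2)⁻¹ • t) hk
      simp only [smul_add, smul_smul, inv_mul_cancel₀ hne, one_smul, smul_zero] at this
      rw [eq_neg_of_add_eq_zero_right this, neg_mul, neg_mul, neg_smul, neg_smul]
      abel
    rw [hk2, zero_smul, add_zero] at hk
    obtain ⟨k0, k1⟩ := LinearIndependent.pair_iff.mp hli2 _ _ hk
    intro j; fin_cases j
    · exact k0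
    · exact k1
    · exact hk2
  have he : ∀ i j, h⟪e i, e j⟫ = 0 := by
    intro i j
    fin_cases i <;> fin_cases j <;>
      simp [he_def, hu, hv, hw, huv, huw, hvw, herm_eq_zero_symm C.hF huv, herm_eq_zero_symm C.hF huw,
        herm_eq_zero_symm C.hF hvw]
  obtain ⟨f, g, hf, hg, hsf, hsg, hbase, hdist, h3, hfg3, hfg4, hfg5⟩ := C.exists_hexads'
  obtain ⟨f0, f1, f2, g0, g1, g2⟩ := hbase e
  -- the two candidate triples
  have hmk : ∀ (f : Fin 6 → Fin 3 → F), (∀ i, f i ≠ 0) → (∀ j k, ∑ i, f i j * f i k ^ 2 = 0) →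
      combo e (f 0) = e 0 → combo e (f 1) = e 1 → combo e (f 2) = e 2 →
      (∀ i j : Fin 6, 3 ≤ i → i < j → C.planePt (f i) ≠ C.planePt (f j)) →
      ∃ x y z : G, x = C.pt (combo e (f 3)) ∧ y = C.pt (combo e (f 4)) ∧ z = C.pt (combo e (f 5)) ∧
        (∀ t ∈ [x, y, z], t ∈ D ∧ ∀ s ∈ D, Commute s a → Commute s (C.pt u) → Commute s (C.pt v) →
          Commute s (C.pt w) → Commute s t) ∧
        (∀ t ∈ [x, y, z], ∀ s ∈ [x, y, z], Commute t s) ∧ [x, y, z].Nodup ∧
        (x * y * z = C.pt u * C.pt v * C.pt w ∨ x * y * z = a * (C.pt u * C.pt v * C.pt w)) := by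
    intro f hf hsum h0 h1 h2 hd'
    refine ⟨_, _, _, rfl, rfl, rfl, ?_, ?_, ?_, ?_⟩
    case refine_2 =>
      intro t ht s hs
      simp only [List.mem_cons, List.not_mem_nil, or_false] at ht hs
      have hz : ∀ i, combo e (f i) ≠ 0 := fun i h => hf i (combo_injective hli (h.trans (by simp [combo])))
      rcases ht with rfl | rfl | rfl <;> rcases hs with rfl | rfl | rfl <;>
        exact (C.pt_comm (combo_herm C.hF he _ _) (hz _) (combo_herm C.hF he _ _) (hz _)).mpr (combo_herm C.hF he _ _)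
    · intro t ht
      obtain ⟨i, rfl⟩ : ∃ i, t = C.pt (combo e (f i)) := by
        simp only [List.mem_cons, List.not_mem_nil, or_false] at ht
        rcases ht with rfl | rfl | rfl <;> exact ⟨_, rfl⟩
      have hz : combo e (f i) ≠ 0 := fun h => hf i (combo_injective hli (h.trans (by simp [combo])))
      have hmem := C.pt_mem (combo_herm C.hF he _ _) hz
      refine ⟨hmem.1, fun s hs sa sb sc sd => ?_⟩
      by_cases hsa : s = a
      · subst hsa; exact hmem.2.2
      obtain ⟨z, hz', hz0, rfl⟩ := C.exists_pt (show s ∈ perp D a from ⟨hs, hsa, sa.symm⟩)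
      rw [C.pt_comm hz' hz0 (combo_herm C.hF he _ _) hz]
      have k1 := (C.pt_comm hz' hz0 hu hu0).mp sb
      have k2 := (C.pt_comm hz' hz0 hv hv0).mp sc
      have k3 := (C.pt_comm hz' hz0 hw hw0).mp sd
      simp [combo, he_def, herm_add_right _ _ _ C.hF, herm_smul_right, k1, k2, k3]
    · simp only [List.nodup_cons, List.mem_cons, List.not_mem_nil, or_false, not_or, List.nodup_nil, and_true,
        not_false_eq_true]
      exact ⟨⟨C.combo_pt_ne he hli (hf _) (hf _) (hd' 3 4 (by decide) (by decide)),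
        C.combo_pt_ne he hli (hf _) (hf _) (hd' 3 5 (by decide) (by decide))⟩,
        C.combo_pt_ne he hli (hf _) (hf _) (hd' 4 5 (by decide) (by decide))⟩
    · set T := C.pt u * C.pt v * C.pt w with hT
      have hTe : C.pt (combo e (f 0)) * C.pt (combo e (f 1)) * C.pt (combo e (f 2)) = T := by
        rw [h0, h1, h2]; simp [he_def, hT]
      have hTinv : T⁻¹ = T := by
        rw [hT, mul_inv_rev, mul_inv_rev, inv_eq S.hD.1 hb.1, inv_eq S.hD.1 hc.1, inv_eq S.hD.1 hd.1, ← cbc.eq,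
          ← (cbd.mul_left ccd).eq]
      have hcen := fun y (hy : y ∈ perp D a) => C.hexad_central_gen he hli f hf hsum hy
      rw [hTe] at hcen
      have hz : ∀ i, combo e (f i) ≠ 0 := fun i h => hf i (combo_injective hli (h.trans (by simp [combo])))
      have hin : ∀ i, C.pt (combo e (f i)) ∈ Subgroup.closure (perp D a) := fun i =>
        Subgroup.subset_closure (C.pt_mem (combo_herm C.hF he _ _) (hz i))
      rcases center_perp S ha (mul_mem (hTe ▸ mul_mem (mul_mem (hin 0) (hin 1)) (hin 2))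
        (mul_mem (mul_mem (hin 3) (hin 4)) (hin 5))) hcen with h | h
      · left
        rw [← hTinv]
        exact eq_inv_of_mul_eq_one_right h
      · right
        have : C.pt (combo e (f 3)) * C.pt (combo e (f 4)) * C.pt (combo e (f 5)) = T⁻¹ * a := by
          exact eq_inv_mul_of_mul_eq h
        rw [this, hTinv]
        exact ((hb.2.2.mul_right hc.2.2).mul_right hd.2.2).eq.symm
  obtain ⟨x, y, z, ex, ey, ez, hX, cX, nX, pX⟩ := hmk f hf hsf f0 f1 f2 (fun i j hi hij => (hdist i j hi hij).1)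
  obtain ⟨x', y', z', ex', ey', ez', hX', cX', nX', pX'⟩ :=
    hmk g hg hsg g0 g1 g2 (fun i j hi hij => (hdist i j hi hij).2)
  rcases pX with pX | pX
  swap
  · refine ⟨[x, y, z], le_rfl, fun t ht => (hX t ht).1, cX, fun t ht => (hX t ht).2, ?_⟩
    simp [← mul_assoc, pX]
  rcases pX' with pX' | pX'
  swap
  · refine ⟨[x', y', z'], le_rfl, fun t ht => (hX' t ht).1, cX', fun t ht => (hX' t ht).2, ?_⟩
    simp [← mul_assoc, pX']
  -- both products cannot be trivial
  exfalso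
  set j := C.pt u * C.pt v * C.pt w
  have T0 : IsTriple D j [C.pt u, C.pt v, C.pt w] := by
    refine ⟨by simp [hbc, hbd, hcd], rfl, by simp [hb.1, hc.1, hd.1], ?_, by simp [j, mul_assoc]⟩
    simp [cbc, cbc.symm, cbd, cbd.symm, ccd, ccd.symm]
  have T1 : IsTriple D j [x, y, z] := ⟨nX, rfl, fun t ht => (hX t ht).1, cX, by simp [← pX, mul_assoc]⟩
  have T2 : IsTriple D j [x', y', z'] := ⟨nX', rfl, fun t ht => (hX' t ht).1, cX', by simp [← pX', mul_assoc]⟩
  obtain ⟨l₁, l₂, -, -, -, hall⟩ := two_factorisations S.hD S.hprim S.hZ S.lines j _ T0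
  have n01 : x ∉ [C.pt u, C.pt v, C.pt w] := by
    have a0 := C.combo_pt_ne he hli (hf _) (hf _) (h3 0).1
    have a1 := C.combo_pt_ne he hli (hf _) (hf _) (h3 1).1
    have a2 := C.combo_pt_ne he hli (hf _) (hf _) (h3 2).1
    simp only [Fin.reduceCastSucc, f0, f1, f2, ← ex] at a0 a1 a2
    simpa [he_def] using ⟨a0, a1, a2⟩
  have n02 : x' ∉ [C.pt u, C.pt v, C.pt w] := by
    have a0 := C.combo_pt_ne he hli (hg _) (hf _) (h3 0).2
    have a1 := C.combo_pt_ne he hli (hg _) (hf _) (h3 1).2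
    have a2 := C.combo_pt_ne he hli (hg _) (hf _) (h3 2).2
    simp only [Fin.reduceCastSucc, f0, f1, f2, ← ex'] at a0 a1 a2
    simpa [he_def] using ⟨a0, a1, a2⟩
  have n12 : x ∉ [x', y', z'] := by
    rw [ex, ex', ey', ez']
    simp [C.combo_pt_ne he hli (hf _) (hg _) hfg3, C.combo_pt_ne he hli (hf _) (hg _) hfg4,
      C.combo_pt_ne he hli (hf _) (hg _) hfg5]
  rcases hall _ T0 with h0 | h0 <;> rcases hall _ T1 with h1 | h1 <;> rcases hall _ T2 with h2 | h2 <;>
    first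
      | exact n01 ((h0 _).mpr ((h1 _).mp (by simp)))
      | exact n02 ((h0 _).mpr ((h2 _).mp (by simp)))
      | exact n12 ((h2 _).mpr ((h1 _).mp (by simp)))

end Cfsg.Agent.Lib.FischerMTypes.Shorten
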