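import Mathlib
import Cfsg.Agent.Lib.FischerMTypes.Shorten

/-!
Type M(22): every involution is a product of at most three commuting transpositions, and the number
of factors determines the class.
-/

set_option autoImplicit false
set_option linter.style.haveILetI false
set_option linter.unusedSectionVars false

namespace Cfsg.Agent.Lib.FischerMTypes.InvolutionsM22

open Cfsg.Agent.Lib.FischerMTypes.Basic Cfsg.Agent.Lib.FischerMTypes.Primitive
  Cfsg.Agent.Lib.FischerMTypes.Levels Cfsg.Agent.Lib.FischerMTypes.PointModel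
  Cfsg.Agent.Lib.FischerMTypes.TraceCounts Cfsg.Agent.Lib.FischerMTypes.TraceSize
  Cfsg.Agent.Lib.FischerMTypes.SixSets
  Cfsg.Agent.Lib.FischerMTypes.StabilizerM22 Cfsg.Agent.Lib.FischerMTypes.Shorten
open Cfsg.Agent.Lib.UnitaryFour.Transvection

variable {G : Type*} [Group G] [Finite G] {D : Set G}
variable {F : Type} [Field F] [Fintype F]

/-- conjugation as permutations of `D` -/
def conjPerm (hD : Cfsg.IsThreeTranspositionGroup D) : G →* Equiv.Perm D where
  toFun g :=
    { toFun := fun y => ⟨g * y.1 * g⁻¹, hD.2.1 g y.1 y.2⟩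
      invFun := fun y => ⟨g⁻¹ * y.1 * g, by simpa using hD.2.1 g⁻¹ y.1 y.2⟩
      left_inv := fun y => Subtype.ext (by group)
      right_inv := fun y => Subtype.ext (by group) }
  map_one' := Equiv.ext fun y => Subtype.ext (by simp)
  map_mul' g h := Equiv.ext fun y => Subtype.ext (by
    show g * h * y.1 * (g * h)⁻¹ = g * (h * y.1 * h⁻¹) * g⁻¹
    group)

theorem conjPerm_fix_iff (hD : Cfsg.IsThreeTranspositionGroup D) (g : G) (y : D) :
    conjPerm hD g y = y ↔ Commute g y.1 := by
  rw [Subtype.ext_iff]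
  show g * y.1 * g⁻¹ = y.1 ↔ _
  rw [mul_inv_eq_iff_eq_mul]
  rfl

variable (S : Sys D F)

include S in
theorem ncard_commuting {a : G} (ha : a ∈ D) : {y | y ∈ D ∧ Commute a y}.ncard = 694 := by
  have h : {y | y ∈ D ∧ Commute a y} = insert a (perp D a) := by
    ext y
    constructor
    · intro hy
      by_cases h : y = a
      · exact Or.inl h
      · exact Or.inr ⟨hy.1, h, hy.2⟩
    · rintro (rfl | hy)
      · exact ⟨ha, Commute.refl _⟩
      · exact ⟨hy.1, hy.2.2⟩
  rw [h, Set.ncard_insert_of_notMem (fun hh => hh.2.1 rfl), (S.ctx a ha).ncard_perp]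

include S in
/-- every transposition, hence every element, acts evenly on `D` -/
theorem sign_conjPerm [Fintype D] [DecidableEq D] (g : G) :
    Equiv.Perm.sign (conjPerm S.hD g) = 1 := by
  classical
  have hgen : ∀ d ∈ D, Equiv.Perm.sign (conjPerm S.hD d) = 1 := by
    intro d hd
    have hsq : conjPerm S.hD d ^ 2 = 1 := by rw [← map_pow, sq, mul_self S.hD.1 hd, map_one]
    rw [Equiv.Perm.sign_of_pow_two_eq_one hsq]
    have hc : Fintype.card D = 3510 := by rw [← Nat.card_eq_fintype_card, Nat.card_coe_set_eq, ncard_class S]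
    have hf : Fintype.card (Function.fixedPoints (conjPerm S.hD d)) = 694 := by
      rw [← Nat.card_eq_fintype_card, Nat.card_coe_set_eq, ← ncard_commuting S hd,
        ← Set.ncard_image_of_injective _ Subtype.val_injective]
      congr 1
      ext y
      constructor
      · rintro ⟨z, hz, rfl⟩
        exact ⟨z.2, (conjPerm_fix_iff S.hD d z).mp hz⟩
      · intro hy
        exact ⟨⟨y, hy.1⟩, (conjPerm_fix_iff S.hD d ⟨y, hy.1⟩).mpr hy.2, rfl⟩
    rw [hc, hf]
    norm_num
  induction (show g ∈ Subgroup.closure D from S.hD.2.2 ▸ Subgroup.mem_top g) using Subgroup.closure_induction with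
  | mem x hx => exact hgen x hx
  | one => simp
  | mul x y _ _ hx hy => rw [map_mul, map_mul, hx, hy, one_mul]
  | inv x _ hx => rw [map_inv, map_inv, hx, inv_one]

include S in
/-- every element of order at most two commutes with a transposition -/
theorem exists_commute {x : G} (hx : x * x = 1) : ∃ a ∈ D, Commute x a := by
  classical
  haveI : Fintype D := Fintype.ofFinite D
  by_contra hcon
  push Not at hcon
  have hsq : conjPerm S.hD x ^ 2 = 1 := by rw [← map_pow, sq, hx, map_one]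
  have h := sign_conjPerm S x
  rw [Equiv.Perm.sign_of_pow_two_eq_one hsq] at h
  have hc : Fintype.card D = 3510 := by rw [← Nat.card_eq_fintype_card, Nat.card_coe_set_eq, ncard_class S]
  have hf : Fintype.card (Function.fixedPoints (conjPerm S.hD x)) = 0 :=
    Fintype.card_eq_zero_iff.mpr ⟨fun y => hcon y.1.1 y.1.2 ((conjPerm_fix_iff S.hD x y.1).mp y.2)⟩
  rw [hc, hf, Nat.sub_zero, show 3510 / 2 = 2 * 877 + 1 by norm_num, pow_succ, pow_mul] at h
  simp at h

include S in
theorem exists_list {a : G} (ha : a ∈ D) :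
    ∀ l : List {w : Fin 6 → F // Cfsg.hermForm 6 F 2 w w = 0},
      (∀ u ∈ l, ∀ v ∈ l, Cfsg.hermForm 6 F 2 u.1 v.1 = 0) →
      ∃ (L : List G) (k : ↥(Subgroup.closure (perp D a))),
        (∀ y ∈ L, ∃ w ∈ l, w.1 ≠ 0 ∧ (S.ctx a ha).pt w.1 = y) ∧ L.prod = k ∧
        QuotientGroup.mk k = (S.ctx a ha).φ ((l.map fun w => tv (S.ctx a ha).hF w.1 w.2).prod)
  | [], _ => ⟨[], 1, by simp, by simp, by simp⟩
  | w :: l, h => by
    obtain ⟨L, k, hL, hp, hk⟩ := exists_list ha l fun u hu v hv =>
      h u (List.mem_cons_of_mem _ hu) v (List.mem_cons_of_mem _ hv)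
    by_cases hw : w.1 = 0
    · refine ⟨L, k, fun y hy => ?_, hp, ?_⟩
      · obtain ⟨u, hu, hu'⟩ := hL y hy
        exact ⟨u, List.mem_cons_of_mem _ hu, hu'⟩
      · rw [List.map_cons, List.prod_cons, tv_eq_of_eq (S.ctx a ha).hF hw w.2 (hw ▸ w.2),
          tv_zero (S.ctx a ha).hF, one_mul, hk]
    · refine ⟨(S.ctx a ha).pt w.1 :: L,
        ⟨(S.ctx a ha).pt w.1, Subgroup.subset_closure ((S.ctx a ha).pt_mem w.2 hw)⟩ * k, ?_, ?_, ?_⟩
      · intro y hy
        rcases List.mem_cons.mp hy with rfl | hy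
        · exact ⟨w, List.mem_cons_self, hw, rfl⟩
        · obtain ⟨u, hu, hu'⟩ := hL y hy
          exact ⟨u, List.mem_cons_of_mem _ hu, hu'⟩
      · rw [List.prod_cons, hp]; rfl
      · rw [List.map_cons, List.prod_cons, map_mul, ← hk, ← (S.ctx a ha).pt_im w.2 hw]
        rfl

include S in
/-- an element of order at most two is a product of pairwise commuting transpositions -/
theorem exists_commuting_list {x : G} (hx : x * x = 1) :
    ∃ L : List G, (∀ y ∈ L, y ∈ D) ∧ (∀ y ∈ L, ∀ z ∈ L, Commute y z) ∧ L.prod = x := by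
  obtain ⟨a, ha, hxa⟩ := exists_commute S hx
  have hxH : x ∈ Subgroup.closure (perp D a) := by
    rw [centralizer_eq S ha, Subgroup.mem_centralizer_singleton_iff]
    exact hxa.eq
  set C := S.ctx a ha
  obtain ⟨t, ht, htx⟩ := Cfsg.Agent.Lib.UnitaryFour.Classes.exists_sq_one_lift C.φ C.hF C.surj C.ker
    (QuotientGroup.mk ⟨x, hxH⟩) (by rw [← QuotientGroup.mk_mul, show (⟨x, hxH⟩ : ↥(Subgroup.closure (perp D a))) *
      ⟨x, hxH⟩ = 1 from Subtype.ext hx, QuotientGroup.mk_one])
  obtain ⟨l, -, horth, hl⟩ := exists_decomp C.hF t ht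
  obtain ⟨L, k, hL, hp, hk⟩ := exists_list S ha l horth
  have hLD : ∀ y ∈ L, y ∈ perp D a := fun y hy => by
    obtain ⟨w, -, hw, rfl⟩ := hL y hy
    exact C.pt_mem w.2 hw
  have hLc : ∀ y ∈ L, ∀ z ∈ L, Commute y z := fun y hy z hz => by
    obtain ⟨u, hu, hu0, rfl⟩ := hL y hy
    obtain ⟨v, hv, hv0, rfl⟩ := hL z hz
    exact (C.pt_comm u.2 hu0 v.2 hv0).mpr (horth u hu v hv)
  have he : QuotientGroup.mk k = (QuotientGroup.mk ⟨x, hxH⟩ :
      ↥(Subgroup.closure (perp D a)) ⧸ Subgroup.center ↥(Subgroup.closure (perp D a))) := by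
    rw [hk, ← htx, hl]
  have hz : k⁻¹ * ⟨x, hxH⟩ ∈ Subgroup.center ↥(Subgroup.closure (perp D a)) := QuotientGroup.eq.mp he
  have hzc := center_perp S ha (z := ((k⁻¹ * ⟨x, hxH⟩ : ↥(Subgroup.closure (perp D a))) : G))
    (k⁻¹ * ⟨x, hxH⟩ : ↥(Subgroup.closure (perp D a))).2
    (fun y hy => congrArg Subtype.val (Subgroup.mem_center_iff.mp hz ⟨y, Subgroup.subset_closure hy⟩))
  rw [Subgroup.coe_mul, Subgroup.coe_inv, ← hp, inv_mul_eq_iff_eq_mul, inv_mul_eq_iff_eq_mul, mul_one] at hzc
  rcases hzc with h | h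
  · exact ⟨L, fun y hy => (hLD y hy).1, hLc, h.symm⟩
  · refine ⟨L ++ [a], ?_, ?_, by simpa using h.symm⟩
    · intro y hy
      rcases List.mem_append.mp hy with hy | hy
      · exact (hLD y hy).1
      · rw [List.mem_singleton.mp hy]; exact ha
    · intro y hy z hz'
      simp only [List.mem_append, List.mem_singleton] at hy hz'
      rcases hy with hy | rfl <;> rcases hz' with hz' | rfl
      · exact hLc y hy z hz'
      · exact (hLD y hy).2.2.symm
      · exact (hLD z hz').2.2
      · exact Commute.refl _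

include S in
/-- a product of pairwise commuting transpositions needs at most three distinct factors -/
theorem exists_short {x : G} {L : List G} (hD' : ∀ y ∈ L, y ∈ D) (hc : ∀ y ∈ L, ∀ z ∈ L, Commute y z)
    (hp : L.prod = x) :
    ∃ l : List G, l.Nodup ∧ l.length ≤ 3 ∧ (∀ y ∈ l, y ∈ D) ∧ (∀ y ∈ l, ∀ z ∈ l, Commute y z) ∧ l.prod = x := by
  classical
  induction hn : L.length using Nat.strong_induction_on generalizing L with
  | _ n ih =>
  subst hn
  by_cases hnd : L.Nodup
  · by_cases hlen : L.length ≤ 3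
    · exact ⟨L, hnd, hlen, hD', hc, hp⟩
    obtain ⟨a, b, c, d, R, rfl⟩ : ∃ a b c d R, L = a :: b :: c :: d :: R := by
      match L, hlen with
      | a :: b :: c :: d :: R, _ => exact ⟨a, b, c, d, R, rfl⟩
      | [], h => simp at h
      | [_], h => simp at h
      | [_, _], h => simp at h
      | [_, _, _], h => simp at h
    have hnd' := hnd
    simp only [List.nodup_cons, List.mem_cons, not_or] at hnd'
    obtain ⟨⟨nab, nac, nad, -⟩, ⟨nbc, nbd, -⟩, ⟨ncd, -⟩, -⟩ := hnd'
    have cm : ∀ {u v : G}, u ∈ a :: b :: c :: d :: R → v ∈ a :: b :: c :: d :: R → Commute u v :=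
      fun hu hv => hc _ hu _ hv
    obtain ⟨l, hl3, hlD, hlc, hlR, hlp⟩ := shorten S (hD' a (by simp)) (b := b) (c := c) (d := d)
      ⟨hD' b (by simp), Ne.symm nab, cm (by simp) (by simp)⟩ ⟨hD' c (by simp), Ne.symm nac, cm (by simp) (by simp)⟩
      ⟨hD' d (by simp), Ne.symm nad, cm (by simp) (by simp)⟩ nbc nbd ncd (cm (by simp) (by simp))
      (cm (by simp) (by simp)) (cm (by simp) (by simp))
    refine ih (l ++ R).length (by simp only [List.length_append, List.length_cons]; omega) (L := l ++ R)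
      ?_ ?_ ?_ rfl
    · intro y hy
      rcases List.mem_append.mp hy with hy | hy
      · exact hlD y hy
      · exact hD' y (by simp [hy])
    · have hcross : ∀ y ∈ l, ∀ z ∈ R, Commute z y := fun y hy z hz =>
        hlR y hy z (hD' z (by simp [hz])) (cm (by simp [hz]) (by simp)) (cm (by simp [hz]) (by simp))
          (cm (by simp [hz]) (by simp)) (cm (by simp [hz]) (by simp))
      intro y hy z hz
      rcases List.mem_append.mp hy with hy | hy <;> rcases List.mem_append.mp hz with hz | hz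
      · exact hlc y hy z hz
      · exact (hcross y hy z hz).symm
      · exact hcross z hz y hy
      · exact cm (by simp [hy]) (by simp [hz])
    · rw [List.prod_append, hlp, ← hp]
      simp [mul_assoc]
  · obtain ⟨a, ha⟩ := List.exists_duplicate_iff_not_nodup.mpr hnd
    have h2 := List.duplicate_iff_two_le_count.mp ha
    have hm1 : a ∈ L := List.count_pos_iff.mp (by omega)
    have hm2 : a ∈ L.erase a := List.count_pos_iff.mp (by rw [List.count_erase_self]; omega)
    have hperm : List.Perm L (a :: a :: (L.erase a).erase a) :=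
      (List.perm_cons_erase hm1).trans (List.Perm.cons a (List.perm_cons_erase hm2))
    have hsub : ∀ y ∈ (L.erase a).erase a, y ∈ L := fun y hy =>
      hperm.mem_iff.mpr (List.mem_cons_of_mem _ (List.mem_cons_of_mem _ hy))
    refine ih ((L.erase a).erase a).length (by rw [hperm.length_eq]; simp) (L := (L.erase a).erase a)
      (fun y hy => hD' y (hsub y hy)) (fun y hy z hz => hc y (hsub y hy) z (hsub z hz)) ?_ rfl
    rw [← hp, hperm.prod_eq' (List.pairwise_iff_forall_sublist.mpr fun hs =>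
      hc _ (hs.subset (by simp)) _ (hs.subset (by simp))), List.prod_cons, List.prod_cons, ← mul_assoc,
      mul_self S.hD.1 (hD' a hm1), one_mul]

/-- `x` is a product of `m` distinct pairwise commuting transpositions -/
abbrev IsProd (D : Set G) (m : ℕ) (x : G) : Prop :=
  ∃ l : List G, l.Nodup ∧ l.length = m ∧ (∀ a ∈ l, a ∈ D) ∧ (∀ a ∈ l, ∀ b ∈ l, Commute a b) ∧ l.prod = x

include S in
/-- the number of transpositions commuting with a product of `m` of them -/
theorem ncard_commuting_prod {m : ℕ} {x : G} (hm : 1 ≤ m) (hm' : m ≤ 3) (hx : IsProd D m x) :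
    {y | y ∈ D ∧ Commute x y}.ncard = if m = 1 then 694 else if m = 2 then 182 else 54 := by
  obtain ⟨l, hn, hlen, hd, hc, rfl⟩ := hx
  interval_cases m
  · obtain ⟨a, rfl⟩ := List.length_eq_one_iff.mp hlen
    simpa using ncard_commuting S (hd a (by simp))
  · obtain ⟨a, b, rfl⟩ := List.length_eq_two.mp hlen
    obtain ⟨ha, hb⟩ : a ∈ D ∧ b ∈ D := ⟨hd a (by simp), hd b (by simp)⟩
    have cab : Commute a b := hc a (by simp) b (by simp)
    have nab : a ≠ b := by simpa using hn
    have hbp : b ∈ perp D a := ⟨hb, Ne.symm nab, cab⟩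
    have hset : {y | y ∈ D ∧ Commute [a, b].prod y} = insert a (insert b (perp₂ D a b)) := by
      ext y
      constructor
      · rintro ⟨hy, hxy⟩
        simp only [List.prod_cons, List.prod_nil, mul_one] at hxy
        obtain ⟨c1, c2⟩ := comm_of_comm_mul S.hD.1 ha hb hy cab nab hxy.symm
        by_cases h1 : y = a
        · exact Or.inl h1
        by_cases h2 : y = b
        · exact Or.inr (Or.inl h2)
        exact Or.inr (Or.inr ⟨⟨hy, h1, c1.symm⟩, hy, h2, c2.symm⟩)
      · rintro (rfl | rfl | hy) <;> simp only [Set.mem_ofPred_eq, List.prod_cons, List.prod_nil, mul_one]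
        · exact ⟨ha, (Commute.refl _).mul_left cab.symm⟩
        · exact ⟨hb, cab.mul_left (Commute.refl _)⟩
        · exact ⟨hy.1.1, hy.1.2.2.mul_left hy.2.2.2⟩
    rw [hset, Set.ncard_insert_of_notMem, Set.ncard_insert_of_notMem, (S.ctx a ha).ncard_edge hbp]
    · norm_num
    · exact fun h => h.2.2.1 rfl
    · rintro (h | h)
      · exact nab h
      · exact h.1.2.1 rfl
  · obtain ⟨a, b, c, rfl⟩ := List.length_eq_three.mp hlen
    obtain ⟨ha, hb, hc'⟩ : a ∈ D ∧ b ∈ D ∧ c ∈ D := ⟨hd a (by simp), hd b (by simp), hd c (by simp)⟩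
    have cab : Commute a b := hc a (by simp) b (by simp)
    have cac : Commute a c := hc a (by simp) c (by simp)
    have cbc : Commute b c := hc b (by simp) c (by simp)
    simp only [List.nodup_cons, List.mem_cons, List.not_mem_nil, or_false, not_or, List.nodup_nil, and_true,
      not_false_eq_true] at hn
    obtain ⟨⟨n1, n2⟩, n3⟩ := hn
    have hbp : b ∈ perp D a := ⟨hb, Ne.symm n1, cab⟩
    have hcp : c ∈ perp D a := ⟨hc', Ne.symm n2, cac⟩
    have hset : {y | y ∈ D ∧ Commute [a, b, c].prod y} = insert a (insert b (insert c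
        {y | y ∈ perp D a ∧ (y ≠ b ∧ y ≠ c ∧ Commute b y ∧ Commute c y)})) := by
      ext y
      constructor
      · rintro ⟨hy, hxy⟩
        simp only [List.prod_cons, List.prod_nil, mul_one] at hxy
        rw [← mul_assoc] at hxy
        obtain ⟨c1, c2, c3⟩ := cross S.hD ha hb hc' hy cab cac cbc n1 n2 n3 hxy.symm
        by_cases h1 : y = a
        · exact Or.inl h1
        by_cases h2 : y = b
        · exact Or.inr (Or.inl h2)
        by_cases h3 : y = c
        · exact Or.inr (Or.inr (Or.inl h3))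
        exact Or.inr (Or.inr (Or.inr ⟨⟨hy, h1, c1.symm⟩, h2, h3, c2.symm, c3.symm⟩))
      · rintro (rfl | rfl | rfl | hy) <;> simp only [Set.mem_ofPred_eq, List.prod_cons, List.prod_nil, mul_one]
        · exact ⟨ha, (Commute.refl _).mul_left (cab.symm.mul_left cac.symm)⟩
        · exact ⟨hb, cab.mul_left ((Commute.refl _).mul_left cbc.symm)⟩
        · exact ⟨hc', cac.mul_left (cbc.mul_left (Commute.refl _))⟩
        · exact ⟨hy.1.1, hy.1.2.2.mul_left (hy.2.2.2.1.mul_left hy.2.2.2.2)⟩
    rw [hset, Set.ncard_insert_of_notMem, Set.ncard_insert_of_notMem, Set.ncard_insert_of_notMem,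
      (S.ctx a ha).ncard_edge₂ hbp hcp n3 cbc]
    · norm_num
    · exact fun h => h.2.2.1 rfl
    · rintro (h | h)
      · exact n3 h
      · exact h.2.1 rfl
    · rintro (h | h | h)
      · exact n1 h
      · exact n2 h
      · exact h.1.2.1 rfl

include S in
theorem m_unique {m m' : ℕ} {x : G} (h1 : 1 ≤ m) (h2 : m ≤ 3) (h3 : 1 ≤ m') (h4 : m' ≤ 3)
    (hx : IsProd D m x) (hx' : IsProd D m' x) : m = m' := by
  have := (ncard_commuting_prod S h1 h2 hx).symm.trans (ncard_commuting_prod S h3 h4 hx')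
  interval_cases m <;> interval_cases m' <;> simp_all

include S in
theorem order_two {m : ℕ} {x : G} (h1 : 1 ≤ m) (h2 : m ≤ 3) (hx : IsProd D m x) : orderOf x = 2 := by
  have hcount := ncard_commuting_prod S h1 h2 hx
  obtain ⟨l, -, -, hd, hc, rfl⟩ := hx
  have hsq : l.prod ^ 2 = 1 := by
    clear hcount
    induction l with
    | nil => simp
    | cons a l ih =>
      rw [List.prod_cons, (Commute.list_prod_right _ _ fun y hy => hc a (by simp) y (by simp [hy])).mul_pow,
        sq a, mul_self S.hD.1 (hd a (by simp)), one_mul]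
      exact ih (fun y hy => hd y (by simp [hy])) (fun y hy z hz => hc y (by simp [hy]) z (by simp [hz]))
  refine orderOf_eq_prime hsq fun h => ?_
  rw [h, show {y : G | y ∈ D ∧ Commute 1 y} = D from Set.ext fun y => ⟨fun h => h.1, fun h => ⟨h, Commute.one_left y⟩⟩,
    ncard_class S] at hcount
  interval_cases m <;> simp at hcount

include S in
theorem exists_prod (m : ℕ) (h1 : 1 ≤ m) (h2 : m ≤ 3) : ∃ x, IsProd D m x := by
  obtain ⟨a, ha, -⟩ := S.hprim.2.1
  obtain ⟨b, hb⟩ : (perp D a).Nonempty :=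
    Set.nonempty_of_ncard_ne_zero (by rw [(S.ctx a ha).ncard_perp]; norm_num)
  obtain ⟨c, hc, hcb, hbc⟩ := (S.lines a ha).second b hb
  interval_cases m
  · exact ⟨_, [a], by simp, rfl, by simp [ha], by simp, rfl⟩
  · refine ⟨_, [a, b], by simp [Ne.symm hb.2.1], rfl, by simp [ha, hb.1], ?_, rfl⟩
    simp [hb.2.2, hb.2.2.symm]
  · refine ⟨_, [a, b, c], by simp [Ne.symm hb.2.1, Ne.symm hc.2.1, Ne.symm hcb], rfl,
      by simp [ha, hb.1, hc.1], ?_, rfl⟩
    simp [hb.2.2, hb.2.2.symm, hc.2.2, hc.2.2.symm, hbc, hbc.symm]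

include S in
theorem isConj_prod {m : ℕ} {x y : G} (h1 : 1 ≤ m) (h2 : m ≤ 3) (hx : IsProd D m x) (hy : IsProd D m y) :
    IsConj x y := by
  obtain ⟨l, hn, hlen, hd, hc, rfl⟩ := hx
  obtain ⟨l', hn', hlen', hd', hc', rfl⟩ := hy
  rw [isConj_iff]
  interval_cases m
  · obtain ⟨a, rfl⟩ := List.length_eq_one_iff.mp hlen
    obtain ⟨b, rfl⟩ := List.length_eq_one_iff.mp hlen'
    simpa using S.hprim.1 a (hd a (by simp)) b (hd' b (by simp))
  · obtain ⟨a, b, rfl⟩ := List.length_eq_two.mp hlen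
    obtain ⟨a', b', rfl⟩ := List.length_eq_two.mp hlen'
    obtain ⟨g, hg⟩ := S.hprim.1 a (hd a (by simp)) a' (hd' a' (by simp))
    have hb : g * b * g⁻¹ ∈ perp D a' := by
      rw [← hg]
      exact (conj_mem_perp_iff S.hD g a b).mpr ⟨hd b (by simp), Ne.symm (by simpa using hn), hc a (by simp) b (by simp)⟩
    obtain ⟨h, hh, hhb⟩ := S.exists_conj_perp (hd' a' (by simp)) hb
      (b' := b') ⟨hd' b' (by simp), Ne.symm (by simpa using hn'), hc' a' (by simp) b' (by simp)⟩
    refine ⟨h * g, ?_⟩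
    simp only [List.prod_cons, List.prod_nil, mul_one]
    calc h * g * (a * b) * (h * g)⁻¹ = h * (g * a * g⁻¹) * h⁻¹ * (h * (g * b * g⁻¹) * h⁻¹) := by group
      _ = a' * b' := by rw [hg, hhb, Sys.closure_fix hh]
  · obtain ⟨a, b, c, rfl⟩ := List.length_eq_three.mp hlen
    obtain ⟨a', b', c', rfl⟩ := List.length_eq_three.mp hlen'
    simp only [List.nodup_cons, List.mem_cons, List.not_mem_nil, or_false, not_or, List.nodup_nil, and_true,
      not_false_eq_true] at hn hn'
    obtain ⟨g, hg⟩ := S.hprim.1 a (hd a (by simp)) a' (hd' a' (by simp))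
    have hp : ∀ {u : G}, u ∈ D → a ≠ u → Commute a u → g * u * g⁻¹ ∈ perp D a' := fun hu hne hau => by
      rw [← hg]; exact (conj_mem_perp_iff S.hD g a _).mpr ⟨hu, Ne.symm hne, hau⟩
    have hp' : ∀ {u : G}, u ∈ D → a' ≠ u → Commute a' u → u ∈ perp D a' := fun hu hne hau => ⟨hu, Ne.symm hne, hau⟩
    obtain ⟨h, hh, hhb, hhc⟩ := (S.lines a' (hd' a' (by simp))).trans _
      (hp (hd b (by simp)) hn.1.1 (hc a (by simp) b (by simp))) _
      (hp (hd c (by simp)) hn.1.2 (hc a (by simp) c (by simp))) (by simpa using hn.2)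
      (conj_commute (hc b (by simp) c (by simp))) b' (hp' (hd' b' (by simp)) hn'.1.1 (hc' a' (by simp) b' (by simp)))
      c' (hp' (hd' c' (by simp)) hn'.1.2 (hc' a' (by simp) c' (by simp))) hn'.2 (hc' b' (by simp) c' (by simp))
    refine ⟨h * g, ?_⟩
    simp only [List.prod_cons, List.prod_nil, mul_one]
    calc h * g * (a * (b * c)) * (h * g)⁻¹
        = h * (g * a * g⁻¹) * h⁻¹ * ((h * (g * b * g⁻¹) * h⁻¹) * (h * (g * c * g⁻¹) * h⁻¹)) := by group
      _ = a' * (b' * c') := by rw [hg, hhb, hhc, Sys.closure_fix hh]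

include S in
theorem three_classes :
    (∀ x : G, orderOf x = 2 → ∃ m : ℕ, 1 ≤ m ∧ m ≤ 3 ∧ IsProd D m x) ∧
      (∀ m : ℕ, 1 ≤ m → m ≤ 3 → (∃ x : G, orderOf x = 2 ∧ IsProd D m x) ∧
        ∀ x y : G, IsProd D m x → IsProd D m y → IsConj x y) ∧
      ∀ (m m' : ℕ) (x : G), 1 ≤ m → m ≤ 3 → 1 ≤ m' → m' ≤ 3 → IsProd D m x → IsProd D m' x → m = m' := by
  refine ⟨fun x hx => ?_, fun m h1 h2 => ⟨?_, fun x y => isConj_prod S h1 h2⟩,
    fun m m' x h1 h2 h3 h4 => m_unique S h1 h2 h3 h4⟩
  · have hsq : x * x = 1 := by rw [← sq, ← hx, pow_orderOf_eq_one]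
    obtain ⟨L, hLD, hLc, hLp⟩ := exists_commuting_list S hsq
    obtain ⟨l, hn, hl3, hlD, hlc, hlp⟩ := exists_short S hLD hLc hLp
    refine ⟨l.length, ?_, hl3, l, hn, rfl, hlD, hlc, hlp⟩
    by_contra h
    rw [List.length_eq_zero_iff.mp (by omega : l.length = 0), List.prod_nil] at hlp
    rw [← hlp, orderOf_one] at hx
    norm_num at hx
  · obtain ⟨x, hx⟩ := exists_prod S m h1 h2
    exact ⟨x, order_two S h1 h2 hx, hx⟩

end Cfsg.Agent.Lib.FischerMTypes.InvolutionsM22
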