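import Mathlib
import Cfsg.Agent.Lib.FischerMTypes.QuasiM22
import Cfsg.Agent.Lib.FischerMTypes.Types
import Cfsg.Agent.Lib.FischerMTypes.Simple

/-!
A 3-transposition group of type M(22) acts primitively on its transpositions: the commuting graph
is connected, and a block with two members is everything.
-/

set_option autoImplicit false
set_option linter.style.haveILetI false
set_option linter.unusedSectionVars false

namespace Cfsg.Agent.Lib.FischerMTypes.PointModel

open Cfsg.Agent.Lib.FischerMTypes.Basic Cfsg.Agent.Lib.FischerMTypes.Primitive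
open Cfsg.Agent.Lib.UnitaryFour.Transvection

variable {G : Type*} [Group G] [Finite G] {D : Set G}
variable {F : Type} [Field F] [Fintype F]
variable {a : G} (C : Ctx D a F)

namespace Ctx

include C in
/-- besides a commuting pair there is a point commuting with the second only -/
theorem exists_off_edge {u q : G} (hu : u ∈ perp D a) (hq : q ∈ perp D a) (hne : u ≠ q) (huq : Commute u q) :
    ∃ x ∈ perp D a, ¬ Commute u x ∧ Commute q x := by
  by_contra hcon
  push Not at hcon
  have hsub : perp₂ D a q ⊆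
      insert u {y | y ∈ perp D a ∧ (y ≠ u ∧ y ≠ q ∧ Commute u y ∧ Commute q y)} := by
    rintro y ⟨hy, hyq⟩
    by_cases hyu : y = u
    · exact Or.inl hyu
    refine Or.inr ⟨hy, hyu, hyq.2.1, ?_, hyq.2.2⟩
    by_contra huy
    exact hcon y hy huy hyq.2.2
  have h1 := (Set.ncard_le_ncard hsub (Set.toFinite _)).trans (Set.ncard_insert_le _ _)
  rw [C.ncard_edge hq, C.ncard_edge₂ hu hq hne huq] at h1
  omega

include C in
/-- besides a non-commuting pair there is a neighbour of the second not commuting with the first -/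
theorem exists_off_nonedge {u x : G} (hu : u ∈ perp D a) (hx : x ∈ perp D a) (hux : ¬ Commute u x) :
    ∃ q ∈ perp D a, q ≠ x ∧ Commute x q ∧ ¬ Commute u q := by
  by_contra hcon
  push Not at hcon
  have hsub : perp₂ D a x ⊆ {y | y ∈ perp D a ∧ (Commute u y ∧ Commute x y)} := by
    rintro y ⟨hy, hyx⟩
    exact ⟨hy, hcon y hy hyx.2.1 hyx.2.2, hyx.2.2⟩
  have h1 := Set.ncard_le_ncard hsub (Set.toFinite _)
  rw [C.ncard_edge hx, C.ncard_nonedge hu hx hux] at h1
  omega

/-- the six points of a hyperoval through the triangle of unit vectors -/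
def hexVec (w l : F) : Fin 6 → Fin 3 → F :=
  ![![1, 0, 0], ![0, 1, 0], ![0, 0, 1], ![1, 1, l], ![1, w, l * w ^ 2], ![1, w ^ 2, l * w]]

variable {w l : F}

theorem hexVec_ne_zero (i : Fin 6) : hexVec w l i ≠ 0 := by
  intro h
  fin_cases i <;> simp [hexVec, funext_iff, Fin.forall_fin_succ] at h

include C in
theorem hexVec_sum (hw : w ^ 2 + w + 1 = 0) (hl : l ≠ 0) (j k : Fin 3) :
    ∑ i, hexVec w l i j * hexVec w l i k ^ 2 = 0 := by
  have h2 := two_eq_zero C.hF
  have hw3 : w ^ 3 = 1 := by linear_combination (w - 1) * hw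
  have hl3 : l ^ 3 = 1 := cube_eq_one C.hF hl
  fin_cases j <;> fin_cases k <;>
    simp only [hexVec, Fin.sum_univ_six, Matrix.cons_val, Fin.mk_zero, Fin.mk_one, Fin.reduceFinMk]
  · linear_combination 2 * h2
  · linear_combination hw + w * hw3
  · linear_combination l ^ 2 * (hw + w * hw3)
  · linear_combination hw
  · linear_combination 2 * h2 + (w ^ 3 + 2) * hw3
  · linear_combination l ^ 2 * (hw + (w ^ 2 + w) * hw3)
  · linear_combination l * hw
  · linear_combination l * (hw + (w ^ 2 + w) * hw3)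
  · linear_combination 2 * h2 + 3 * hl3 + l ^ 3 * (w ^ 3 + 2) * hw3

include C in
theorem planePt_ne {u v : Fin 3 → F} (hu : u ≠ 0) (hv : v ≠ 0) (j k : Fin 3) (h : u j * v k ≠ u k * v j) :
    C.planePt u ≠ C.planePt v := by
  intro he
  obtain ⟨c, -, rfl⟩ := (C.planePt_eq hu hv).mp he
  exact h (by simp only [Pi.smul_apply, smul_eq_mul]; ring)

include C in
theorem hexVec_distinct (hw : w ^ 2 + w + 1 = 0) (hw0 : w ≠ 0) (hw1 : w ≠ 1) (hl : l ≠ 0) {i j : Fin 6}
    (hij : i < j) : C.planePt (hexVec w l i) ≠ C.planePt (hexVec w l j) := by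
  have hw2 : w ^ 2 ≠ 1 := fun h => hw1 (by linear_combination h * (-w) + (w - 1) * hw)
  have hw12 : w ^ 2 ≠ w := fun h => hw1 (mul_left_cancel₀ hw0 (by linear_combination h))
  fin_cases i <;> fin_cases j <;> simp at hij <;>
    first
      | (refine C.planePt_ne (hexVec_ne_zero _) (hexVec_ne_zero _) 0 1 ?_
         simp [hexVec, hw0, hw1, hw2, hw12, Ne.symm hw1, Ne.symm hw2, Ne.symm hw12]; done)
      | (refine C.planePt_ne (hexVec_ne_zero _) (hexVec_ne_zero _) 0 2 ?_
         simp [hexVec, hl, hw0]; done)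
      | (refine C.planePt_ne (hexVec_ne_zero _) (hexVec_ne_zero _) 1 2 ?_
         simp [hexVec, hl, hw0]; done)

include C in
theorem hexVec_other (hw : w ^ 2 + w + 1 = 0) (hw0 : w ≠ 0) (hw1 : w ≠ 1) (i : Fin 6) :
    C.planePt (hexVec w 1 i) ≠ C.planePt (hexVec w w 3) := by
  have hw2 : w ^ 2 ≠ 1 := fun h => hw1 (by linear_combination h * (-w) + (w - 1) * hw)
  fin_cases i <;>
    first
      | (refine C.planePt_ne (hexVec_ne_zero _) (hexVec_ne_zero _) 0 1 ?_
         simp [hexVec, hw1, hw2, Ne.symm hw1, Ne.symm hw2]; done)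
      | (refine C.planePt_ne (hexVec_ne_zero _) (hexVec_ne_zero _) 0 2 ?_
         simp [hexVec, hw0, hw1, Ne.symm hw1]; done)

end Ctx

end Cfsg.Agent.Lib.FischerMTypes.PointModel

namespace Cfsg.Agent.Lib.FischerMTypes.Connected

open Cfsg.Agent.Lib.FischerMTypes.Basic Cfsg.Agent.Lib.FischerMTypes.Primitive
  Cfsg.Agent.Lib.FischerMTypes.Levels Cfsg.Agent.Lib.FischerMTypes.Types
  Cfsg.Agent.Lib.FischerMTypes.PointModel Cfsg.Agent.Lib.FischerMTypes.Lines
  Cfsg.Agent.Lib.FischerMTypes.TraceCounts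
open Cfsg.Agent.Lib.UnitaryFour.Transvection

variable {G : Type*} [Group G] [Finite G] {D : Set G}
variable {F : Type} [Field F] [Fintype F]

/-- equal numbers of neighbours turn an inclusion of commuting sets into equality -/
theorem subsetEq_of_class (hD : Cfsg.IsThreeTranspositionGroup D)
    (hcl : ∀ a ∈ D, ∀ b ∈ D, ∃ g : G, g * a * g⁻¹ = b)
    (htw : ∀ u ∈ D, ∀ v ∈ D, SameComm D u v → u = v) : SubsetEq D := by
  intro a ha b hb h
  let C : G → Set G := fun v => {x | x ∈ D ∧ Commute x v}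
  obtain ⟨g, hg⟩ := hcl a ha b hb
  have himg : C b = (fun x => g * x * g⁻¹) '' C a := by
    rw [← hg]
    ext x
    constructor
    · intro hx
      refine ⟨g⁻¹ * x * g, ⟨by simpa using hD.2.1 g⁻¹ x hx.1, ?_⟩, by group⟩
      rw [← commute_conj_iff g]
      simpa [mul_assoc] using hx.2
    · rintro ⟨y, hy, rfl⟩
      exact ⟨hD.2.1 g y hy.1, (commute_conj_iff g y a).mpr hy.2⟩
  have heq : C a = C b :=
    Set.eq_of_subset_of_ncard_le (fun x hx => ⟨hx.1, h x hx.1 hx.2⟩)
      (by rw [himg, Set.ncard_image_of_injective _ (fun u v h => by simpa using h)]) (Set.toFinite _)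
  exact htw a ha b hb fun e he => ⟨h e he, fun h' => ((heq.symm ▸ ⟨he, h'⟩ : e ∈ C a)).2⟩

/-- what is known of a group of type M(22) before primitivity -/
structure Base (D : Set G) (F : Type) [Field F] [Fintype F] where
  hD : Cfsg.IsThreeTranspositionGroup D
  hcl : ∀ a ∈ D, ∀ b ∈ D, ∃ g : G, g * a * g⁻¹ = b
  hsub : SubsetEq D
  core : Cfsg.pCore 2 G = ⊥
  ctx : ∀ a ∈ D, Ctx D a F
  lines : ∀ a ∈ D, LineData D a

/-! ### components of the commuting graph -/

/-- joined by a chain of commuting members -/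
def Conn (D : Set G) : G → G → Prop := Relation.ReflTransGen fun u v => u ∈ D ∧ v ∈ D ∧ Commute u v

theorem Conn.refl' (a : G) : Conn D a a := Relation.ReflTransGen.refl

theorem Conn.single' {a b : G} (ha : a ∈ D) (hb : b ∈ D) (h : Commute a b) : Conn D a b :=
  Relation.ReflTransGen.single ⟨ha, hb, h⟩

theorem Conn.trans' {a b c : G} (h : Conn D a b) (h' : Conn D b c) : Conn D a c :=
  Relation.ReflTransGen.trans h h'

theorem Conn.symm' {a b : G} (h : Conn D a b) : Conn D b a := by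
  induction h with
  | refl => exact Relation.ReflTransGen.refl
  | tail _ hs ih => exact Relation.ReflTransGen.head ⟨hs.2.1, hs.1, hs.2.2.symm⟩ ih

theorem Conn.mem {a b : G} (ha : a ∈ D) (h : Conn D a b) : b ∈ D := by
  induction h with
  | refl => exact ha
  | tail _ hs _ => exact hs.2.1

theorem Conn.conj (hD : Cfsg.IsThreeTranspositionGroup D) (g : G) {a b : G} (h : Conn D a b) :
    Conn D (g * a * g⁻¹) (g * b * g⁻¹) := by
  induction h with
  | refl => exact Relation.ReflTransGen.refl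
  | tail _ hs ih =>
    exact Relation.ReflTransGen.tail ih
      ⟨hD.2.1 g _ hs.1, hD.2.1 g _ hs.2.1, (commute_conj_iff g _ _).mpr hs.2.2⟩

theorem Conn.conj_self (hD : Cfsg.IsThreeTranspositionGroup D) {a z : G} (ha : a ∈ D) (h : Conn D a z) :
    Conn D a (z * a * z) := by
  have hz := h.mem ha
  have h1 := h.conj hD z
  rw [mul_inv_cancel_right, inv_eq hD.1 hz] at h1
  exact h.trans' h1.symm'

/-- products of two members of a component -/
def ev (D : Set G) (a : G) : Subgroup G :=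
  Subgroup.closure {g | ∃ b c, Conn D a b ∧ Conn D a c ∧ g = b * c}

theorem mul_mem_ev {a b c : G} (hb : Conn D a b) (hc : Conn D a c) : b * c ∈ ev D a :=
  Subgroup.subset_closure ⟨b, c, hb, hc, rfl⟩

/-- commuting with a whole component -/
def Fixes (D : Set G) (a g : G) : Prop := ∀ y, Conn D a y → Commute g y

theorem Fixes.commute_ev {a g : G} (h : Fixes D a g) {k : G} (hk : k ∈ ev D a) : Commute g k :=
  commute_closure (u := g) (by rintro _ ⟨b, c, hb, hc, rfl⟩; exact (h b hb).mul_right (h c hc)) k hk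

theorem ev_congr {a b : G} (h : Conn D a b) : ev D a = ev D b := by
  unfold ev
  congr 1
  ext g
  exact ⟨fun ⟨u, v, hu, hv, e⟩ => ⟨u, v, h.symm'.trans' hu, h.symm'.trans' hv, e⟩,
    fun ⟨u, v, hu, hv, e⟩ => ⟨u, v, h.trans' hu, h.trans' hv, e⟩⟩

theorem ev_conj (hD : Cfsg.IsThreeTranspositionGroup D) (g : G) {a k : G} (hk : k ∈ ev D a) :
    g * k * g⁻¹ ∈ ev D (g * a * g⁻¹) := by
  have hle : (ev D a).map (MulAut.conj g).toMonoidHom ≤ ev D (g * a * g⁻¹) := by
    rw [ev, MonoidHom.map_closure, Subgroup.closure_le]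
    rintro _ ⟨_, ⟨b, c, hb, hc, rfl⟩, rfl⟩
    simpa using mul_mem_ev (hb.conj hD g) (hc.conj hD g)
  exact hle ⟨k, hk, rfl⟩

theorem Fixes.conj (hD : Cfsg.IsThreeTranspositionGroup D) (g : G) {a k : G} (h : Fixes D a k) :
    Fixes D (g * a * g⁻¹) (g * k * g⁻¹) := by
  intro y hy
  have h1 := hy.conj hD g⁻¹
  rw [show g⁻¹ * (g * a * g⁻¹) * g⁻¹⁻¹ = a by group] at h1
  have := (commute_conj_iff g _ _).mpr (h _ h1)
  simpa [mul_assoc] using this

theorem sweep_step (hD : Cfsg.IsThreeTranspositionGroup D) {a x b : G} (ha : a ∈ D) (hx : x ∈ D)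
    (hn : ¬ Conn D a x) (h : Conn D a b) : Conn D (a * x * a) (b * x * b) := by
  induction h with
  | refl => exact Relation.ReflTransGen.refl
  | @tail b c hb hs ih =>
    have nb : ∀ {z : G}, Conn D a z → ¬ Commute z x := fun {z} hz hc =>
      hn (hz.trans' (Conn.single' (hz.mem ha) hx hc))
    refine ih.trans' ?_
    rw [braid hD.1 hs.1 hx (nb hb), braid hD.1 hs.2.1 hx (nb (Conn.trans' hb (Conn.single' hs.1 hs.2.1 hs.2.2)))]
    exact Conn.single' ((closed hD).2 x hx b hs.1) ((closed hD).2 x hx c hs.2.1)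
      ((conj_comm_iff hD.1 hx).mpr hs.2.2)

theorem not_conn_sweep (hD : Cfsg.IsThreeTranspositionGroup D) {a x : G} (ha : a ∈ D) (hx : x ∈ D)
    (hn : ¬ Conn D a x) : ¬ Conn D x (a * x * a) := by
  intro h
  rw [braid hD.1 ha hx fun hc => hn (Conn.single' ha hx hc)] at h
  have h1 := h.conj hD x
  rw [mul_inv_cancel_right, inv_eq hD.1 hx, conj_self_inv hD.1 hx] at h1
  exact hn h1.symm'

/-- products of pairs of one component map every component to itself -/
theorem ev_conn (hD : Cfsg.IsThreeTranspositionGroup D) {a x g : G} (ha : a ∈ D) (hx : x ∈ D)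
    (hg : g ∈ ev D a) : Conn D x (g * x * g⁻¹) := by
  have hgen : ∀ b c, Conn D a b → Conn D a c → Conn D x (b * c * x * (b * c)⁻¹) := by
    intro b c hb hc
    have hbD := hb.mem ha
    have hcD := hc.mem ha
    rw [mul_inv_rev, inv_eq hD.1 hcD, inv_eq hD.1 hbD]
    by_cases hax : Conn D a x
    · have h1 := (hax.symm'.trans' hc).conj_self hD hx
      have h2 := h1.conj hD b
      rw [inv_eq hD.1 hbD] at h2
      have h3 := (hax.symm'.trans' hb).conj_self hD hx
      have := h3.trans' h2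
      rwa [show b * c * x * (c * b) = b * (c * x * c) * b by group]
    · have h1 := ((sweep_step hD ha hx hax hb).symm'.trans' (sweep_step hD ha hx hax hc)).conj hD b
      rw [inv_eq hD.1 hbD, conj_self_inv hD.1 hbD] at h1
      rwa [show b * c * x * (c * b) = b * (c * x * c) * b by group]
  induction hg using Subgroup.closure_induction with
  | mem g hg => obtain ⟨b, c, hb, hc, rfl⟩ := hg; exact hgen b c hb hc
  | one => simpa using Conn.refl' x
  | mul g k _ _ ihg ihk =>
    have := ihg.trans' (ihk.conj hD g)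
    rwa [show g * k * x * (g * k)⁻¹ = g * (k * x * k⁻¹) * g⁻¹ by group]
  | inv g _ ih =>
    have := ih.conj hD g⁻¹
    rw [show g⁻¹ * (g * x * g⁻¹) * g⁻¹⁻¹ = x by group] at this
    exact this.symm'

/-! ### no small invariants -/

/-- the even involutions centralising a component -/
def W (D : Set G) (a : G) : Set G := {g | g ∈ ev D a ∧ g * g = 1 ∧ Fixes D a g}

theorem W_eq_one (hD : Cfsg.IsThreeTranspositionGroup D) (hcore : Cfsg.pCore 2 G = ⊥) {a g : G}
    (ha : a ∈ D) (hg : g ∈ W D a) : g = 1 := by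
  haveI : Fact (Nat.Prime 2) := ⟨Nat.prime_two⟩
  set S : Set G := {g | ∃ a ∈ D, g ∈ W D a} with hS
  set N := Subgroup.closure S with hN
  have hWconj : ∀ (h : G) {a g : G}, g ∈ W D a → h * g * h⁻¹ ∈ W D (h * a * h⁻¹) := fun h {a g} hg =>
    ⟨ev_conj hD h hg.1, by rw [show h * g * h⁻¹ * (h * g * h⁻¹) = h * (g * g) * h⁻¹ by group, hg.2.1]; group,
      hg.2.2.conj hD h⟩
  have hWcongr : ∀ {a b g : G}, Conn D a b → g ∈ W D b → g ∈ W D a := fun hab hg =>
    ⟨ev_congr hab ▸ hg.1, hg.2.1, fun y hy => hg.2.2 y (hab.symm'.trans' hy)⟩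
  have hkey : ∀ h ∈ N, ∀ a ∈ D, Conn D a (h * a * h⁻¹) := by
    intro h hh
    induction hh using Subgroup.closure_induction with
    | mem h hh => obtain ⟨b, hb, hW⟩ := hh; exact fun a ha => ev_conn hD hb ha hW.1
    | one => intro a _; simpa using Conn.refl' a
    | mul g k _ _ ihg ihk =>
      intro a ha
      have := (ihg a ha).trans' ((ihk a ha).conj hD g)
      rwa [show g * k * a * (g * k)⁻¹ = g * (k * a * k⁻¹) * g⁻¹ by group]
    | inv g _ ih =>
      intro a ha
      have := (ih a ha).conj hD g⁻¹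
      rw [show g⁻¹ * (g * a * g⁻¹) * g⁻¹⁻¹ = a by group] at this
      exact this.symm'
  have hsmall : ∀ a ∈ D, IsPGroup 2 ↥(Subgroup.closure (W D a)) := by
    intro a _
    have hcomm : ∀ g ∈ W D a, ∀ k ∈ W D a, g * k = k * g := fun g hg k hk => (hg.2.2.commute_ev hk.1).eq
    haveI : IsMulCommutative ↥(Subgroup.closure (W D a)) := Subgroup.isMulCommutative_closure hcomm
    have hsq : ∀ g, g ∈ Subgroup.closure (W D a) → g * g = 1 := by
      intro g hg
      induction hg using Subgroup.closure_induction with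
      | mem g hg => exact hg.2.1
      | one => simp
      | mul g k hg hk ihg ihk =>
        have hgk : (⟨k, hk⟩ : ↥(Subgroup.closure (W D a))) * ⟨g, hg⟩ = ⟨g, hg⟩ * ⟨k, hk⟩ :=
          mul_comm' (M := ↥(Subgroup.closure (W D a))) _ _
        rw [(show Commute k g from congrArg Subtype.val hgk).mul_mul_mul_comm, ihg, ihk, one_mul]
      | inv g _ ih => rw [← mul_inv_rev, ih, inv_one]
    intro g
    exact ⟨1, Subtype.ext (by simpa [pow_two] using hsq g g.2)⟩
  have hN2 : IsPGroup 2 ↥N := by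
    have key : ∀ a ∈ D, (Subgroup.closure (W D a)).subgroupOf N ≤ Cfsg.pCore 2 ↥N := by
      intro a ha
      refine le_sSup ⟨⟨fun n hn g => ?_⟩, (hsmall a ha).comap_subtype⟩
      rw [Subgroup.mem_subgroupOf] at hn ⊢
      show (g : G) * (n : G) * (g : G)⁻¹ ∈ Subgroup.closure (W D a)
      have hmap : (Subgroup.closure (W D a)).map (MulAut.conj (g : G)).toMonoidHom ≤
          Subgroup.closure (W D a) := by
        rw [MonoidHom.map_closure, Subgroup.closure_le]
        rintro _ ⟨k, hk, rfl⟩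
        exact Subgroup.subset_closure (hWcongr (hkey _ g.2 a ha) (hWconj (g : G) hk))
      exact hmap ⟨_, hn, rfl⟩
    have htop : Cfsg.pCore 2 ↥N = ⊤ := by
      rw [eq_top_iff]
      rintro ⟨g, hg⟩ -
      have : N ≤ (Cfsg.pCore 2 ↥N).map N.subtype := by
        refine (Subgroup.closure_le _).mpr ?_
        rintro k ⟨a, ha, hk⟩
        exact ⟨⟨k, Subgroup.subset_closure ⟨a, ha, hk⟩⟩,
          key a ha (Subgroup.mem_subgroupOf.mpr (Subgroup.subset_closure hk)), rfl⟩
      obtain ⟨k, hk, hkg⟩ := this hg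
      obtain rfl : k = ⟨g, hg⟩ := Subtype.ext hkg
      exact hk
    have hp := Cfsg.Agent.Lib.LargeExtra.Basic.pCore_isPGroup ↥N
    rw [htop] at hp
    exact hp.of_equiv Subgroup.topEquiv
  have hNn : N.Normal := by
    refine ⟨fun n hn h => ?_⟩
    have hmap : N.map (MulAut.conj h).toMonoidHom ≤ N := by
      rw [hN, MonoidHom.map_closure, Subgroup.closure_le]
      rintro _ ⟨k, ⟨b, hb, hk⟩, rfl⟩
      exact Subgroup.subset_closure ⟨_, hD.2.1 h b hb, hWconj h hk⟩
    exact hmap ⟨_, hn, rfl⟩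
  have : N ≤ ⊥ := hcore ▸ le_sSup ⟨hNn, hN2⟩
  exact Subgroup.mem_bot.mp (this (Subgroup.subset_closure ⟨a, ha, hg⟩))

/-- an involution centralising a component and inducing the product with one of its members -/
def Odd' (D : Set G) (a w : G) : Prop := w * w = 1 ∧ a * w ∈ ev D a ∧ Fixes D a w

theorem Odd'.conj (hD : Cfsg.IsThreeTranspositionGroup D) (g : G) {a w : G} (h : Odd' D a w) :
    Odd' D (g * a * g⁻¹) (g * w * g⁻¹) :=
  ⟨by rw [show g * w * g⁻¹ * (g * w * g⁻¹) = g * (w * w) * g⁻¹ by group, h.1]; group,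
    by rw [show g * a * g⁻¹ * (g * w * g⁻¹) = g * (a * w) * g⁻¹ by group]; exact ev_conj hD g h.2.1,
    h.2.2.conj hD g⟩

theorem Odd'.base (hD : Cfsg.IsThreeTranspositionGroup D) {a b w : G} (ha : a ∈ D) (hab : Conn D a b)
    (h : Odd' D a w) : Odd' D b w := by
  refine ⟨h.1, ?_, fun y hy => h.2.2 y (hab.trans' hy)⟩
  rw [← ev_congr hab, show b * w = b * a * (a * w) by
    rw [show b * a * (a * w) = b * (a * a) * w by group, mul_self hD.1 ha, mul_one]]
  exact mul_mem (mul_mem_ev hab (Conn.refl' a)) h.2.1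

theorem Odd'.unique (hD : Cfsg.IsThreeTranspositionGroup D) (hcore : Cfsg.pCore 2 G = ⊥) {a w w' : G}
    (ha : a ∈ D) (h : Odd' D a w) (h' : Odd' D a w') : w = w' := by
  have haa := mul_self hD.1 ha
  have hwa : Commute w a := h.2.2 a (Conn.refl' a)
  have hwa' : Commute w' a := h'.2.2 a (Conn.refl' a)
  have hcomm : Commute w' w := by
    have := hwa'.mul_right (h'.2.2.commute_ev h.2.1)
    rwa [← mul_assoc, haa, one_mul] at this
  have heq : w * w' = (a * w) * (a * w') := by
    rw [show (a * w) * (a * w') = a * (w * a) * w' by group, hwa.eq, ← mul_assoc a a, haa, one_mul]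
  have : w * w' = 1 := W_eq_one hD hcore ha ⟨heq ▸ mul_mem h.2.1 h'.2.1,
    by rw [hcomm.mul_mul_mul_comm, h.1, h'.1, one_mul],
    fun y hy => (h.2.2 y hy).mul_left (h'.2.2 y hy)⟩
  rw [← inv_eq_of_mul_eq_one_right this]
  exact eq_inv_of_mul_eq_one_left h.1

/-- odd invariants of all components make the commuting graph connected -/
theorem connected_of_odd (hD : Cfsg.IsThreeTranspositionGroup D) (hcore : Cfsg.pCore 2 G = ⊥)
    (hnonempty : ∀ a ∈ D, (perp D a).Nonempty) (hodd : ∀ a ∈ D, ∃ w, Odd' D a w) {a x : G} (ha : a ∈ D)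
    (hx : x ∈ D) : Conn D a x := by
  by_contra hn
  obtain ⟨w, hw⟩ := hodd a ha
  obtain ⟨w', hw'⟩ := hodd x hx
  have hd : ∀ {a x w : G}, a ∈ D → x ∈ D → Odd' D x w → ∀ h ∈ ev D a, h * w * h⁻¹ = w := by
    intro a x w ha hx hw h hh
    exact Odd'.unique hD hcore hx
      ((hw.conj hD h).base hD (hD.2.1 h x hx) (ev_conn hD ha hx hh).symm') hw
  have hax : ¬ Commute a x := fun h => hn (Conn.single' ha hx h)
  have hww : w⁻¹ = w := inv_eq_of_mul_eq_one_right hw.1
  have hww' : w'⁻¹ = w' := inv_eq_of_mul_eq_one_right hw'.1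
  have haw := hd ha hx hw' (a * w) hw.2.1
  have hxw := hd hx ha hw (x * w') hw'.2.1
  have e1 : w * w' * w = a * w' * a := by
    have := congrArg (fun t => a⁻¹ * t * a) haw
    simp only [mul_inv_rev] at this
    rw [show a⁻¹ * (a * w * w' * (w⁻¹ * a⁻¹)) * a = w * w' * w⁻¹ by group, hww, inv_eq hD.1 ha] at this
    exact this
  have e2 : w' * w * w' = x * w * x := by
    have := congrArg (fun t => x⁻¹ * t * x) hxw
    simp only [mul_inv_rev] at this
    rw [show x⁻¹ * (x * w' * w * (w'⁻¹ * x⁻¹)) * x = w' * w * w'⁻¹ by group, hww', inv_eq hD.1 hx] at this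
    exact this
  have hbr : w * w' * w = w' * w * w' := by
    rw [e1, e2]
    have h1 := hw'.conj hD a
    have h2 := hw.conj hD x
    rw [inv_eq hD.1 ha] at h1
    rw [inv_eq hD.1 hx, ← braid hD.1 ha hx hax] at h2
    exact Odd'.unique hD hcore ((closed hD).2 a ha x hx) h1 h2
  have hne : w ≠ w' := by
    rintro rfl
    have h1 := ev_conn hD ha hx hw.2.1
    rw [mul_inv_rev, show a * w * x * (w⁻¹ * a⁻¹) = a * (w * x * w⁻¹) * a⁻¹ by group,
      (hw'.2.2 x (Conn.refl' x)).eq, mul_inv_cancel_right, inv_eq hD.1 ha] at h1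
    exact not_conn_sweep hD ha hx hn h1
  obtain ⟨e, he⟩ := hnonempty a ha
  have hae : a * e ∈ ev D a := mul_mem_ev (Conn.refl' a) (Conn.single' ha he.1 he.2.2)
  have hwe : Commute w e := hw.2.2 e (Conn.single' ha he.1 he.2.2)
  have hwa : Commute w a := hw.2.2 a (Conn.refl' a)
  have hae' : Commute (a * e) w' := mul_inv_eq_iff_eq_mul.mp (hd ha hx hw' _ hae)
  have e3 : e * w' * e = w * w' * w := by
    rw [e1]
    calc e * w' * e = a * a * e * w' * e := by rw [mul_self hD.1 ha, one_mul]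
      _ = a * (a * e * w') * e := by group
      _ = a * w' * a * (e * e) := by rw [hae'.eq]; group
      _ = a * w' * a := by rw [mul_self hD.1 he.1, mul_one]
  obtain ⟨t, ht⟩ : ∃ t, t = w * w' := ⟨_, rfl⟩
  have htinv : t⁻¹ = w' * w := by rw [ht, mul_inv_rev, hww, hww']
  have ht3 : t * t * t = 1 := by
    calc t * t * t = (w * w' * w) * (w' * w * w') := by rw [ht]; group
      _ = (w' * w * w') * (w' * w * w') := by rw [hbr]
      _ = w' * w * (w' * w') * w * w' := by group
      _ = 1 := by rw [hw'.1, mul_one, mul_assoc w' w w, hw.1, mul_one, hw'.1]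
  have hy : t * e * t⁻¹ = t * t * e := by
    rw [htinv, show t * e * (w' * w) = t * (e * w' * e) * (e⁻¹ * w) by group, e3, inv_eq hD.1 he.1,
      ← hwe.eq, ht, show w * w' * (w * w' * w) * (w * e) = w * w' * (w * w') * (w * w) * e by group, hw.1,
      mul_one]
  have hat : a * t = t⁻¹ * a := by
    rw [htinv, ht]
    calc a * (w * w') = (a * w) * w' * (a * a) := by rw [mul_self hD.1 ha, mul_one, mul_assoc]
      _ = w * (a * w' * a) * a := by rw [← hwa.eq]; group
      _ = w * w * w' * w * a := by rw [← e1]; group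
      _ = w' * w * a := by rw [hw.1, one_mul]
  have htae : Commute t (a * e) := by rw [ht]; exact (hwa.mul_right hwe).mul_left hae'.symm
  have hay : a * (t * t * e) = t * (a * e) := by
    calc a * (t * t * e) = (a * t) * t * e := by group
      _ = t⁻¹ * a * t * e := by rw [hat]
      _ = t⁻¹ * (a * t) * e := by group
      _ = t⁻¹ * t⁻¹ * a * e := by rw [hat]; group
      _ = t⁻¹ * t⁻¹ * (t * t * t) * (a * e) := by rw [ht3, mul_one]; group
      _ = t * (a * e) := by group
  have hyD : t * t * e ∈ D := hy ▸ hD.2.1 t e he.1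
  have hsq : a * e * (a * e) = 1 := by
    rw [he.2.2.symm.mul_mul_mul_comm, mul_self hD.1 ha, mul_self hD.1 he.1, one_mul]
  rcases hD.1.2 a ha _ hyD with h | h
  · rw [hay, htae.mul_pow, pow_two (a * e), hsq, mul_one, pow_two] at h
    have : t = 1 := by rwa [h, one_mul] at ht3
    rw [ht] at this
    exact hne (by rw [← inv_eq_of_mul_eq_one_right this, hww])
  · rw [hay, htae.mul_pow, show t ^ 3 = 1 by rw [pow_three, ← mul_assoc, ht3], one_mul,
      show (a * e) ^ 3 = a * e by rw [pow_three, hsq, mul_one]] at h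
    exact he.2.1 (by rw [← inv_eq_of_mul_eq_one_right h, inv_eq hD.1 ha])

namespace Base

variable (B : Base D F)

include B in
theorem perp_nonempty {a : G} (ha : a ∈ D) : (perp D a).Nonempty := by
  obtain ⟨v, hv, hv0⟩ := (B.ctx a ha).exists_iso_ne_zero
  exact ⟨_, (B.ctx a ha).pt_mem hv hv0⟩

include B in
theorem exists_noncommuting_point {v u : G} (hv : v ∈ D) (hu : u ∈ perp D v) :
    ∃ x ∈ perp D v, ¬ Commute u x := by
  obtain ⟨q, hq, hqu, huq⟩ := (B.lines v hv).second u hu
  obtain ⟨x, hx, hux, -⟩ := (B.ctx v hv).exists_off_edge hu hq (Ne.symm hqu) huq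
  exact ⟨x, hx, hux⟩

include B in
/-- an element centralising a transposition and its neighbours acts on the rest of its star alike -/
theorem choice {u w : G} (hu : u ∈ D) (hwu : Commute w u) (hw : ∀ y ∈ perp D u, Commute w y) :
    (∀ x ∈ near D u, Commute w x) ∨ ∀ x ∈ near D u, Commute (u * w) x := by
  have huu := mul_self B.hD.1 hu
  have one : ∀ p ∈ perp D u, ∀ x ∈ perp D p, ¬ Commute u x → Commute w x ∨ Commute (u * w) x := by
    intro p hp x hx hux
    have hpu : u ∈ perp D p := ⟨hu, Ne.symm hp.2.1, hp.2.2.symm⟩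
    have hy : w * x * w⁻¹ ∈ perp D p := by
      have := (conj_mem_perp_iff B.hD w p x).mpr hx
      rwa [(hw p hp).eq, mul_inv_cancel_right] at this
    have hline := (B.ctx p hp.1).line_points hpu hx hy hux fun z hz huz hxz => by
      have hzu : z ≠ u := fun h => hux (h ▸ hxz).symm
      have hwz := hw z ⟨hz.1, hzu, huz⟩
      have := (commute_conj_iff w x z).mpr hxz
      simp only [MulAut.conj_apply] at this
      rwa [hwz.eq, mul_inv_cancel_right] at this
    rcases hline with h | h | h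
    · refine absurd (show Commute u x from ?_) hux
      have : x = u := by
        calc x = w⁻¹ * (w * x * w⁻¹) * w := by group
          _ = w⁻¹ * u * w := by rw [h]
          _ = u := by rw [mul_assoc, ← hwu.eq, inv_mul_cancel_left]
      rw [this]
    · exact Or.inl (mul_inv_eq_iff_eq_mul.mp h)
    · refine Or.inr ?_
      show u * w * x = x * (u * w)
      calc u * w * x = u * (w * x * w⁻¹) * w := by group
        _ = (u * u) * x * (u * w) := by rw [h]; group
        _ = x * (u * w) := by rw [huu, one_mul]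
  have both : ∀ {x : G}, Commute w x → Commute (u * w) x → Commute u x := fun {x} h h' => by
    have := h'.mul_left h.inv_left
    rwa [mul_inv_cancel_right] at this
  let P : G → Prop := fun p => ∀ x ∈ perp D p, ¬ Commute u x → Commute w x
  have spread : ∀ p ∈ perp D u, ∀ x ∈ perp D p, ¬ Commute u x → ∀ x' ∈ perp D p, ¬ Commute u x' →
      Commute w x → Commute w x' := by
    intro p hp x hx hux x' hx' hux' h
    obtain ⟨k, hk, hkx⟩ := (B.ctx p hp.1).exists_move_off
      (b := u) ⟨hu, Ne.symm hp.2.1, hp.2.2.symm⟩ hx hx' hux hux'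
    have hkw : Commute w k := commute_closure (fun z hz => by
      by_cases hzu : z = u
      · rw [hzu]; exact hwu
      · exact hw z ⟨hz.1.1, hzu, hz.2⟩) k hk
    rw [← hkx]
    exact (hkw.mul_right h).mul_right hkw.inv_right
  have adj : ∀ p ∈ perp D u, ∀ q ∈ perp D u, Commute p q → P p → P q := by
    intro p hp q hq hpq hP
    by_cases hne : p = q
    · exact hne ▸ hP
    obtain ⟨x, hx, hux, hqx⟩ := (B.ctx p hp.1).exists_off_edge (u := u) (q := q)
      ⟨hu, Ne.symm hp.2.1, hp.2.2.symm⟩ ⟨hq.1, Ne.symm hne, hpq⟩ (Ne.symm hq.2.1) hq.2.2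
    have hxq : x ∈ perp D q := ⟨hx.1, fun h => hux (h ▸ hq.2.2), hqx⟩
    exact fun x' hx' hux' => spread q hq x hxq hux x' hx' hux' (hP x hx hux)
  have all : ∀ p ∈ perp D u, ∀ q ∈ perp D u, P p → P q := by
    intro p hp q hq hP
    by_cases hpq : Commute p q
    · exact adj p hp q hq hpq hP
    obtain ⟨r, hr, hpr, hqr⟩ : Set.Nonempty {y | y ∈ perp D u ∧ (Commute p y ∧ Commute q y)} := by
      apply Set.nonempty_of_ncard_ne_zero
      rw [(B.ctx u hu).ncard_nonedge hp hq hpq]
      norm_num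
    exact adj r hr q hq hqr.symm (adj p hp r hr hpr hP)
  obtain ⟨p₀, hp₀⟩ := B.perp_nonempty hu
  by_cases hP : P p₀
  · refine Or.inl fun x hx => ?_
    obtain ⟨p, hp⟩ := hx.2.2
    exact all p₀ hp₀ p hp.1 hP x ⟨hx.1, Ne.symm hp.2.2.1, hp.2.2.2.symm⟩ hx.2.1
  · refine Or.inr fun x hx => ?_
    obtain ⟨p, hp⟩ := hx.2.2
    have hxp : x ∈ perp D p := ⟨hx.1, Ne.symm hp.2.2.1, hp.2.2.2.symm⟩
    refine (one p hp.1 x hxp hx.2.1).resolve_left fun h => hP (all p hp.1 p₀ hp₀ ?_)
    exact fun x' hx' hux' => spread p hp.1 x hxp hx.2.1 x' hx' hux' h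

/-- centralising a transposition with everything at distance at most two -/
def Star (D : Set G) (w v : G) : Prop :=
  Commute w v ∧ (∀ y ∈ perp D v, Commute w y) ∧ ∀ x ∈ near D v, Commute w x

include B in
theorem fixes_of_star {a w : G} (ha : a ∈ D) (hw : Star D w a) : Fixes D a w := by
  suffices h : ∀ y, Conn D a y → Star D w y from fun y hy => (h y hy).1
  intro y hy
  induction hy with
  | refl => exact hw
  | @tail v u hav hs ih =>
    by_cases huv : u = v
    · exact huv ▸ ih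
    have hu : u ∈ perp D v := ⟨hs.2.1, huv, hs.2.2⟩
    have hwu := ih.2.1 u hu
    have hperp : ∀ z ∈ perp D u, Commute w z := by
      intro z hz
      by_cases hzv : z = v
      · rw [hzv]; exact ih.1
      by_cases hc : Commute v z
      · exact ih.2.1 z ⟨hz.1, hzv, hc⟩
      · exact ih.2.2 z ⟨hz.1, hc, u, hu, ⟨hs.2.1, Ne.symm hz.2.1, hz.2.2.symm⟩⟩
    rcases B.choice hs.2.1 hwu hperp with h | h
    · exact ⟨hwu, hperp, h⟩
    · exfalso
      obtain ⟨x, hx, hux⟩ := B.exists_noncommuting_point hs.1 hu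
      have h1 := h x ⟨hx.1, hux, v, ⟨hs.1, Ne.symm huv, hs.2.2.symm⟩, hs.1, Ne.symm hx.2.1, hx.2.2.symm⟩
      have := h1.mul_left (ih.2.1 x hx).inv_left
      rw [mul_inv_cancel_right] at this
      exact hux this

include B in
/-- a hyperoval product is not trivial -/
theorem exists_hexad {a : G} (ha : a ∈ D) :
    ∃ z, z ≠ 1 ∧ z * z = 1 ∧ z ∈ ev D a ∧ Commute z a ∧ ∀ y ∈ perp D a, Commute z y := by
  set C := B.ctx a ha
  obtain ⟨w, hw0, hw1, hw⟩ := exists_omega C.hF
  let p : F → Fin 6 → G := fun l i => C.planePt (Ctx.hexVec w l i)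
  let z : F → G := fun l => p l 0 * p l 1 * p l 2 * (p l 3 * p l 4 * p l 5)
  have hmem : ∀ l i, p l i ∈ perp D a := fun l i => C.planePt_mem (Ctx.hexVec_ne_zero i)
  have hcom : ∀ l i m j, Commute (p l i) (p m j) := fun l i m j =>
    C.planePt_comm (Ctx.hexVec_ne_zero i) (Ctx.hexVec_ne_zero j)
  have hcent : ∀ l, l ≠ 0 → ∀ y ∈ perp D a, Commute (z l) y := fun l hl y hy =>
    (C.hexad_central (Ctx.hexVec w l) Ctx.hexVec_ne_zero (C.hexVec_sum hw hl) hy).symm
  have hza : ∀ l, Commute (z l) a := fun l => by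
    have h : ∀ i, Commute (p l i) a := fun i => (hmem l i).2.2.symm
    exact (((h 0).mul_left (h 1)).mul_left (h 2)).mul_left (((h 3).mul_left (h 4)).mul_left (h 5))
  have hzsq : ∀ l, z l * z l = 1 := fun l => by
    have hc : ∀ i, Commute (p l i) (z l) := fun i =>
      (((hcom l i l 0).mul_right (hcom l i l 1)).mul_right (hcom l i l 2)).mul_right
        (((hcom l i l 3).mul_right (hcom l i l 4)).mul_right (hcom l i l 5))
    have hs : ∀ {u v : G}, Commute u v → u * u = 1 → v * v = 1 → u * v * (u * v) = 1 := fun {u v} h hu hv => by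
      rw [h.symm.mul_mul_mul_comm, hu, hv, one_mul]
    have hm : ∀ i, p l i * p l i = 1 := fun i => mul_self B.hD.1 (hmem l i).1
    refine hs ?_ (hs ((hcom l 0 l 2).mul_left (hcom l 1 l 2)) (hs (hcom l 0 l 1) (hm 0) (hm 1)) (hm 2))
      (hs ((hcom l 3 l 5).mul_left (hcom l 4 l 5)) (hs (hcom l 3 l 4) (hm 3) (hm 4)) (hm 5))
    have h3 : ∀ i, Commute (p l i) (p l 3 * p l 4 * p l 5) := fun i =>
      ((hcom l i l 3).mul_right (hcom l i l 4)).mul_right (hcom l i l 5)
    exact ((h3 0).mul_left (h3 1)).mul_left (h3 2)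
  have hzev : ∀ l, z l ∈ ev D a := fun l => by
    have hcn : ∀ i, Conn D a (p l i) := fun i => Conn.single' ha (hmem l i).1 (hmem l i).2.2
    have : z l = p l 0 * p l 1 * (p l 2 * p l 3) * (p l 4 * p l 5) := by simp only [z]; group
    rw [this]
    exact mul_mem (mul_mem (mul_mem_ev (hcn 0) (hcn 1)) (mul_mem_ev (hcn 2) (hcn 3))) (mul_mem_ev (hcn 4) (hcn 5))
  by_contra hcon
  push Not at hcon
  have hone : ∀ l, l ≠ 0 → z l = 1 := fun l hl => by
    by_contra h
    obtain ⟨y, hy, hny⟩ := hcon (z l) h (hzsq l) (hzev l) (hza l)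
    exact hny (hcent l hl y hy)
  -- all six points have the trace of the third
  have htrace : ∀ l, l ≠ 0 → ∀ i : Fin 6, 2 ≤ i →
      p l i ∈ traceClass D (p l 0) (p l 1) (p l 2) := by
    intro l hl i hi
    have hne : ∀ {i j : Fin 6}, i < j → p l i ≠ p l j := fun h => C.hexVec_distinct hw hw0 hw1 hl h
    have hbelow : ∀ i : Fin 6, 2 ≤ i → p l i ∈ perp₂ D (p l 0) (p l 1) := fun i hi =>
      ⟨⟨(hmem l i).1, (hne (lt_of_lt_of_le (by decide) hi)).symm, hcom l 0 l i⟩,
        (hmem l i).1, (hne (lt_of_lt_of_le (by decide) hi)).symm, hcom l 1 l i⟩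
    refine ⟨hbelow i hi, fun q hq => ?_⟩
    have hprod : p l 2 * p l 3 * (p l 4 * p l 5) = (p l 0 * p l 1)⁻¹ := by
      refine eq_inv_of_mul_eq_one_right ?_
      rw [← hone l hl]; simp only [z]; group
    have hq4 : Commute q (p l 2 * p l 3 * (p l 4 * p l 5)) := by
      rw [hprod]; exact (hq.1.2.2.symm.mul_right hq.2.2.2.symm).inv_right
    have six : ∀ i j k : Fin 6, 2 < i → 2 < j → 2 < k → i ≠ j → i ≠ k → j < k →
        p l 2 * p l i * (p l j * p l k) = p l 2 * p l 3 * (p l 4 * p l 5) →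
        (Commute q (p l 2) ↔ Commute q (p l i)) := by
      intro i j k hi hj hk hij hik hjk he
      have hne' : ∀ {i j : Fin 6}, i ≠ j → p l i ≠ p l j := fun {i j} h =>
        h.lt_or_gt.elim hne fun h => (hne h).symm
      exact six_iff B.hD.1 (hmem l 2).1 (hmem l i).1 (hmem l j).1 (hmem l k).1 hq.1.1 (hcom l 2 l i)
        (hcom l 2 l j) (hcom l 2 l k) (hcom l i l j) (hcom l i l k) (hcom l j l k) (hne hi) (hne hj) (hne hk)
        (hne' hij) (hne' hik) (hne hjk) (he ▸ hq4)
    have hi' : i = 2 ∨ i = 3 ∨ i = 4 ∨ i = 5 := by revert hi; revert i; decide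
    rcases hi' with rfl | rfl | rfl | rfl
    · exact Iff.rfl
    · exact six 3 4 5 (by decide) (by decide) (by decide) (by decide) (by decide) (by decide) rfl
    · exact six 4 3 5 (by decide) (by decide) (by decide) (by decide) (by decide) (by decide)
        (by rw [(hcom l 4 l 3).mul_mul_mul_comm])
    · refine six 5 3 4 (by decide) (by decide) (by decide) (by decide) (by decide) (by decide) ?_
      rw [(hcom l 5 l 3).mul_mul_mul_comm, (hcom l 5 l 4).eq]
  have hb : p 1 1 ∈ perp D (p 1 0) :=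
    ⟨(hmem 1 1).1, (C.hexVec_distinct hw hw0 hw1 one_ne_zero (by decide)).symm, hcom 1 0 1 1⟩
  have h2 := htrace 1 one_ne_zero 2 le_rfl
  have hbound := (B.lines _ (hmem 1 0).1).bound _ hb _ h2.1
  classical
  let s : Finset G := {p 1 2, p 1 3, p 1 4, p 1 5, p w 3}
  have hs5 : s.card = 5 := by
    have d1 : ∀ {i j : Fin 6}, i < j → p 1 i ≠ p 1 j := fun h => C.hexVec_distinct hw hw0 hw1 one_ne_zero h
    have d2 : ∀ i, p 1 i ≠ p w 3 := C.hexVec_other hw hw0 hw1
    simp [s, Finset.card_insert_of_notMem, d1 (show (2 : Fin 6) < 3 by decide),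
      d1 (show (2 : Fin 6) < 4 by decide), d1 (show (2 : Fin 6) < 5 by decide),
      d1 (show (3 : Fin 6) < 4 by decide), d1 (show (3 : Fin 6) < 5 by decide),
      d1 (show (4 : Fin 6) < 5 by decide), d2]
  have hsub : (s : Set G) ⊆ traceClass D (p 1 0) (p 1 1) (p 1 2) := by
    intro y hy
    simp only [s, Finset.coe_insert, Finset.coe_singleton, Set.mem_insert_iff, Set.mem_singleton_iff] at hy
    rcases hy with rfl | rfl | rfl | rfl | rfl
    · exact h2
    · exact htrace 1 one_ne_zero 3 (by decide)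
    · exact htrace 1 one_ne_zero 4 (by decide)
    · exact htrace 1 one_ne_zero 5 (by decide)
    · have hp : ∀ i : Fin 6, i < 3 → p w i = p 1 i := by
        intro i hi
        have : i = 0 ∨ i = 1 ∨ i = 2 := by revert hi; revert i; decide
        rcases this with rfl | rfl | rfl <;> simp [p, Ctx.hexVec]
      have := htrace w hw0 3 (by decide)
      rwa [hp 0 (by decide), hp 1 (by decide), hp 2 (by decide)] at this
  have := Set.ncard_le_ncard hsub (Set.toFinite _)
  rw [Set.ncard_coe_finset, hs5] at this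
  omega

include B in
theorem exists_odd {a : G} (ha : a ∈ D) : ∃ w, Odd' D a w := by
  obtain ⟨z, hz1, hz2, hzev, hza, hzp⟩ := B.exists_hexad ha
  rcases B.choice ha hza hzp with h | h
  · exact absurd (W_eq_one B.hD B.core ha ⟨hzev, hz2, B.fixes_of_star ha ⟨hza, hzp, h⟩⟩) hz1
  refine ⟨a * z, ?_, ?_, B.fixes_of_star ha ⟨(Commute.refl a).mul_left hza, fun y hy => ?_, h⟩⟩
  · rw [hza.mul_mul_mul_comm, mul_self B.hD.1 ha, hz2, one_mul]
  · rwa [← mul_assoc, mul_self B.hD.1 ha, one_mul]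
  · exact hy.2.2.mul_left (hzp y hy)

include B in
/-- the commuting graph is connected -/
theorem connected {a x : G} (ha : a ∈ D) (hx : x ∈ D) : Conn D a x :=
  connected_of_odd B.hD B.core (fun _ h => B.perp_nonempty h) (fun _ h => B.exists_odd h) ha hx

include B in
/-- conjugation is primitive on the transpositions -/
theorem primitive (hne : D.Nonempty) : Cfsg.IsPrimitiveUnderConj D := by
  obtain ⟨a₀, ha₀⟩ := hne
  obtain ⟨e₀, he₀⟩ := B.perp_nonempty ha₀
  refine ⟨B.hcl, ⟨a₀, ha₀, e₀, he₀.1, Ne.symm he₀.2.1⟩, fun K hK hblock => ?_⟩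
  by_cases hss : K.Subsingleton
  · exact Or.inl hss
  right
  obtain ⟨a, haK, b, hbK, hab⟩ := Set.not_subsingleton_iff.mp hss
  have stab : ∀ v ∈ K, ∀ k ∈ Subgroup.closure {y | y ∈ D ∧ Commute y v}, ∀ c ∈ K, k * c * k⁻¹ ∈ K := by
    intro v hv k hk
    have hgen : ∀ y ∈ D, Commute y v → (fun x => y * x * y⁻¹) '' K = K := fun y hy hyv =>
      (hblock y).resolve_right (Set.not_disjoint_iff.mpr
        ⟨v, ⟨v, hv, by simp only [hyv.eq, mul_inv_cancel_right]⟩, hv⟩)
    induction hk using Subgroup.closure_induction_left with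
    | one => simp
    | mul_left y hy k _ ih =>
      intro c hc
      rw [← hgen y hy.1 hy.2]
      exact ⟨_, ih c hc, by group⟩
    | inv_mul_cancel y hy k _ ih =>
      intro c hc
      rw [inv_eq B.hD.1 hy.1, ← hgen y hy.1 hy.2]
      exact ⟨_, ih c hc, by group⟩
  have edge : ∀ v ∈ K, ∀ u ∈ K, u ∈ perp D v → K = D := by
    have hperp : ∀ v ∈ K, ∀ u ∈ K, u ∈ perp D v → perp D v ⊆ K := by
      intro v hv u hu huv u' hu'
      obtain ⟨c, hc, hcu, huc⟩ := (B.lines v (hK hv)).second u huv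
      obtain ⟨c', hc', hcu', huc'⟩ := (B.lines v (hK hv)).second u' hu'
      obtain ⟨h, hh, hhu, -⟩ := (B.lines v (hK hv)).trans u huv c hc (Ne.symm hcu) huc u' hu' c' hc'
        (Ne.symm hcu') huc'
      rw [← hhu]
      have hle : perp D v ⊆ {y | y ∈ D ∧ Commute y v} := fun y hy => ⟨hy.1, hy.2.2.symm⟩
      exact stab v hv h (Subgroup.closure_mono hle hh) u hu
    intro v hv u hu huv
    refine Set.Subset.antisymm hK fun y hy => ?_
    suffices h : ∀ y, Conn D v y → y ∈ K ∧ perp D y ⊆ K from (h y (B.connected (hK hv) hy)).1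
    intro y hy
    induction hy with
    | refl => exact ⟨hv, hperp v hv u hu huv⟩
    | @tail p q _ hs ih =>
      by_cases hqp : q = p
      · exact hqp ▸ ih
      have hq : q ∈ K := ih.2 ⟨hs.2.1, hqp, hs.2.2⟩
      exact ⟨hq, hperp q hq p ih.1 ⟨hs.1, Ne.symm hqp, hs.2.2.symm⟩⟩
  by_contra hKD
  have haD := hK haK
  have hbD := hK hbK
  have hnc : ¬ Commute a b := fun h => hKD (edge a haK b hbK ⟨hbD, hab.symm, h⟩)
  by_cases hcommon : (perp₂ D a b).Nonempty
  · obtain ⟨p, hpa, hpb⟩ := hcommon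
    have hap : a ∈ perp D p := ⟨haD, Ne.symm hpa.2.1, hpa.2.2.symm⟩
    have hbp : b ∈ perp D p := ⟨hbD, Ne.symm hpb.2.1, hpb.2.2.symm⟩
    obtain ⟨q, hq, hqb, hbq, haq⟩ := (B.ctx p hpa.1).exists_off_nonedge hap hbp hnc
    obtain ⟨k, hk, hkb⟩ := (B.ctx p hpa.1).exists_move_off hap hbp hq hnc haq
    refine hKD (edge b hbK q ?_ ⟨hq.1, hqb, hbq⟩)
    rw [← hkb]
    have hle : Ctx.pointStar D p a ⊆ {y | y ∈ D ∧ Commute y a} := fun y hy => ⟨hy.1.1, hy.2.symm⟩
    exact stab a haK k (Subgroup.closure_mono hle hk) b hbK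
  · obtain ⟨y, hy⟩ := B.perp_nonempty haD
    obtain ⟨y', hy', hyy', hcyy'⟩ := (B.lines a haD).second y hy
    have nc : ∀ {y : G}, y ∈ perp D a → ¬ Commute y b := fun {y} hy h =>
      hcommon ⟨y, hy, hy.1, fun h' => hnc (h' ▸ hy.2.2), h.symm⟩
    have inK : ∀ {y : G}, y ∈ perp D a → b * y * b ∈ K := fun {y} hy => by
      rw [← braid B.hD.1 hy.1 hbD (nc hy)]
      have := stab a haK y (Subgroup.subset_closure ⟨hy.1, hy.2.2.symm⟩) b hbK
      rwa [inv_eq B.hD.1 hy.1] at this
    refine hKD (edge _ (inK hy) _ (inK hy') ⟨hK (inK hy'), fun h => hyy' ?_, ?_⟩)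
    · rw [← conj_self_inv B.hD.1 hbD y', h, conj_self_inv B.hD.1 hbD]
    · exact (conj_comm_iff B.hD.1 hbD).mpr hcyy'

end Base

/-- the data of a group of type M(22) -/
theorem exists_base (hD : Cfsg.IsThreeTranspositionGroup D) (h : Cfsg.IsOfTypeM22 G D) :
    ∃ (F : Type) (_ : Field F) (_ : Fintype F), Nonempty (Base D F) ∧ D.Nonempty := by
  have h' := h
  obtain ⟨hZ, d, hd, c, hc, hdc, hH, c₃, -, hL⟩ := h'
  have hE := closed hD
  have hg := good_of_psu Simple.simple_psu hE d hH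
  have htr := single_class hE hD.2.2 hZ hd hc hdc hg (reflection_not_dvd (Or.inl rfl) hL)
  have hcl : ∀ a ∈ D, ∀ b ∈ D, ∃ g : G, g * a * g⁻¹ = b := by
    intro a ha b hb
    obtain ⟨g, rfl⟩ := htr a ha
    obtain ⟨k, rfl⟩ := htr b hb
    exact ⟨k * g⁻¹, by group⟩
  have hsub := subsetEq_of_class hD hcl (no_twins hE hD.2.2 hd hg htr)
  obtain ⟨F, iF, iF', hctx⟩ := exists_ctx' hD hcl hsub h
  let C := (hctx d hd).some
  refine ⟨F, iF, iF', ⟨⟨hD, hcl, hsub, core_bot hE hD.2.2 hZ hd hg htr, fun a ha => (hctx a ha).some,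
    fun a ha => ?_⟩⟩, d, hd⟩
  obtain ⟨g, rfl⟩ := htr a ha
  exact (lineData_witness hD hsub hd C.hF C.φ C.surj C.ker).conj hD g

/-- type M(22) forces primitivity -/
theorem primitive_of_M22 (hD : Cfsg.IsThreeTranspositionGroup D) (h : Cfsg.IsOfTypeM22 G D) :
    Cfsg.IsPrimitiveUnderConj D := by
  obtain ⟨F, iF, iF', ⟨B⟩, hne⟩ := exists_base hD h
  exact B.primitive hne

end Cfsg.Agent.Lib.FischerMTypes.Connected
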