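import Mathlib
import Cfsg.Agent.Lib.FischerMTypes.Shorten

/-!
Type M(22): two commuting neighbours of a point extend to a plane, 21 pairwise commuting points.
-/

set_option autoImplicit false
set_option linter.style.haveILetI false
set_option linter.unusedSectionVars false

namespace Cfsg.Agent.Lib.FischerMTypes.PointModel

open Cfsg.Agent.Lib.FischerMTypes.Basic Cfsg.Agent.Lib.FischerMTypes.Primitive
  Cfsg.Agent.Lib.FischerMTypes.Levels
open Cfsg.Agent.Lib.Unitary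
open Cfsg.Agent.Lib.UnitaryFour.Transvection Cfsg.Agent.Lib.UnitaryFour.Counts

variable {G : Type*} [Group G] [Finite G] {D : Set G}
variable {F : Type} [Field F] [Fintype F]

local notation "h⟪" u ", " v "⟫" => Cfsg.hermForm 6 F 2 u v

variable {a : G} (C : Ctx D a F)

namespace Ctx

include C in
/-- three independent orthogonal points give 21 pairwise commuting points -/
theorem plane_of_not_span {e s t : Fin 6 → F} (he : h⟪e, e⟫ = 0) (he0 : e ≠ 0) (hs : h⟪s, s⟫ = 0)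
    (hs0 : s ≠ 0) (ht : h⟪t, t⟫ = 0) (ht0 : t ≠ 0) (hne : C.pt e ≠ C.pt s) (hes : h⟪e, s⟫ = 0)
    (het : h⟪e, t⟫ = 0) (hst : h⟪s, t⟫ = 0)
    (htspan : t ∉ Submodule.span F ({e, s} : Set (Fin 6 → F))) :
    {y | y ∈ perp D a ∧ Commute (C.pt e) y ∧ Commute (C.pt s) y ∧ Commute (C.pt t) y}.ncard = 21 ∧
      ∀ y₁ ∈ perp D a, Commute (C.pt e) y₁ → Commute (C.pt s) y₁ → Commute (C.pt t) y₁ →
        ∀ y₂ ∈ perp D a, Commute (C.pt e) y₂ → Commute (C.pt s) y₂ → Commute (C.pt t) y₂ →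
          Commute y₁ y₂ := by
  classical
  set r : Fin 3 → Fin 6 → F := ![e, s, t] with hr_def
  have hli : LinearIndependent F r := by
    have hli2 : LinearIndependent F ![e, s] := C.li_pair he he0 hs hs0 hne
    rw [Fintype.linearIndependent_iff]
    intro k hk
    rw [Fin.sum_univ_three] at hk
    simp only [hr_def, Matrix.cons_val] at hk
    have hk2 : k 2 = 0 := by
      by_contra hne
      refine htspan (Submodule.mem_span_pair.mpr ⟨-(k 2)⁻¹ * k 0, -(k 2)⁻¹ * k 1, ?_⟩)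
      have := congrArg (fun u => (k 2)⁻¹ • u) hk
      simp only [smul_add, smul_smul, inv_mul_cancel₀ hne, one_smul, smul_zero] at this
      rw [eq_neg_of_add_eq_zero_right this, neg_mul, neg_mul, neg_smul, neg_smul]
      abel
    rw [hk2, zero_smul, add_zero] at hk
    obtain ⟨k0, k1⟩ := LinearIndependent.pair_iff.mp hli2 _ _ hk
    intro j; fin_cases j
    · exact k0
    · exact k1
    · exact hk2
  have hr : ∀ i j, h⟪r i, r j⟫ = 0 := by
    intro i j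
    fin_cases i <;> fin_cases j <;>
      simp [hr_def, he, hs, ht, hes, het, hst, herm_eq_zero_symm C.hF hes, herm_eq_zero_symm C.hF het,
        herm_eq_zero_symm C.hF hst]
  set T : Set (Fin 6 → F) := {v | (∀ i, h⟪v, r i⟫ = 0) ∧ h⟪v, v⟫ = 0} with hT
  have hT64 : T.ncard = 64 := count_plane C.hF hli hr
  have hTeq : Set.range (combo r) = T := by
    refine Set.eq_of_subset_of_ncard_le ?_ (le_of_eq ?_) (Set.toFinite _)
    · rintro _ ⟨c, rfl⟩
      exact ⟨fun i => by simp [combo, herm_add_left, herm_smul_left, hr], combo_herm C.hF hr c c⟩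
    · rw [hT64, Set.ncard_range_of_injective (combo_injective hli), Nat.card_fun, Nat.card_eq_fintype_card,
        C.hF, Nat.card_eq_fintype_card, Fintype.card_fin]
      norm_num
  have hmem : ∀ {v}, h⟪v, v⟫ = 0 → v ≠ 0 → Commute (C.pt e) (C.pt v) → Commute (C.pt s) (C.pt v) →
      Commute (C.pt t) (C.pt v) → v ∈ T := by
    intro v hv hv0 c1 c2 c3
    refine ⟨fun i => ?_, hv⟩
    fin_cases i
    · exact herm_eq_zero_symm C.hF ((C.pt_comm he he0 hv hv0).mp c1)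
    · exact herm_eq_zero_symm C.hF ((C.pt_comm hs hs0 hv hv0).mp c2)
    · exact herm_eq_zero_symm C.hF ((C.pt_comm ht ht0 hv hv0).mp c3)
  refine ⟨?_, ?_⟩
  · have h := C.three_mul_ncard fun y => Commute (C.pt e) y ∧ Commute (C.pt s) y ∧ Commute (C.pt t) y
    have hz0 : {v : Fin 6 → F | h⟪v, v⟫ = 0 ∧ v ≠ 0 ∧ (Commute (C.pt e) (C.pt v) ∧ Commute (C.pt s) (C.pt v) ∧
        Commute (C.pt t) (C.pt v))} = T \ {0} := by
      ext v
      constructor
      · rintro ⟨hv, hv0, c1, c2, c3⟩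
        exact ⟨hmem hv hv0 c1 c2 c3, hv0⟩
      · rintro ⟨⟨hvr, hv⟩, hv0⟩
        exact ⟨hv, hv0, (C.pt_comm he he0 hv hv0).mpr (herm_eq_zero_symm C.hF (hvr 0)),
          (C.pt_comm hs hs0 hv hv0).mpr (herm_eq_zero_symm C.hF (hvr 1)),
          (C.pt_comm ht ht0 hv hv0).mpr (herm_eq_zero_symm C.hF (hvr 2))⟩
    rw [hz0, Set.ncard_sdiff_singleton_of_mem (show (0 : Fin 6 → F) ∈ T from
      ⟨fun _ => herm_zero_left _, herm_zero_left _⟩), hT64] at h
    omega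
  · intro y₁ h₁ a1 b1 c1 y₂ h₂ a2 b2 c2
    obtain ⟨v, hv, hv0, rfl⟩ := C.exists_pt h₁
    obtain ⟨u, hu, hu0, rfl⟩ := C.exists_pt h₂
    obtain ⟨cv, rfl⟩ := hTeq.symm.subset (hmem hv hv0 a1 b1 c1)
    obtain ⟨cu, rfl⟩ := hTeq.symm.subset (hmem hu hu0 a2 b2 c2)
    exact (C.pt_comm hv hv0 hu hu0).mpr (combo_herm C.hF hr cv cu)


include C in
/-- a plane through two commuting neighbours of a point, seen by a third -/
theorem exists_plane {p z z' : G} (hp : p ∈ perp D a) (hz : z ∈ perp₂ D a p) (hz' : z' ∈ perp₂ D a p)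
    (hzz' : Commute z z') :
    ∃ w ∈ perp₂ D a p, Commute z w ∧ Commute z' w ∧
      {y | y ∈ perp D a ∧ Commute p y ∧ Commute z y ∧ Commute w y}.ncard = 21 ∧
      ∀ y₁ ∈ perp D a, Commute p y₁ → Commute z y₁ → Commute w y₁ →
        ∀ y₂ ∈ perp D a, Commute p y₂ → Commute z y₂ → Commute w y₂ → Commute y₁ y₂ := by
  classical
  obtain ⟨e, he, he0, rfl⟩ := C.exists_pt hp
  obtain ⟨s, hs, hs0, rfl⟩ := C.exists_pt hz.1
  obtain ⟨s', hs', hs'0, rfl⟩ := C.exists_pt hz'.1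
  have hne : C.pt e ≠ C.pt s := Ne.symm hz.2.2.1
  have hes : h⟪e, s⟫ = 0 := (C.pt_comm he he0 hs hs0).mp hz.2.2.2
  have hes' : h⟪e, s'⟫ = 0 := (C.pt_comm he he0 hs' hs'0).mp hz'.2.2.2
  have hss' : h⟪s, s'⟫ = 0 := (C.pt_comm hs hs0 hs' hs'0).mp hzz'
  obtain ⟨t, ht, ht0, het, hst, hs't, htspan⟩ : ∃ t, h⟪t, t⟫ = 0 ∧ t ≠ 0 ∧ h⟪e, t⟫ = 0 ∧ h⟪s, t⟫ = 0 ∧
      h⟪s', t⟫ = 0 ∧ t ∉ Submodule.span F ({e, s} : Set (Fin 6 → F)) := by
    by_cases hdep : s' ∈ Submodule.span F ({e, s} : Set (Fin 6 → F))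
    · obtain ⟨α, β, rfl⟩ := Submodule.mem_span_pair.mp hdep
      have hnot : ¬ {y | y ∈ perp D a ∧ (y ≠ C.pt e ∧ y ≠ C.pt s ∧ Commute (C.pt e) y ∧ Commute (C.pt s) y)} ⊆
          Set.range fun c : F × F => C.pt (c.1 • e + c.2 • s) := by
        intro hsub
        have h1 := Set.ncard_le_ncard hsub (Set.toFinite _)
        have h2 : (Set.range fun c : F × F => C.pt (c.1 • e + c.2 • s)).ncard ≤ 16 := by
          rw [← Nat.card_coe_set_eq]
          refine (Finite.card_range_le _).trans ?_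
          rw [Nat.card_eq_fintype_card, Fintype.card_prod, C.hF]
          norm_num
        rw [C.ncard_edge₂ hp hz.1 hne hz.2.2.2] at h1
        omega
      obtain ⟨y, hy, hyr⟩ := Set.not_subset.mp hnot
      obtain ⟨t, ht, ht0, rfl⟩ := C.exists_pt hy.1
      have het : h⟪e, t⟫ = 0 := (C.pt_comm he he0 ht ht0).mp hy.2.2.2.1
      have hst : h⟪s, t⟫ = 0 := (C.pt_comm hs hs0 ht ht0).mp hy.2.2.2.2
      refine ⟨t, ht, ht0, het, hst, by simp [herm_add_left, herm_smul_left, het, hst], fun hm => ?_⟩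
      obtain ⟨γ, δ, rfl⟩ := Submodule.mem_span_pair.mp hm
      exact hyr ⟨(γ, δ), rfl⟩
    · exact ⟨s', hs', hs'0, hes', hss', hs', hdep⟩
  have hwe : C.pt t ≠ C.pt e := fun h => by
    obtain ⟨k, -, hk⟩ := (C.pt_eq he he0 ht ht0).mp h.symm
    exact htspan (Submodule.mem_span_pair.mpr ⟨k, 0, by simp [hk]⟩)
  exact ⟨C.pt t, ⟨C.pt_mem ht ht0, (C.pt_mem ht ht0).1, hwe, (C.pt_comm he he0 ht ht0).mpr het⟩,
    (C.pt_comm hs hs0 ht ht0).mpr hst, (C.pt_comm hs' hs'0 ht ht0).mpr hs't,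
    C.plane_of_not_span he he0 hs hs0 ht ht0 hne hes het hst htspan⟩

include C in
/-- beside at most three points of the line, a common neighbour of two points spans a plane with them -/
theorem line_or_plane {p z : G} (hp : p ∈ perp D a) (hz : z ∈ perp₂ D a p) :
    ∃ L : Set G, L.ncard ≤ 3 ∧ ∀ w ∈ perp D a, w ≠ p → w ≠ z → Commute p w → Commute z w → w ∉ L →
      {y | y ∈ perp D a ∧ Commute p y ∧ Commute z y ∧ Commute w y}.ncard = 21 ∧
      ∀ y₁ ∈ perp D a, Commute p y₁ → Commute z y₁ → Commute w y₁ →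
        ∀ y₂ ∈ perp D a, Commute p y₂ → Commute z y₂ → Commute w y₂ → Commute y₁ y₂ := by
  classical
  obtain ⟨e, he, he0, rfl⟩ := C.exists_pt hp
  obtain ⟨s, hs, hs0, rfl⟩ := C.exists_pt hz.1
  have hne : C.pt e ≠ C.pt s := Ne.symm hz.2.2.1
  have hes : h⟪e, s⟫ = 0 := (C.pt_comm he he0 hs hs0).mp hz.2.2.2
  refine ⟨{y | y ∈ perp D a ∧ (y ≠ C.pt e ∧ y ≠ C.pt s ∧
    ∃ v : Fin 6 → F, v ∈ Submodule.span F ({e, s} : Set (Fin 6 → F)) ∧ v ≠ 0 ∧ C.pt v = y)}, ?_, ?_⟩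
  · have h := C.three_mul_ncard fun y => y ≠ C.pt e ∧ y ≠ C.pt s ∧
      ∃ v : Fin 6 → F, v ∈ Submodule.span F ({e, s} : Set (Fin 6 → F)) ∧ v ≠ 0 ∧ C.pt v = y
    have hker : ∀ v ∈ Submodule.span F ({e, s} : Set (Fin 6 → F)), h⟪v, v⟫ = 0 := by
      intro v hv
      obtain ⟨α, β, rfl⟩ := Submodule.mem_span_pair.mp hv
      simp [herm_add_left, herm_add_right _ _ _ C.hF, herm_smul_left, herm_smul_right, he, hs, hes,
        herm_eq_zero_symm C.hF hes]
    have hsub : {v : Fin 6 → F | h⟪v, v⟫ = 0 ∧ v ≠ 0 ∧ (C.pt v ≠ C.pt e ∧ C.pt v ≠ C.pt s ∧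
        ∃ u : Fin 6 → F, u ∈ Submodule.span F ({e, s} : Set (Fin 6 → F)) ∧ u ≠ 0 ∧ C.pt u = C.pt v)} ⊆
        (fun c : F × F => c.1 • e + c.2 • s) '' {c | c.1 ≠ 0 ∧ c.2 ≠ 0} := by
      rintro v ⟨hv, hv0, n1, n2, u, hu, hu0, huv⟩
      obtain ⟨k, hk, rfl⟩ := (C.pt_eq (hker u hu) hu0 hv hv0).mp huv
      obtain ⟨α, β, rfl⟩ := Submodule.mem_span_pair.mp hu
      have hk0 : k • (α • e + β • s) = (k * α) • e + (k * β) • s := by rw [smul_add, smul_smul, smul_smul]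
      rw [hk0] at n1 n2 hv0
      refine ⟨(k * α, k * β), ⟨fun h0 => n2 ?_, fun h0 => n1 ?_⟩, hk0.symm⟩
      · change k * α = 0 at h0
        rw [h0, zero_smul, zero_add] at hv0 ⊢
        exact C.pt_smul hs hs0 fun h1 => hv0 (by rw [h1, zero_smul])
      · change k * β = 0 at h0
        rw [h0, zero_smul, add_zero] at hv0 ⊢
        exact C.pt_smul he he0 fun h1 => hv0 (by rw [h1, zero_smul])
    have h9 : ({c : F × F | c.1 ≠ 0 ∧ c.2 ≠ 0}).ncard = 9 := by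
      rw [show {c : F × F | c.1 ≠ 0 ∧ c.2 ≠ 0} = ({(0 : F)}ᶜ ×ˢ {(0 : F)}ᶜ) from by ext c; simp,
        Set.ncard_prod, Set.ncard_compl, Set.ncard_singleton, Nat.card_eq_fintype_card, C.hF]
      norm_num
    have h1 := (Set.ncard_le_ncard hsub (Set.toFinite _)).trans (Set.ncard_image_le (Set.toFinite _))
    rw [h9] at h1
    omega
  · intro w hw n1 n2 c1 c2 hwL
    obtain ⟨t, ht, ht0, rfl⟩ := C.exists_pt hw
    exact C.plane_of_not_span he he0 hs hs0 ht ht0 hne hes ((C.pt_comm he he0 ht ht0).mp c1)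
      ((C.pt_comm hs hs0 ht ht0).mp c2) fun hm => hwL ⟨hw, n1, n2, t, hm, ht0, rfl⟩

end Ctx

end Cfsg.Agent.Lib.FischerMTypes.PointModel
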