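import Mathlib
import Cfsg.Agent.Lib.FischerMTypes.InvolutionsM22

/-!
Type M(22): the centraliser of a product of three pairwise commuting transpositions has order
`2^16 * 3^3`.  There are `3510 * 693 * 180` ordered triples and each product comes from twelve.
-/

set_option autoImplicit false
set_option linter.style.haveILetI false
set_option linter.unusedSectionVars false

namespace Cfsg.Agent.Lib.FischerMTypes.TripleCentralizer

open Cfsg.Agent.Lib.FischerMTypes.Basic Cfsg.Agent.Lib.FischerMTypes.Primitive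
  Cfsg.Agent.Lib.FischerMTypes.PointModel Cfsg.Agent.Lib.FischerMTypes.TraceCounts
  Cfsg.Agent.Lib.FischerMTypes.TraceSize Cfsg.Agent.Lib.FischerMTypes.SixSets
  Cfsg.Agent.Lib.FischerMTypes.OrderWidth Cfsg.Agent.Lib.FischerMTypes.Shorten
  Cfsg.Agent.Lib.FischerMTypes.InvolutionsM22

variable {G : Type*} [Group G] [Finite G] {D : Set G}
variable {F : Type} [Field F] [Fintype F]

theorem card_mul_card_class (x : G) :
    Nat.card ↥(Subgroup.centralizer ({x} : Set G)) * {y : G | IsConj x y}.ncard = Nat.card G := by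
  have hidx : (Subgroup.centralizer ({x} : Set G)).index = {y : G | IsConj x y}.ncard := by
    rw [Subgroup.index_eq_card, ← Nat.card_coe_set_eq]
    refine Nat.card_congr (Equiv.ofBijective (Quotient.lift
      (fun g : G => (⟨g * x * g⁻¹, isConj_iff.mpr ⟨g, rfl⟩⟩ : {y : G | IsConj x y})) ?_) ⟨?_, ?_⟩)
    · intro g g' h
      have h' := Subgroup.mem_centralizer_singleton_iff.mp (QuotientGroup.leftRel_apply.mp h)
      refine Subtype.ext ?_
      show g * x * g⁻¹ = g' * x * g'⁻¹
      calc g * x * g⁻¹ = g * (x * (g⁻¹ * g')) * g'⁻¹ := by group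
        _ = g * (g⁻¹ * g' * x) * g'⁻¹ := by rw [h']
        _ = g' * x * g'⁻¹ := by group
    · intro u v
      induction u using Quotient.inductionOn with | _ g => ?_
      induction v using Quotient.inductionOn with | _ g' => ?_
      intro h
      have h' : g * x * g⁻¹ = g' * x * g'⁻¹ := congrArg Subtype.val h
      refine Quotient.sound (QuotientGroup.leftRel_apply.mpr (Subgroup.mem_centralizer_singleton_iff.mpr ?_))
      calc g⁻¹ * g' * x = g⁻¹ * (g' * x * g'⁻¹) * g' := by group
        _ = g⁻¹ * (g * x * g⁻¹) * g' := by rw [h']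
        _ = x * (g⁻¹ * g') := by group
    · rintro ⟨y, hy⟩
      obtain ⟨g, hg⟩ := isConj_iff.mp hy
      exact ⟨Quotient.mk _ g, Subtype.ext hg⟩
  rw [← hidx, Subgroup.card_mul_index]

variable (S : Sys D F)

include S in
theorem card_centralizer_triple {j : G} (hj : IsProd D 3 j) :
    Nat.card ↥(Subgroup.centralizer ({j} : Set G)) = 2 ^ 16 * 3 ^ 3 := by
  classical
  letI : Fintype G := Fintype.ofFinite G
  -- ordered triples
  let X := Σ a : D, Σ b : perp D a.1, perp₂ D a.1 b.1
  have hXcard : Fintype.card X = 3510 * (693 * 180) := by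
    have h1 : ∀ a : D, Fintype.card (Σ b : perp D a.1, perp₂ D a.1 b.1) = 693 * 180 := by
      intro a
      rw [Fintype.card_sigma, Finset.sum_const_nat (m := 180) fun b _ => ?_]
      · rw [Finset.card_univ, ← Nat.card_eq_fintype_card, Nat.card_coe_set_eq, (S.ctx a.1 a.2).ncard_perp]
      · rw [← Nat.card_eq_fintype_card, Nat.card_coe_set_eq, (S.ctx a.1 a.2).ncard_edge b.2]
    rw [Fintype.card_sigma, Finset.sum_const_nat (m := 693 * 180) fun a _ => h1 a, Finset.card_univ,
      ← Nat.card_eq_fintype_card, Nat.card_coe_set_eq, ncard_class S]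
  let f : X → List G := fun t => [t.1.1, t.2.1.1, t.2.2.1]
  have hfinj : Function.Injective f := by
    rintro ⟨⟨a, ha⟩, ⟨b, hb⟩, ⟨c, hc⟩⟩ ⟨⟨a', ha'⟩, ⟨b', hb'⟩, ⟨c', hc'⟩⟩ h
    simp only [f, List.cons.injEq, and_true] at h
    obtain ⟨rfl, rfl, rfl⟩ := h
    rfl
  set s : Finset (List G) := Finset.univ.image f
  have hs : s.card = 3510 * (693 * 180) := by
    rw [Finset.card_image_of_injective _ hfinj, Finset.card_univ, hXcard]
  have hmem : ∀ l : List G, l ∈ s ↔
      (l.Nodup ∧ l.length = 3 ∧ (∀ a ∈ l, a ∈ D) ∧ ∀ a ∈ l, ∀ b ∈ l, Commute a b) := by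
    intro l
    constructor
    · intro hl
      obtain ⟨⟨⟨a, ha⟩, ⟨b, hb⟩, ⟨c, hc⟩⟩, -, rfl⟩ := Finset.mem_image.mp hl
      refine ⟨?_, rfl, ?_, ?_⟩
      · simp [f, Ne.symm hb.2.1, Ne.symm hc.1.2.1, Ne.symm hc.2.2.1]
      · simp [f, ha, hb.1, hc.1.1]
      · simp [f, hb.2.2, hb.2.2.symm, hc.1.2.2, hc.1.2.2.symm, hc.2.2.2, hc.2.2.2.symm]
    · rintro ⟨hn, hlen, hd, hc⟩
      obtain ⟨a, b, c, rfl⟩ := List.length_eq_three.mp hlen
      simp only [List.nodup_cons, List.mem_cons, List.not_mem_nil, or_false, not_or, List.nodup_nil, and_true,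
        not_false_eq_true] at hn
      exact Finset.mem_image.mpr ⟨⟨⟨a, hd a (by simp)⟩, ⟨b, hd b (by simp), Ne.symm hn.1.1, hc a (by simp) b (by simp)⟩,
        ⟨c, ⟨hd c (by simp), Ne.symm hn.1.2, hc a (by simp) c (by simp)⟩, hd c (by simp), Ne.symm hn.2,
          hc b (by simp) c (by simp)⟩⟩, Finset.mem_univ _, rfl⟩
  set t : Finset G := Finset.univ.filter fun y => IsConj j y
  have hmaps : ∀ l ∈ s, l.prod ∈ t := fun l hl => by
    obtain ⟨h1, h2, h3, h4⟩ := (hmem l).mp hl
    exact Finset.mem_filter.mpr ⟨Finset.mem_univ _,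
      isConj_prod S (by norm_num) le_rfl hj ⟨l, h1, h2, h3, h4, rfl⟩⟩
  have hfib : ∀ y ∈ t, (s.filter fun l => l.prod = y).card = 12 := by
    intro y hy
    obtain ⟨g, rfl⟩ := isConj_iff.mp (Finset.mem_filter.mp hy).2
    obtain ⟨l₀, hn, hlen, hd, hc, rfl⟩ := hj
    -- the conjugate triple
    have hmap : (g * l₀.prod * g⁻¹) = (l₀.map (MulAut.conj g)).prod := by
      rw [← map_list_prod]; rfl
    have T0 : IsTriple D (g * l₀.prod * g⁻¹) (l₀.map (MulAut.conj g)) := by
      refine ⟨hn.map (MulAut.conj g).injective, by simp [hlen], ?_, ?_, hmap.symm⟩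
      · intro z hz
        obtain ⟨u, hu, rfl⟩ := List.mem_map.mp hz
        exact S.hD.2.1 g u (hd u hu)
      · intro z hz z' hz'
        obtain ⟨u, hu, rfl⟩ := List.mem_map.mp hz
        obtain ⟨v, hv, rfl⟩ := List.mem_map.mp hz'
        exact (commute_conj_iff g u v).mpr (hc u hu v hv)
    obtain ⟨l₁, l₂, T1, T2, hne, hall⟩ := two_factorisations S.hD S.hprim S.hZ S.lines _ _ T0
    have hset : (s.filter fun l => l.prod = g * l₀.prod * g⁻¹) =
        l₁.permutations.toFinset ∪ l₂.permutations.toFinset := by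
      ext l
      simp only [Finset.mem_filter, hmem, Finset.mem_union, List.mem_toFinset, List.mem_permutations]
      constructor
      · rintro ⟨⟨h1, h2, h3, h4⟩, h5⟩
        rcases hall l ⟨h1, h2, h3, h4, h5⟩ with h | h
        · exact Or.inl ((List.perm_ext_iff_of_nodup h1 T1.1).mpr h)
        · exact Or.inr ((List.perm_ext_iff_of_nodup h1 T2.1).mpr h)
      · have key : ∀ {m : List G}, IsTriple D (g * l₀.prod * g⁻¹) m → l.Perm m →
            (l.Nodup ∧ l.length = 3 ∧ (∀ a ∈ l, a ∈ D) ∧ ∀ a ∈ l, ∀ b ∈ l, Commute a b) ∧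
              l.prod = g * l₀.prod * g⁻¹ := fun {m} hm hp =>
          ⟨⟨hp.nodup_iff.mpr hm.1, by rw [hp.length_eq, hm.2.1], fun a ha => hm.2.2.1 a (hp.mem_iff.mp ha),
            fun a ha b hb => hm.2.2.2.1 a (hp.mem_iff.mp ha) b (hp.mem_iff.mp hb)⟩,
            by rw [← hm.2.2.2.2]; exact hp.prod_eq' (List.pairwise_iff_forall_sublist.mpr fun hs =>
              hm.2.2.2.1 _ (hp.mem_iff.mp (hs.subset (by simp))) _ (hp.mem_iff.mp (hs.subset (by simp))))⟩
        rintro (h | h)
        · exact key T1 h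
        · exact key T2 h
    rw [hset, Finset.card_union_of_disjoint, List.toFinset_card_of_nodup (List.nodup_permutations _ T1.1),
      List.toFinset_card_of_nodup (List.nodup_permutations _ T2.1), List.length_permutations,
      List.length_permutations, T1.2.1, T2.2.1]
    · rfl
    · rw [Finset.disjoint_left]
      intro l h1 h2
      rw [List.mem_toFinset, List.mem_permutations] at h1 h2
      exact hne fun x => by rw [← h1.mem_iff, h2.mem_iff]
  have hcount := Finset.card_eq_sum_card_fiberwise hmaps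
  rw [hs, Finset.sum_const_nat hfib] at hcount
  have hG := card_mul_card_class j
  have ht : {y : G | IsConj j y}.ncard = t.card := by
    rw [← Set.ncard_coe_finset]; congr 1; ext y; simp [t]
  rw [ht, card_group S] at hG
  generalize Nat.card ↥(Subgroup.centralizer ({j} : Set G)) = N at hG ⊢
  generalize t.card = n at hG hcount
  have hn' : n = 36486450 := by omega
  subst hn'
  norm_num at hG ⊢
  omega

end Cfsg.Agent.Lib.FischerMTypes.TripleCentralizer
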