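import Mathlib
import Cfsg.Agent.Lib.FischerMTypes.Primitive
import Cfsg.Agent.Lib.FischerMTypes.Levels

/-!
The rank three data of a centreless 3-transposition group, used to climb from one type to the next.
-/

set_option autoImplicit false
set_option linter.style.haveILetI false
set_option linter.unusedSectionVars false

namespace Cfsg.Agent.Lib.FischerMTypes.Rank

open Cfsg.Agent.Lib.FischerMTypes.Basic Cfsg.Agent.Lib.FischerMTypes.Primitive
  Cfsg.Agent.Lib.FischerMTypes.Levels

variable {Q : Type*} [Group Q] [Finite Q] {E : Set Q} {N A k n T : ℕ}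

/-- `N` transpositions, `A` neighbours, `k` common neighbours of neighbours, `n` of non-neighbours;
`T` divides the order of the group on a trace modulo its centre -/
structure RankData (E : Set Q) (N A k n T : ℕ) : Prop where
  hD : Cfsg.IsThreeTranspositionGroup E
  hprim : Cfsg.IsPrimitiveUnderConj E
  hZ : Subgroup.center Q = ⊥
  class_card : E.ncard = N
  perp_card : ∀ a ∈ E, (perp E a).ncard = A
  edge : ∀ a ∈ E, ∀ b ∈ perp E a, (perp₂ E a b).ncard = k
  trace : ∀ a ∈ E, ∀ x ∈ E, ¬ Commute a x → (perp₂ E a x).ncard = n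
  trans_perp : ∀ a ∈ E, ∀ b ∈ perp E a, ∀ b' ∈ perp E a,
    ∃ h ∈ Subgroup.closure (perp E a), h * b * h⁻¹ = b'
  trans_far : ∀ a ∈ E, ∀ x ∈ E, ¬ Commute a x → ∀ x' ∈ E, ¬ Commute a x' →
    ∃ h ∈ Subgroup.closure (perp E a), h * x * h⁻¹ = x'
  centralizer : ∀ a ∈ E, Subgroup.closure (perp E a) = Subgroup.centralizer ({a} : Set Q)
  line : ∀ a ∈ E, ∀ x ∈ E, ¬ Commute a x → ∀ y ∈ E, (∀ w ∈ perp₂ E a x, Commute y w) →
    y = a ∨ y = x ∨ y = a * x * a
  trace_dvd : ∀ a ∈ E, ∀ x ∈ E, ¬ Commute a x → T ∣ Nat.card (↥(Subgroup.closure (perp₂ E a x)) ⧸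
    Subgroup.center ↥(Subgroup.closure (perp₂ E a x)))

namespace RankData

variable (R : RankData E N A k n T)

include R in
theorem ncard_off {a : Q} (ha : a ∈ E) : {y | y ∈ E ∧ ¬ Commute a y}.ncard + 1 + A = N := by
  have h : E = insert a (perp E a) ∪ {y | y ∈ E ∧ ¬ Commute a y} := by
    ext y
    constructor
    · intro hy
      by_cases h1 : y = a
      · exact Or.inl (Or.inl h1)
      by_cases h2 : Commute a y
      · exact Or.inl (Or.inr ⟨hy, h1, h2⟩)
      · exact Or.inr ⟨hy, h2⟩
    · rintro ((rfl | hy) | hy)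
      · exact ha
      · exact hy.1
      · exact hy.1
  have h' := congrArg Set.ncard h
  rw [R.class_card, Set.ncard_union_eq ?_, Set.ncard_insert_of_notMem (fun hh => hh.2.1 rfl),
    R.perp_card a ha] at h'
  · omega
  · rw [Set.disjoint_left]
    rintro y (rfl | hy) hy'
    · exact hy'.2 (Commute.refl y)
    · exact hy'.2 hy.2.2

end RankData

end Cfsg.Agent.Lib.FischerMTypes.Rank
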