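import Mathlib
import Cfsg.Agent.Lib.FischerMTypes.StabilizerM22
import Cfsg.Agent.Lib.FischerMTypes.Rank

/-!
The rank three data of a group of type M(22).
-/

set_option autoImplicit false
set_option linter.style.haveILetI false
set_option linter.unusedSectionVars false

namespace Cfsg.Agent.Lib.FischerMTypes.RankM22

open Cfsg.Agent.Lib.FischerMTypes.Basic Cfsg.Agent.Lib.FischerMTypes.Primitive
  Cfsg.Agent.Lib.FischerMTypes.Levels Cfsg.Agent.Lib.FischerMTypes.Rank
  Cfsg.Agent.Lib.FischerMTypes.PointModel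
  Cfsg.Agent.Lib.FischerMTypes.TraceCounts Cfsg.Agent.Lib.FischerMTypes.TraceSize
  Cfsg.Agent.Lib.FischerMTypes.StabilizerM22

variable {G : Type*} [Group G] [Finite G] {D : Set G}
variable {F : Type} [Field F] [Fintype F]
variable (S : Sys D F)

include S in
/-- the line of a non-commuting pair -/
theorem line {a x y : G} (ha : a ∈ D) (hx : x ∈ D) (hax : ¬ Commute a x) (hy : y ∈ D)
    (hyL : ∀ w ∈ perp₂ D a x, Commute y w) : y = a ∨ y = x ∨ y = a * x * a := by
  obtain ⟨p, hp⟩ := (mem_near S ha hx hax).2.2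
  have hap : a ∈ perp D p := ⟨ha, Ne.symm hp.1.2.1, hp.1.2.2.symm⟩
  have hxp : x ∈ perp D p := ⟨hx, Ne.symm hp.2.2.1, hp.2.2.2.symm⟩
  have hyp : y ≠ p := by
    rintro rfl
    have hsub : perp₂ D a x ⊆ insert y {w | w ∈ perp₂ D a x ∧ (w ≠ y ∧ Commute y w)} := fun w hw =>
      (em (w = y)).elim Or.inl fun h => Or.inr ⟨hw, h, hyL w hw⟩
    have h1 := (Set.ncard_le_ncard hsub (Set.toFinite _)).trans (Set.ncard_insert_le _ _)
    rw [S.ncard_trace_nbr ha hx hax hp, ncard_trace S ha hx hax] at h1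
    omega
  refine (S.ctx p hp.1.1).line_points hap hxp ⟨hy, hyp, (hyL p hp).symm⟩ hax fun w hw hwa hwx => hyL w ?_
  exact ⟨⟨hw.1, fun h => hax (h ▸ hwx).symm, hwa⟩, hw.1, fun h => hax (h ▸ hwa), hwx⟩

include S in
/-- the rank three data -/
theorem rankData : RankData D 3510 693 180 126 6531840 where
  hD := S.hD
  hprim := S.hprim
  hZ := S.hZ
  class_card := ncard_class S
  perp_card a ha := (S.ctx a ha).ncard_perp
  edge a ha _ hb := (S.ctx a ha).ncard_edge hb
  trace _ ha _ hx hax := ncard_trace S ha hx hax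
  trans_perp _ ha _ hb _ hb' := S.exists_conj_perp ha hb hb'
  trans_far _ ha _ hx hax _ hx' hax' := S.exists_conj_near ha (mem_near S ha hx hax) (mem_near S ha hx' hax')
  centralizer _ ha := centralizer_eq S ha
  line _ ha _ hx hax _ hy h := line S ha hx hax hy h
  trace_dvd a ha x hx hax := by
    have := trace_group_dvd S ha (mem_near S ha hx hax)
    rw [ncard_trace S ha hx hax] at this
    exact this

end Cfsg.Agent.Lib.FischerMTypes.RankM22
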