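import Mathlib
import Cfsg.Agent.Lib.FischerMTypes.ReflectionBound

/-!
The seven-dimensional projective reflection groups over three elements: a bound on the order, and
non-triviality.
-/

set_option autoImplicit false
set_option linter.unusedSectionVars false
set_option linter.style.haveILetI false

namespace Cfsg.Agent.Lib.FischerMTypes.ReflectionSeven

open Module QuadraticMap Cfsg.Agent.Lib.Forms Cfsg.Agent.Lib.FischerMTypes.ReflectionBound

/-- a seven-dimensional form splits off three hyperbolic planes -/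
theorem split_seven (Q : QuadraticForm (ZMod 3) (Fin 7 → ZMod 3)) (hQ : Nondeg Q) :
    ∃ d : ZMod 3, d ≠ 0 ∧ Q.Equivalent ((qPlus (F := ZMod 3) 3).prod (qOne d)) := by
  haveI : Fact (Nat.Prime 3) := ⟨Nat.prime_three⟩
  rcases classify Q hQ with ⟨m, hm, -⟩ | ⟨m, d, hd, -, hm, he⟩ | ⟨m, a, b, -, hm, -⟩
  · rw [finrank_fin_fun] at hm; omega
  · rw [finrank_fin_fun] at hm
    obtain rfl : m = 3 := by omega
    exact ⟨d, hd, he⟩
  · rw [finrank_fin_fun] at hm; omega

/-- the order of a seven-dimensional orthogonal group over three elements -/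
theorem card_orth_seven (Q : QuadraticForm (ZMod 3) (Fin 7 → ZMod 3)) (hQ : Nondeg Q) :
    Nat.card (orth Q) = 2 * 9170703360 := by
  have h2 : (2 : ZMod 3) ≠ 0 := by decide
  haveI : Fact (Nat.Prime 3) := ⟨Nat.prime_three⟩
  obtain ⟨d, hd, he⟩ := split_seven Q hQ
  rw [card_orth_congr he, card_orth_plus_prod (qOne_nondeg hd h2)
    (fun x hx => by simpa [qOne_apply, hd] using hx) 3, card_orth_qOne hd h2, Module.finrank_self,
    Nat.card_zmod]
  simp [Finset.prod_range_succ]

/-- bound on the order of the projective reflection group -/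
theorem proj_card_dvd {X : Type*} [Group X] {μ c : ZMod 3}
    (h : Cfsg.IsProjReflectionGroupModThree X 7 μ c) : Nat.card X ∣ 9170703360 := by
  haveI : Fact (Nat.Prime 3) := ⟨Nat.prime_three⟩
  obtain ⟨Q, hQ, -, ⟨e⟩⟩ := h
  have hQ' : Nondeg Q := (nondeg_iff Q).1 hQ
  have h1 := two_mul_card_reflectionSubgroup_dvd (by norm_num) Q hQ' c
  rw [card_orth_seven Q hQ'] at h1
  refine dvd_trans ?_ (Nat.dvd_of_mul_dvd_mul_left two_pos h1)
  rw [Nat.card_congr e.toEquiv]
  exact Subgroup.card_quotient_dvd_card _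

/-- the projective reflection group is not trivial -/
theorem proj_nontrivial {X : Type*} [Group X] {μ c : ZMod 3} (hc : c ≠ 0)
    (h : Cfsg.IsProjReflectionGroupModThree X 7 μ c) : Nontrivial X := by
  haveI : Fact (Nat.Prime 3) := ⟨Nat.prime_three⟩
  obtain ⟨Q, hQ, -, ⟨e⟩⟩ := h
  obtain ⟨d, -, ⟨ψ⟩⟩ := split_seven Q ((nondeg_iff Q).1 hQ)
  obtain ⟨v, w, hv, hw, hvw, n1⟩ : ∃ v w, Q v = c ∧ Q w = c ∧ polar Q v w = 2 * c ∧ w ≠ v := by
    let x : Fin 3 ⊕ Fin 3 → ZMod 3 := Sum.elim (Pi.single 0 1) (Pi.single 0 c)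
    let y : Fin 3 ⊕ Fin 3 → ZMod 3 := Sum.elim (Pi.single 0 1 + Pi.single 1 1) (Pi.single 0 c)
    have hx : qPlus 3 x = c := by simp [x, qPlus_apply, Pi.single_apply]
    have hy : qPlus 3 y = c := by simp [y, qPlus_apply, Pi.single_apply]
    have hxy : polar (qPlus 3) x y = 2 * c := by
      simp [x, y, qPlus_polar, Pi.single_apply, add_mul, Finset.sum_add_distrib]
      ring
    refine ⟨ψ.symm (x, 0), ψ.symm (y, 0), ?_, ?_, ?_, fun h => ?_⟩
    · rw [ψ.symm.map_app]; simp [QuadraticMap.prod_apply, hx]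
    · rw [ψ.symm.map_app]; simp [QuadraticMap.prod_apply, hy]
    · rw [polar, ← map_add, ψ.symm.map_app, ψ.symm.map_app, ψ.symm.map_app]
      simp only [Prod.mk_add_mk, add_zero, QuadraticMap.prod_apply, QuadraticMap.map_zero]
      simpa [polar] using hxy
    · have := congrFun (congrArg Prod.fst (ψ.symm.injective h)) (Sum.inl 1)
      simp [x, y] at this
  have hmem : ∀ {u}, Q u = c → irefl Q u ∈ Cfsg.reflectionSubgroup (⇑Q) c := fun {u} hu =>
    Subgroup.subset_closure ⟨u, hu, irefl_coe Q u⟩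
  have hnc : (⟨irefl Q v, hmem hv⟩ : Cfsg.reflectionSubgroup (⇑Q) c) ∉ Subgroup.center _ := by
    intro hmc
    have h1 := congrArg (fun g : Cfsg.reflectionSubgroup (⇑Q) c => toOrth Q g.1)
      (Subgroup.mem_center_iff.mp hmc ⟨irefl Q w, hmem hw⟩)
    simp only [Subgroup.coe_mul, map_mul, toOrth_irefl] at h1
    have h2 : refl Q w (refl Q v w) = refl Q v (refl Q w w) :=
      congrArg (fun g : orth Q => (g.1 : (Fin 7 → ZMod 3) → (Fin 7 → ZMod 3)) w) h1
    rw [refl_self Q (hw ▸ hc), refl_apply Q v w, hvw, hv, map_neg, refl_apply Q v w, hvw, hv, map_sub,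
      map_smul, refl_self Q (hw ▸ hc), refl_apply Q w v, hw, polar_comm Q w v, hvw] at h2
    have hinv : c⁻¹ * (2 * c) = 2 := by rw [mul_comm 2, ← mul_assoc, inv_mul_cancel₀ hc, one_mul]
    rw [hinv] at h2
    have h3 : (4 : ZMod 3) • w - (4 : ZMod 3) • v = (0 : Fin 7 → ZMod 3) := by
      linear_combination (norm := module) h2
    rw [show (4 : ZMod 3) = 1 from rfl, one_smul, one_smul, sub_eq_zero] at h3
    exact n1 h3
  haveI : Nontrivial (Cfsg.reflectionSubgroup (⇑Q) c ⧸ Subgroup.center (Cfsg.reflectionSubgroup (⇑Q) c)) :=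
    ⟨⟨QuotientGroup.mk ⟨irefl Q v, hmem hv⟩, 1, fun h => hnc ((QuotientGroup.eq_one_iff _).mp h)⟩⟩
  exact e.toEquiv.nontrivial

end Cfsg.Agent.Lib.FischerMTypes.ReflectionSeven
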