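import Mathlib
import Cfsg.Agent.Lib.FischerMTypes.Rank
import Cfsg.Agent.Lib.FischerMTypes.Types
import Cfsg.Agent.Lib.FischerMTypes.Unique

/-!
One step up: a primitive centreless 3-transposition group all whose perp groups modulo their centres
are a given group with rank three data.  Local counts and transitivity.
-/

set_option autoImplicit false
set_option linter.style.haveILetI false
set_option linter.unusedSectionVars false

namespace Cfsg.Agent.Lib.FischerMTypes.Step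

open Cfsg.Agent.Lib.FischerMTypes.Basic Cfsg.Agent.Lib.FischerMTypes.Primitive
  Cfsg.Agent.Lib.FischerMTypes.Levels Cfsg.Agent.Lib.FischerMTypes.Rank
  Cfsg.Agent.Lib.FischerMTypes.Types Cfsg.Agent.Lib.FischerMTypes.Unique

variable {G : Type*} [Group G] [Finite G] {D : Set G}
variable {Q : Type*} [Group Q] [Finite Q] {E : Set Q} {N A k n T : ℕ}

/-- the transpositions commuting with `a` -/
abbrev star (D : Set G) (a : G) : Set G := {y | y ∈ D ∧ Commute a y}

/-- the members of `perp D p` commuting with `a` -/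
abbrev pstar (D : Set G) (p a : G) : Set G := {u | u ∈ perp D p ∧ Commute a u}

theorem pstar_subset (D : Set G) (p a : G) : pstar D p a ⊆ star D a := fun _ hu => ⟨hu.1.1, hu.2⟩

theorem perp_subset_star (D : Set G) (a : G) : perp D a ⊆ star D a := fun _ hu => ⟨hu.1, hu.2.2⟩

theorem commute_star {a h : G} (hh : h ∈ Subgroup.closure (star D a)) : Commute a h :=
  commute_closure (fun _ hs => hs.2) h hh

theorem fix_star {a h : G} (hh : h ∈ Subgroup.closure (star D a)) : h * a * h⁻¹ = a := by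
  rw [← (commute_star hh).eq, mul_inv_cancel_right]

/-- `perp D a` modelled on `E` -/
structure Loc (D : Set G) (a : G) (E : Set Q) where
  π : ↥(Subgroup.closure (perp D a)) →* Q
  surj : Function.Surjective π
  ker : π.ker = Subgroup.center ↥(Subgroup.closure (perp D a))
  img : E = π '' {x | (x : G) ∈ perp D a}

/-- a centreless group, one class of transpositions, with a model at every transposition -/
structure PreStep (D : Set G) (E : Set Q) (N A k n T : ℕ) where
  hD : Cfsg.IsThreeTranspositionGroup D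
  hcl : ∀ a ∈ D, ∀ b ∈ D, ∃ g : G, g * a * g⁻¹ = b
  hsub : SubsetEq D
  hZ : Subgroup.center G = ⊥
  rank : RankData E N A k n T
  loc : ∀ a ∈ D, Loc D a E

/-- a primitive centreless group with a model at every transposition -/
structure StepData (D : Set G) (E : Set Q) (N A k n T : ℕ) extends PreStep D E N A k n T where
  hprim : Cfsg.IsPrimitiveUnderConj D

/-- the step data of a primitive group -/
def StepData.ofPrimitive (hD : Cfsg.IsThreeTranspositionGroup D) (hprim : Cfsg.IsPrimitiveUnderConj D)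
    (hZ : Subgroup.center G = ⊥) (rank : RankData E N A k n T) (loc : ∀ a ∈ D, Loc D a E) :
    StepData D E N A k n T :=
  ⟨⟨hD, hprim.1, subsetEq_of_primitive hD hprim hZ, hZ, rank, loc⟩, hprim⟩

namespace PreStep

variable (S : PreStep D E N A k n T)

open Classical in
/-- the model map, extended by one -/
noncomputable def f {a : G} (ha : a ∈ D) (y : G) : Q :=
  if h : y ∈ Subgroup.closure (perp D a) then (S.loc a ha).π ⟨y, h⟩ else 1

theorem f_eq {a : G} (ha : a ∈ D) {y : G} (h : y ∈ Subgroup.closure (perp D a)) :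
    S.f ha y = (S.loc a ha).π ⟨y, h⟩ := dif_pos h

theorem f_mul {a : G} (ha : a ∈ D) {y z : G} (hy : y ∈ Subgroup.closure (perp D a))
    (hz : z ∈ Subgroup.closure (perp D a)) : S.f ha (y * z) = S.f ha y * S.f ha z := by
  rw [S.f_eq ha hy, S.f_eq ha hz, S.f_eq ha (mul_mem hy hz), ← map_mul]
  rfl

theorem f_one {a : G} (ha : a ∈ D) : S.f ha 1 = 1 := by
  rw [S.f_eq ha (one_mem _)]
  exact map_one _

theorem f_inv {a : G} (ha : a ∈ D) {y : G} (hy : y ∈ Subgroup.closure (perp D a)) :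
    S.f ha y⁻¹ = (S.f ha y)⁻¹ := by
  rw [S.f_eq ha hy, S.f_eq ha (inv_mem hy), ← map_inv]
  rfl

theorem f_eq_iff {a : G} (ha : a ∈ D) {y z : G} (hy : y ∈ Subgroup.closure (perp D a))
    (hz : z ∈ Subgroup.closure (perp D a)) :
    S.f ha y = S.f ha z ↔ ∀ u ∈ perp D a, Commute u (y⁻¹ * z) := by
  rw [S.f_eq ha hy, S.f_eq ha hz, MonoidHom.eq_iff, (S.loc a ha).ker]
  constructor
  · intro h u hu
    have := Subgroup.mem_center_iff.mp (inv_mem h) ⟨u, Subgroup.subset_closure hu⟩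
    show u * (y⁻¹ * z) = y⁻¹ * z * u
    simpa [mul_assoc] using congrArg Subtype.val this
  · intro h
    rw [← Subgroup.inv_mem_iff, Subgroup.mem_center_iff]
    rintro ⟨g, hg⟩
    have := (commute_closure (u := y⁻¹ * z) (fun s hs => (h s hs).symm) g hg).eq.symm
    refine Subtype.ext ?_
    simpa [mul_assoc] using this

theorem f_mem {a : G} (ha : a ∈ D) {y : G} (hy : y ∈ perp D a) : S.f ha y ∈ E := by
  rw [S.f_eq ha (Subgroup.subset_closure hy)]
  exact (Set.ext_iff.mp (S.loc a ha).img _).mpr ⟨_, hy, rfl⟩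

theorem exists_f {a : G} (ha : a ∈ D) {q : Q} (hq : q ∈ E) : ∃ y ∈ perp D a, S.f ha y = q := by
  obtain ⟨⟨y, hy⟩, hmem, rfl⟩ := (Set.ext_iff.mp (S.loc a ha).img q).mp hq
  exact ⟨y, hmem, S.f_eq ha hy⟩

theorem exists_f_closure {a : G} (ha : a ∈ D) (q : Q) :
    ∃ h ∈ Subgroup.closure (perp D a), S.f ha h = q := by
  obtain ⟨⟨h, hh⟩, rfl⟩ := (S.loc a ha).surj q
  exact ⟨h, hh, S.f_eq ha hh⟩

theorem f_conj {a : G} (ha : a ∈ D) {h y : G} (hh : h ∈ Subgroup.closure (perp D a))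
    (hy : y ∈ Subgroup.closure (perp D a)) :
    S.f ha (h * y * h⁻¹) = S.f ha h * S.f ha y * (S.f ha h)⁻¹ := by
  rw [S.f_mul ha (mul_mem hh hy) (inv_mem hh), S.f_mul ha hh hy, S.f_inv ha hh]

theorem commute_iff {a : G} (ha : a ∈ D) {y z : G} (hy : y ∈ perp D a) (hz : z ∈ perp D a) :
    Commute (S.f ha y) (S.f ha z) ↔ Commute y z := by
  set H := Subgroup.closure (perp D a)
  have hy' : y ∈ H := Subgroup.subset_closure hy
  have hz' : z ∈ H := Subgroup.subset_closure hz
  rw [← im_commute_iff S.hD hy hz]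
  show S.f ha y * S.f ha z = S.f ha z * S.f ha y ↔ (QuotientGroup.mk ⟨y, hy'⟩ : ↥H ⧸ Subgroup.center ↥H) *
    QuotientGroup.mk ⟨z, hz'⟩ = QuotientGroup.mk ⟨z, hz'⟩ * QuotientGroup.mk ⟨y, hy'⟩
  rw [S.f_eq ha hy', S.f_eq ha hz', ← map_mul, ← map_mul, ← QuotientGroup.mk_mul, ← QuotientGroup.mk_mul,
    MonoidHom.eq_iff, QuotientGroup.eq, (S.loc a ha).ker]
  rw [← Subgroup.inv_mem_iff, mul_inv_rev, inv_inv]

theorem f_inj {a : G} (ha : a ∈ D) {y z : G} (hy : y ∈ perp D a) (hz : z ∈ perp D a)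
    (h : S.f ha y = S.f ha z) : y = z := by
  refine im_injective' S.hD S.hsub ha hy hz ?_
  rw [S.f_eq ha (Subgroup.subset_closure hy), S.f_eq ha (Subgroup.subset_closure hz), MonoidHom.eq_iff,
    (S.loc a ha).ker] at h
  exact (QuotientGroup.eq.mpr h).symm

/-- transfer of counts -/
theorem ncard_local {a : G} (ha : a ∈ D) (P : G → Prop) (P' : Q → Prop)
    (h : ∀ y ∈ perp D a, P y ↔ P' (S.f ha y)) :
    {y | y ∈ perp D a ∧ P y}.ncard = {q | q ∈ E ∧ P' q}.ncard := by
  refine Set.ncard_congr (fun y _ => S.f ha y) ?_ ?_ ?_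
  · exact fun y hy => ⟨S.f_mem ha hy.1, (h y hy.1).mp hy.2⟩
  · exact fun y z hy hz he => S.f_inj ha hy.1 hz.1 he
  · rintro q ⟨hq, hq'⟩
    obtain ⟨y, hy, rfl⟩ := S.exists_f ha hq
    exact ⟨y, ⟨hy, (h y hy).mpr hq'⟩, rfl⟩

include S in
theorem ncard_perp {a : G} (ha : a ∈ D) : (perp D a).ncard = N := by
  have h := S.ncard_local ha (fun _ => True) (fun _ => True) (fun _ _ => Iff.rfl)
  simp only [and_true, Set.ofPred_mem_eq] at h
  exact h.trans S.rank.class_card

include S in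
theorem ncard_edge {a b : G} (ha : a ∈ D) (hb : b ∈ perp D a) : (perp₂ D a b).ncard = A := by
  rw [show perp₂ D a b = {y | y ∈ perp D a ∧ (y ≠ b ∧ Commute b y)} from Set.ext fun y =>
    ⟨fun h => ⟨h.1, h.2.2⟩, fun h => ⟨h.1, h.1.1, h.2⟩⟩,
    S.ncard_local ha _ (fun q => q ≠ S.f ha b ∧ Commute (S.f ha b) q) fun y hy => by
      rw [S.commute_iff ha hb hy]
      exact and_congr_left fun _ => not_congr ⟨fun h => h ▸ rfl, S.f_inj ha hy hb⟩]
  exact S.rank.perp_card _ (S.f_mem ha hb)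

include S in
theorem ncard_edge₂ {a b c : G} (ha : a ∈ D) (hb : b ∈ perp D a) (hc : c ∈ perp D a) (hne : b ≠ c)
    (hbc : Commute b c) :
    {y | y ∈ perp D a ∧ (y ≠ b ∧ y ≠ c ∧ Commute b y ∧ Commute c y)}.ncard = k := by
  rw [S.ncard_local ha _ (fun q => q ≠ S.f ha b ∧ q ≠ S.f ha c ∧ Commute (S.f ha b) q ∧ Commute (S.f ha c) q)
    fun y hy => by
      rw [S.commute_iff ha hb hy, S.commute_iff ha hc hy]
      exact and_congr (not_congr ⟨fun h => h ▸ rfl, S.f_inj ha hy hb⟩)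
        (and_congr_left fun _ => not_congr ⟨fun h => h ▸ rfl, S.f_inj ha hy hc⟩)]
  refine Eq.trans ?_ (S.rank.edge _ (S.f_mem ha hb) (S.f ha c) ⟨S.f_mem ha hc,
    fun h => hne (S.f_inj ha hc hb h).symm, (S.commute_iff ha hb hc).mpr hbc⟩)
  congr 1
  ext q
  exact ⟨fun h => ⟨⟨h.1, h.2.1, h.2.2.2.1⟩, h.1, h.2.2.1, h.2.2.2.2⟩,
    fun h => ⟨h.1.1, h.1.2.1, h.2.2.1, h.1.2.2, h.2.2.2⟩⟩

include S in
theorem ncard_nonedge {a b c : G} (ha : a ∈ D) (hb : b ∈ perp D a) (hc : c ∈ perp D a)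
    (hbc : ¬ Commute b c) : {y | y ∈ perp D a ∧ (Commute b y ∧ Commute c y)}.ncard = n := by
  rw [S.ncard_local ha _ (fun q => Commute (S.f ha b) q ∧ Commute (S.f ha c) q)
    fun y hy => by rw [S.commute_iff ha hb hy, S.commute_iff ha hc hy]]
  refine Eq.trans ?_ (S.rank.trace _ (S.f_mem ha hb) _ (S.f_mem ha hc)
    fun h => hbc ((S.commute_iff ha hb hc).mp h))
  congr 1
  ext q
  have hnc : ¬ Commute (S.f ha b) (S.f ha c) := fun h => hbc ((S.commute_iff ha hb hc).mp h)
  exact ⟨fun h => ⟨⟨h.1, fun he => hnc (he ▸ h.2.2).symm, h.2.1⟩, h.1, fun he => hnc (he ▸ h.2.1), h.2.2⟩,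
    fun h => ⟨h.1.1, h.1.2.2, h.2.2.2⟩⟩

include S in
theorem ncard_off {a b : G} (ha : a ∈ D) (hb : b ∈ perp D a) :
    {y | y ∈ perp D a ∧ ¬ Commute b y}.ncard + 1 + A = N := by
  rw [S.ncard_local ha _ (fun q => ¬ Commute (S.f ha b) q) fun y hy => by rw [S.commute_iff ha hb hy]]
  exact S.rank.ncard_off (S.f_mem ha hb)

include S in
theorem trans_perp {a : G} (ha : a ∈ D) {b b' : G} (hb : b ∈ perp D a) (hb' : b' ∈ perp D a) :
    ∃ h ∈ Subgroup.closure (perp D a), h * b * h⁻¹ = b' := by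
  obtain ⟨q, hq⟩ := S.rank.hprim.1 _ (S.f_mem ha hb) _ (S.f_mem ha hb')
  obtain ⟨h, hh, rfl⟩ := S.exists_f_closure ha q
  refine ⟨h, hh, S.f_inj ha (conj_mem_of_mem_closure (perp_closed S.hD a) hh b hb) hb' ?_⟩
  rw [S.f_conj ha hh (Subgroup.subset_closure hb)]
  exact hq

include S in
/-- the stabiliser of a point in the model -/
theorem exists_pstar {p a : G} (hp : p ∈ D) (ha : a ∈ perp D p) {q : Q}
    (hq : q ∈ Subgroup.closure (perp E (S.f hp a))) :
    ∃ h ∈ Subgroup.closure (pstar D p a), S.f hp h = q := by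
  have hle : Subgroup.closure (pstar D p a) ≤ Subgroup.closure (perp D p) :=
    Subgroup.closure_mono fun u hu => hu.1
  induction hq using Subgroup.closure_induction with
  | mem r hr =>
    obtain ⟨y, hy, rfl⟩ := S.exists_f hp hr.1
    exact ⟨y, Subgroup.subset_closure ⟨hy, (S.commute_iff hp ha hy).mp hr.2.2⟩, rfl⟩
  | one => exact ⟨1, one_mem _, S.f_one hp⟩
  | mul x y _ _ hx hy =>
    obtain ⟨h, hh, rfl⟩ := hx
    obtain ⟨l, hl, rfl⟩ := hy
    exact ⟨h * l, mul_mem hh hl, S.f_mul hp (hle hh) (hle hl)⟩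
  | inv x _ hx =>
    obtain ⟨h, hh, rfl⟩ := hx
    exact ⟨h⁻¹, inv_mem hh, S.f_inv hp (hle hh)⟩

include S in
theorem move_off {p a x y : G} (hp : p ∈ D) (ha : a ∈ perp D p) (hx : x ∈ perp D p) (hy : y ∈ perp D p)
    (hax : ¬ Commute a x) (hay : ¬ Commute a y) :
    ∃ g ∈ Subgroup.closure (pstar D p a), g * x * g⁻¹ = y := by
  obtain ⟨q, hq, hqx⟩ := S.rank.trans_far _ (S.f_mem hp ha) _ (S.f_mem hp hx)
    (fun h => hax ((S.commute_iff hp ha hx).mp h)) _ (S.f_mem hp hy)
    (fun h => hay ((S.commute_iff hp ha hy).mp h))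
  obtain ⟨g, hg, rfl⟩ := S.exists_pstar hp ha hq
  have hg' : g ∈ Subgroup.closure (perp D p) := Subgroup.closure_mono (fun u hu => hu.1) hg
  refine ⟨g, hg, S.f_inj hp (conj_mem_of_mem_closure (perp_closed S.hD p) hg' x hx) hy ?_⟩
  rw [S.f_conj hp hg' (Subgroup.subset_closure hx)]
  exact hqx

include S in
/-- the stabiliser of a point modulo the centre -/
theorem exists_stab {p a h : G} (hp : p ∈ D) (ha : a ∈ perp D p) (hh : h ∈ Subgroup.closure (perp D p))
    (hfix : h * a * h⁻¹ = a) :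
    ∃ g ∈ Subgroup.closure (pstar D p a), ∀ y ∈ perp D p, Commute y (g⁻¹ * h) := by
  have hq : S.f hp h ∈ Subgroup.closure (perp E (S.f hp a)) := by
    rw [S.rank.centralizer _ (S.f_mem hp ha), Subgroup.mem_centralizer_singleton_iff]
    have e := congrArg (S.f hp) hfix
    rw [S.f_conj hp hh (Subgroup.subset_closure ha), mul_inv_eq_iff_eq_mul] at e
    exact e
  obtain ⟨g, hg, hgq⟩ := S.exists_pstar hp ha hq
  exact ⟨g, hg, (S.f_eq_iff hp (Subgroup.closure_mono (fun u hu => hu.1) hg) hh).mp hgq⟩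

include S in
/-- a point commuting with all common neighbours of a non-commuting pair is on its line -/
theorem line_points {p a x y : G} (hp : p ∈ D) (ha : a ∈ perp D p) (hx : x ∈ perp D p) (hy : y ∈ perp D p)
    (hax : ¬ Commute a x) (h : ∀ w ∈ perp D p, Commute a w → Commute x w → Commute y w) :
    y = a ∨ y = x ∨ y = a * x * a := by
  have haxa : a * x * a ∈ perp D p := (perp_closed S.hD p).2 a ha x hx
  rcases S.rank.line _ (S.f_mem hp ha) _ (S.f_mem hp hx) (fun hc => hax ((S.commute_iff hp ha hx).mp hc))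
    _ (S.f_mem hp hy) (fun q hq => by
      obtain ⟨w, hw, rfl⟩ := S.exists_f hp hq.1.1
      exact (S.commute_iff hp hy hw).mpr (h w hw ((S.commute_iff hp ha hw).mp hq.1.2.2)
        ((S.commute_iff hp hx hw).mp hq.2.2.2))) with e | e | e
  · exact Or.inl (S.f_inj hp hy ha e)
  · exact Or.inr (Or.inl (S.f_inj hp hy hx e))
  · refine Or.inr (Or.inr (S.f_inj hp hy haxa ?_))
    have haH : a ∈ Subgroup.closure (perp D p) := Subgroup.subset_closure ha
    have hxH : x ∈ Subgroup.closure (perp D p) := Subgroup.subset_closure hx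
    rw [e, S.f_mul hp (mul_mem haH hxH) haH, S.f_mul hp haH hxH]

end PreStep

end Cfsg.Agent.Lib.FischerMTypes.Step
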