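import Mathlib
import Cfsg.Agent.Lib.FischerMTypes.StepBase

/-!
One step up: one orbit of non-commuting partners with common neighbours, the moment identities for
their trace, and a divisor of the order of the group on a trace.
-/

set_option autoImplicit false
set_option linter.style.haveILetI false
set_option linter.unusedSectionVars false

namespace Cfsg.Agent.Lib.FischerMTypes.Step

open Cfsg.Agent.Lib.FischerMTypes.Basic Cfsg.Agent.Lib.FischerMTypes.Primitive
  Cfsg.Agent.Lib.FischerMTypes.Levels Cfsg.Agent.Lib.FischerMTypes.Rank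

variable {G : Type*} [Group G] [Finite G] {D : Set G}
variable {Q : Type*} [Group Q] [Finite Q] {E : Set Q} {N A k n T : ℕ}

/-- the members not commuting with `a` having a common neighbour with it -/
abbrev near (D : Set G) (a : G) : Set G := {x | x ∈ D ∧ ¬ Commute a x ∧ (perp₂ D a x).Nonempty}

theorem near_symm {a x : G} (ha : a ∈ D) (hx : x ∈ near D a) : a ∈ near D x := by
  obtain ⟨p, hp⟩ := hx.2.2
  exact ⟨ha, fun h => hx.2.1 h.symm, p, hp.2, hp.1⟩

/-- both ends of a pair with a common neighbour lie in its perp set -/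
theorem mem_perp_of_common {a x p : G} (ha : a ∈ D) (hx : x ∈ D) (hp : p ∈ perp₂ D a x) :
    a ∈ perp D p ∧ x ∈ perp D p :=
  ⟨⟨ha, Ne.symm hp.1.2.1, hp.1.2.2.symm⟩, hx, Ne.symm hp.2.2.1, hp.2.2.2.symm⟩

namespace StepData

variable (S : StepData D E N A k n T)

include S in
/-- one orbit of near partners -/
theorem exists_conj_near {a x x' : G} (ha : a ∈ D) (hx : x ∈ near D a) (hx' : x' ∈ near D a) :
    ∃ l ∈ Subgroup.closure (star D a), l * x * l⁻¹ = x' := by
  obtain ⟨p, hp⟩ := hx.2.2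
  obtain ⟨p', hp'⟩ := hx'.2.2
  obtain ⟨h, hh, hhp⟩ := S.trans_perp ha hp.1 hp'.1
  have hh' : h ∈ Subgroup.closure (star D a) := Subgroup.closure_mono (perp_subset_star D a) hh
  have hfa := fix_star hh'
  have hx'' : h * x * h⁻¹ ∈ perp D p' := by
    rw [← hhp]
    exact (conj_mem_perp_iff S.hD h p x).mpr (mem_perp_of_common ha hx.1 hp).2
  have hnc : ¬ Commute a (h * x * h⁻¹) := by
    intro hc
    rw [← hfa] at hc
    exact hx.2.1 ((commute_conj_iff h a x).mp hc)
  obtain ⟨g, hg, hgx⟩ := S.move_off hp'.1.1 (mem_perp_of_common ha hx'.1 hp').1 hx''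
    (mem_perp_of_common ha hx'.1 hp').2 hnc hx'.2.1
  refine ⟨g * h, mul_mem (Subgroup.closure_mono (pstar_subset D p' a) hg) hh', ?_⟩
  rw [← hgx]; group

theorem ncard_perp₂_conj (hD : Cfsg.IsThreeTranspositionGroup D) (g a x : G) :
    (perp₂ D (g * a * g⁻¹) (g * x * g⁻¹)).ncard = (perp₂ D a x).ncard := by
  have : perp₂ D (g * a * g⁻¹) (g * x * g⁻¹) = (fun y => g * y * g⁻¹) '' perp₂ D a x := by
    ext y
    constructor
    · intro hy
      refine ⟨g⁻¹ * y * g, ⟨(conj_mem_perp_iff hD g a _).mp ?_, (conj_mem_perp_iff hD g x _).mp ?_⟩, by group⟩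
      · simpa [mul_assoc] using hy.1
      · simpa [mul_assoc] using hy.2
    · rintro ⟨z, hz, rfl⟩
      exact ⟨(conj_mem_perp_iff hD g a z).mpr hz.1, (conj_mem_perp_iff hD g x z).mpr hz.2⟩
  rw [this, Set.ncard_image_of_injective _ fun u v h => by simpa using h]

include S in
/-- the trace size is the same for all near pairs -/
theorem ncard_trace_eq {a x b y : G} (ha : a ∈ D) (hx : x ∈ near D a) (hb : b ∈ D) (hy : y ∈ near D b) :
    (perp₂ D a x).ncard = (perp₂ D b y).ncard := by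
  obtain ⟨g, rfl⟩ := S.hprim.1 a ha b hb
  have hy' : g⁻¹ * y * g ∈ near D a := by
    obtain ⟨z, hz⟩ := hy.2.2
    refine ⟨by simpa using S.hD.2.1 g⁻¹ y hy.1, fun hc => hy.2.1 ?_, g⁻¹ * z * g, ?_, ?_⟩
    · simpa [mul_assoc] using (commute_conj_iff g _ _).mpr hc
    · exact (conj_mem_perp_iff S.hD g a _).mp (by simpa [mul_assoc] using hz.1)
    · exact (conj_mem_perp_iff S.hD g _ _).mp (by simpa [mul_assoc] using hz.2)
  obtain ⟨l, hl, hlx⟩ := S.exists_conj_near ha hx hy'
  rw [← ncard_perp₂_conj S.hD (g * l) a x,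
    show g * l * a * (g * l)⁻¹ = g * (l * a * l⁻¹) * g⁻¹ by group, fix_star hl,
    show g * l * x * (g * l)⁻¹ = g * (l * x * l⁻¹) * g⁻¹ by group, hlx,
    show g * (g⁻¹ * y * g) * g⁻¹ = y by group]

include S in
theorem ncard_trace_nbr {a x p : G} (ha : a ∈ D) (hx : x ∈ D) (hax : ¬ Commute a x) (hp : p ∈ perp₂ D a x) :
    {y | y ∈ perp₂ D a x ∧ (y ≠ p ∧ Commute p y)}.ncard = n := by
  obtain ⟨hap, hxp⟩ := mem_perp_of_common ha hx hp
  refine Eq.trans ?_ (S.ncard_nonedge hp.1.1 hap hxp hax)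
  congr 1
  ext y
  constructor
  · rintro ⟨hy, hyp, hpy⟩
    exact ⟨⟨hy.1.1, hyp, hpy⟩, hy.1.2.2, hy.2.2.2⟩
  · rintro ⟨hy, hay, hxy⟩
    exact ⟨⟨⟨hy.1, fun h => hax (by rw [h] at hxy; exact hxy.symm), hay⟩,
      ⟨hy.1, fun h => hax (by rw [h] at hay; exact hay), hxy⟩⟩, hy.2.1, hy.2.2⟩

include S in
theorem ncard_perp_trace_compl {a x p : G} (ha : a ∈ D) (hx : x ∈ D) (hax : ¬ Commute a x)
    (hp : p ∈ perp₂ D a x) :
    {f | f ∈ perp D a \ perp₂ D a x ∧ Commute p f}.ncard + n = A := by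
  have h1 := S.ncard_edge ha hp.1
  have h2 := S.ncard_trace_nbr ha hx hax hp
  have hsplit : perp₂ D a p = {f | f ∈ perp D a \ perp₂ D a x ∧ Commute p f} ∪
      {y | y ∈ perp₂ D a x ∧ (y ≠ p ∧ Commute p y)} := by
    ext y
    constructor
    · intro hy
      by_cases hL : y ∈ perp₂ D a x
      · exact Or.inr ⟨hL, hy.2.2.1, hy.2.2.2⟩
      · exact Or.inl ⟨⟨hy.1, hL⟩, hy.2.2.2⟩
    · rintro (⟨⟨hy, hL⟩, hc⟩ | ⟨hy, hn, hc⟩)
      · exact ⟨hy, hy.1, fun h => hL (h ▸ hp), hc⟩
      · exact ⟨hy.1, hy.1.1, hn, hc⟩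
  rw [hsplit, Set.ncard_union_eq (Set.disjoint_left.mpr fun y hy hy' => hy.1.2 hy'.1)] at h1
  omega

include S in
theorem ncard_pair_compl {a x p q : G} (ha : a ∈ D) (hp : p ∈ perp₂ D a x) (hq : q ∈ perp₂ D a x)
    (hne : p ≠ q) :
    {f | f ∈ perp D a \ perp₂ D a x ∧ (Commute p f ∧ Commute q f)}.ncard +
      {y | y ∈ perp₂ D a x ∧ (y ≠ p ∧ y ≠ q ∧ Commute p y ∧ Commute q y)}.ncard =
        open Classical in if Commute p q then k else n := by
  classical
  have htot : {y | y ∈ perp D a ∧ (y ≠ p ∧ y ≠ q ∧ Commute p y ∧ Commute q y)}.ncard =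
      if Commute p q then k else n := by
    split_ifs with hc
    · exact S.ncard_edge₂ ha hp.1 hq.1 hne hc
    · refine Eq.trans ?_ (S.ncard_nonedge ha hp.1 hq.1 hc)
      congr 1
      ext y
      exact ⟨fun h => ⟨h.1, h.2.2.2.1, h.2.2.2.2⟩, fun h =>
        ⟨h.1, fun he => hc (he ▸ h.2.2).symm, fun he => hc (he ▸ h.2.1), h.2.1, h.2.2⟩⟩
  refine Eq.trans ?_ htot
  rw [← Set.ncard_union_eq (Set.disjoint_left.mpr fun y hy hy' => hy.1.2 hy'.1)]
  congr 1
  ext y
  constructor
  · rintro (⟨⟨hy, hL⟩, c1, c2⟩ | ⟨hy, h⟩)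
    · exact ⟨hy, fun h => hL (h ▸ hp), fun h => hL (h ▸ hq), c1, c2⟩
    · exact ⟨hy.1, h⟩
  · rintro ⟨hy, h⟩
    by_cases hL : y ∈ perp₂ D a x
    · exact Or.inr ⟨hL, h⟩
    · exact Or.inl ⟨⟨hy, hL⟩, h.2.2⟩

include S in
/-- first and second moment of the number of trace members commuting with an outside point -/
theorem moments {a x : G} (ha : a ∈ D) (hx : x ∈ near D a) :
    ∃ U : Finset G, (U : Set G) = perp D a \ perp₂ D a x ∧
      U.card + (perp₂ D a x).ncard = N ∧ n + 1 ≤ (perp₂ D a x).ncard ∧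
      ∑ f ∈ U, {p | p ∈ perp₂ D a x ∧ Commute p f}.ncard + n * (perp₂ D a x).ncard =
        A * (perp₂ D a x).ncard ∧
      ∑ f ∈ U, ({p | p ∈ perp₂ D a x ∧ Commute p f}.ncard) ^ 2 +
          (2 * n * n + n) * (perp₂ D a x).ncard =
        (A + k * n + n * (perp₂ D a x).ncard) * (perp₂ D a x).ncard := by
  classical
  set U := (Set.toFinite (perp D a \ perp₂ D a x)).toFinset with hU
  set L := (Set.toFinite (perp₂ D a x)).toFinset with hL
  have hUmem : ∀ f, f ∈ U ↔ f ∈ perp D a \ perp₂ D a x := fun f => Set.Finite.mem_toFinset _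
  have hLmem : ∀ f, f ∈ L ↔ f ∈ perp₂ D a x := fun f => Set.Finite.mem_toFinset _
  have hUc : (U : Set G) = perp D a \ perp₂ D a x := Set.Finite.coe_toFinset _
  have hn : L.card = (perp₂ D a x).ncard := (Set.ncard_eq_toFinset_card _ _).symm
  have cf : ∀ (s : Finset G) (W : Set G) (P : G → Prop) [DecidablePred P], (∀ y, y ∈ s ↔ y ∈ W) →
      (s.filter P).card = {y | y ∈ W ∧ P y}.ncard := by
    intro s W P _ hs
    rw [← Set.ncard_coe_finset]
    congr 1
    ext y
    simp [hs y]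
  have hN : ∀ f, {p | p ∈ perp₂ D a x ∧ Commute p f}.ncard = ∑ p ∈ L, if Commute p f then 1 else 0 := by
    intro f
    rw [Finset.sum_boole, Nat.cast_id, cf L _ _ hLmem]
  have hstar : ∀ p ∈ L, (L.filter fun y => y ≠ p ∧ Commute p y).card = n := fun p hp =>
    (cf L _ _ hLmem).trans (S.ncard_trace_nbr ha hx.1 hx.2.1 ((hLmem p).mp hp))
  have hlow : n + 1 ≤ L.card := by
    obtain ⟨p, hp⟩ := hx.2.2
    have hsub : insert p (L.filter fun y => y ≠ p ∧ Commute p y) ⊆ L :=
      Finset.insert_subset ((hLmem p).mpr hp) (Finset.filter_subset _ _)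
    have := Finset.card_le_card hsub
    rw [Finset.card_insert_of_notMem (by simp), hstar p ((hLmem p).mpr hp)] at this
    exact this
  refine ⟨U, hUc, ?_, hn ▸ hlow, ?_, ?_⟩
  · refine Eq.trans ?_ (S.ncard_perp ha)
    rw [← Set.ncard_coe_finset U, hUc]
    exact Set.ncard_sdiff_add_ncard_of_subset (show perp₂ D a x ⊆ perp D a from fun y hy => hy.1) (Set.toFinite _)
  · simp only [hN]
    rw [Finset.sum_comm, ← hn, mul_comm n, mul_comm A, ← smul_eq_mul, ← smul_eq_mul, ← Finset.sum_const,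
      ← Finset.sum_const, ← Finset.sum_add_distrib]
    refine Finset.sum_congr rfl fun p hp => ?_
    rw [Finset.sum_boole, Nat.cast_id, cf U _ _ hUmem]
    exact S.ncard_perp_trace_compl ha hx.1 hx.2.1 ((hLmem p).mp hp)
  · -- second moment
    have hsq : ∀ f, ({p | p ∈ perp₂ D a x ∧ Commute p f}.ncard) ^ 2 =
        ∑ p ∈ L, ∑ q ∈ L, if Commute p f ∧ Commute q f then 1 else 0 := by
      intro f
      rw [sq, hN, Finset.sum_mul_sum]
      refine Finset.sum_congr rfl fun p _ => Finset.sum_congr rfl fun q _ => ?_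
      by_cases h1 : Commute p f <;> by_cases h2 : Commute q f <;> simp [h1, h2]
    have hrow : ∀ p ∈ L, (∑ q ∈ L, ∑ f ∈ U, if Commute p f ∧ Commute q f then 1 else 0) + (2 * n * n + n) =
        A + k * n + n * L.card := by
      intro p hp
      have hp' := (hLmem p).mp hp
      rw [← Finset.add_sum_erase L _ hp]
      have hd : (∑ f ∈ U, if Commute p f ∧ Commute p f then 1 else 0) + n = A := by
        simp only [and_self]
        rw [Finset.sum_boole, Nat.cast_id, cf U _ _ hUmem]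
        exact S.ncard_perp_trace_compl ha hx.1 hx.2.1 hp'
      have hq : ∀ q ∈ L.erase p, (∑ f ∈ U, if Commute p f ∧ Commute q f then 1 else 0) +
          (L.filter fun y => y ≠ p ∧ y ≠ q ∧ Commute p y ∧ Commute q y).card =
            if Commute p q then k else n := by
        intro q hq
        rw [Finset.sum_boole, Nat.cast_id, cf U _ _ hUmem, cf L _ _ hLmem]
        refine (S.ncard_pair_compl ha hp' ((hLmem q).mp (Finset.mem_of_mem_erase hq))
          (Ne.symm (Finset.ne_of_mem_erase hq))).trans ?_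
        congr
      have hsum := Finset.sum_congr rfl hq
      rw [Finset.sum_add_distrib, Finset.sum_ite, Finset.sum_const, Finset.sum_const, smul_eq_mul,
        smul_eq_mul] at hsum
      have hcn : ((L.erase p).filter fun q => Commute p q).card = n := by
        rw [← hstar p hp]
        congr 1
        ext q
        simp only [Finset.mem_filter, Finset.mem_erase]
        tauto
      have hcards := Finset.card_filter_add_card_filter_not (s := L.erase p) (fun q => Commute p q)
      rw [Finset.card_erase_of_mem hp, hcn] at hcards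
      rw [hcn] at hsum
      have hdsum : ∑ q ∈ L.erase p, (L.filter fun y => y ≠ p ∧ y ≠ q ∧ Commute p y ∧ Commute q y).card =
          n * (n - 1) := by
        simp only [Finset.card_filter]
        rw [Finset.sum_comm]
        have : ∀ y ∈ L, (∑ q ∈ L.erase p, if y ≠ p ∧ y ≠ q ∧ Commute p y ∧ Commute q y then 1 else 0) =
            if y ≠ p ∧ Commute p y then n - 1 else 0 := by
          intro y hy
          by_cases hyp : y ≠ p ∧ Commute p y
          · rw [if_pos hyp, ← Finset.sum_filter, Finset.sum_const, smul_eq_mul, mul_one]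
            have hset : (L.erase p).filter (fun q => y ≠ p ∧ y ≠ q ∧ Commute p y ∧ Commute q y) =
                (L.filter fun z => z ≠ y ∧ Commute y z).erase p := by
              ext q
              simp only [Finset.mem_filter, Finset.mem_erase]
              constructor
              · rintro ⟨⟨h1, h2⟩, -, h3, -, h4⟩
                exact ⟨h1, h2, Ne.symm h3, h4.symm⟩
              · rintro ⟨h1, h2, h3, h4⟩
                exact ⟨⟨h1, h2⟩, hyp.1, Ne.symm h3, hyp.2, h4.symm⟩
            rw [hset, Finset.card_erase_of_mem, hstar y hy]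
            exact Finset.mem_filter.mpr ⟨hp, Ne.symm hyp.1, hyp.2.symm⟩
          · rw [if_neg hyp]
            refine Finset.sum_eq_zero fun q _ => if_neg fun h => hyp ⟨h.1, h.2.2.1⟩
        rw [Finset.sum_congr rfl this, ← Finset.sum_filter, Finset.sum_const, smul_eq_mul, hstar p hp]
      rw [hdsum] at hsum
      generalize hM : (Finset.filter (fun q => ¬ Commute p q) (L.erase p)).card = M at hsum hcards
      have hL' : L.card = n + M + 1 := by omega
      rw [hL']
      rcases Nat.eq_zero_or_pos n with h0 | hpos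
      · subst h0
        simp only [zero_mul, mul_zero, add_zero, zero_add] at hsum hd ⊢
        omega
      · obtain ⟨n', rfl⟩ : ∃ n', n = n' + 1 := ⟨n - 1, by omega⟩
        rw [Nat.add_sub_cancel] at hsum
        linarith [hsum, hd]
    have hswap : ∑ f ∈ U, ({p | p ∈ perp₂ D a x ∧ Commute p f}.ncard) ^ 2 =
        ∑ p ∈ L, ∑ q ∈ L, ∑ f ∈ U, if Commute p f ∧ Commute q f then 1 else 0 := by
      simp only [hsq]
      rw [Finset.sum_comm]
      exact Finset.sum_congr rfl fun p _ => Finset.sum_comm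
    have htot := Finset.sum_congr rfl hrow
    rw [Finset.sum_add_distrib, Finset.sum_const, Finset.sum_const, smul_eq_mul, smul_eq_mul, ← hswap] at htot
    rw [← hn]
    linarith [htot]

include S in
theorem ncard_near_mul {a x : G} (ha : a ∈ D) (hx : x ∈ near D a) :
    (perp₂ D a x).ncard * (near D a).ncard + N * (1 + A) = N * N := by
  classical
  set P := (Set.toFinite (perp D a)).toFinset
  set X := (Set.toFinite (near D a)).toFinset
  have hPm : ∀ p, p ∈ P ↔ p ∈ perp D a := fun p => Set.Finite.mem_toFinset _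
  have hXm : ∀ z, z ∈ X ↔ z ∈ near D a := fun z => Set.Finite.mem_toFinset _
  have hrowX : ∀ z ∈ X, (P.filter fun p => Commute z p).card = (perp₂ D a x).ncard := by
    intro z hz
    have hz' := (hXm z).mp hz
    rw [S.ncard_trace_eq ha hx ha hz', ← Set.ncard_coe_finset]
    congr 1
    ext p
    simp only [Finset.coe_filter, hPm, Set.mem_ofPred_eq]
    exact ⟨fun h => ⟨h.1, h.1.1, fun he => hz'.2.1 (he ▸ h.1.2.2), h.2⟩, fun h => ⟨h.1, h.2.2.2⟩⟩
  have hrowP : ∀ p ∈ P, (X.filter fun z => Commute z p).card + (1 + A) = N := by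
    intro p hp
    have hp' := (hPm p).mp hp
    have hap : a ∈ perp D p := ⟨ha, Ne.symm hp'.2.1, hp'.2.2.symm⟩
    have hset : (↑(X.filter fun z => Commute z p) : Set G) = {y | y ∈ perp D p ∧ ¬ Commute a y} := by
      ext y
      simp only [Finset.coe_filter, hXm, Set.mem_ofPred_eq]
      constructor
      · rintro ⟨⟨hy, hay, -⟩, hyp⟩
        exact ⟨⟨hy, fun h => hay (h ▸ hp'.2.2), hyp.symm⟩, hay⟩
      · rintro ⟨hy, hay⟩
        exact ⟨⟨hy.1, hay, p, hp', hp'.1, Ne.symm hy.2.1, hy.2.2.symm⟩, hy.2.2.symm⟩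
    rw [← Set.ncard_coe_finset, hset]
    have := S.ncard_off hp'.1 hap
    omega
  have hsw : ∑ z ∈ X, (P.filter fun p => Commute z p).card = ∑ p ∈ P, (X.filter fun z => Commute z p).card := by
    simp only [Finset.card_filter]
    exact Finset.sum_comm
  have h2 := Finset.sum_congr rfl hrowP
  rw [Finset.sum_add_distrib, ← hsw, Finset.sum_eq_card_nsmul hrowX, Finset.sum_const, Finset.sum_const,
    smul_eq_mul, smul_eq_mul, smul_eq_mul, ← Set.ncard_eq_toFinset_card, ← Set.ncard_eq_toFinset_card] at h2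
  rw [mul_comm]
  have h3 := S.ncard_perp ha
  rw [h3] at h2
  exact h2

theorem conj_step (hD : Cfsg.IsThreeTranspositionGroup D) {d c : G} {y z : G} (hy : y ∈ perp₂ D d c)
    (hz : z ∈ perp₂ D d c) (hyz : ¬ Commute y z) :
    ∃ g ∈ Subgroup.closure (perp₂ D d c), g * y * g⁻¹ = z := by
  refine ⟨y * z, mul_mem (Subgroup.subset_closure hy) (Subgroup.subset_closure hz), ?_⟩
  rw [mul_inv_rev, inv_eq hD.1 hy.1.1, inv_eq hD.1 hz.1.1]
  have hb := braid hD.1 hz.1.1 hy.1.1 (fun h => hyz h.symm)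
  calc y * z * y * (z * y) = y * (z * y * z) * y := by group
    _ = y * (y * z * y) * y := by rw [hb]
    _ = z := conj_self_inv hD.1 hy.1.1 z

include S in
/-- a big trace carries one class -/
theorem trace_trans {d c p : G} (hd : d ∈ D) (hnear : c ∈ near D d) (hbig : 2 + 2 * n < (perp₂ D d c).ncard)
    (hp : p ∈ perp₂ D d c) :
    ∀ z ∈ perp₂ D d c, ∃ g ∈ Subgroup.closure (perp₂ D d c), g * p * g⁻¹ = z := by
  have hc := hnear.1
  have hdc := hnear.2.1
  set L := perp₂ D d c with hL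
  have hgoal : ∀ z ∈ L, ∃ g ∈ Subgroup.closure (perp₂ D d c), g * p * g⁻¹ = z := by
    intro z hz
    by_cases hpz : Commute p z
    swap
    · exact conj_step S.hD hp hz hpz
    obtain ⟨u, hu, hu1, hu2⟩ : ∃ u ∈ L, ¬ Commute p u ∧ ¬ Commute u z := by
      by_contra hcon
      push Not at hcon
      have hsub : L ⊆ ({p, z} : Set G) ∪ {y | y ∈ L ∧ (y ≠ p ∧ Commute p y)} ∪ {y | y ∈ L ∧ (y ≠ z ∧ Commute z y)} := by
        intro y hy
        by_cases h1 : y = p
        · exact Or.inl (Or.inl (Or.inl h1))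
        by_cases h2 : y = z
        · exact Or.inl (Or.inl (Or.inr h2))
        by_cases hc' : Commute p y
        · exact Or.inl (Or.inr ⟨hy, h1, hc'⟩)
        · exact Or.inr ⟨hy, h2, (hcon y hy hc').symm⟩
      have h1 := (Set.ncard_le_ncard hsub (Set.toFinite _)).trans
        ((Set.ncard_union_le _ _).trans (Nat.add_le_add_right (Set.ncard_union_le _ _) _))
      have h2 : ({p, z} : Set G).ncard ≤ 2 := (Set.ncard_insert_le _ _).trans (by rw [Set.ncard_singleton])
      have h3 : {y | y ∈ L ∧ (y ≠ p ∧ Commute p y)}.ncard = n := S.ncard_trace_nbr hd hc hdc hp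
      have h4 : {y | y ∈ L ∧ (y ≠ z ∧ Commute z y)}.ncard = n := S.ncard_trace_nbr hd hc hdc hz
      omega
    obtain ⟨g, hgm, hg⟩ := conj_step S.hD hp hu hu1
    obtain ⟨g', hgm', hg'⟩ := conj_step S.hD hu hz hu2
    exact ⟨g' * g, mul_mem hgm' hgm, by rw [← hg', ← hg]; group⟩
  exact hgoal

include S in
/-- the group on a trace has order divisible by the trace size times twice the local divisor -/
theorem trace_group_dvd_of_trans (hself : ∀ a ∈ D, a ∈ Subgroup.closure (perp D a)) {d c : G} (hd : d ∈ D)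
    (hnear : c ∈ near D d) (hbig : n + 1 < (perp₂ D d c).ncard)
    (htr : ∀ p ∈ perp₂ D d c, ∀ z ∈ perp₂ D d c, ∃ g ∈ Subgroup.closure (perp₂ D d c), g * p * g⁻¹ = z) :
    (perp₂ D d c).ncard * (2 * T) ∣ Nat.card (↥(Subgroup.closure (perp₂ D d c)) ⧸
      Subgroup.center ↥(Subgroup.closure (perp₂ D d c))) := by
  have hc := hnear.1
  have hdc := hnear.2.1
  obtain ⟨p, hp⟩ := hnear.2.2
  set L := perp₂ D d c with hL
  set H := Subgroup.closure L with hH
  have hLH : ∀ y ∈ L, y ∈ H := fun y hy => Subgroup.subset_closure hy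
  have hclose : ∀ g : ↥H, ∀ y ∈ L, (g : G) * y * (g : G)⁻¹ ∈ L := fun g y hy =>
    conj_mem_of_mem_closure (perp₂_closed S.hD d c) g.2 y hy
  have htrans : ∀ z ∈ L, ∃ g : ↥H, (g : G) * p * (g : G)⁻¹ = z := fun z hz => by
    obtain ⟨g, hg, he⟩ := htr p hp z hz
    exact ⟨⟨g, hg⟩, he⟩
  -- orbit and stabiliser
  letI : MulAction ↥H ↥L :=
    { smul := fun g y => ⟨(g : G) * y.1 * (g : G)⁻¹, hclose g y.1 y.2⟩
      one_smul := fun y => Subtype.ext (by show (1 : G) * y.1 * (1 : G)⁻¹ = y.1; group)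
      mul_smul := fun g h y => Subtype.ext (by
        show ((g * h : ↥H) : G) * y.1 * ((g * h : ↥H) : G)⁻¹ = (g : G) * ((h : G) * y.1 * (h : G)⁻¹) * (g : G)⁻¹
        rw [Subgroup.coe_mul]; group) }
  haveI : MulAction.IsPretransitive ↥H ↥L := MulAction.IsPretransitive.mk fun y z => by
    obtain ⟨g, hg⟩ := htrans y.1 y.2
    obtain ⟨g', hg'⟩ := htrans z.1 z.2
    refine ⟨g' * g⁻¹, Subtype.ext ?_⟩
    show ((g' * g⁻¹ : ↥H) : G) * y.1 * ((g' * g⁻¹ : ↥H) : G)⁻¹ = z.1
    rw [← hg', ← hg, Subgroup.coe_mul, Subgroup.coe_inv]; group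
  set St := MulAction.stabilizer ↥H (⟨p, hp⟩ : ↥L) with hSt
  have hindex : St.index = L.ncard := by
    rw [MulAction.index_stabilizer_of_transitive, Nat.card_coe_set_eq]
  set π := QuotientGroup.mk' (Subgroup.center ↥H) with hπ
  have hZSt : π.ker ≤ St := by
    intro g hg
    rw [QuotientGroup.ker_mk'] at hg
    refine Subtype.ext ?_
    show (g : G) * p * (g : G)⁻¹ = p
    have := congrArg Subtype.val (Subgroup.mem_center_iff.mp hg ⟨p, hLH p hp⟩)
    rw [← (show p * (g : G) = (g : G) * p from this), mul_inv_cancel_right]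
  set St' := St.map π
  have hSt'idx : St'.index = L.ncard := by
    rw [Subgroup.index_map_eq _ (QuotientGroup.mk'_surjective _) hZSt, hindex]
  -- the subgroup at `p`
  obtain ⟨hdp, hcp⟩ := mem_perp_of_common hd hc hp
  set W : Set G := {y | y ∈ perp D p ∧ (Commute d y ∧ Commute c y)}
  have hWL : W ⊆ L := by
    rintro y ⟨hy, hdy, hcy⟩
    exact ⟨⟨hy.1, fun h => hdc (by rw [h] at hcy; exact hcy.symm), hdy⟩,
      ⟨hy.1, fun h => hdc (by rw [h] at hdy; exact hdy), hcy⟩⟩
  set M := Subgroup.closure (insert p W) with hM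
  have hMH : M ≤ H := Subgroup.closure_mono (Set.insert_subset hp hWL)
  set fd := S.f hp.1.1 d with hfd
  set fc := S.f hp.1.1 c with hfc
  have hncf : ¬ Commute fd fc := fun h => hdc ((S.commute_iff hp.1.1 hdp hcp).mp h)
  set W' := perp₂ E fd fc with hW'
  have hWmem : ∀ y, y ∈ W → S.f hp.1.1 y ∈ W' := by
    rintro y ⟨hy, hdy, hcy⟩
    refine ⟨⟨S.f_mem hp.1.1 hy, fun h => hncf ?_, (S.commute_iff hp.1.1 hdp hy).mpr hdy⟩,
      S.f_mem hp.1.1 hy, fun h => hncf ?_, (S.commute_iff hp.1.1 hcp hy).mpr hcy⟩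
    · rw [← h]; exact ((S.commute_iff hp.1.1 hcp hy).mpr hcy).symm
    · rw [← h]; exact (S.commute_iff hp.1.1 hdp hy).mpr hdy
  have hpH := hself p hp.1.1
  have hMp : M ≤ Subgroup.closure (perp D p) :=
    (Subgroup.closure_le _).mpr (Set.insert_subset hpH fun y hy => Subgroup.subset_closure hy.1)
  have hfp : S.f hp.1.1 p = 1 := by
    rw [← S.f_one hp.1.1]
    exact (S.f_eq_iff hp.1.1 hpH (one_mem _)).mpr fun u hu => by
      rw [mul_one]; exact hu.2.2.symm.inv_right
  let Kbar := ↥(Subgroup.closure W') ⧸ Subgroup.center ↥(Subgroup.closure W')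
  have hfM : ∀ u ∈ M, S.f hp.1.1 u ∈ Subgroup.closure W' := by
    intro u hu
    induction hu using Subgroup.closure_induction with
    | mem y hy =>
      rcases Set.mem_insert_iff.mp hy with rfl | hy
      · rw [hfp]; exact one_mem _
      · exact Subgroup.subset_closure (hWmem y hy)
    | one => rw [S.f_one]; exact one_mem _
    | mul x y hx hy ihx ihy => rw [S.f_mul _ (hMp hx) (hMp hy)]; exact mul_mem ihx ihy
    | inv x hx ihx => rw [S.f_inv _ (hMp hx)]; exact inv_mem ihx
  let β : ↥M →* Kbar := MonoidHom.mk'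
    (fun u => QuotientGroup.mk ⟨S.f hp.1.1 u, hfM u u.2⟩) (fun u v => by
      rw [← QuotientGroup.mk_mul]
      exact congrArg QuotientGroup.mk (Subtype.ext (S.f_mul _ (hMp u.2) (hMp v.2))))
  have hlift : ∀ q ∈ Subgroup.closure W', ∃ u ∈ M, S.f hp.1.1 u = q := by
    intro q hq
    induction hq using Subgroup.closure_induction with
    | mem r hr =>
      obtain ⟨y, hy, rfl⟩ := S.exists_f hp.1.1 hr.1.1
      exact ⟨y, Subgroup.subset_closure (Set.mem_insert_of_mem p ⟨hy, (S.commute_iff hp.1.1 hdp hy).mp hr.1.2.2,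
        (S.commute_iff hp.1.1 hcp hy).mp hr.2.2.2⟩), rfl⟩
    | one => exact ⟨1, one_mem _, S.f_one _⟩
    | mul x y _ _ hx hy =>
      obtain ⟨u, hu, rfl⟩ := hx
      obtain ⟨v, hv, rfl⟩ := hy
      exact ⟨u * v, mul_mem hu hv, S.f_mul _ (hMp hu) (hMp hv)⟩
    | inv x _ hx =>
      obtain ⟨u, hu, rfl⟩ := hx
      exact ⟨u⁻¹, inv_mem hu, S.f_inv _ (hMp hu)⟩
  have hβsurj : Function.Surjective β := by
    intro x
    obtain ⟨⟨q, hq⟩, rfl⟩ := QuotientGroup.mk_surjective x
    obtain ⟨u, hu, hfu⟩ := hlift q hq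
    exact ⟨⟨u, hu⟩, congrArg QuotientGroup.mk (Subtype.ext hfu)⟩
  let α : ↥M →* ↥H ⧸ Subgroup.center ↥H := π.comp (Subgroup.inclusion hMH)
  have hker : α.ker ≤ β.ker := by
    intro u hu
    have hz : Subgroup.inclusion hMH u ∈ Subgroup.center ↥H := (QuotientGroup.eq_one_iff _).mp hu
    refine (QuotientGroup.eq_one_iff _).mpr (Subgroup.mem_center_iff.mpr ?_)
    rintro ⟨q, hq⟩
    obtain ⟨v, hv, rfl⟩ := hlift q hq
    refine Subtype.ext ?_
    show S.f hp.1.1 v * S.f hp.1.1 (u : G) = S.f hp.1.1 (u : G) * S.f hp.1.1 v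
    rw [← S.f_mul _ (hMp hv) (hMp u.2), ← S.f_mul _ (hMp u.2) (hMp hv)]
    exact congrArg (S.f hp.1.1) (congrArg Subtype.val (Subgroup.mem_center_iff.mp hz ⟨v, hMH hv⟩))
  have heven : 2 ∣ α.ker.relIndex β.ker := by
    have hpM : p ∈ M := Subgroup.subset_closure (Set.mem_insert p W)
    let pp : ↥β.ker := ⟨⟨p, hpM⟩, (QuotientGroup.eq_one_iff _).mpr (by
      rw [Subgroup.mem_center_iff]
      rintro ⟨q, hq⟩
      exact Subtype.ext (show q * S.f hp.1.1 p = S.f hp.1.1 p * q by rw [hfp, mul_one, one_mul]))⟩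
    have hnotin : pp ∉ α.ker.subgroupOf β.ker := by
      intro h
      have hz : (⟨p, hLH p hp⟩ : ↥H) ∈ Subgroup.center ↥H :=
        (QuotientGroup.eq_one_iff _).mp (Subgroup.mem_subgroupOf.mp h)
      have hall : L ⊆ insert p {y | y ∈ L ∧ (y ≠ p ∧ Commute p y)} := by
        intro y hy
        by_cases h1 : y = p
        · exact Or.inl h1
        · exact Or.inr ⟨hy, h1, (congrArg Subtype.val (Subgroup.mem_center_iff.mp hz ⟨y, hLH y hy⟩) :
            y * p = p * y).symm⟩
      have h1 := (Set.ncard_le_ncard hall (Set.toFinite _)).trans (Set.ncard_insert_le _ _)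
      have h2 : {y | y ∈ L ∧ (y ≠ p ∧ Commute p y)}.ncard = n := S.ncard_trace_nbr hd hc hdc hp
      omega
    have hsq : (QuotientGroup.mk pp : ↥β.ker ⧸ α.ker.subgroupOf β.ker) ^ 2 = 1 := by
      rw [← QuotientGroup.mk_pow, show pp ^ 2 = 1 from Subtype.ext (Subtype.ext (by
        simp [pp, pow_two, mul_self S.hD.1 hp.1.1])), QuotientGroup.mk_one]
    have hord := orderOf_eq_prime hsq (fun h => hnotin ((QuotientGroup.eq_one_iff pp).mp h))
    rw [Subgroup.relIndex, Subgroup.index_eq_card, ← hord]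
    exact orderOf_dvd_natCard _
  have hA : 2 * T ∣ Nat.card α.range := by
    rw [← Subgroup.index_ker, ← Subgroup.relIndex_mul_index hker]
    refine mul_dvd_mul heven ?_
    rw [Subgroup.index_eq_card, Nat.card_congr (QuotientGroup.quotientKerEquivOfSurjective β hβsurj).toEquiv]
    exact S.rank.trace_dvd _ (S.f_mem _ hdp) _ (S.f_mem _ hcp) hncf
  rw [← Subgroup.card_mul_index St', hSt'idx, mul_comm (Nat.card St')]
  refine mul_dvd_mul_left _ (hA.trans (Subgroup.card_dvd_of_le ?_))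
  rintro _ ⟨⟨m, hm⟩, rfl⟩
  refine ⟨⟨m, hMH hm⟩, Subtype.ext ?_, rfl⟩
  show m * p * m⁻¹ = p
  have hmp := commute_closure (u := p) (S := insert p W) (fun s hs => by
    rcases hs with rfl | hs
    · exact Commute.refl s
    · exact hs.1.2.2) m hm
  rw [← hmp.eq, mul_inv_cancel_right]

include S in
/-- the same divisor for a big trace -/
theorem trace_group_dvd (hself : ∀ a ∈ D, a ∈ Subgroup.closure (perp D a)) {d c : G} (hd : d ∈ D)
    (hnear : c ∈ near D d) (hbig : 2 + 2 * n < (perp₂ D d c).ncard) :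
    (perp₂ D d c).ncard * (2 * T) ∣ Nat.card (↥(Subgroup.closure (perp₂ D d c)) ⧸
      Subgroup.center ↥(Subgroup.closure (perp₂ D d c))) :=
  S.trace_group_dvd_of_trans hself hd hnear (by omega) fun _ hp => S.trace_trans hd hnear hbig hp

end StepData

end Cfsg.Agent.Lib.FischerMTypes.Step
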