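import Mathlib
import Cfsg.Agent.Lib.FischerMTypes.StepNear

/-!
One step up: the commuting graph is connected, and only `1` and `a` commute with `a` and all its
neighbours, so the centre of a perp group is generated by its transposition.
-/

set_option autoImplicit false
set_option linter.style.haveILetI false
set_option linter.unusedSectionVars false

namespace Cfsg.Agent.Lib.FischerMTypes.Step

open Cfsg.Agent.Lib.FischerMTypes.Basic Cfsg.Agent.Lib.FischerMTypes.Primitive
  Cfsg.Agent.Lib.FischerMTypes.Levels Cfsg.Agent.Lib.FischerMTypes.Rank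

variable {G : Type*} [Group G] [Finite G] {D : Set G}
variable {Q : Type*} [Group Q] [Finite Q] {E : Set Q} {N A k n T : ℕ}

/-- the numerical conditions on the group one level down -/
structure Small (N A k n : ℕ) : Prop where
  edge : 1 + k < A
  trace : 0 < n
  far : 1 + A < N

/-- centralising a transposition with everything at distance at most two -/
def Star (D : Set G) (w v : G) : Prop :=
  Commute w v ∧ (∀ y ∈ perp D v, Commute w y) ∧ ∀ x ∈ near D v, Commute w x

namespace PreStep

variable (S : PreStep D E N A k n T) (hs : Small N A k n)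

include S hs in
theorem exists_off_edge {p u q : G} (hp : p ∈ D) (hu : u ∈ perp D p) (hq : q ∈ perp D p) (hne : u ≠ q)
    (huq : Commute u q) : ∃ x ∈ perp D p, ¬ Commute u x ∧ Commute q x := by
  by_contra hcon
  push Not at hcon
  have hsub : perp₂ D p q ⊆
      insert u {y | y ∈ perp D p ∧ (y ≠ u ∧ y ≠ q ∧ Commute u y ∧ Commute q y)} := by
    rintro y ⟨hy, hyq⟩
    by_cases hyu : y = u
    · exact Or.inl hyu
    refine Or.inr ⟨hy, hyu, hyq.2.1, ?_, hyq.2.2⟩
    by_contra huy
    exact hcon y hy huy hyq.2.2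
  have h1 := (Set.ncard_le_ncard hsub (Set.toFinite _)).trans (Set.ncard_insert_le _ _)
  rw [S.ncard_edge hp hq, S.ncard_edge₂ hp hu hq hne huq] at h1
  have := hs.edge
  omega

include S hs in
theorem exists_off {p u : G} (hp : p ∈ D) (hu : u ∈ perp D p) : ∃ x ∈ perp D p, ¬ Commute u x := by
  have h := S.ncard_off hp hu
  have := hs.far
  obtain ⟨x, hx⟩ := Set.nonempty_of_ncard_ne_zero (s := {y | y ∈ perp D p ∧ ¬ Commute u y}) (by omega)
  exact ⟨x, hx.1, hx.2⟩

include S hs in
theorem perp_nonempty {a : G} (ha : a ∈ D) : (perp D a).Nonempty := by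
  refine Set.nonempty_of_ncard_ne_zero ?_
  rw [S.ncard_perp ha]
  have := hs.far
  omega

include S hs in
/-- an element centralising a transposition and its neighbours acts on the rest of its star alike -/
theorem choice {u w : G} (hu : u ∈ D) (hwu : Commute w u) (hw : ∀ y ∈ perp D u, Commute w y) :
    (∀ x ∈ near D u, Commute w x) ∨ ∀ x ∈ near D u, Commute (u * w) x := by
  have huu := mul_self S.hD.1 hu
  have one : ∀ p ∈ perp D u, ∀ x ∈ perp D p, ¬ Commute u x → Commute w x ∨ Commute (u * w) x := by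
    intro p hp x hx hux
    have hpu : u ∈ perp D p := ⟨hu, Ne.symm hp.2.1, hp.2.2.symm⟩
    have hy : w * x * w⁻¹ ∈ perp D p := by
      have := (conj_mem_perp_iff S.hD w p x).mpr hx
      rwa [(hw p hp).eq, mul_inv_cancel_right] at this
    have hline := S.line_points hp.1 hpu hx hy hux fun z hz huz hxz => by
      have hzu : z ≠ u := fun h => hux (h ▸ hxz).symm
      have hwz := hw z ⟨hz.1, hzu, huz⟩
      have := (commute_conj_iff w x z).mpr hxz
      simp only [MulAut.conj_apply] at this
      rwa [hwz.eq, mul_inv_cancel_right] at this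
    rcases hline with h | h | h
    · refine absurd (show Commute u x from ?_) hux
      have : x = u := by
        calc x = w⁻¹ * (w * x * w⁻¹) * w := by group
          _ = w⁻¹ * u * w := by rw [h]
          _ = u := by rw [mul_assoc, ← hwu.eq, inv_mul_cancel_left]
      rw [this]
    · exact Or.inl (mul_inv_eq_iff_eq_mul.mp h)
    · refine Or.inr ?_
      show u * w * x = x * (u * w)
      calc u * w * x = u * (w * x * w⁻¹) * w := by group
        _ = (u * u) * x * (u * w) := by rw [h]; group
        _ = x * (u * w) := by rw [huu, one_mul]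
  let P : G → Prop := fun p => ∀ x ∈ perp D p, ¬ Commute u x → Commute w x
  have spread : ∀ p ∈ perp D u, ∀ x ∈ perp D p, ¬ Commute u x → ∀ x' ∈ perp D p, ¬ Commute u x' →
      Commute w x → Commute w x' := by
    intro p hp x hx hux x' hx' hux' h
    obtain ⟨g, hg, hgx⟩ := S.move_off hp.1 (a := u) ⟨hu, Ne.symm hp.2.1, hp.2.2.symm⟩ hx hx' hux hux'
    have hgw : Commute w g := commute_closure (fun z hz => by
      by_cases hzu : z = u
      · rw [hzu]; exact hwu
      · exact hw z ⟨hz.1.1, hzu, hz.2⟩) g hg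
    rw [← hgx]
    exact (hgw.mul_right h).mul_right hgw.inv_right
  have adj : ∀ p ∈ perp D u, ∀ q ∈ perp D u, Commute p q → P p → P q := by
    intro p hp q hq hpq hP
    by_cases hne : p = q
    · exact hne ▸ hP
    obtain ⟨x, hx, hux, hqx⟩ := S.exists_off_edge hs hp.1 (u := u) (q := q)
      ⟨hu, Ne.symm hp.2.1, hp.2.2.symm⟩ ⟨hq.1, Ne.symm hne, hpq⟩ (Ne.symm hq.2.1) hq.2.2
    have hxq : x ∈ perp D q := ⟨hx.1, fun h => hux (h ▸ hq.2.2), hqx⟩
    exact fun x' hx' hux' => spread q hq x hxq hux x' hx' hux' (hP x hx hux)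
  have all : ∀ p ∈ perp D u, ∀ q ∈ perp D u, P p → P q := by
    intro p hp q hq hP
    by_cases hpq : Commute p q
    · exact adj p hp q hq hpq hP
    obtain ⟨r, hr, hpr, hqr⟩ : Set.Nonempty {y | y ∈ perp D u ∧ (Commute p y ∧ Commute q y)} := by
      apply Set.nonempty_of_ncard_ne_zero
      rw [S.ncard_nonedge hu hp hq hpq]
      have := hs.trace
      omega
    exact adj r hr q hq hqr.symm (adj p hp r hr hpr hP)
  obtain ⟨p₀, hp₀⟩ := S.perp_nonempty hs hu
  by_cases hP : P p₀
  · refine Or.inl fun x hx => ?_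
    obtain ⟨p, hp⟩ := hx.2.2
    exact all p₀ hp₀ p hp.1 hP x (mem_perp_of_common hu hx.1 hp).2 hx.2.1
  · refine Or.inr fun x hx => ?_
    obtain ⟨p, hp⟩ := hx.2.2
    have hxp := (mem_perp_of_common hu hx.1 hp).2
    refine (one p hp.1 x hxp hx.2.1).resolve_left fun h => hP (all p hp.1 p₀ hp₀ ?_)
    exact fun x' hx' hux' => spread p hp.1 x hxp hx.2.1 x' hx' hux' h

end PreStep

namespace StepData

variable (S : StepData D E N A k n T) (hs : Small N A k n)

include S in
/-- the commuting graph is connected -/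
theorem connected (hs : Small N A k n) {a x : G} (ha : a ∈ D) (hx : x ∈ D) :
    Relation.ReflTransGen (fun u v => u ∈ D ∧ v ∈ D ∧ Commute u v) a x := by
  set R : G → G → Prop := fun u v => u ∈ D ∧ v ∈ D ∧ Commute u v
  set C : Set G := {v | v ∈ D ∧ Relation.ReflTransGen R a v}
  have hsymm : ∀ u v, Relation.ReflTransGen R u v → Relation.ReflTransGen R v u := fun u v h => by
    induction h with
    | refl => exact .refl
    | tail _ h ih => exact Relation.ReflTransGen.head ⟨h.2.1, h.1, h.2.2.symm⟩ ih
  have hmove : ∀ (g : G) u v, Relation.ReflTransGen R u v →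
      Relation.ReflTransGen R (g * u * g⁻¹) (g * v * g⁻¹) := fun g u v h =>
    Relation.ReflTransGen.lift (fun y => g * y * g⁻¹)
      (fun p q hpq => ⟨S.hD.2.1 g p hpq.1, S.hD.2.1 g q hpq.2.1, (commute_conj_iff g p q).mpr hpq.2.2⟩) _ _ h
  have hblock : ∀ g : G, (fun z => g * z * g⁻¹) '' C = C ∨ Disjoint ((fun z => g * z * g⁻¹) '' C) C := by
    intro g
    by_cases hd : Disjoint ((fun z => g * z * g⁻¹) '' C) C
    · exact Or.inr hd
    left
    obtain ⟨z, ⟨u, hu, rfl⟩, hz⟩ := Set.not_disjoint_iff.mp hd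
    have hga : Relation.ReflTransGen R a (g * a * g⁻¹) := hz.2.trans (hsymm _ _ (hmove g _ _ hu.2))
    ext z
    constructor
    · rintro ⟨v, hv, rfl⟩
      exact ⟨S.hD.2.1 g v hv.1, hga.trans (hmove g _ _ hv.2)⟩
    · intro hv
      refine ⟨g⁻¹ * z * g, ⟨by simpa using S.hD.2.1 g⁻¹ z hv.1, ?_⟩, by group⟩
      have := hmove g⁻¹ _ _ ((hsymm _ _ hga).trans hv.2)
      simpa [mul_assoc] using this
  obtain ⟨p, hp⟩ := S.perp_nonempty hs ha
  rcases S.hprim.2.2 C (fun v hv => hv.1) hblock with h | h
  · exact absurd (h ⟨hp.1, .single ⟨ha, hp.1, hp.2.2⟩⟩ ⟨ha, .refl⟩) hp.2.1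
  · exact (h.symm ▸ hx : x ∈ C).2

include S hs in
/-- centralising everything near one transposition is centralising everything -/
theorem eq_one_of_star {a w : G} (ha : a ∈ D) (hw : Star D w a) : w = 1 := by
  suffices h : ∀ y, Relation.ReflTransGen (fun u v => u ∈ D ∧ v ∈ D ∧ Commute u v) a y → Star D w y by
    have : w ∈ Subgroup.center G :=
      center_of_commute_all S.hD.2.2 fun e he => (h e (S.connected hs ha he)).1.symm
    rwa [S.hZ, Subgroup.mem_bot] at this
  intro y hy
  induction hy with
  | refl => exact hw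
  | @tail v u hav hst ih =>
    by_cases huv : u = v
    · exact huv ▸ ih
    have hu : u ∈ perp D v := ⟨hst.2.1, huv, hst.2.2⟩
    have hwu := ih.2.1 u hu
    have hperp : ∀ z ∈ perp D u, Commute w z := by
      intro z hz
      by_cases hzv : z = v
      · rw [hzv]; exact ih.1
      by_cases hc : Commute v z
      · exact ih.2.1 z ⟨hz.1, hzv, hc⟩
      · exact ih.2.2 z ⟨hz.1, hc, u, hu, ⟨hst.2.1, Ne.symm hz.2.1, hz.2.2.symm⟩⟩
    rcases S.choice hs hst.2.1 hwu hperp with h | h
    · exact ⟨hwu, hperp, h⟩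
    · exfalso
      obtain ⟨x, hx, hux⟩ := S.exists_off hs hst.1 hu
      have h1 := h x ⟨hx.1, hux, v, ⟨hst.1, Ne.symm huv, hst.2.2.symm⟩, hst.1, Ne.symm hx.2.1, hx.2.2.symm⟩
      have := h1.mul_left (ih.2.1 x hx).inv_left
      rw [mul_inv_cancel_right] at this
      exact hux this

include S hs in
/-- only `1` and `a` centralise `a` and its neighbours -/
theorem eq_one_or_self {a z : G} (ha : a ∈ D) (hza : Commute z a) (hzp : ∀ y ∈ perp D a, Commute z y) :
    z = 1 ∨ z = a := by
  rcases S.choice hs ha hza hzp with h | h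
  · exact Or.inl (S.eq_one_of_star hs ha ⟨hza, hzp, h⟩)
  · refine Or.inr ?_
    have := S.eq_one_of_star hs ha (w := a * z) ⟨(Commute.refl a).mul_left hza,
      fun y hy => hy.2.2.mul_left (hzp y hy), h⟩
    rw [← inv_eq S.hD.1 ha, eq_inv_of_mul_eq_one_right this]

include S hs in
/-- an element of `closure (perp D q)` commuting with all of `perp D q` is `1` or `q` -/
theorem center_perp {q z : G} (hq : q ∈ D) (hz : z ∈ Subgroup.closure (perp D q))
    (hcz : ∀ y ∈ perp D q, Commute y z) : z = 1 ∨ z = q :=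
  S.eq_one_or_self hs hq (commute_closure (u := q) (fun s hs' => hs'.2.2) z hz).symm
    fun y hy => (hcz y hy).symm

include S hs in
/-- a non-trivial element central on a perp set is its transposition -/
theorem self_mem_of_central {a z : G} (ha : a ∈ D) (hz : z ∈ Subgroup.closure (perp D a)) (hz1 : z ≠ 1)
    (hcz : ∀ y ∈ perp D a, Commute y z) : a ∈ Subgroup.closure (perp D a) := by
  rcases S.center_perp hs ha hz hcz with h | h
  · exact absurd h hz1
  · exact h ▸ hz

include S hs in
theorem center_eq {a : G} (ha : a ∈ D) :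
    Subgroup.center ↥(Subgroup.closure (perp D a)) =
      (Subgroup.zpowers a).subgroupOf (Subgroup.closure (perp D a)) := by
  ext ⟨z, hz⟩
  rw [Subgroup.mem_subgroupOf, Subgroup.mem_center_iff]
  constructor
  · intro h
    rcases S.center_perp hs ha hz fun y hy => congrArg Subtype.val (h ⟨y, Subgroup.subset_closure hy⟩)
      with rfl | rfl
    · exact one_mem _
    · exact Subgroup.mem_zpowers _
  · rintro hmem ⟨y, hy⟩
    obtain ⟨m, hm⟩ := Subgroup.mem_zpowers_iff.mp hmem
    have hc : Commute a y := commute_closure (fun s hs' => hs'.2.2) y hy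
    refine Subtype.ext ?_
    show y * z = z * y
    rw [show z = a ^ m from hm.symm]
    exact (hc.zpow_left m).eq.symm

end StepData

end Cfsg.Agent.Lib.FischerMTypes.Step
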