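import Mathlib
import Cfsg.Agent.Lib.FischerMTypes.StepSelf

/-!
One step up, with the trace size known: the commuting graph has diameter two, the centraliser of a
transposition is generated by its perp set, and the rank three data climb.
-/

set_option autoImplicit false
set_option linter.style.haveILetI false
set_option linter.unusedSectionVars false

namespace Cfsg.Agent.Lib.FischerMTypes.Step

open Cfsg.Agent.Lib.FischerMTypes.Basic Cfsg.Agent.Lib.FischerMTypes.Primitive
  Cfsg.Agent.Lib.FischerMTypes.Levels Cfsg.Agent.Lib.FischerMTypes.Rank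

variable {G : Type*} [Group G] [Finite G] {D : Set G}
variable {Q : Type*} [Group Q] [Finite Q] {E : Set Q} {N A k n T n₁ : ℕ}

/-- what has to be known of a trace before climbing -/
structure Pinned (D : Set G) (N A k n n₁ : ℕ) : Prop where
  small : Small N A k n
  self : ∀ a ∈ D, a ∈ Subgroup.closure (perp D a)
  trace_card : ∀ a ∈ D, ∀ x ∈ near D a, (perp₂ D a x).ncard = n₁
  meet : ∀ a ∈ D, ∀ x ∈ near D a, ∀ f ∈ perp D a, f ∉ perp₂ D a x →
    0 < {p | p ∈ perp₂ D a x ∧ Commute p f}.ncard ∧ 2 * {p | p ∈ perp₂ D a x ∧ Commute p f}.ncard < n₁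
  big_edge : 2 + 2 * k < A
  big_trace : 2 + 2 * n < n₁

theorem conj_commute {g u v : G} (h : Commute u v) : Commute (g * u * g⁻¹) (g * v * g⁻¹) :=
  (commute_conj_iff g u v).mpr h

theorem conj_mem_closure_perp (hD : Cfsg.IsThreeTranspositionGroup D) {g v u h : G}
    (hgv : g * v * g⁻¹ = u) (hh : h ∈ Subgroup.closure (perp D v)) :
    g * h * g⁻¹ ∈ Subgroup.closure (perp D u) := by
  induction hh using Subgroup.closure_induction with
  | mem y hy => exact Subgroup.subset_closure (hgv ▸ (conj_mem_perp_iff hD g v y).mpr hy)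
  | one => simp
  | mul x y _ _ hx hy =>
    rw [show g * (x * y) * g⁻¹ = g * x * g⁻¹ * (g * y * g⁻¹) by group]
    exact mul_mem hx hy
  | inv x _ hx =>
    rw [show g * x⁻¹ * g⁻¹ = (g * x * g⁻¹)⁻¹ by group]
    exact inv_mem hx

theorem closure_star_eq (P : Pinned D N A k n n₁) {a : G} (ha : a ∈ D) :
    Subgroup.closure (star D a) ≤ Subgroup.closure (perp D a) := by
  refine (Subgroup.closure_le _).mpr fun u hu => ?_
  by_cases hua : u = a
  · rw [hua]; exact P.self a ha
  · exact Subgroup.subset_closure ⟨hu.1, hua, hu.2⟩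

theorem star_le_closure (P : Pinned D N A k n n₁) {a p : G} (ha : a ∈ D) :
    Subgroup.closure (pstar D p a) ≤ Subgroup.closure (perp D a) :=
  le_trans (Subgroup.closure_mono (pstar_subset D p a)) (closure_star_eq P ha)

namespace StepData

variable (S : StepData D E N A k n T) (P : Pinned D N A k n n₁)

include S P in
/-- every non-commuting pair has a common neighbour -/
theorem mem_near {a x : G} (ha : a ∈ D) (hx : x ∈ D) (hax : ¬ Commute a x) : x ∈ near D a := by
  have key : ∀ v, Relation.ReflTransGen (fun u v => u ∈ D ∧ v ∈ D ∧ Commute u v) a v →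
      v = a ∨ v ∈ perp D a ∨ v ∈ near D a := by
    intro v hv
    induction hv with
    | refl => exact Or.inl rfl
    | @tail v w _ hst ih =>
      obtain ⟨hv, hw, hvw⟩ := hst
      by_cases hwa : w = a
      · exact Or.inl hwa
      by_cases hc : Commute a w
      · exact Or.inr (Or.inl ⟨hw, hwa, hc⟩)
      refine Or.inr (Or.inr ⟨hw, hc, ?_⟩)
      rcases ih with rfl | hv' | hv'
      · exact absurd hvw hc
      · exact ⟨v, hv', hv, fun h => hc (h ▸ hv'.2.2), hvw.symm⟩
      · by_cases hwv : w = v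
        · subst hwv; exact hv'.2.2
        have h30 := (P.meet v hv a (near_symm ha hv') w ⟨hw, hwv, hvw⟩ (fun h => hc h.2.2.2)).1
        obtain ⟨q, hq, hqw⟩ := Set.nonempty_of_ncard_ne_zero (by omega :
          {p | p ∈ perp₂ D v a ∧ Commute p w}.ncard ≠ 0)
        exact ⟨q, hq.2, hq.1.1, fun h => hc (h ▸ hq.2.2.2), hqw.symm⟩
  rcases key x (S.connected P.small ha hx) with h | h | h
  · exact absurd (h ▸ Commute.refl a) hax
  · exact absurd h.2.2 hax
  · exact h

include S P in
theorem ncard_trace {a x : G} (ha : a ∈ D) (hx : x ∈ D) (hax : ¬ Commute a x) :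
    (perp₂ D a x).ncard = n₁ :=
  P.trace_card a ha x (mem_near S P ha hx hax)

theorem mul_conj_eq (hD : Cfsg.IsThreeTranspositionSet D) {u v : G} (hu : u ∈ D) (hv : v ∈ D)
    (h : ¬ Commute u v) : u * v * u * (u * v)⁻¹ = v := by
  rw [mul_inv_rev, inv_eq hD hu, inv_eq hD hv]
  calc u * v * u * (v * u) = u * (v * u * v) * u := by group
    _ = u * (u * v * u) * u := by rw [braid hD hv hu (fun hc => h hc.symm)]
    _ = v := conj_self_inv hD hu v

theorem two_step_eq (hD : Cfsg.IsThreeTranspositionSet D) {u x v : G} (hu : u ∈ D) (hx : x ∈ D)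
    (hv : v ∈ D) (hux : ¬ Commute u x) (hxv : ¬ Commute x v) :
    x * v * (u * x) * u * (x * v * (u * x))⁻¹ = v := by
  calc x * v * (u * x) * u * (x * v * (u * x))⁻¹ = x * v * (u * x * u * (u * x)⁻¹) * (x * v)⁻¹ := by group
    _ = v := by rw [mul_conj_eq hD hu hx hux, mul_conj_eq hD hx hv hxv]

include S P in
/-- two elements of `closure (perp D q)` moving `u` to the same place agree modulo `closure (perp D u)` -/
theorem move_eq {q u g g' : G} (hq : q ∈ D) (hu : u ∈ perp D q) (hg : g ∈ Subgroup.closure (perp D q))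
    (hg' : g' ∈ Subgroup.closure (perp D q)) (he : g * u * g⁻¹ = g' * u * g'⁻¹) :
    g⁻¹ * g' ∈ Subgroup.closure (perp D u) := by
  set h := g⁻¹ * g'
  have hh : h ∈ Subgroup.closure (perp D q) := mul_mem (inv_mem hg) hg'
  have hfix : h * u * h⁻¹ = u := by
    calc h * u * h⁻¹ = g⁻¹ * (g' * u * g'⁻¹) * g := by simp only [h]; group
      _ = g⁻¹ * (g * u * g⁻¹) * g := by rw [he]
      _ = u := by group
  obtain ⟨k, hk, hkc⟩ := S.exists_stab hq hu hh hfix
  have hkq : k ∈ Subgroup.closure (perp D q) := Subgroup.closure_mono (fun y hy => hy.1) hk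
  have hku : k ∈ Subgroup.closure (perp D u) := star_le_closure P hu.1 hk
  have hqu : q ∈ perp D u := ⟨hq, Ne.symm hu.2.1, hu.2.2.symm⟩
  rw [show h = k * (k⁻¹ * h) by group]
  refine mul_mem hku ?_
  rcases S.center_perp P.small hq (mul_mem (inv_mem hkq) hh) hkc with hz | hz <;> rw [hz]
  · exact one_mem _
  · exact Subgroup.subset_closure hqu

include S P in
/-- the move between commuting transpositions through a common non-neighbour is well defined -/
theorem step_eq {u v x x' : G} (hu : u ∈ D) (hv : v ∈ D) (hne : u ≠ v) (huv : Commute u v)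
    (hx : x ∈ D) (hxu : ¬ Commute u x) (hxv : ¬ Commute x v)
    (hx' : x' ∈ D) (hxu' : ¬ Commute u x') (hxv' : ¬ Commute x' v) :
    (x * v * (u * x))⁻¹ * (x' * v * (u * x')) ∈ Subgroup.closure (perp D u) := by
  have hv' : v ∈ perp D u := ⟨hv, Ne.symm hne, huv⟩
  -- common neighbours
  have hq : ∀ y ∈ D, ¬ Commute u y → ¬ Commute y v → ∃ q, q ∈ perp₂ D u v ∧ y ∈ perp D q := by
    intro y hy hyu hyv
    have h30 := (P.meet u hu y (mem_near S P hu hy hyu) v hv' (fun h => hyv h.2.2.2)).1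
    obtain ⟨q, hq, hqv⟩ := Set.nonempty_of_ncard_ne_zero (by omega :
      {p | p ∈ perp₂ D u y ∧ Commute p v}.ncard ≠ 0)
    refine ⟨q, ⟨hq.1, hq.1.1, fun h => hyv (h ▸ hq.2.2.2), hqv.symm⟩, hy, Ne.symm hq.2.2.1, hq.2.2.2.symm⟩
  obtain ⟨q, hq1, hxq⟩ := hq x hx hxu hxv
  obtain ⟨q', hq1', hxq'⟩ := hq x' hx' hxu' hxv'
  have hq2 : ∀ {q : G}, q ∈ perp₂ D u v → u ∈ perp D q ∧ v ∈ perp D q := fun hq =>
    ⟨⟨hu, Ne.symm hq.1.2.1, hq.1.2.2.symm⟩, hv, Ne.symm hq.2.2.1, hq.2.2.2.symm⟩
  have same : ∀ {q : G}, q ∈ perp₂ D u v → ∀ {y z : G}, y ∈ perp D q → z ∈ perp D q → ¬ Commute u y →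
      ¬ Commute y v → ¬ Commute u z → ¬ Commute z v →
      (y * v * (u * y))⁻¹ * (z * v * (u * z)) ∈ Subgroup.closure (perp D u) := by
    intro q hq y z hy hz h1 h2 h3 h4
    obtain ⟨huq, hvq⟩ := hq2 hq
    have hm : ∀ {w : G}, w ∈ perp D q → w * v * (u * w) ∈ Subgroup.closure (perp D q) := fun hw =>
      mul_mem (mul_mem (Subgroup.subset_closure hw) (Subgroup.subset_closure hvq))
        (mul_mem (Subgroup.subset_closure huq) (Subgroup.subset_closure hw))
    refine move_eq S P hq.1.1 huq (hm hy) (hm hz) ?_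
    rw [two_step_eq S.hD.1 hu hy.1 hv h1 h2, two_step_eq S.hD.1 hu hz.1 hv h3 h4]
  by_cases hqq : q = q'
  · subst hqq; exact same hq1 hxq hxq' hxu hxv hxu' hxv'
  obtain ⟨huq, hvq⟩ := hq2 hq1
  obtain ⟨huq', hvq'⟩ := hq2 hq1'
  -- few common neighbours of `q`, `q'` commute with `u` or `v`
  obtain ⟨y, hy, hyu, hyv⟩ : ∃ y ∈ perp₂ D q q', ¬ Commute u y ∧ ¬ Commute y v := by
    by_contra hcon
    push Not at hcon
    have hsub : perp₂ D q q' ⊆ insert u {y | y ∈ perp₂ D q q' ∧ (y ≠ u ∧ Commute u y)} ∪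
        insert v {y | y ∈ perp₂ D q q' ∧ (y ≠ v ∧ Commute v y)} := by
      intro y hy
      by_cases hc : Commute u y
      · by_cases h1 : y = u
        · exact Or.inl (Or.inl h1)
        · exact Or.inl (Or.inr ⟨hy, h1, hc⟩)
      · by_cases h1 : y = v
        · exact Or.inr (Or.inl h1)
        · exact Or.inr (Or.inr ⟨hy, h1, (hcon y hy hc).symm⟩)
    have hle := (Set.ncard_le_ncard hsub (Set.toFinite _)).trans ((Set.ncard_union_le _ _).trans
      (Nat.add_le_add (Set.ncard_insert_le _ _) (Set.ncard_insert_le _ _)))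
    by_cases hc : Commute q q'
    · have hq'q : q' ∈ perp D q := ⟨hq1'.1.1, Ne.symm hqq, hc⟩
      have h51 : ∀ {w : G}, w ∈ perp D q → w ∈ perp D q' →
          {y | y ∈ perp₂ D q q' ∧ (y ≠ w ∧ Commute w y)}.ncard = k := by
        intro w hw hw'
        refine Eq.trans ?_ (S.ncard_edge₂ hq1.1.1 hq'q hw (Ne.symm hw'.2.1) hw'.2.2)
        congr 1
        ext y
        exact ⟨fun h => ⟨h.1.1, h.1.2.2.1, h.2.1, h.1.2.2.2, h.2.2⟩,
          fun h => ⟨⟨h.1, h.1.1, h.2.1, h.2.2.2.1⟩, h.2.2.1, h.2.2.2.2⟩⟩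
      rw [S.ncard_edge hq1.1.1 hq'q, h51 huq huq', h51 hvq hvq'] at hle
      have := P.big_edge
      omega
    · rw [ncard_trace S P hq1.1.1 hq1'.1.1 hc, S.ncard_trace_nbr hq1.1.1 hq1'.1.1 hc ⟨huq, huq'⟩,
        S.ncard_trace_nbr hq1.1.1 hq1'.1.1 hc ⟨hvq, hvq'⟩] at hle
      have := P.big_trace
      omega
  have h1 := same hq1 hxq hy.1 hxu hxv hyu hyv
  have h2 := same hq1' hy.2 hxq' hyu hyv hxu' hxv'
  have h12 := mul_mem h1 h2
  rwa [mul_assoc, mul_inv_cancel_left] at h12

include S P in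
/-- triangles of pairwise non-commuting transpositions are trivial -/
theorem triangle_eq {a x w : G} (ha : a ∈ D) (hx : x ∈ D) (hw : w ∈ D) (hax : ¬ Commute a x)
    (haw : ¬ Commute a w) (hxw : ¬ Commute x w) :
    (a * w)⁻¹ * (x * w * (a * x)) ∈ Subgroup.closure (perp D a) := by
  have direct : ∀ {q v : G}, q ∈ perp₂ D a x → v ∈ D → Commute q v → ¬ Commute a v → ¬ Commute x v →
      (a * v)⁻¹ * (x * v * (a * x)) ∈ Subgroup.closure (perp D a) := by
    intro q v hq hv hqv hav hxv
    have haq : a ∈ perp D q := ⟨ha, Ne.symm hq.1.2.1, hq.1.2.2.symm⟩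
    have hxq : x ∈ perp D q := ⟨hx, Ne.symm hq.2.2.1, hq.2.2.2.symm⟩
    have hvq : v ∈ perp D q := ⟨hv, fun h => hav (h ▸ hq.1.2.2), hqv⟩
    refine move_eq S P hq.1.1 haq
      (mul_mem (Subgroup.subset_closure haq) (Subgroup.subset_closure hvq))
      (mul_mem (mul_mem (Subgroup.subset_closure hxq) (Subgroup.subset_closure hvq))
        (mul_mem (Subgroup.subset_closure haq) (Subgroup.subset_closure hxq))) ?_
    rw [mul_conj_eq S.hD.1 ha hv hav, two_step_eq S.hD.1 ha hx hv hax hxv]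
  obtain ⟨q, hq⟩ : (perp₂ D a x).Nonempty :=
    Set.nonempty_of_ncard_ne_zero (by rw [ncard_trace S P ha hx hax]; have := P.big_trace; omega)
  by_cases hqw : Commute q w
  · exact direct hq hw hqw haw hxw
  -- pass to a neighbour of `w`
  obtain ⟨v, hv, hav, hxv⟩ : ∃ v ∈ perp₂ D q w, ¬ Commute a v ∧ ¬ Commute x v := by
    by_contra hcon
    push Not at hcon
    have haq : a ∈ perp D q := ⟨ha, Ne.symm hq.1.2.1, hq.1.2.2.symm⟩
    have hxq : x ∈ perp D q := ⟨hx, Ne.symm hq.2.2.1, hq.2.2.2.symm⟩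
    have hsub : perp₂ D q w ⊆
        {p | p ∈ perp₂ D q w ∧ Commute p a} ∪ {p | p ∈ perp₂ D q w ∧ Commute p x} := by
      intro y hy
      by_cases hc : Commute a y
      · exact Or.inl ⟨hy, hc.symm⟩
      · exact Or.inr ⟨hy, (hcon y hy hc).symm⟩
    have hle := (Set.ncard_le_ncard hsub (Set.toFinite _)).trans (Set.ncard_union_le _ _)
    have hnear := mem_near S P hq.1.1 hw hqw
    have h1 := (P.meet q hq.1.1 w hnear a haq (fun h => haw h.2.2.2.symm)).2
    have h2 := (P.meet q hq.1.1 w hnear x hxq (fun h => hxw h.2.2.2.symm)).2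
    rw [ncard_trace S P hq.1.1 hw hqw] at hle
    omega
  have h1 := direct hq hv.1.1 hv.1.2.2 hav hxv
  have h2 := step_eq S P hv.1.1 hw hv.2.2.1 hv.2.2.2.symm ha (fun h => hav h.symm) haw hx
    (fun h => hxv h.symm) hxw
  have hmove : v * a * v * (v * a)⁻¹ = a := mul_conj_eq S.hD.1 hv.1.1 ha (fun h => hav h.symm)
  have h3 := conj_mem_closure_perp S.hD hmove h2
  have key : (a * w)⁻¹ * (x * w * (a * x)) = v * a * ((a * w * (v * a))⁻¹ * (x * w * (v * x))) * (v * a)⁻¹ *
      ((a * v)⁻¹ * (x * v * (a * x))) := by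
    simp only [mul_inv_rev, inv_eq S.hD.1 ha, inv_eq S.hD.1 hx, inv_eq S.hD.1 hw, inv_eq S.hD.1 hv.1.1,
      mul_assoc]
    simp only [← mul_assoc, mul_self S.hD.1 ha, mul_self S.hD.1 hx, mul_self S.hD.1 hv.1.1, one_mul]
  rw [key]
  exact mul_mem h3 h1

/-- `g` is congruent modulo `closure (perp D a)` to the chosen move from `a` to `g * a * g⁻¹` -/
def Good (D : Set G) (a g : G) : Prop :=
  (g * a * g⁻¹ = a → g ∈ Subgroup.closure (perp D a)) ∧
  (¬ Commute a (g * a * g⁻¹) → (a * (g * a * g⁻¹))⁻¹ * g ∈ Subgroup.closure (perp D a)) ∧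
  (g * a * g⁻¹ ≠ a → Commute a (g * a * g⁻¹) → ∀ y ∈ D, ¬ Commute a y → ¬ Commute y (g * a * g⁻¹) →
    (y * (g * a * g⁻¹) * (a * y))⁻¹ * g ∈ Subgroup.closure (perp D a))

theorem good_one (a : G) : Good D a 1 := by
  refine ⟨fun _ => one_mem _, fun h => ?_, fun h => ?_⟩
  · simp at h
  · simp at h

include S P in
theorem good_mul_fix {a d g : G} (ha : a ∈ D) (hd : d ∈ D) (had : Commute a d) (hg : Good D a g) :
    Good D a (d * g) := by
  have hdH : d ∈ Subgroup.closure (perp D a) := by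
    by_cases h : d = a
    · rw [h]; exact P.self a ha
    · exact Subgroup.subset_closure ⟨hd, h, had⟩
  have hda : d * a * d⁻¹ = a := by rw [← had.eq, mul_inv_cancel_right]
  have hv : d * g * a * (d * g)⁻¹ = d * (g * a * g⁻¹) * d⁻¹ := by group
  have hcomm : Commute a (d * g * a * (d * g)⁻¹) ↔ Commute a (g * a * g⁻¹) := by
    rw [hv]
    conv_lhs => arg 1; rw [← hda]
    exact commute_conj_iff d a (g * a * g⁻¹)
  refine ⟨fun h => mul_mem hdH (hg.1 ?_), fun h => ?_, fun hne hc y hy hay hyv => ?_⟩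
  · rw [hv] at h
    calc g * a * g⁻¹ = d⁻¹ * (d * (g * a * g⁻¹) * d⁻¹) * d := by group
      _ = d⁻¹ * (d * a * d⁻¹) * d := by rw [h, hda]
      _ = a := by group
  · have := hg.2.1 (fun hc => h (hcomm.mpr hc))
    rw [hv]
    generalize g * a * g⁻¹ = v at this
    have e : (a * (d * v * d⁻¹))⁻¹ * (d * g) = d * ((a * v)⁻¹ * g) := by
      calc (a * (d * v * d⁻¹))⁻¹ * (d * g) = (d * a * d⁻¹ * (d * v * d⁻¹))⁻¹ * (d * g) := by rw [hda]
        _ = d * ((a * v)⁻¹ * g) := by group
    rw [e]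
    exact mul_mem hdH this
  · have hne' : g * a * g⁻¹ ≠ a := fun h => hne (by rw [hv, h, hda])
    have hay' : ¬ Commute a (d⁻¹ * y * d) := fun h => hay (by
      have := conj_commute (g := d) h
      rwa [hda, show d * (d⁻¹ * y * d) * d⁻¹ = y by group] at this)
    have hyv' : ¬ Commute (d⁻¹ * y * d) (g * a * g⁻¹) := fun h => hyv (by
      have := conj_commute (g := d) h
      rwa [← hv, show d * (d⁻¹ * y * d) * d⁻¹ = y by group] at this)
    have := hg.2.2 hne' (hcomm.mp hc) _ (by simpa using S.hD.2.1 d⁻¹ y hy) hay' hyv'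
    rw [hv]
    generalize g * a * g⁻¹ = v at this
    have e : (y * (d * v * d⁻¹) * (a * y))⁻¹ * (d * g) = d * ((d⁻¹ * y * d * v * (a * (d⁻¹ * y * d)))⁻¹ * g) := by
      calc (y * (d * v * d⁻¹) * (a * y))⁻¹ * (d * g)
          = (y * (d * v * d⁻¹) * (d * a * d⁻¹ * y))⁻¹ * (d * g) := by rw [hda]
        _ = d * ((d⁻¹ * y * d * v * (a * (d⁻¹ * y * d)))⁻¹ * g) := by group
    rw [e]
    exact mul_mem hdH this

include S P in
theorem good_mul_far {a x g : G} (ha : a ∈ D) (hx : x ∈ D) (hax : ¬ Commute a x) (hg : Good D a g) :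
    Good D a (x * g) := by
  set H := Subgroup.closure (perp D a)
  have haH : a ∈ H := P.self a ha
  set v := g * a * g⁻¹ with hv
  have hvD : v ∈ D := S.hD.2.1 g a ha
  set v' := x * g * a * (x * g)⁻¹ with hv'
  have hvv : v' = x * v * x := by
    calc v' = x * v * x⁻¹ := by rw [hv', hv]; group
      _ = x * v * x := by rw [inv_eq S.hD.1 hx]
  have hv'D : v' ∈ D := S.hD.2.1 (x * g) a ha
  by_cases hxv : Commute x v
  · -- the image stays
    have he : v' = v := by rw [hvv]; exact conj_fix_of_commute S.hD.1 hx hxv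
    have hgx : g⁻¹ * x * g ∈ H := by
      have h1 : g⁻¹ * x * g ∈ D := by simpa using S.hD.2.1 g⁻¹ x hx
      have h2 : Commute a (g⁻¹ * x * g) := by
        have := conj_commute (g := g⁻¹) hxv.symm
        simpa [hv, mul_assoc] using this
      by_cases h : g⁻¹ * x * g = a
      · rw [h]; exact haH
      · exact Subgroup.subset_closure ⟨h1, h, h2⟩
    have e : ∀ t : G, t * (x * g) = t * g * (g⁻¹ * x * g) := fun t => by group
    refine ⟨fun h => ?_, fun h => ?_, fun hne hc y hy hay hyv => ?_⟩ <;> rw [← hv'] at *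
    · rw [show x * g = g * (g⁻¹ * x * g) by group]
      exact mul_mem (hg.1 (by rw [← hv, ← he]; exact h)) hgx
    · rw [he] at h ⊢
      rw [e]; exact mul_mem (hg.2.1 h) hgx
    · rw [he] at hne hc hyv ⊢
      rw [e]; exact mul_mem (hg.2.2 hne hc y hy hay hyv) hgx
  by_cases hva : v = a
  · have hgH : g ∈ H := hg.1 hva
    have he : v' = x * a * x := by rw [hvv, hva]
    have hax' : ¬ Commute a (x * a * x) := by
      rw [← braid S.hD.1 ha hx hax]
      intro h
      have := (conj_comm_iff S.hD.1 ha).mpr h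
      rw [conj_self_inv S.hD.1 ha, mul_self S.hD.1 ha, one_mul] at this
      exact hax this
    refine ⟨fun h => ?_, fun h => ?_, fun hne hc => ?_⟩ <;> rw [← hv'] at *
    · exact absurd (Commute.refl a) (by rwa [← he, h] at hax')
    · have e : (a * v')⁻¹ * (x * g) = a * g := by
        rw [he, ← braid S.hD.1 ha hx hax]
        simp only [mul_inv_rev, inv_eq S.hD.1 ha, inv_eq S.hD.1 hx, mul_assoc]
        simp only [← mul_assoc, mul_self S.hD.1 ha, one_mul]
        simp [mul_assoc, ← mul_assoc x x, mul_self S.hD.1 hx, ← mul_assoc a a, mul_self S.hD.1 ha]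
      rw [e]; exact mul_mem haH hgH
    · exact absurd (he ▸ hc) hax'
  -- `v` is moved
  have hvx : ¬ Commute v x := fun h => hxv h.symm
  have hv'x : v' = v * x * v := by rw [hvv, braid S.hD.1 hx hvD hxv]
  by_cases hav : Commute a v
  · -- `v` in the perp set, so `v'` is far
    have hg' := hg.2.2 hva hav x hx hax hxv
    have hnc : ¬ Commute a v' := by
      intro h
      rw [hv'x] at h
      have := (conj_comm_iff S.hD.1 hvD).mpr h
      rw [conj_fix_of_commute S.hD.1 hvD hav.symm, conj_self_inv S.hD.1 hvD] at this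
      exact hax this
    refine ⟨fun h => absurd (Commute.refl a) (by rwa [hv', h] at hnc), fun _ => ?_,
      fun _ hc => absurd hc hnc⟩
    rw [← hv']
    have hvH : v ∈ H := Subgroup.subset_closure ⟨hvD, hva, hav⟩
    have e : (a * v')⁻¹ * (x * g) = v⁻¹ * ((x * v * (a * x))⁻¹ * g) := by
      have hvxv : x * v * x = v * x * v := braid S.hD.1 hx hvD hxv
      have h1 : a * v' * v⁻¹ = x * (x * v * (a * x)) := by
        rw [hv'x, inv_eq S.hD.1 hvD]
        calc a * (v * x * v) * v = a * v * x * (v * v) := by group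
          _ = v * a * x := by rw [mul_self S.hD.1 hvD, mul_one, hav.eq]
          _ = (x * x) * v * (a * x) := by rw [mul_self S.hD.1 hx]; group
          _ = x * (x * v * (a * x)) := by group
      calc (a * v')⁻¹ * (x * g) = v⁻¹ * ((a * v' * v⁻¹)⁻¹ * (x * g)) := by group
        _ = v⁻¹ * ((x * (x * v * (a * x)))⁻¹ * (x * g)) := by rw [h1]
        _ = v⁻¹ * ((x * v * (a * x))⁻¹ * g) := by group
    rw [e]
    exact mul_mem (inv_mem hvH) hg'
  -- `v` far
  have hg' := hg.2.1 hav
  by_cases hv'a : v' = a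
  · refine ⟨fun _ => ?_, fun h => absurd (Commute.refl a) (by rwa [← hv', hv'a] at h),
      fun h => absurd hv'a h⟩
    have hv2 : v = x * a * x := by rw [← hv'a, hvv, conj_self_inv S.hD.1 hx]
    have e : x * g = a * ((a * v)⁻¹ * g) := by
      rw [hv2, ← braid S.hD.1 ha hx hax]
      simp only [mul_inv_rev, inv_eq S.hD.1 ha, inv_eq S.hD.1 hx, mul_assoc]
      simp [← mul_assoc, mul_self S.hD.1 ha, mul_self S.hD.1 hx]
    rw [e]; exact mul_mem haH hg'
  have hvv' : ¬ Commute v v' := by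
    intro h
    rw [hv'x] at h
    have := (conj_comm_iff S.hD.1 hvD).mpr h
    rw [conj_fix_of_commute S.hD.1 hvD (Commute.refl v), conj_self_inv S.hD.1 hvD] at this
    exact hvx this
  -- the moved element is congruent to the move through `v`
  have hmove : (v * v' * (a * v))⁻¹ * (x * g) ∈ H := by
    have h1 : v * v' * (a * v) = x * (a * v) * a := by
      rw [hv'x]
      calc v * (v * x * v) * (a * v) = (v * v) * x * (v * a * v) := by group
        _ = x * (a * v * a) := by rw [mul_self S.hD.1 hvD, one_mul, braid S.hD.1 ha hvD hav]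
        _ = x * (a * v) * a := by group
    rw [h1, show (x * (a * v) * a)⁻¹ * (x * g) = a⁻¹ * ((a * v)⁻¹ * g) by group]
    exact mul_mem (inv_mem haH) hg'
  refine ⟨fun h => absurd h hv'a, fun h => ?_, fun _ hc y hy hay hyv => ?_⟩ <;> rw [← hv'] at *
  · have h1 := triangle_eq S P ha hvD hv'D hav h hvv'
    have h2 := mul_mem h1 hmove
    rwa [mul_assoc, mul_inv_cancel_left] at h2
  · have h1 := step_eq S P ha hv'D (Ne.symm hv'a) hc hy hay hyv hvD hav hvv'
    have h2 := mul_mem h1 hmove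
    rwa [mul_assoc, mul_inv_cancel_left] at h2

include S P in
theorem good_all {a : G} (ha : a ∈ D) (g : G) : Good D a g := by
  have hstep : ∀ d ∈ D, ∀ g, Good D a g → Good D a (d * g) := fun d hd g hg => by
    by_cases h : Commute a d
    · exact good_mul_fix S P ha hd h hg
    · exact good_mul_far S P ha hd h hg
  induction (show g ∈ Subgroup.closure D from S.hD.2.2 ▸ Subgroup.mem_top g) using
    Subgroup.closure_induction_left with
  | one => exact good_one a
  | mul_left x hx y _ ih => exact hstep x hx y ih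
  | inv_mul_cancel x hx y _ ih => rw [inv_eq S.hD.1 hx]; exact hstep x hx y ih

include S P in
/-- the centraliser of a transposition is generated by its perp set -/
theorem centralizer_eq {a : G} (ha : a ∈ D) :
    Subgroup.closure (perp D a) = Subgroup.centralizer ({a} : Set G) := by
  refine le_antisymm ((Subgroup.closure_le _).mpr fun y hy => ?_) fun g hg => ?_
  · rw [SetLike.mem_coe, Subgroup.mem_centralizer_singleton_iff]
    exact hy.2.2.eq.symm
  · rw [Subgroup.mem_centralizer_singleton_iff] at hg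
    exact (good_all S P ha g).1 (by rw [hg, mul_inv_cancel_right])


include S P in
theorem trans_far {a x x' : G} (ha : a ∈ D) (hx : x ∈ D) (hax : ¬ Commute a x) (hx' : x' ∈ D)
    (hax' : ¬ Commute a x') : ∃ h ∈ Subgroup.closure (perp D a), h * x * h⁻¹ = x' := by
  obtain ⟨h, hh, he⟩ := S.exists_conj_near ha (mem_near S P ha hx hax) (mem_near S P ha hx' hax')
  exact ⟨h, closure_star_eq P ha hh, he⟩

include S P in
theorem ncard_far {a : G} (ha : a ∈ D) {F : ℕ} (hF : n₁ * F + N * (1 + A) = N * N) :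
    {y | y ∈ D ∧ ¬ Commute a y}.ncard = F := by
  have heq : near D a = {y | y ∈ D ∧ ¬ Commute a y} :=
    Set.ext fun _ => ⟨fun h => ⟨h.1, h.2.1⟩, fun h => mem_near S P ha h.1 h.2⟩
  obtain ⟨p, hp⟩ := S.perp_nonempty P.small ha
  have hap : a ∈ perp D p := ⟨ha, Ne.symm hp.2.1, hp.2.2.symm⟩
  obtain ⟨x, hx, hax⟩ := S.exists_off P.small hp.1 hap
  have hnear := mem_near S P ha hx.1 hax
  have h := S.ncard_near_mul ha hnear
  rw [P.trace_card a ha x hnear, heq] at h
  have hpos : 0 < n₁ := by have := P.big_trace; omega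
  exact Nat.eq_of_mul_eq_mul_left hpos (by omega)

include S P in
theorem ncard_class {F : ℕ} (hF : n₁ * F + N * (1 + A) = N * N) : D.ncard = 1 + N + F := by
  obtain ⟨a, ha, -⟩ := S.hprim.2.1
  have h : D = insert a (perp D a ∪ {x | x ∈ D ∧ ¬ Commute a x}) := by
    ext x
    constructor
    · intro hx
      by_cases h1 : x = a
      · exact Or.inl h1
      by_cases h2 : Commute a x
      · exact Or.inr (Or.inl ⟨hx, h1, h2⟩)
      · exact Or.inr (Or.inr ⟨hx, h2⟩)
    · rintro (rfl | h | h)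
      · exact ha
      · exact h.1
      · exact h.1
  rw [h, Set.ncard_insert_of_notMem, Set.ncard_union_eq, S.ncard_perp ha, ncard_far S P ha hF]
  · omega
  · exact Set.disjoint_left.mpr fun x h1 h2 => h2.2 h1.2.2
  · rintro (h1 | h1)
    · exact h1.2.1 rfl
    · exact h1.2 (Commute.refl a)

include S P in
/-- the line of a non-commuting pair -/
theorem line {a x y : G} (ha : a ∈ D) (hx : x ∈ D) (hax : ¬ Commute a x) (hy : y ∈ D)
    (hyL : ∀ w ∈ perp₂ D a x, Commute y w) : y = a ∨ y = x ∨ y = a * x * a := by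
  obtain ⟨p, hp⟩ := (mem_near S P ha hx hax).2.2
  obtain ⟨hap, hxp⟩ := mem_perp_of_common ha hx hp
  have hyp : y ≠ p := by
    rintro rfl
    have hsub : perp₂ D a x ⊆ insert y {w | w ∈ perp₂ D a x ∧ (w ≠ y ∧ Commute y w)} := fun w hw =>
      (em (w = y)).elim Or.inl fun h => Or.inr ⟨hw, h, hyL w hw⟩
    have h1 := (Set.ncard_le_ncard hsub (Set.toFinite _)).trans (Set.ncard_insert_le _ _)
    rw [S.ncard_trace_nbr ha hx hax hp, ncard_trace S P ha hx hax] at h1
    have := P.big_trace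
    omega
  refine S.line_points hp.1.1 hap hxp ⟨hy, hyp, (hyL p hp).symm⟩ hax fun w hw hwa hwx => hyL w ?_
  exact ⟨⟨hw.1, fun h => hax (h ▸ hwx).symm, hwa⟩, hw.1, fun h => hax (h ▸ hwa), hwx⟩

include S P in
/-- the rank three data of the larger group -/
theorem rankData {F : ℕ} (hF : n₁ * F + N * (1 + A) = N * N) :
    RankData D (1 + N + F) N A n₁ (n₁ * (2 * T)) where
  hD := S.hD
  hprim := S.hprim
  hZ := S.hZ
  class_card := ncard_class S P hF
  perp_card _ ha := S.ncard_perp ha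
  edge _ ha _ hb := S.ncard_edge ha hb
  trace _ ha _ hx hax := ncard_trace S P ha hx hax
  trans_perp _ ha _ hb _ hb' := S.trans_perp ha hb hb'
  trans_far _ ha _ hx hax _ hx' hax' := trans_far S P ha hx hax hx' hax'
  centralizer _ ha := centralizer_eq S P ha
  line _ ha _ hx hax _ hy h := line S P ha hx hax hy h
  trace_dvd a ha x hx hax := by
    have hn := mem_near S P ha hx hax
    have := S.trace_group_dvd P.self ha hn (by rw [ncard_trace S P ha hx hax]; exact P.big_trace)
    rwa [ncard_trace S P ha hx hax] at this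

end StepData

end Cfsg.Agent.Lib.FischerMTypes.Step
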