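import Mathlib
import Cfsg.Agent.Lib.FischerMTypes.StepStab
import Cfsg.Agent.Lib.FischerMTypes.RankM22
import Cfsg.Agent.Lib.FischerMTypes.ReflectionSeven
import Cfsg.Agent.Lib.FischerMTypes.Connected
import Cfsg.Agent.Lib.FischerMTypes.Unique
import Cfsg.Agent.Lib.FischerMTypes.Simple

/-!
Type M(23): every transposition has a perp group modelled on a group of type M(22), a non-commuting
pair has 351 common neighbours, and the rank three data follow.
-/

set_option autoImplicit false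
set_option linter.style.haveILetI false
set_option linter.unusedSectionVars false

namespace Cfsg.Agent.Lib.FischerMTypes.M23Data

open Cfsg.Agent.Lib.FischerMTypes.Basic Cfsg.Agent.Lib.FischerMTypes.Primitive
  Cfsg.Agent.Lib.FischerMTypes.Levels Cfsg.Agent.Lib.FischerMTypes.Types
  Cfsg.Agent.Lib.FischerMTypes.Unique Cfsg.Agent.Lib.FischerMTypes.Rank
  Cfsg.Agent.Lib.FischerMTypes.Step Cfsg.Agent.Lib.FischerMTypes.SixSets
open Cfsg.Agent.Lib.FischerMTypes.TraceCounts (Sys exists_sys)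

universe u

/-- carrying a model along conjugation -/
theorem loc_conj {G : Type*} [Group G] [Finite G] {D : Set G} {Q : Type*} [Group Q] [Finite Q] {E : Set Q}
    (hD : Cfsg.IsThreeTranspositionGroup D) {d : G} (L : Loc D d E) (g : G) :
    Nonempty (Loc D (g * d * g⁻¹) E) := by
  set H := Subgroup.closure (perp D d) with hHdef
  set K := Subgroup.closure (perp D (g * d * g⁻¹)) with hKdef
  have hmap : H.map (MulAut.conj g).toMonoidHom = K := by
    rw [hHdef, hKdef, MonoidHom.map_closure]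
    congr 1
    ext y
    constructor
    · rintro ⟨x, hx, rfl⟩
      exact (conj_mem_perp_iff hD g d x).mpr hx
    · intro hy
      exact ⟨g⁻¹ * y * g, (conj_mem_perp_iff hD g d _).mp (by simpa [mul_assoc] using hy),
        by simp [mul_assoc]⟩
  let ε : ↥H ≃* ↥K :=
    (Subgroup.equivMapOfInjective H (MulAut.conj g).toMonoidHom (MulAut.conj g).injective).trans
      (MulEquiv.subgroupCongr hmap)
  have hε : ∀ x : ↥H, ((ε x : ↥K) : G) = g * (x : G) * g⁻¹ := fun x => rfl
  refine ⟨⟨L.π.comp ε.symm.toMonoidHom, L.surj.comp ε.symm.surjective, ?_, ?_⟩⟩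
  · ext y
    obtain ⟨x, rfl⟩ := ε.surjective y
    rw [MonoidHom.mem_ker, MonoidHom.comp_apply, MulEquiv.coe_toMonoidHom, ε.symm_apply_apply,
      ← MonoidHom.mem_ker, L.ker, Subgroup.mem_center_iff, Subgroup.mem_center_iff]
    constructor
    · intro hx z
      obtain ⟨z, rfl⟩ := ε.surjective z
      rw [← map_mul, ← map_mul, hx z]
    · intro hx z
      exact ε.injective (by rw [map_mul, map_mul, hx (ε z)])
  · ext q
    refine (Set.ext_iff.mp L.img q).trans ?_
    constructor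
    · rintro ⟨x, hx, rfl⟩
      refine ⟨ε x, ?_, by simp⟩
      show ((ε x : ↥K) : G) ∈ perp D (g * d * g⁻¹)
      rw [hε]
      exact (conj_mem_perp_iff hD g d _).mpr hx
    · rintro ⟨y, hy, rfl⟩
      obtain ⟨x, rfl⟩ := ε.surjective y
      refine ⟨x, (conj_mem_perp_iff hD g d _).mp ?_, by simp⟩
      rw [← hε]
      exact hy

variable {G : Type u} [Group G] [Finite G] {D : Set G}

/-- the model on the quotient at a transposition of the definition, and its copies -/
theorem exists_step (hD : Cfsg.IsThreeTranspositionGroup D) (hprim : Cfsg.IsPrimitiveUnderConj D)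
    (h : Cfsg.IsOfTypeM23 G D) :
    ∃ (Q : Type u) (_ : Group Q) (_ : Finite Q) (E : Set Q) (F : Type) (_ : Field F) (_ : Fintype F)
      (_ : Sys E F), Nonempty (StepData D E 3510 693 180 126 6531840) := by
  obtain ⟨hZ, d, hd, c, -, -, hH, -⟩ := h
  obtain ⟨hcl, hgen⟩ := image_erase_closed (perp_closed hD d) (Subgroup.closure (perp D d)) rfl
  set H := Subgroup.closure (perp D d)
  set E : Set (↥H ⧸ Subgroup.center ↥H) := (QuotientGroup.mk : ↥H → _) '' {x : ↥H | (x : G) ∈ perp D d}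
  have hE1 : (1 : ↥H ⧸ Subgroup.center ↥H) ∉ E := by
    rintro ⟨⟨y, hyH⟩, hy, hy1⟩
    exact im_ne_one hD hprim hZ hd hy hy1
  have hEeq : E \ {1} = E := Set.ext fun q => ⟨fun hq => hq.1, fun hq => ⟨hq, fun h1 => hE1 (h1 ▸ hq)⟩⟩
  rw [hEeq] at hcl hgen
  have hE3 : Cfsg.IsThreeTranspositionGroup E := ⟨hcl.1, conj_mem_all hcl hgen, hgen⟩
  have hEprim := Connected.primitive_of_M22 hE3 hH
  obtain ⟨F, iF, iF', ⟨S22⟩⟩ := exists_sys hE3 hEprim hH
  let L : Loc D d E := ⟨QuotientGroup.mk' _, QuotientGroup.mk'_surjective _, QuotientGroup.ker_mk' _, rfl⟩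
  refine ⟨_, inferInstance, inferInstance, E, F, iF, iF', S22,
    ⟨StepData.ofPrimitive hD hprim hZ (RankM22.rankData S22) fun a ha => Nonempty.some ?_⟩⟩
  obtain ⟨g, rfl⟩ := hprim.1 d hd a ha
  exact loc_conj hD L g

section

variable {Q : Type*} [Group Q] [Finite Q] {E : Set Q} {F : Type} [Field F] [Fintype F]

theorem small : Small 3510 693 180 126 := ⟨by norm_num, by norm_num, by norm_num⟩

/-- every transposition is the product of six of its neighbours -/
theorem exists_six (hD : Cfsg.IsThreeTranspositionGroup D) (hprim : Cfsg.IsPrimitiveUnderConj D)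
    (h : Cfsg.IsOfTypeM23 G D) (S22 : Sys E F) (S : StepData D E 3510 693 180 126 6531840) {a : G}
    (ha : a ∈ D) : ∃ x0 ∈ perp D a, ∃ x1 ∈ perp D a, ∃ x2 ∈ perp D a, ∃ x3 ∈ perp D a, ∃ x4 ∈ perp D a,
      ∃ x5 ∈ perp D a, a = x0 * (x1 * x2 * (x3 * x4 * x5)) := by
  have hT₂ := (levels Simple.simple_psu hD hprim (Or.inl h)).2
  obtain ⟨hZ, d, hd, c, -, -, hH, -⟩ := h
  have hT : ∀ v ∈ D, NoTwins D v := by
    obtain ⟨h1, h2⟩ := image_erase_closed (perp_closed hD d) (Subgroup.closure (perp D d)) rfl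
    exact noTwins_all hD hprim hZ hd (core_le_center (solid_of_M22 Simple.simple_psu h1 h2 hH).core)
  obtain ⟨e₀, he₀, -⟩ := S22.hprim.2.1
  obtain ⟨v, hv, hv0⟩ := (S22.ctx e₀ he₀).exists_iso_ne_zero
  obtain ⟨e₁, he₁, hne, hcomm⟩ := (S22.lines e₀ he₀).second _ ((S22.ctx e₀ he₀).pt_mem hv hv0)
  obtain ⟨p, q, r, h5⟩ := (S22.lines e₀ he₀).five _ ((S22.ctx e₀ he₀).pt_mem hv hv0) e₁ he₁ (Ne.symm hne) hcomm
  have hone : e₀ * ((S22.ctx e₀ he₀).pt v * e₁ * (p * q * r)) = 1 :=
    IsT.eq_one S22.hD S22.hprim S22.hZ S22.lines he₀ ⟨_, _, _, _, _, h5, rfl⟩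
  set q₁ := (S22.ctx e₀ he₀).pt v
  have hEmem : ∀ y ∈ [e₀, q₁, e₁, p, q, r], y ∈ E := by
    intro y hy
    rcases List.mem_cons.mp hy with rfl | hy
    · exact he₀
    · exact (h5.mem y hy).1
  have hEcom : ∀ y ∈ [e₀, q₁, e₁, p, q, r], ∀ z ∈ [e₀, q₁, e₁, p, q, r], Commute y z := by
    intro y hy z hz
    rcases List.mem_cons.mp hy with rfl | hy <;> rcases List.mem_cons.mp hz with rfl | hz
    · exact Commute.refl _
    · exact (h5.mem z hz).2.2
    · exact (h5.mem y hy).2.2.symm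
    · exact h5.comm y hy z hz
  have hEnd : [e₀, q₁, e₁, p, q, r].Nodup :=
    List.nodup_cons.mpr ⟨fun hm => (h5.mem e₀ hm).2.1 rfl, h5.nodup⟩
  -- lift the six
  choose l hl hlf using fun y : {y // y ∈ E} => S.exists_f ha y.2
  let L : List G := [l ⟨e₀, hEmem _ (by simp)⟩, l ⟨q₁, hEmem _ (by simp)⟩, l ⟨e₁, hEmem _ (by simp)⟩,
    l ⟨p, hEmem _ (by simp)⟩, l ⟨q, hEmem _ (by simp)⟩, l ⟨r, hEmem _ (by simp)⟩]
  have hLf : L.map (S.f ha) = [e₀, q₁, e₁, p, q, r] := by simp [L, hlf]
  have hLperp : ∀ y ∈ L, y ∈ perp D a := by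
    intro y hy
    simp only [L, List.mem_cons, List.not_mem_nil, or_false] at hy
    rcases hy with rfl | rfl | rfl | rfl | rfl | rfl <;> exact hl _
  have hLnd : L.Nodup := List.Nodup.of_map (S.f ha) (hLf ▸ hEnd)
  have hLcom : ∀ y ∈ L, ∀ z ∈ L, Commute y z := fun y hy z hz =>
    (S.commute_iff ha (hLperp y hy) (hLperp z hz)).mp
      (hEcom _ (hLf ▸ List.mem_map_of_mem hy) _ (hLf ▸ List.mem_map_of_mem hz))
  generalize hL : L = L' at hLf hLperp hLnd hLcom
  obtain ⟨x0, x1, x2, x3, x4, x5, rfl⟩ : ∃ x0 x1 x2 x3 x4 x5, L' = [x0, x1, x2, x3, x4, x5] :=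
    ⟨_, _, _, _, _, _, hL.symm⟩
  clear hL
  simp only [List.map_cons, List.map_nil, List.cons.injEq, and_true] at hLf
  obtain ⟨e0, e1, e2, e3, e4, e5⟩ := hLf
  have hmemH : ∀ y ∈ [x0, x1, x2, x3, x4, x5], y ∈ Subgroup.closure (perp D a) := fun y hy =>
    Subgroup.subset_closure (hLperp y hy)
  have h0 := hmemH x0 (by simp)
  have h12 := mul_mem (hmemH x1 (by simp)) (hmemH x2 (by simp))
  have h34 := mul_mem (hmemH x3 (by simp)) (hmemH x4 (by simp))
  have h5' := hmemH x5 (by simp)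
  have hzH : x0 * (x1 * x2 * (x3 * x4 * x5)) ∈ Subgroup.closure (perp D a) :=
    mul_mem h0 (mul_mem h12 (mul_mem h34 h5'))
  refine ⟨x0, hLperp x0 (by simp), x1, hLperp x1 (by simp), x2, hLperp x2 (by simp), x3, hLperp x3 (by simp),
    x4, hLperp x4 (by simp), x5, hLperp x5 (by simp), ?_⟩
  refine ((S.center_perp small ha hzH fun y hy => ?_).resolve_left ?_).symm
  swap
  · intro hz
    refine no_six hD hT hT₂ (a := x0) (b := x1) (c := x2) (e := x3) (f := x4) (h := x5)
      (fun y hy => (hLperp y hy).1) hLcom hLnd ?_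
    have hx1 := mul_self hD.1 (hLperp x1 (by simp)).1
    have hc : Commute x1 (x2 * x3 * (x4 * x5)) :=
      ((hLcom x1 (by simp) x2 (by simp)).mul_right (hLcom x1 (by simp) x3 (by simp))).mul_right
        ((hLcom x1 (by simp) x4 (by simp)).mul_right (hLcom x1 (by simp) x5 (by simp)))
    have e : x0 = (x1 * (x2 * x3 * (x4 * x5)))⁻¹ := eq_inv_of_mul_eq_one_left (by rw [← hz]; group)
    have hw : (x2 * x3 * (x4 * x5))⁻¹ = x2 * x3 * (x4 * x5) := by
      have hi : ∀ y ∈ [x0, x1, x2, x3, x4, x5], y⁻¹ = y := fun y hy => inv_eq hD.1 (hLperp y hy).1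
      rw [mul_inv_rev, mul_inv_rev, mul_inv_rev, hi x2 (by simp), hi x3 (by simp), hi x4 (by simp), hi x5 (by simp),
        (hLcom x5 (by simp) x4 (by simp)).eq, (hLcom x3 (by simp) x2 (by simp)).eq]
      exact ((((hLcom x4 (by simp) x2 (by simp)).mul_left (hLcom x5 (by simp) x2 (by simp))).mul_right
        ((hLcom x4 (by simp) x3 (by simp)).mul_left (hLcom x5 (by simp) x3 (by simp))))).eq
    rw [e, mul_inv_rev, hw, inv_eq hD.1 (hLperp x1 (by simp)).1, mul_assoc, hx1, mul_one]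
  · have hf1 : S.f ha (x0 * (x1 * x2 * (x3 * x4 * x5))) = S.f ha 1 := by
      rw [S.f_one, S.f_mul ha h0 (mul_mem h12 (mul_mem h34 h5')), S.f_mul ha h12 (mul_mem h34 h5'),
        S.f_mul ha h34 h5', S.f_mul ha (hmemH x1 (by simp)) (hmemH x2 (by simp)),
        S.f_mul ha (hmemH x3 (by simp)) (hmemH x4 (by simp)), e0, e1, e2, e3, e4, e5]
      exact hone
    have := (S.f_eq_iff ha hzH (one_mem _)).mp hf1 y hy
    rwa [mul_one, Commute.inv_right_iff] at this

/-- every transposition lies in its perp group -/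
theorem self_mem (hD : Cfsg.IsThreeTranspositionGroup D) (hprim : Cfsg.IsPrimitiveUnderConj D)
    (h : Cfsg.IsOfTypeM23 G D) (S22 : Sys E F) (S : StepData D E 3510 693 180 126 6531840) {a : G}
    (ha : a ∈ D) : a ∈ Subgroup.closure (perp D a) := by
  obtain ⟨x0, h0, x1, h1, x2, h2, x3, h3, x4, h4, x5, h5, he⟩ := exists_six hD hprim h S22 S ha
  refine (congrArg (· ∈ Subgroup.closure (perp D a)) he).mpr ?_
  exact mul_mem (Subgroup.subset_closure h0) (mul_mem (mul_mem (Subgroup.subset_closure h1)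
    (Subgroup.subset_closure h2)) (mul_mem (mul_mem (Subgroup.subset_closure h3)
      (Subgroup.subset_closure h4)) (Subgroup.subset_closure h5)))

include F in
theorem trace_bounds (S : StepData D E 3510 693 180 126 6531840) {a x : G} (ha : a ∈ D)
    (hx : x ∈ near D a) :
    351 ≤ (perp₂ D a x).ncard ∧ (perp₂ D a x).ncard ≤ 675 ∧
      ((perp₂ D a x).ncard = 351 →
        ∀ f ∈ perp D a, f ∉ perp₂ D a x → {p | p ∈ perp₂ D a x ∧ Commute p f}.ncard = 63) := by
  obtain ⟨U, hU, hc, h46, h1, h2⟩ := S.moments ha hx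
  set n := (perp₂ D a x).ncard
  set N : G → ℕ := fun f => {p | p ∈ perp₂ D a x ∧ Commute p f}.ncard
  have h1' : (∑ f ∈ U, (N f : ℤ)) = 567 * n := by
    have := congrArg (fun k : ℕ => (k : ℤ)) h1
    push_cast at this
    linarith
  have h2' : (∑ f ∈ U, (N f : ℤ) ^ 2) = 126 * (n : ℤ) ^ 2 - 8505 * n := by
    have := congrArg (fun k : ℕ => (k : ℤ)) h2
    push_cast at this
    linarith
  have hcs := sq_sum_le_card_mul_sum_sq (s := U) (f := fun f => (N f : ℤ))
  have hc' : (U.card : ℤ) = 3510 - n := by omega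
  rw [h1', h2', hc'] at hcs
  have hn : (127 : ℤ) ≤ n := by exact_mod_cast h46
  have hq : ((n : ℤ) - 351) * ((n : ℤ) - 675) ≤ 0 := by
    by_contra hpos
    push Not at hpos
    nlinarith [mul_pos (show (0 : ℤ) < n by linarith) hpos]
  refine ⟨?_, ?_, fun hn351 f hf hf' => ?_⟩
  · by_contra h
    have : (n : ℤ) ≤ 350 := by omega
    nlinarith
  · by_contra h
    have : (676 : ℤ) ≤ n := by omega
    nlinarith
  · have hzero : ∑ g ∈ U, ((N g : ℤ) - 63) ^ 2 = 0 := by
      have hU' : (U.card : ℤ) = 3159 := by omega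
      simp only [sub_sq, Finset.sum_add_distrib, Finset.sum_sub_distrib, Finset.sum_const, nsmul_eq_mul,
        ← Finset.sum_mul, ← Finset.mul_sum, hU', h1', h2', hn351]
      norm_num
    have hfU : f ∈ U := by rw [← Finset.mem_coe, hU]; exact ⟨hf, hf'⟩
    have := (Finset.sum_eq_zero_iff_of_nonneg fun g _ => sq_nonneg _).mp hzero f hfU
    have h63 : (N f : ℤ) = 63 := by
      linarith [pow_eq_zero_iff (n := 2) (a := (N f : ℤ) - 63) (by norm_num) |>.mp this]
    exact_mod_cast h63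

/-- the trace size is 351 -/
theorem ncard_trace_near (hD : Cfsg.IsThreeTranspositionGroup D) (hprim : Cfsg.IsPrimitiveUnderConj D)
    (h : Cfsg.IsOfTypeM23 G D) (S22 : Sys E F) (S : StepData D E 3510 693 180 126 6531840) {a x : G}
    (ha : a ∈ D) (hx : x ∈ near D a) : (perp₂ D a x).ncard = 351 := by
  have hself : ∀ a ∈ D, a ∈ Subgroup.closure (perp D a) := fun a ha => self_mem hD hprim h S22 S ha
  obtain ⟨-, d, hd, c, hc, hdc, -, c₃, hc₃, hr⟩ := h
  have hne : (perp₂ D d c).Nonempty := by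
    by_contra hempty
    rw [Set.not_nonempty_iff_eq_empty] at hempty
    haveI := ReflectionSeven.proj_nontrivial hc₃ hr
    obtain ⟨u, v, huv⟩ := exists_pair_ne
      (↥(Subgroup.closure (perp₂ D d c)) ⧸ Subgroup.center ↥(Subgroup.closure (perp₂ D d c)))
    obtain ⟨u, rfl⟩ := QuotientGroup.mk_surjective u
    obtain ⟨v, rfl⟩ := QuotientGroup.mk_surjective v
    have hbot : Subgroup.closure (perp₂ D d c) = ⊥ := by
      rw [show perp₂ D d c = (∅ : Set G) from hempty, Subgroup.closure_empty]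
    have e : ∀ w : ↥(Subgroup.closure (perp₂ D d c)), w = 1 := fun w =>
      Subtype.ext (Subgroup.mem_bot.mp (hbot ▸ w.2 : (w : G) ∈ (⊥ : Subgroup G)))
    exact huv (by rw [e u, e v])
  have hnear : c ∈ near D d := ⟨hc, hdc, hne⟩
  rw [S.ncard_trace_eq ha hx hd hnear]
  obtain ⟨h1, h2, -⟩ := trace_bounds (F := F) S hd hnear
  have h3 : (perp₂ D d c).ncard ∣ 702 := Nat.dvd_of_mul_dvd_mul_right (by norm_num : 0 < 2 * 6531840)
    (((S.trace_group_dvd hself hd hnear (by omega)).trans (ReflectionSeven.proj_card_dvd hr)).trans (by norm_num))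
  generalize (perp₂ D d c).ncard = n at h1 h2 h3
  interval_cases n <;> omega

/-- everything needed to climb -/
theorem pinned (hD : Cfsg.IsThreeTranspositionGroup D) (hprim : Cfsg.IsPrimitiveUnderConj D)
    (h : Cfsg.IsOfTypeM23 G D) (S22 : Sys E F) (S : StepData D E 3510 693 180 126 6531840) :
    Pinned D 3510 693 180 126 351 where
  small := small
  self a ha := self_mem hD hprim h S22 S ha
  trace_card a ha x hx := ncard_trace_near hD hprim h S22 S ha hx
  meet a ha x hx f hf hf' := by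
    rw [(trace_bounds (F := F) S ha hx).2.2 (ncard_trace_near hD hprim h S22 S ha hx) f hf hf']
    norm_num
  big_edge := by norm_num
  big_trace := by norm_num

/-- the rank three data of type M(23) -/
theorem rankData (hD : Cfsg.IsThreeTranspositionGroup D) (hprim : Cfsg.IsPrimitiveUnderConj D)
    (h : Cfsg.IsOfTypeM23 G D) (S22 : Sys E F) (S : StepData D E 3510 693 180 126 6531840) :
    RankData D 31671 3510 693 351 4585351680 :=
  S.rankData (pinned hD hprim h S22 S) (F := 28160) (by norm_num)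

end

end Cfsg.Agent.Lib.FischerMTypes.M23Data
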