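import Mathlib
import Cfsg.Agent.Lib.FischerMTypes.StepStab

/-!
One step up: commuting tuples of transpositions. Their transitivity, the number of transpositions
commuting with them, and how involutions split into commuting transpositions.
-/

set_option autoImplicit false
set_option linter.style.haveILetI false
set_option linter.unusedSectionVars false

namespace Cfsg.Agent.Lib.FischerMTypes.Step

open Cfsg.Agent.Lib.FischerMTypes.Basic Cfsg.Agent.Lib.FischerMTypes.Primitive
  Cfsg.Agent.Lib.FischerMTypes.Levels Cfsg.Agent.Lib.FischerMTypes.Rank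

section

variable {X : Type*} [Group X]

/-- distinct pairwise commuting members of `D` -/
def Tuple (D : Set X) (l : List X) : Prop :=
  l.Nodup ∧ (∀ a ∈ l, a ∈ D) ∧ ∀ a ∈ l, ∀ b ∈ l, Commute a b

/-- any two tuples of length `m` are conjugate -/
def TupleTrans (D : Set X) (m : ℕ) : Prop :=
  ∀ l l' : List X, Tuple D l → Tuple D l' → l.length = m → l'.length = m →
    ∃ g : X, l.map (fun y => g * y * g⁻¹) = l'

/-- `x` is a product of `m` distinct pairwise commuting members of `D` -/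
abbrev IsProd (D : Set X) (m : ℕ) (x : X) : Prop :=
  ∃ l : List X, l.Nodup ∧ l.length = m ∧ (∀ a ∈ l, a ∈ D) ∧ (∀ a ∈ l, ∀ b ∈ l, Commute a b) ∧ l.prod = x

theorem tuple_tail {D : Set X} {a : X} {l : List X} (h : Tuple D (a :: l)) :
    Tuple D l ∧ a ∈ D ∧ ∀ y ∈ l, y ∈ perp D a :=
  ⟨⟨(List.nodup_cons.mp h.1).2, fun y hy => h.2.1 y (List.mem_cons_of_mem _ hy),
    fun y hy z hz => h.2.2 y (List.mem_cons_of_mem _ hy) z (List.mem_cons_of_mem _ hz)⟩,
    h.2.1 a List.mem_cons_self, fun y hy => ⟨h.2.1 y (List.mem_cons_of_mem _ hy),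
      fun he => (List.nodup_cons.mp h.1).1 (he ▸ hy),
      h.2.2 a List.mem_cons_self y (List.mem_cons_of_mem _ hy)⟩⟩

theorem tuple_cons {D : Set X} {a : X} {l : List X} (ha : a ∈ D) (h : Tuple D l)
    (hl : ∀ y ∈ l, y ∈ perp D a) : Tuple D (a :: l) := by
  refine ⟨List.nodup_cons.mpr ⟨fun hm => (hl a hm).2.1 rfl, h.1⟩, ?_, ?_⟩
  · intro y hy
    rcases List.mem_cons.mp hy with rfl | hy
    · exact ha
    · exact h.2.1 y hy
  · intro y hy z hz
    rcases List.mem_cons.mp hy with hya | hy <;> rcases List.mem_cons.mp hz with hza | hz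
    · rw [hya, hza]
    · rw [hya]; exact (hl z hz).2.2
    · rw [hza]; exact (hl y hy).2.2.symm
    · exact h.2.2 y hy z hz

theorem prod_map_conj (g : X) : ∀ l : List X, (l.map fun y => g * y * g⁻¹).prod = g * l.prod * g⁻¹
  | [] => by simp
  | a :: l => by rw [List.map_cons, List.prod_cons, List.prod_cons, prod_map_conj g l]; group

theorem isConj_prod {D : Set X} {m : ℕ} (hT : TupleTrans D m) {x y : X} (hx : IsProd D m x)
    (hy : IsProd D m y) : IsConj x y := by
  obtain ⟨l, h1, h2, h3, h4, rfl⟩ := hx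
  obtain ⟨l', h1', h2', h3', h4', rfl⟩ := hy
  obtain ⟨g, hg⟩ := hT l l' ⟨h1, h3, h4⟩ ⟨h1', h3', h4'⟩ h2 h2'
  exact isConj_iff.mpr ⟨g, by rw [← hg, prod_map_conj]⟩

theorem trans_zero (D : Set X) : TupleTrans D 0 := fun l l' _ _ hl hl' => ⟨1, by
  rw [List.eq_nil_of_length_eq_zero hl, List.eq_nil_of_length_eq_zero hl']; simp⟩

end

variable {G : Type*} [Group G] [Finite G] {D : Set G}
variable {Q : Type*} [Group Q] [Finite Q] {E : Set Q} {N A k n T : ℕ}

namespace PreStep

variable (S : PreStep D E N A k n T)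


theorem list_prod_mem {a : G} {L : List G} (hL : ∀ y ∈ L, y ∈ perp D a) :
    L.prod ∈ Subgroup.closure (perp D a) :=
  Subgroup.list_prod_mem _ fun y hy => Subgroup.subset_closure (hL y hy)

theorem f_prod {a : G} (ha : a ∈ D) : ∀ {L : List G}, (∀ y ∈ L, y ∈ perp D a) →
    S.f ha L.prod = (L.map (S.f ha)).prod
  | [], _ => by simpa using S.f_one ha
  | x :: L, h => by
    rw [List.prod_cons, List.map_cons, List.prod_cons,
      S.f_mul ha (Subgroup.subset_closure (h x List.mem_cons_self))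
        (list_prod_mem fun y hy => h y (List.mem_cons_of_mem _ hy)),
      f_prod ha fun y hy => h y (List.mem_cons_of_mem _ hy)]

include S in
/-- tuples one level down lift to tuples of neighbours -/
theorem exists_lift {a : G} (ha : a ∈ D) {l : List Q} (hl : Tuple E l) :
    ∃ L : List G, L.map (S.f ha) = l ∧ Tuple D L ∧ ∀ y ∈ L, y ∈ perp D a := by
  obtain ⟨hnd, hlE, hlc⟩ := hl
  induction l with
  | nil => exact ⟨[], rfl, ⟨List.nodup_nil, by simp, by simp⟩, by simp⟩
  | cons q l ih =>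
    obtain ⟨L, hf, hT, hp⟩ := ih (List.nodup_cons.mp hnd).2 (fun y hy => hlE y (List.mem_cons_of_mem _ hy))
      fun y hy z hz => hlc y (List.mem_cons_of_mem _ hy) z (List.mem_cons_of_mem _ hz)
    obtain ⟨x, hx, rfl⟩ := S.exists_f ha (hlE q List.mem_cons_self)
    refine ⟨x :: L, by rw [List.map_cons, hf], tuple_cons hx.1 hT fun y hy => ?_, ?_⟩
    · have hfy : S.f ha y ∈ l := hf ▸ List.mem_map_of_mem hy
      refine ⟨(hp y hy).1, ?_, ?_⟩
      · rintro rfl
        exact (List.nodup_cons.mp hnd).1 hfy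
      · exact (S.commute_iff ha hx (hp y hy)).mp (hlc _ List.mem_cons_self _ (List.mem_cons_of_mem _ hfy))
    · intro y hy
      rcases List.mem_cons.mp hy with rfl | hy
      · exact hx
      · exact hp y hy

include S in
theorem tuple_map {a : G} (ha : a ∈ D) {L : List G} (hT : Tuple D L) (hp : ∀ y ∈ L, y ∈ perp D a) :
    Tuple E (L.map (S.f ha)) := by
  refine ⟨hT.1.map_on fun x hx y hy h => S.f_inj ha (hp x hx) (hp y hy) h, ?_, ?_⟩
  · intro q hq
    obtain ⟨y, hy, rfl⟩ := List.mem_map.mp hq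
    exact S.f_mem ha (hp y hy)
  · intro q hq r hr
    obtain ⟨y, hy, rfl⟩ := List.mem_map.mp hq
    obtain ⟨z, hz, rfl⟩ := List.mem_map.mp hr
    exact (S.commute_iff ha (hp y hy) (hp z hz)).mpr (hT.2.2 y hy z hz)

end PreStep

namespace StepData

variable (S : StepData D E N A k n T)

include S in
/-- transitivity climbs one step -/
theorem trans_succ {m : ℕ} (hQ : TupleTrans E m) : TupleTrans D (m + 1) := by
  intro l l' hl hl' hn hn'
  obtain ⟨a, l, rfl⟩ : ∃ a t, l = a :: t := List.exists_cons_of_length_eq_add_one hn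
  obtain ⟨a', l', rfl⟩ : ∃ a t, l' = a :: t := List.exists_cons_of_length_eq_add_one hn'
  obtain ⟨hl2, ha, hp⟩ := tuple_tail hl
  obtain ⟨hl2', ha', hp'⟩ := tuple_tail hl'
  obtain ⟨g, hg⟩ := S.hprim.1 a ha a' ha'
  set l₁ := l.map fun y => g * y * g⁻¹ with hl₁
  have hp₁ : ∀ y ∈ l₁, y ∈ perp D a' := fun y hy => by
    obtain ⟨z, hz, rfl⟩ := List.mem_map.mp hy
    rw [← hg]
    exact (conj_mem_perp_iff S.hD g a z).mpr (hp z hz)
  have hT₁ : Tuple D l₁ := by
    refine ⟨hl2.1.map fun y z h => by simpa using h, fun y hy => (hp₁ y hy).1, ?_⟩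
    intro y hy z hz
    obtain ⟨u, hu, rfl⟩ := List.mem_map.mp hy
    obtain ⟨v, hv, rfl⟩ := List.mem_map.mp hz
    exact Step.conj_commute (hl2.2.2 u hu v hv)
  simp only [List.length_cons, Nat.add_right_cancel_iff] at hn hn'
  obtain ⟨q, hq⟩ := hQ _ _ (S.tuple_map ha' hT₁ hp₁) (S.tuple_map ha' hl2' hp') (by simp [hl₁, hn])
    (by simp [hn'])
  obtain ⟨h, hh, rfl⟩ := S.exists_f_closure ha' q
  have hfix : h * a' * h⁻¹ = a' := by
    rw [← (commute_closure (u := a') (fun s hs => hs.2.2) h hh).eq, mul_inv_cancel_right]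
  refine ⟨h * g, ?_⟩
  have key : l₁.map (fun y => h * y * h⁻¹) = l' := by
    have hmem : ∀ y ∈ l₁, h * y * h⁻¹ ∈ perp D a' := fun y hy =>
      conj_mem_of_mem_closure (perp_closed S.hD a') hh y (hp₁ y hy)
    refine List.ext_getElem (by simp [hl₁, hn, hn']) fun i h1 h2 => ?_
    rw [List.getElem_map]
    have hi : i < l₁.length := by simpa using h1
    refine S.f_inj ha' (hmem _ (List.getElem_mem hi)) (hp' _ (List.getElem_mem h2)) ?_
    rw [S.f_conj ha' hh (Subgroup.subset_closure (hp₁ _ (List.getElem_mem hi)))]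
    have := List.getElem_of_eq hq (i := i) (by simpa using h1)
    simpa only [List.getElem_map] using this
  rw [List.map_cons, List.cons.injEq]
  refine ⟨?_, ?_⟩
  · calc h * g * a * (h * g)⁻¹ = h * (g * a * g⁻¹) * h⁻¹ := by group
      _ = a' := by rw [hg, hfix]
  · rw [← key, hl₁, List.map_map]
    exact List.map_congr_left fun y _ => by simp [mul_assoc]

include S in
/-- commuting with a tuple: the first member and the neighbours commuting with the rest -/
theorem ncard_all {a : G} {L : List G} (hl : Tuple D (a :: L)) :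
    {y | y ∈ D ∧ ∀ u ∈ a :: L, Commute u y}.ncard =
      1 + {q | q ∈ E ∧ ∀ u ∈ L.map (S.f (tuple_tail hl).2.1), Commute u q}.ncard := by
  obtain ⟨-, ha, hp⟩ := tuple_tail hl
  have hset : {y | y ∈ D ∧ ∀ u ∈ a :: L, Commute u y} =
      insert a {y | y ∈ perp D a ∧ ∀ u ∈ L, Commute u y} := by
    ext y
    constructor
    · rintro ⟨hy, h⟩
      by_cases hya : y = a
      · exact Or.inl hya
      · exact Or.inr ⟨⟨hy, hya, h a List.mem_cons_self⟩, fun u hu => h u (List.mem_cons_of_mem _ hu)⟩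
    · rintro (rfl | ⟨hy, h⟩)
      · exact ⟨ha, fun u hu => hl.2.2 u hu _ List.mem_cons_self⟩
      · refine ⟨hy.1, fun u hu => ?_⟩
        rcases List.mem_cons.mp hu with rfl | hu
        · exact hy.2.2
        · exact h u hu
  rw [hset, Set.ncard_insert_of_notMem (fun h => h.1.2.1 rfl) (Set.toFinite _), add_comm,
    S.ncard_local ha (fun y => ∀ u ∈ L, Commute u y) (fun q => ∀ u ∈ L.map (S.f ha), Commute u q)]
  intro y hy
  constructor
  · intro h u hu
    obtain ⟨z, hz, rfl⟩ := List.mem_map.mp hu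
    exact (S.commute_iff ha (hp z hz) hy).mpr (h z hz)
  · intro h u hu
    exact (S.commute_iff ha (hp u hu) hy).mp (h _ (List.mem_map_of_mem hu))

include S in
/-- an involution centralising `a` is, up to `a`, the lift of a tuple -/
theorem split {n₁ : ℕ} (P : Pinned D N A k n n₁) {w : ℕ}
    (hQ : ∀ q : Q, q * q = 1 → ∃ l : List Q, Tuple E l ∧ l.length ≤ w ∧ l.prod = q)
    {a x : G} (ha : a ∈ D) (hxa : Commute x a) (hx : x * x = 1) :
    ∃ L : List G, Tuple D L ∧ (∀ y ∈ L, y ∈ perp D a) ∧ L.length ≤ w ∧ (x = L.prod ∨ x = a * L.prod) := by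
  have hxH : x ∈ Subgroup.closure (perp D a) := by
    rw [centralizer_eq S P ha, Subgroup.mem_centralizer_singleton_iff]
    exact hxa.eq
  obtain ⟨l, hl, hlen, hlp⟩ := hQ (S.f ha x) (by rw [← S.f_mul ha hxH hxH, hx, S.f_one])
  obtain ⟨L, hf, hT, hp⟩ := S.exists_lift ha hl
  refine ⟨L, hT, hp, by rw [← hf] at hlen; simpa using hlen, ?_⟩
  have hfe : S.f ha L.prod = S.f ha x := by rw [S.f_prod ha hp, hf, hlp]
  have hpm : L.prod ∈ Subgroup.closure (perp D a) := PreStep.list_prod_mem hp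
  rcases S.center_perp P.small ha (mul_mem (inv_mem hpm) hxH) ((S.f_eq_iff ha hpm hxH).mp hfe) with h | h
  · exact Or.inl (inv_mul_eq_one.mp h).symm
  · refine Or.inr ((inv_mul_eq_iff_eq_mul.mp h).trans ?_)
    exact (Commute.list_prod_right L a fun y hy => (hp y hy).2.2).eq.symm

end StepData

end Cfsg.Agent.Lib.FischerMTypes.Step
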