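import Mathlib
import Cfsg.Agent.Lib.FischerMTypes.InvolutionsM22
import Cfsg.Agent.Lib.FischerMTypes.StepInvol
import Cfsg.Agent.Lib.FischerMTypes.M23Data

/-!
Type M(23): every involution is a product of at most three commuting transpositions, and the number
of factors determines the class.
-/

set_option autoImplicit false
set_option linter.style.haveILetI false
set_option linter.unusedSectionVars false

namespace Cfsg.Agent.Lib.FischerMTypes.InvolutionsM23

open Cfsg.Agent.Lib.FischerMTypes.Basic Cfsg.Agent.Lib.FischerMTypes.Primitive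
  Cfsg.Agent.Lib.FischerMTypes.Levels Cfsg.Agent.Lib.FischerMTypes.Types
  Cfsg.Agent.Lib.FischerMTypes.Unique Cfsg.Agent.Lib.FischerMTypes.Rank
  Cfsg.Agent.Lib.FischerMTypes.Step Cfsg.Agent.Lib.FischerMTypes.SixSets
open Cfsg.Agent.Lib.FischerMTypes.TraceCounts (Sys)
open Cfsg.Agent.Lib.FischerMTypes.M23Data (small pinned)

variable {Q : Type*} [Group Q] [Finite Q] {E : Set Q} {F : Type} [Field F] [Fintype F]

/-- tuples of length at most three are conjugate in type M(22) -/
theorem trans_M22 (S22 : Sys E F) {m : ℕ} (hm : m ≤ 3) : TupleTrans E m := by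
  intro l l' hl hl' hn hn'
  match m, l, l', hn, hn' with
  | 0, l, l', hn, hn' => exact trans_zero E l l' hl hl' hn hn'
  | m + 1, a :: l, a' :: l', hn, hn' =>
    obtain ⟨hl2, ha, hp⟩ := tuple_tail hl
    obtain ⟨hl2', ha', hp'⟩ := tuple_tail hl'
    obtain ⟨g, hg⟩ := S22.hprim.1 a ha a' ha'
    have hp₁ : ∀ y ∈ l, g * y * g⁻¹ ∈ perp E a' := fun y hy => by
      rw [← hg]; exact (conj_mem_perp_iff S22.hD g a y).mpr (hp y hy)
    match l, l', hn, hn' with
    | [], [], _, _ => exact ⟨g, by simp [hg]⟩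
    | [b], [b'], _, _ =>
      obtain ⟨h, hh, hb⟩ := S22.exists_conj_perp ha' (hp₁ b (by simp)) (b' := b') (hp' b' (by simp))
      refine ⟨h * g, ?_⟩
      simp only [List.map_cons, List.map_nil, List.cons.injEq, and_true]
      exact ⟨by rw [show h * g * a * (h * g)⁻¹ = h * (g * a * g⁻¹) * h⁻¹ by group, hg,
        TraceCounts.Sys.closure_fix hh],
        by rw [show h * g * b * (h * g)⁻¹ = h * (g * b * g⁻¹) * h⁻¹ by group, hb]⟩
    | [b, c], [b', c'], _, _ =>
      obtain ⟨h, hh, hb, hc⟩ := (S22.lines a' ha').trans _ (hp₁ b (by simp)) _ (hp₁ c (by simp))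
        (by simpa using hl2.1) (Step.conj_commute (hl2.2.2 b (by simp) c (by simp))) b' (hp' b' (by simp))
        c' (hp' c' (by simp)) (by simpa using hl2'.1) (hl2'.2.2 b' (by simp) c' (by simp))
      refine ⟨h * g, ?_⟩
      simp only [List.map_cons, List.map_nil, List.cons.injEq, and_true]
      exact ⟨by rw [show h * g * a * (h * g)⁻¹ = h * (g * a * g⁻¹) * h⁻¹ by group, hg,
        TraceCounts.Sys.closure_fix hh],
        by rw [show h * g * b * (h * g)⁻¹ = h * (g * b * g⁻¹) * h⁻¹ by group, hb],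
        by rw [show h * g * c * (h * g)⁻¹ = h * (g * c * g⁻¹) * h⁻¹ by group, hc]⟩
    | _ :: _ :: _ :: _, _, hn, _ => simp only [List.length_cons] at hn; omega
    | [], _ :: _, hn, hn' => simp only [List.length_cons, List.length_nil] at hn hn'; omega
    | [_], [], hn, hn' => simp only [List.length_cons, List.length_nil] at hn hn'; omega
    | [_], _ :: _ :: _, hn, hn' => simp only [List.length_cons, List.length_nil] at hn hn'; omega
    | [_, _], [], hn, hn' => simp only [List.length_cons, List.length_nil] at hn hn'; omega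
    | [_, _], [_], hn, hn' => simp only [List.length_cons, List.length_nil] at hn hn'; omega
    | [_, _], _ :: _ :: _ :: _, hn, hn' => simp only [List.length_cons, List.length_nil] at hn hn'; omega

/-- an element of order at most two in type M(22) is a short product -/
theorem split_M22 (S22 : Sys E F) (q : Q) (hq : q * q = 1) :
    ∃ l : List Q, Tuple E l ∧ l.length ≤ 3 ∧ l.prod = q := by
  obtain ⟨L, h1, h2, h3⟩ := InvolutionsM22.exists_commuting_list S22 hq
  obtain ⟨l, hn, hlen, hD', hc, hp⟩ := InvolutionsM22.exists_short S22 h1 h2 h3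
  exact ⟨l, ⟨hn, hD', hc⟩, hlen, hp⟩

/-- three commuting transpositions of type M(22) lie in six with product one -/
theorem six_M22 (S22 : Sys E F) {q₁ q₂ q₃ : Q} (h : Tuple E [q₁, q₂, q₃]) :
    ∃ p q r, Tuple E [q₁, q₂, q₃, p, q, r] ∧ q₁ * (q₂ * q₃ * (p * q * r)) = 1 := by
  obtain ⟨hl, ha, hp⟩ := tuple_tail h
  obtain ⟨p, q, r, h5⟩ := (S22.lines q₁ ha).five q₂ (hp _ (by simp)) q₃ (hp _ (by simp))
    (by simpa using hl.1) (hl.2.2 q₂ (by simp) q₃ (by simp))
  refine ⟨p, q, r, tuple_cons ha ⟨h5.nodup, fun y hy => (h5.mem y hy).1, h5.comm⟩ h5.mem,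
    IsT.eq_one S22.hD S22.hprim S22.hZ S22.lines ha ⟨_, _, _, _, _, h5, rfl⟩⟩

variable {G : Type*} [Group G] [Finite G] {D : Set G}

/-- four commuting transpositions have the product of three -/
theorem shorten4 (S22 : Sys E F) (S : StepData D E 3510 693 180 126 6531840)
    (hD : Cfsg.IsThreeTranspositionGroup D) (hprim : Cfsg.IsPrimitiveUnderConj D) (h : Cfsg.IsOfTypeM23 G D)
    {a b c d : G} (hl : Tuple D [a, b, c, d]) :
    ∃ x y z : G, Tuple D [a, b, c, d, x, y, z] ∧ a * (b * (c * d)) = x * (y * z) := by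
  obtain ⟨hl', ha, hp⟩ := tuple_tail hl
  have hT₂ := (levels Simple.simple_psu hD hprim (Or.inl h)).2
  obtain ⟨hZ, d₀, hd₀, c₀, -, -, hH, -⟩ := h
  have hT : ∀ v ∈ D, NoTwins D v := by
    obtain ⟨h1, h2⟩ := image_erase_closed (perp_closed hD d₀) (Subgroup.closure (perp D d₀)) rfl
    exact noTwins_all hD hprim hZ hd₀ (core_le_center (solid_of_M22 Simple.simple_psu h1 h2 hH).core)
  obtain ⟨p, q, r, h6, hone⟩ := six_M22 S22 (S.tuple_map ha hl' hp)
  obtain ⟨h6', -, -⟩ : Tuple E [p, q, r] ∧ True ∧ True := by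
    have hsub : List.Sublist [p, q, r] ([S.f ha b, S.f ha c, S.f ha d] ++ [p, q, r]) :=
      List.sublist_append_right _ _
    exact ⟨⟨h6.1.sublist hsub, fun y hy => h6.2.1 y (hsub.subset hy),
      fun y hy z hz => h6.2.2 y (hsub.subset hy) z (hsub.subset hz)⟩, trivial, trivial⟩
  obtain ⟨L, hf, hT3, hp3⟩ := S.exists_lift ha h6'
  obtain ⟨x, y, z, rfl⟩ : ∃ x y z, L = [x, y, z] :=
    List.length_eq_three.mp (by simpa using congrArg List.length hf)
  simp only [List.map_cons, List.map_nil, List.cons.injEq, and_true] at hf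
  obtain ⟨rfl, rfl, rfl⟩ := hf
  have hpall : ∀ u ∈ [b, c, d, x, y, z], u ∈ perp D a := by
    intro u hu
    rcases List.mem_append.mp (show u ∈ [b, c, d] ++ [x, y, z] from hu) with hu | hu
    · exact hp u hu
    · exact hp3 u hu
  have hcom : ∀ u ∈ [b, c, d, x, y, z], ∀ v ∈ [b, c, d, x, y, z], Commute u v := fun u hu v hv =>
    (S.commute_iff ha (hpall u hu) (hpall v hv)).mp
      (h6.2.2 _ (List.mem_map_of_mem (f := S.f ha) hu) _ (List.mem_map_of_mem (f := S.f ha) hv))
  have hnd : [b, c, d, x, y, z].Nodup := List.Nodup.of_map (S.f ha) h6.1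
  refine ⟨x, y, z, tuple_cons ha ⟨hnd, fun u hu => (hpall u hu).1, hcom⟩ hpall, ?_⟩
  have hinv : ∀ u ∈ [b, c, d, x, y, z], u⁻¹ = u := fun u hu => inv_eq hD.1 (hpall u hu).1
  have hrev : ∀ {u v w : G}, u ∈ [b, c, d, x, y, z] → v ∈ [b, c, d, x, y, z] → w ∈ [b, c, d, x, y, z] →
      (u * (v * w))⁻¹ = u * (v * w) := fun {u v w} hu hv hw => by
    rw [mul_inv_rev, mul_inv_rev, hinv u hu, hinv v hv, hinv w hw, (hcom w hw v hv).eq]
    exact ((hcom u hu v hv).mul_right (hcom u hu w hw)).eq.symm
  have hmem : ∀ u ∈ [b, c, d, x, y, z], u ∈ Subgroup.closure (perp D a) := fun u hu =>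
    Subgroup.subset_closure (hpall u hu)
  have hm : [b, c, d, x, y, z].prod ∈ Subgroup.closure (perp D a) := Subgroup.list_prod_mem _ hmem
  have hf1 : S.f ha [b, c, d, x, y, z].prod = S.f ha 1 := by
    rw [S.f_one, S.f_prod ha hpall]
    simpa [mul_assoc] using hone
  have hz : ∀ u ∈ perp D a, Commute u [b, c, d, x, y, z].prod := fun u hu => by
    have := (S.f_eq_iff ha hm (one_mem _)).mp hf1 u hu
    rwa [mul_one, Commute.inv_right_iff] at this
  have e : [b, c, d, x, y, z].prod = (b * (c * d)) * (x * (y * z)) := by simp [mul_assoc]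
  rcases S.center_perp small ha hm hz with h1 | h1
  · exfalso
    refine no_six hD hT hT₂ (fun u hu => (hpall u hu).1) hcom hnd ?_
    rw [e, mul_eq_one_iff_eq_inv, hrev (by simp) (by simp) (by simp)] at h1
    calc b * c = (b * (c * d)) * d⁻¹ := by group
      _ = x * (y * z) * d := by rw [h1, hinv d (by simp)]
      _ = d * (x * (y * z)) := (((hcom d (by simp) x (by simp)).mul_right
          ((hcom d (by simp) y (by simp)).mul_right (hcom d (by simp) z (by simp))))).eq.symm
      _ = d * x * (y * z) := by group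
  · rw [e] at h1
    have h2 : b * (c * d) = a * (x * (y * z)) := by
      rw [← hrev (u := x) (v := y) (w := z) (by simp) (by simp) (by simp)]
      exact eq_mul_inv_of_mul_eq h1
    rw [h2, ← mul_assoc, mul_self hD.1 ha, one_mul]

/-- every element of order two commutes with a transposition -/
theorem exists_commute (hD : Cfsg.IsThreeTranspositionGroup D) (hodd : Odd D.ncard) {x : G} (hx : x * x = 1) :
    ∃ a ∈ D, Commute x a := by
  classical
  haveI : Fintype D := Fintype.ofFinite D
  by_contra hcon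
  push Not at hcon
  have hsq : InvolutionsM22.conjPerm hD x ^ 2 ^ 1 = 1 := by rw [pow_one, ← map_pow, sq, hx, map_one]
  obtain ⟨y, hy⟩ := Equiv.Perm.exists_fixed_point_of_prime (p := 2) (n := 1) (by
    rw [← Nat.card_eq_fintype_card, Nat.card_coe_set_eq]
    exact fun h => (Nat.not_even_iff_odd.mpr hodd) (even_iff_two_dvd.mpr h)) hsq
  exact hcon y.1 y.2 ((InvolutionsM22.conjPerm_fix_iff hD x y).mp hy)

/-- the three classes of involutions -/
theorem three_classes (hD : Cfsg.IsThreeTranspositionGroup D) (hprim : Cfsg.IsPrimitiveUnderConj D)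
    (h : Cfsg.IsOfTypeM23 G D) (S22 : Sys E F) (S : StepData D E 3510 693 180 126 6531840) :
    (∀ x : G, orderOf x = 2 → ∃ m : ℕ, 1 ≤ m ∧ m ≤ 3 ∧ Step.IsProd D m x) ∧
      (∀ m : ℕ, 1 ≤ m → m ≤ 3 → (∃ x : G, orderOf x = 2 ∧ Step.IsProd D m x) ∧
        ∀ x y : G, Step.IsProd D m x → Step.IsProd D m y → IsConj x y) ∧
      ∀ (m m' : ℕ) (x : G), 1 ≤ m → m ≤ 3 → 1 ≤ m' → m' ≤ 3 → Step.IsProd D m x → Step.IsProd D m' x →
        m = m' := by
  have P := pinned hD hprim h S22 S
  have hcard : D.ncard = 31671 := (S.ncard_class P (F := 28160) (by norm_num)).trans (by norm_num)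
  have R := S.rank
  have h0 : {q | q ∈ E ∧ ∀ u ∈ ([] : List Q), Commute u q} = E := by ext q; simp
  have h1 : ∀ q₁ ∈ E, {q | q ∈ E ∧ ∀ u ∈ [q₁], Commute u q}.ncard = 694 := by
    intro q₁ hq₁
    rw [show {q | q ∈ E ∧ ∀ u ∈ [q₁], Commute u q} = insert q₁ (perp E q₁) from ?_,
      Set.ncard_insert_of_notMem (fun hh => hh.2.1 rfl), R.perp_card _ hq₁]
    ext q
    simp only [List.mem_singleton, forall_eq, Set.mem_ofPred_eq, Set.mem_insert_iff]
    constructor
    · intro hq
      by_cases hh : q = q₁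
      · exact Or.inl hh
      · exact Or.inr ⟨hq.1, hh, hq.2⟩
    · rintro (rfl | hq)
      · exact ⟨hq₁, Commute.refl _⟩
      · exact ⟨hq.1, hq.2.2⟩
  have h2 : ∀ q₁ ∈ E, ∀ q₂ ∈ perp E q₁, {q | q ∈ E ∧ ∀ u ∈ [q₁, q₂], Commute u q}.ncard = 182 := by
    intro q₁ hq₁ q₂ hq₂
    rw [show {q | q ∈ E ∧ ∀ u ∈ [q₁, q₂], Commute u q} = insert q₁ (insert q₂ (perp₂ E q₁ q₂)) from ?_,
      Set.ncard_insert_of_notMem, Set.ncard_insert_of_notMem, R.edge _ hq₁ _ hq₂]
    · exact fun hh => hh.2.2.1 rfl
    · rintro (hh | hh)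
      · exact hq₂.2.1 hh.symm
      · exact hh.1.2.1 rfl
    · ext q
      simp only [List.mem_cons, List.not_mem_nil, or_false, forall_eq_or_imp, forall_eq, Set.mem_ofPred_eq,
        Set.mem_insert_iff]
      constructor
      · intro hq
        by_cases hh : q = q₁
        · exact Or.inl hh
        by_cases hh' : q = q₂
        · exact Or.inr (Or.inl hh')
        exact Or.inr (Or.inr ⟨⟨hq.1, hh, hq.2.1⟩, hq.1, hh', hq.2.2⟩)
      · rintro (rfl | rfl | hq)
        · exact ⟨hq₁, Commute.refl _, hq₂.2.2.symm⟩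
        · exact ⟨hq₂.1, hq₂.2.2, Commute.refl _⟩
        · exact ⟨hq.1.1, hq.1.2.2, hq.2.2.2⟩
  have hcount : ∀ {m : ℕ} {x : G}, 1 ≤ m → m ≤ 3 → Step.IsProd D m x →
      {y | y ∈ D ∧ Commute x y}.ncard = if m = 1 then 3511 else if m = 2 then 695 else 183 := by
    intro m x hm hm' hx
    obtain ⟨l, hn, hlen, hd, hc, rfl⟩ := hx
    interval_cases m
    · obtain ⟨a, rfl⟩ := List.length_eq_one_iff.mp hlen
      have := S.ncard_all (a := a) (L := []) ⟨hn, hd, hc⟩
      simp only [List.map_nil, h0, R.class_card] at this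
      simpa using this
    · obtain ⟨a, b, rfl⟩ := List.length_eq_two.mp hlen
      have hl : Tuple D [a, b] := ⟨hn, hd, hc⟩
      have := S.ncard_all hl
      rw [List.map_cons, List.map_nil, h1 _ (S.f_mem _ ((tuple_tail hl).2.2 b (by simp)))] at this
      simp only [show (2 : ℕ) ≠ 1 by norm_num, if_false, if_true]
      refine Eq.trans ?_ this
      congr 1
      ext y
      simp only [List.prod_cons, List.prod_nil, mul_one, List.mem_cons, List.not_mem_nil, or_false,
        forall_eq_or_imp, forall_eq, Set.mem_ofPred_eq, and_congr_right_iff]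
      intro hy
      constructor
      · intro hh
        obtain ⟨c1, c2⟩ := comm_of_comm_mul hD.1 (hd a (by simp)) (hd b (by simp)) hy
          (hc a (by simp) b (by simp)) (by simpa using hn) hh.symm
        exact ⟨c1.symm, c2.symm⟩
      · exact fun hh => hh.1.mul_left hh.2
    · obtain ⟨a, b, c, rfl⟩ := List.length_eq_three.mp hlen
      have hl : Tuple D [a, b, c] := ⟨hn, hd, hc⟩
      obtain ⟨hl2, ha, hp⟩ := tuple_tail hl
      obtain ⟨hq, hqb, hqp⟩ := tuple_tail (S.tuple_map ha hl2 hp)
      have := S.ncard_all hl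
      rw [List.map_cons, List.map_cons, List.map_nil, h2 _ hqb _ (hqp _ (by simp))] at this
      simp only [show (3 : ℕ) ≠ 1 by norm_num, show (3 : ℕ) ≠ 2 by norm_num, if_false]
      refine Eq.trans ?_ this
      congr 1
      ext y
      simp only [List.prod_cons, List.prod_nil, mul_one, List.mem_cons, List.not_mem_nil, or_false,
        forall_eq_or_imp, forall_eq, Set.mem_ofPred_eq, and_congr_right_iff]
      intro hy
      constructor
      · intro hh
        simp only [List.nodup_cons, List.mem_cons, List.not_mem_nil, or_false, not_or, List.nodup_nil,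
          and_true, not_false_eq_true] at hn
        rw [← mul_assoc] at hh
        obtain ⟨c1, c2, c3⟩ := cross hD (hd a (by simp)) (hd b (by simp)) (hd c (by simp)) hy
          (hc a (by simp) b (by simp)) (hc a (by simp) c (by simp)) (hc b (by simp) c (by simp))
          hn.1.1 hn.1.2 hn.2 hh.symm
        exact ⟨c1.symm, c2.symm, c3.symm⟩
      · exact fun hh => hh.1.mul_left (hh.2.1.mul_left hh.2.2)
  have hsq : ∀ {m : ℕ} {x : G}, Step.IsProd D m x → x * x = 1 := by
    rintro m x ⟨l, -, -, hd, hc, rfl⟩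
    clear hcount
    induction l with
    | nil => simp
    | cons a l ih =>
      rw [List.prod_cons, show a * l.prod * (a * l.prod) = a * (l.prod * a) * l.prod by group,
        ← (Commute.list_prod_right l a fun y hy => hc a (by simp) y (by simp [hy])).eq, ← mul_assoc,
        mul_self hD.1 (hd a (by simp)), one_mul,
        ih (fun y hy => hd y (by simp [hy])) (fun y hy z hz => hc y (by simp [hy]) z (by simp [hz]))]
  refine ⟨fun x hx => ?_, fun m hm hm' => ⟨?_, fun x y => isConj_prod ?_⟩,
    fun m m' x hm hm' hk hk' hx hx' => ?_⟩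
  · have hxx : x * x = 1 := by rw [← sq, ← hx, pow_orderOf_eq_one]
    have hx1 : x ≠ 1 := fun he => by simp [he] at hx
    obtain ⟨a, ha, hxa⟩ := exists_commute hD (by rw [hcard]; decide) hxx
    obtain ⟨L, hT, hp, hlen, he | he⟩ := S.split P (split_M22 S22) ha hxa hxx
    · refine ⟨L.length, ?_, hlen, L, hT.1, rfl, hT.2.1, hT.2.2, he.symm⟩
      rcases L with _ | ⟨b, L⟩
      · exact absurd (by simpa using he) hx1
      · simp
    have hT' := tuple_cons ha hT hp
    by_cases hlt : L.length ≤ 2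
    · exact ⟨L.length + 1, by omega, by omega, a :: L, hT'.1, rfl, hT'.2.1, hT'.2.2, he.symm⟩
    obtain ⟨b, c, d, rfl⟩ := List.length_eq_three.mp (show L.length = 3 by omega)
    obtain ⟨u, v, w, hT7, he7⟩ := shorten4 S22 S hD hprim h hT'
    have hsub : List.Sublist [u, v, w] ([a, b, c, d] ++ [u, v, w]) := List.sublist_append_right _ _
    refine ⟨3, by norm_num, le_rfl, [u, v, w], hT7.1.sublist hsub, rfl,
      fun y hy => hT7.2.1 y (hsub.subset hy),
      fun y hy z hz => hT7.2.2 y (hsub.subset hy) z (hsub.subset hz), ?_⟩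
    rw [he]; simpa [mul_assoc] using he7.symm
  · obtain ⟨a, ha, -⟩ := hprim.2.1
    obtain ⟨b, hb⟩ := S.perp_nonempty P.small ha
    obtain ⟨c, hc⟩ := Set.nonempty_of_ncard_ne_zero (s := perp₂ D a b) (by rw [S.ncard_edge ha hb]; norm_num)
    have hT3 : Tuple D [a, b, c] := tuple_cons ha
      (tuple_cons hb.1 (tuple_cons hc.1.1 ⟨List.nodup_nil, by simp, by simp⟩ (by simp))
        fun y hy => by rw [List.mem_singleton.mp hy]; exact hc.2)
      fun y hy => by
        rcases List.mem_cons.mp hy with rfl | hy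
        · exact hb
        · rw [List.mem_singleton.mp hy]; exact hc.1
    obtain ⟨x, hxp⟩ : ∃ x, Step.IsProd D m x :=
      ⟨_, [a, b, c].take m, hT3.1.sublist (List.take_sublist _ _), by simp; omega,
        fun y hy => hT3.2.1 y (List.mem_of_mem_take hy),
        fun y hy z hz => hT3.2.2 y (List.mem_of_mem_take hy) z (List.mem_of_mem_take hz), rfl⟩
    refine ⟨x, orderOf_eq_prime (by rw [sq]; exact hsq hxp) fun he => ?_, hxp⟩
    have := hcount hm hm' hxp
    rw [he, show {y : G | y ∈ D ∧ Commute 1 y} = D from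
      Set.ext fun y => ⟨fun hh => hh.1, fun hh => ⟨hh, Commute.one_left y⟩⟩, hcard] at this
    interval_cases m <;> simp at this
  · interval_cases m
    · exact S.trans_succ (trans_zero E)
    · exact S.trans_succ (trans_M22 S22 (by norm_num))
    · exact S.trans_succ (trans_M22 S22 (by norm_num))
  · have := (hcount hm hm' hx).symm.trans (hcount hk hk' hx')
    interval_cases m <;> interval_cases m' <;> first | rfl | (norm_num at this)

end Cfsg.Agent.Lib.FischerMTypes.InvolutionsM23
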