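import Mathlib
import Cfsg.Agent.Lib.FischerMTypes.InvolutionsM22

/-!
Type M(22): `D` is the only class of 3-transpositions.  Products of two or of three commuting
transpositions have members of their class with product of order four.
-/

set_option autoImplicit false
set_option linter.style.haveILetI false
set_option linter.unusedSectionVars false

namespace Cfsg.Agent.Lib.FischerMTypes.OtherClasses

open Cfsg.Agent.Lib.FischerMTypes.Basic Cfsg.Agent.Lib.FischerMTypes.Primitive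
  Cfsg.Agent.Lib.FischerMTypes.PointModel Cfsg.Agent.Lib.FischerMTypes.TraceCounts
  Cfsg.Agent.Lib.FischerMTypes.InvolutionsM22
open Cfsg.Agent.Lib.UnitaryFour.Transvection
open Cfsg.Agent.Lib.Unitary

variable {G : Type*} [Group G] [Finite G] {D : Set G}
variable {F : Type} [Field F] [Fintype F]

local notation "h⟪" u ", " v "⟫" => Cfsg.hermForm 6 F 2 u v

variable (S : Sys D F)

include S in
/-- five transpositions commuting except that `c` moves `a` and `b` -/
theorem exists_config : ∃ a b c d e : G, a ∈ D ∧ b ∈ D ∧ c ∈ D ∧ d ∈ D ∧ e ∈ D ∧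
    (Commute a b ∧ Commute d a ∧ Commute d b ∧ Commute d c ∧ Commute d e ∧ Commute e a ∧ Commute e b ∧
      Commute e c) ∧ ¬ Commute c a ∧ ¬ Commute c b ∧
    [a, b].Nodup ∧ [c, d].Nodup ∧ [c, d, e].Nodup ∧ [a, b, e].Nodup := by
  obtain ⟨d, hd, -⟩ := S.hprim.2.1
  set C := S.ctx d hd
  obtain ⟨w, hw0, hw1, hw⟩ := exists_omega C.hF
  have h2 := two_eq_zero C.hF
  have hw3 : w ^ 3 = 1 := cube_eq_one C.hF hw0
  obtain ⟨p, hp⟩ : ∃ p : Fin 6 → F, p = ![1, 1, 0, 0, 0, 0] := ⟨_, rfl⟩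
  obtain ⟨u, hu⟩ : ∃ p : Fin 6 → F, p = ![0, 0, 1, 1, 0, 0] := ⟨_, rfl⟩
  obtain ⟨v, hv⟩ : ∃ p : Fin 6 → F, p = ![0, 0, 0, 0, 1, 1] := ⟨_, rfl⟩
  obtain ⟨r, hr⟩ : ∃ p : Fin 6 → F, p = ![0, 0, 1, w, 1, w] := ⟨_, rfl⟩
  have hpp : h⟪p, p⟫ = 0 := by
    simp only [hp, Cfsg.hermForm, Fin.sum_univ_six, Matrix.cons_val]; linear_combination h2
  have huu : h⟪u, u⟫ = 0 := by
    simp only [hu, Cfsg.hermForm, Fin.sum_univ_six, Matrix.cons_val]; linear_combination h2
  have hvv : h⟪v, v⟫ = 0 := by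
    simp only [hv, Cfsg.hermForm, Fin.sum_univ_six, Matrix.cons_val]; linear_combination h2
  have hrr : h⟪r, r⟫ = 0 := by
    simp only [hr, Cfsg.hermForm, Fin.sum_univ_six, Matrix.cons_val]
    linear_combination 2 * hw3 + 2 * h2
  have hp0 : p ≠ 0 := fun h => by simpa [hp] using congrFun h 0
  have hu0 : u ≠ 0 := fun h => by simpa [hu] using congrFun h 2
  have hv0 : v ≠ 0 := fun h => by simpa [hv] using congrFun h 4
  have hr0 : r ≠ 0 := fun h => by simpa [hr] using congrFun h 2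
  have hpu : h⟪p, u⟫ = 0 := by simp [hp, hu, Cfsg.hermForm, Fin.sum_univ_six]
  have hpv : h⟪p, v⟫ = 0 := by simp [hp, hv, Cfsg.hermForm, Fin.sum_univ_six]
  have hpr : h⟪p, r⟫ = 0 := by simp [hp, hr, Cfsg.hermForm, Fin.sum_univ_six]
  have huv : h⟪u, v⟫ = 0 := by simp [hu, hv, Cfsg.hermForm, Fin.sum_univ_six]
  have hru : h⟪r, u⟫ ≠ 0 := by
    intro h
    simp only [hr, hu, Cfsg.hermForm, Fin.sum_univ_six, Matrix.cons_val] at h
    exact hw1 (by linear_combination h - h2)
  have hrv : h⟪r, v⟫ ≠ 0 := by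
    intro h
    simp only [hr, hv, Cfsg.hermForm, Fin.sum_univ_six, Matrix.cons_val] at h
    exact hw1 (by linear_combination h - h2)
  have mp := C.pt_mem hpp hp0
  have mu := C.pt_mem huu hu0
  have mv := C.pt_mem hvv hv0
  have mr := C.pt_mem hrr hr0
  have cuv := (C.pt_comm huu hu0 hvv hv0).mpr huv
  have cpu := (C.pt_comm hpp hp0 huu hu0).mpr hpu
  have cpv := (C.pt_comm hpp hp0 hvv hv0).mpr hpv
  have cpr := (C.pt_comm hpp hp0 hrr hr0).mpr hpr
  have ncu : ¬ Commute (C.pt r) (C.pt u) := fun h => hru ((C.pt_comm hrr hr0 huu hu0).mp h)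
  have ncv : ¬ Commute (C.pt r) (C.pt v) := fun h => hrv ((C.pt_comm hrr hr0 hvv hv0).mp h)
  have nuv : C.pt u ≠ C.pt v := fun h => by
    obtain ⟨k, -, hk⟩ := (C.pt_eq huu hu0 hvv hv0).mp h
    simpa [hu, hv] using congrFun hk 4
  have nup : C.pt u ≠ C.pt p := fun h => by
    obtain ⟨k, -, hk⟩ := (C.pt_eq huu hu0 hpp hp0).mp h
    simpa [hu, hp] using congrFun hk 0
  have nvp : C.pt v ≠ C.pt p := fun h => by
    obtain ⟨k, -, hk⟩ := (C.pt_eq hvv hv0 hpp hp0).mp h
    simpa [hv, hp] using congrFun hk 0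
  have nrp : C.pt r ≠ C.pt p := fun h => ncu (h ▸ cpu)
  exact ⟨C.pt u, C.pt v, C.pt r, d, C.pt p, mu.1, mv.1, mr.1, hd, mp.1,
    ⟨cuv, mu.2.2, mv.2.2, mr.2.2, mp.2.2, cpu, cpv, cpr⟩, ncu, ncv, by simp [nuv],
    by simp [mr.2.1], by simp [mr.2.1, nrp, Ne.symm mp.2.1], by simp [nuv, nup, nvp]⟩

include S in
/-- `D` is the only class of 3-transpositions -/
theorem class_eq (D' : Set G) (hD' : Cfsg.IsThreeTranspositionClass D') : D' = D := by
  obtain ⟨⟨hord, hprod⟩, ⟨x, hx, hcl⟩, -⟩ := hD'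
  obtain ⟨m, h1, h3, hm⟩ := (three_classes S).1 x (hord x hx)
  have hmem : ∀ {y : G}, IsProd D m y → y ∈ D' := fun hy => by
    rw [hcl]; exact isConj_prod S h1 h3 hm hy
  interval_cases m
  · obtain ⟨l, -, hlen, hd, -, hp⟩ := hm
    obtain ⟨a, rfl⟩ := List.length_eq_one_iff.mp hlen
    simp only [List.prod_singleton] at hp
    subst hp
    have ha := hd a (by simp)
    rw [hcl]
    ext y
    constructor
    · intro hy
      obtain ⟨g, rfl⟩ := isConj_iff.mp hy
      exact S.hD.2.1 g a ha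
    · intro hy
      exact isConj_iff.mpr (S.hprim.1 a ha y hy)
  all_goals exfalso
  all_goals
    obtain ⟨a, b, c, d, e, ha, hb, hc, hd, he, ⟨cab, cda, cdb, cdc, cde, cea, ceb, cec⟩, nca, ncb,
      nd1, nd2, nd3, nd4⟩ := exists_config S
  all_goals
    have hnab : a ≠ b := by simpa using nd1
    have hP4 := pow_four S.hD.1 ha hb hc cab nca ncb
    have hP2 : c * (a * b) * (c * (a * b)) ≠ 1 := by
      intro h
      have hcab : Commute c (a * b) := by
        have habinv : (a * b)⁻¹ = a * b := by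
          rw [mul_inv_rev, inv_eq S.hD.1 ha, inv_eq S.hD.1 hb, cab.eq]
        have := eq_inv_of_mul_eq_one_left h
        rw [mul_inv_rev, habinv, inv_eq S.hD.1 hc] at this
        exact this
      exact nca (comm_of_comm_mul S.hD.1 ha hb hc cab hnab hcab).1
    have hz : Commute (c * (a * b)) d := cdc.symm.mul_left (cda.symm.mul_left cdb.symm)
    have hne : ¬ ((c * (a * b) * d) ^ 2 = 1 ∨ (c * (a * b) * d) ^ 3 = 1) := by
      have hd2 : d ^ 2 = 1 := by rw [sq, mul_self S.hD.1 hd]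
      have e2 : (c * (a * b) * d) ^ 2 = c * (a * b) * (c * (a * b)) := by
        rw [hz.mul_pow, hd2, mul_one, sq]
      have e4 : (c * (a * b) * d) ^ 4 = 1 := by
        rw [show 4 = 2 * 2 by norm_num, pow_mul, e2, sq, hP4]
      rintro (h | h)
      · exact hP2 (e2 ▸ h)
      · refine hP2 (e2 ▸ ?_)
        have h1 : c * (a * b) * d = 1 := by rwa [pow_succ, h, one_mul] at e4
        rw [h1, one_pow]
  · refine hne ?_
    have hx' : c * d ∈ D' := hmem ⟨[c, d], nd2, rfl, by simp [hc, hd], by simp [cdc, cdc.symm], by simp⟩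
    have hy' : a * b ∈ D' := hmem ⟨[a, b], nd1, rfl, by simp [ha, hb], by simp [cab, cab.symm], by simp⟩
    have := hprod _ hx' _ hy'
    rwa [show c * d * (a * b) = c * (a * b) * d by
      rw [mul_assoc c d, (cda.mul_right cdb).eq]; group] at this
  · refine hne ?_
    have hx' : c * d * e ∈ D' := hmem ⟨[c, d, e], nd3, rfl, by simp [hc, hd, he],
      by simp [cdc, cdc.symm, cec, cec.symm, cde, cde.symm], by simp [mul_assoc]⟩
    have hy' : a * b * e ∈ D' := hmem ⟨[a, b, e], nd4, rfl, by simp [ha, hb, he],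
      by simp [cab, cab.symm, cea, cea.symm, ceb, ceb.symm], by simp [mul_assoc]⟩
    have := hprod _ hx' _ hy'
    rwa [show c * d * e * (a * b * e) = c * (a * b) * d by
      calc c * d * e * (a * b * e) = c * d * (e * (a * b)) * e := by group
        _ = c * d * ((a * b) * e) * e := by rw [(cea.mul_right ceb).eq]
        _ = c * (d * (a * b)) * (e * e) := by group
        _ = c * (a * b) * d := by rw [(cda.mul_right cdb).eq, mul_self S.hD.1 he]; group] at this

end Cfsg.Agent.Lib.FischerMTypes.OtherClasses
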