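import Mathlib
import Cfsg.Agent.Lib.FischerMTypes.QuasiM22
import Cfsg.Agent.Lib.FischerMTypes.InvolutionsM23

/-!
Type M(23): the centralisers of a commuting pair of transpositions and of its product.
-/

set_option autoImplicit false
set_option linter.style.haveILetI false
set_option linter.unusedSectionVars false

namespace Cfsg.Agent.Lib.FischerMTypes.PairCentralizer

open Cfsg.Agent.Lib.FischerMTypes.Basic Cfsg.Agent.Lib.FischerMTypes.Primitive
  Cfsg.Agent.Lib.FischerMTypes.Levels Cfsg.Agent.Lib.FischerMTypes.Types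
  Cfsg.Agent.Lib.FischerMTypes.Unique
  Cfsg.Agent.Lib.FischerMTypes.Step Cfsg.Agent.Lib.FischerMTypes.SixSets Cfsg.Agent.Lib.FischerMTypes.Lines
open Cfsg.Agent.Lib.FischerMTypes.TraceCounts (Sys)
open Cfsg.Agent.Lib.FischerMTypes.M23Data (small pinned)
open scoped commutatorElement

variable {Q : Type*} [Group Q] [Finite Q] {E : Set Q} {F : Type} [Field F] [Fintype F]

/-- six commuting neighbours of `q₀` with product one -/
theorem exists_six_in_perp (S22 : Sys E F) {q₀ : Q} (h₀ : q₀ ∈ E) :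
    ∃ l : List Q, Tuple E l ∧ l.length = 6 ∧ (∀ y ∈ l, y ∈ perp E q₀) ∧ l.prod = 1 := by
  obtain ⟨v, hv, hv0⟩ := (S22.ctx q₀ h₀).exists_iso_ne_zero
  set q₁ := (S22.ctx q₀ h₀).pt v
  have h₁ : q₁ ∈ perp E q₀ := (S22.ctx q₀ h₀).pt_mem hv hv0
  obtain ⟨q₂, h₂, hne, h12⟩ := (S22.lines q₀ h₀).second q₁ h₁
  have hq0 : q₀ ∈ perp E q₁ := ⟨h₀, Ne.symm h₁.2.1, h₁.2.2.symm⟩
  have hq2 : q₂ ∈ perp E q₁ := ⟨h₂.1, hne, h12⟩
  obtain ⟨p₀, r₀, s₀, h5⟩ := (S22.lines q₁ h₁.1).five q₂ hq2 q₀ hq0 h₂.2.1 h₂.2.2.symm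
  obtain ⟨hc0, mp₀, mr₀, ms₀, hnd₀⟩ := five_trace S22.hD h5
  obtain ⟨q₃, ⟨h₃, n31, n32, c13, c23⟩, hq3⟩ : ∃ q₃ ∈ {y | y ∈ perp E q₀ ∧
      (y ≠ q₁ ∧ y ≠ q₂ ∧ Commute q₁ y ∧ Commute q₂ y)}, q₃ ∉ ({q₀, p₀, r₀, s₀} : Set Q) := by
    by_contra hcon
    push Not at hcon
    have h4 : ({q₀, p₀, r₀, s₀} : Set Q).ncard ≤ 4 := by
      refine (Set.ncard_insert_le _ _).trans ?_
      refine Nat.succ_le_succ ((Set.ncard_insert_le _ _).trans ?_)
      exact Nat.succ_le_succ ((Set.ncard_insert_le _ _).trans (by rw [Set.ncard_singleton]))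
    have := (Set.ncard_le_ncard hcon (Set.toFinite _)).trans h4
    rw [(S22.ctx q₀ h₀).ncard_edge₂ h₁ h₂ (Ne.symm hne) h12] at this
    omega
  have hq3' : q₃ ∈ perp E q₁ := ⟨h₃.1, n31, c13⟩
  obtain ⟨p, r, s, h5'⟩ := (S22.lines q₁ h₁.1).five q₂ hq2 q₃ hq3' (Ne.symm n32) c23
  obtain ⟨hc3, mp, mr, ms, hnd⟩ := five_trace S22.hD h5'
  have hone := IsT.eq_one S22.hD S22.hprim S22.hZ S22.lines h₁.1 ⟨_, _, _, _, _, h5', rfl⟩
  have hnot : q₀ ∉ [p, r, s] := by
    intro hm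
    have hm' : q₀ ∈ traceClass E q₁ q₂ q₃ := by
      simp only [List.mem_cons, List.not_mem_nil, or_false] at hm
      rcases hm with hm | hm | hm <;> rw [hm] <;> assumption
    have := trace_unique (S22.lines q₁ h₁.1) hq2 hc0 mp₀ mr₀ ms₀ hnd₀ q₃ ⟨hc3, hm'.2.symm⟩
    simp only [List.mem_cons, List.not_mem_nil, or_false] at this
    exact hq3 (by simpa using this)
  have hl : Tuple E [q₁, q₂, q₃, p, r, s] :=
    tuple_cons h₁.1 ⟨h5'.nodup, fun y hy => (h5'.mem y hy).1, h5'.comm⟩ h5'.mem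
  have cm : ∀ y ∈ [q₁, q₂, q₃, p, r, s], ∀ z ∈ [q₁, q₂, q₃, p, r, s], Commute y z := hl.2.2
  have hinv : ∀ y ∈ [q₁, q₂, q₃, p, r, s], y⁻¹ = y := fun y hy => inv_eq S22.hD.1 (hl.2.1 y hy)
  have he : p * r * s = q₁ * (q₂ * q₃) := by
    have h1 : q₁ * (q₂ * q₃) * (p * r * s) = 1 := by rw [← hone]; group
    rw [eq_inv_of_mul_eq_one_right h1, mul_inv_rev, mul_inv_rev, hinv q₁ (by simp), hinv q₂ (by simp),
      hinv q₃ (by simp), (cm q₃ (by simp) q₂ (by simp)).eq]
    exact ((cm q₁ (by simp) q₂ (by simp)).mul_right (cm q₁ (by simp) q₃ (by simp))).eq.symm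
  have hn' := hl.1
  simp only [List.nodup_cons, List.mem_cons, List.not_mem_nil, or_false, not_or, List.nodup_nil, and_true,
    not_false_eq_true] at hn'
  obtain ⟨c1, c2, c3⟩ := cross S22.hD (hl.2.1 p (by simp)) (hl.2.1 r (by simp)) (hl.2.1 s (by simp)) h₀
    (cm p (by simp) r (by simp)) (cm p (by simp) s (by simp)) (cm r (by simp) s (by simp))
    hn'.2.2.2.1.1 hn'.2.2.2.1.2 hn'.2.2.2.2
    (by rw [he]; exact h₁.2.2.mul_right (h₂.2.2.mul_right h₃.2.2))
  simp only [List.mem_cons, List.not_mem_nil, or_false, not_or] at hnot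
  refine ⟨_, hl, rfl, ?_, by simpa [mul_assoc] using hone⟩
  intro y hy
  simp only [List.mem_cons, List.not_mem_nil, or_false] at hy
  rcases hy with hy | hy | hy | hy | hy | hy <;> rw [hy]
  · exact h₁
  · exact h₂
  · exact h₃
  · exact ⟨hl.2.1 p (by simp), Ne.symm hnot.1, c1⟩
  · exact ⟨hl.2.1 r (by simp), Ne.symm hnot.2.1, c2⟩
  · exact ⟨hl.2.1 s (by simp), Ne.symm hnot.2.2, c3⟩

/-- a product of distinct commuting transpositions is a transposition only if there is one factor -/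
theorem not_mem_of_prod {G : Type*} [Group G] [Finite G] {D : Set G}
    (hD : Cfsg.IsThreeTranspositionGroup D) (hprim : Cfsg.IsPrimitiveUnderConj D) (h : Cfsg.IsOfTypeM23 G D)
    (S22 : Sys E F) (S : StepData D E 3510 693 180 126 6531840) {l : List G} (hl : Tuple D l)
    (h2 : 2 ≤ l.length) (h3 : l.length ≤ 3) : l.prod ∉ D := fun hm => by
  have := (InvolutionsM23.three_classes hD hprim h S22 S).2.2 l.length 1 l.prod (by omega) h3 le_rfl (by omega)
    ⟨l, hl.1, rfl, hl.2.1, hl.2.2, rfl⟩ ⟨[l.prod], by simp, rfl, by simp [hm], by simp, by simp⟩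
  omega

variable {G : Type*} [Group G] [Finite G] {D : Set G}

theorem main (hD : Cfsg.IsThreeTranspositionGroup D) (hprim : Cfsg.IsPrimitiveUnderConj D)
    (h : Cfsg.IsOfTypeM23 G D) (S22 : Sys E F) (S : StepData D E 3510 693 180 126 6531840)
    {a b : G} (ha : a ∈ D) (hb : b ∈ perp D a) (K C V : Subgroup G)
    (hK : K = Subgroup.centralizer ({a, b} : Set G)) (hC : C = Subgroup.centralizer ({a * b} : Set G))
    (hV : V = Subgroup.closure ({a, b} : Set G)) [hn : (V.subgroupOf C).Normal] :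
    K ≤ C ∧ (K.subgroupOf C).index = 2 ∧ (Subgroup.center ↥K).map K.subtype = V ∧ Cfsg.IsQuasisimple ↥K ∧
      (∃ (F : Type) (_ : Field F) (_ : Fintype F), Fintype.card F = 4 ∧
        Nonempty (↥K ⧸ Subgroup.center ↥K ≃* Cfsg.PSU 6 F 2)) ∧
      Subgroup.center (↥C ⧸ V.subgroupOf C) = ⊥ := by
  have P := pinned hD hprim h S22 S
  have memK : ∀ {g : G}, g ∈ K ↔ Commute g a ∧ Commute g b := by
    intro g
    rw [hK, Subgroup.mem_centralizer_iff]
    simp only [Set.mem_insert_iff, Set.mem_singleton_iff, forall_eq_or_imp, forall_eq]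
    exact ⟨fun hh => ⟨hh.1.symm, hh.2.symm⟩, fun hh => ⟨hh.1.symm, hh.2.symm⟩⟩
  have memC : ∀ {g : G}, g ∈ C ↔ Commute g (a * b) := by
    intro g
    rw [hC, Subgroup.mem_centralizer_singleton_iff]
    exact Iff.rfl
  have hKC : K ≤ C := fun g hg => memC.mpr ((memK.mp hg).1.mul_right (memK.mp hg).2)
  have haK : a ∈ K := memK.mpr ⟨Commute.refl a, hb.2.2⟩
  have hbK : b ∈ K := memK.mpr ⟨hb.2.2.symm, Commute.refl b⟩
  have inH : ∀ {g : G}, g ∈ K → g ∈ Subgroup.closure (perp D a) := fun {g} hg => by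
    rw [StepData.centralizer_eq S P ha, Subgroup.mem_centralizer_singleton_iff]
    exact (memK.mp hg).1.eq
  set q₀ := S.f ha b with hq₀
  have hq₀E : q₀ ∈ E := S.f_mem ha hb
  set H₂ := Subgroup.closure (perp E q₀) with hH₂
  have hfK : ∀ {g : G}, g ∈ K → S.f ha g ∈ H₂ := fun {g} hg => by
    rw [hH₂, StabilizerM22.centralizer_eq S22 hq₀E, Subgroup.mem_centralizer_singleton_iff,
      hq₀, ← S.f_mul ha (inH hg) (Subgroup.subset_closure hb),
      ← S.f_mul ha (Subgroup.subset_closure hb) (inH hg), (memK.mp hg).2.eq]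
  let ψ : ↥K →* ↥H₂ := MonoidHom.mk' (fun g => ⟨S.f ha g, hfK g.2⟩)
    fun g g' => Subtype.ext (S.f_mul ha (inH g.2) (inH g'.2))
  have hψ : Function.Surjective ψ := by
    rintro ⟨q, hq⟩
    obtain ⟨g, hg, rfl⟩ := S.exists_f_closure ha q
    have hga : Commute g a := (commute_closure (u := a) (fun s hs => hs.2.2) g hg).symm
    have hmem : g * b * g⁻¹ ∈ perp D a := conj_mem_of_mem_closure (perp_closed hD a) hg b hb
    rw [hH₂, StabilizerM22.centralizer_eq S22 hq₀E, Subgroup.mem_centralizer_singleton_iff] at hq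
    refine ⟨⟨g, memK.mpr ⟨hga, mul_inv_eq_iff_eq_mul.mp (S.f_inj ha hmem hb ?_)⟩⟩, rfl⟩
    rw [S.f_conj ha hg (Subgroup.subset_closure hb), mul_inv_eq_iff_eq_mul]
    exact hq
  have hker : ∀ {g : G}, g ∈ K → S.f ha g = 1 → g = 1 ∨ g = a := fun {g} hg hg1 => by
    refine S.center_perp P.small ha (inH hg) fun u hu => ?_
    have := (S.f_eq_iff ha (inH hg) (one_mem _)).mp (hg1.trans (S.f_one ha).symm) u hu
    rwa [mul_one, Commute.inv_right_iff] at this
  -- the perp group of the pair is the centraliser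
  have hpairK : ∀ {y : G}, y ∈ perp D a → Commute b y → y ∈ K := fun {y} hy hby =>
    memK.mpr ⟨hy.2.2.symm, hby.symm⟩
  have hlift : ∀ {q : Q}, q ∈ perp E q₀ → ∃ y ∈ perp D a, y ≠ b ∧ Commute b y ∧ S.f ha y = q := by
    intro q hq
    obtain ⟨y, hy, rfl⟩ := S.exists_f ha hq.1
    exact ⟨y, hy, fun he => hq.2.1 (by rw [he]), (S.commute_iff ha hb hy).mp hq.2.2, rfl⟩
  -- the derived group
  have hconjcl : ∀ {x y : G} (hx : x ∈ perp D a) (hxb : x ≠ b) (hbx : Commute b x) (hy : y ∈ perp D a)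
      (hyb : y ≠ b) (hby : Commute b y), Abelianization.of (⟨x, hpairK hx hbx⟩ : ↥K) =
      Abelianization.of (⟨y, hpairK hy hby⟩ : ↥K) := by
    intro x y hx hxb hbx hy hyb hby
    have m1 : S.f ha x ∈ perp E q₀ :=
      ⟨S.f_mem ha hx, fun he => hxb (S.f_inj ha hx hb he), (S.commute_iff ha hb hx).mpr hbx⟩
    have m2 : S.f ha y ∈ perp E q₀ :=
      ⟨S.f_mem ha hy, fun he => hyb (S.f_inj ha hy hb he), (S.commute_iff ha hb hy).mpr hby⟩
    obtain ⟨k, hk, hk'⟩ := S22.exists_conj_perp hq₀E m1 m2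
    obtain ⟨⟨g, hg⟩, hge⟩ := hψ ⟨k, hk⟩
    have hgk : S.f ha g = k := congrArg Subtype.val hge
    have hxy : g * x * g⁻¹ = y := S.f_inj ha (conj_mem_of_mem_closure (perp_closed hD a) (inH hg) x hx) hy
      (by rw [S.f_conj ha (inH hg) (Subgroup.subset_closure hx), hgk, hk'])
    rw [show (⟨y, hpairK hy hby⟩ : ↥K) = ⟨g, hg⟩ * ⟨x, hpairK hx hbx⟩ * ⟨g, hg⟩⁻¹ from Subtype.ext hxy.symm,
      map_mul, map_mul, map_inv, mul_comm (Abelianization.of (⟨g, hg⟩ : ↥K)), mul_inv_cancel_right]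
  obtain ⟨l, hlT, hlen, hlp, hl1⟩ := exists_six_in_perp S22 hq₀E
  obtain ⟨L, hLf, hLT, hLp⟩ := S.exists_lift ha hlT
  have hLK : ∀ y ∈ L, y ≠ b ∧ Commute b y := fun y hy => by
    have := hlp _ (hLf ▸ List.mem_map_of_mem hy)
    exact ⟨fun he => this.2.1 (by rw [he]), (S.commute_iff ha hb (hLp y hy)).mp this.2.2⟩
  obtain ⟨x0, x1, x2, x3, x4, x5, rfl⟩ : ∃ x0 x1 x2 x3 x4 x5, L = [x0, x1, x2, x3, x4, x5] := by
    have hL6 : L.length = 6 := by rw [← hlen, ← hLf, List.length_map]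
    match L, hL6 with
    | [x0, x1, x2, x3, x4, x5], _ => exact ⟨_, _, _, _, _, _, rfl⟩
  set xs := [x0, x1, x2, x3, x4, x5] with hxs
  have hmK : ∀ y ∈ xs, y ∈ K := fun y hy => hpairK (hLp y hy) (hLK y hy).2
  have hpm : xs.prod ∈ K := Subgroup.list_prod_mem _ hmK
  have hpa : xs.prod = a := by
    refine (hker hpm (by rw [S.f_prod ha hLp, hLf, hl1])).resolve_left fun h1 => ?_
    have hT₂ := (levels Simple.simple_psu hD hprim (Or.inl h)).2
    obtain ⟨hZ, d₀, hd₀, c₀, -, -, hH, -⟩ := h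
    have hT : ∀ v ∈ D, NoTwins D v := by
      obtain ⟨h1, h2⟩ := image_erase_closed (perp_closed hD d₀) (Subgroup.closure (perp D d₀)) rfl
      exact noTwins_all hD hprim hZ hd₀ (core_le_center (solid_of_M22 Simple.simple_psu h1 h2 hH).core)
    refine no_six hD hT hT₂ (fun u hu => (hLp u hu).1) hLT.2.2 hLT.1 ?_
    have hc : Commute (x2 * x3) (x4 * x5) := by
      have cm := hLT.2.2
      exact ((cm x2 (by simp [hxs]) x4 (by simp [hxs])).mul_right (cm x2 (by simp [hxs]) x5 (by simp [hxs]))).mul_left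
        ((cm x3 (by simp [hxs]) x4 (by simp [hxs])).mul_right (cm x3 (by simp [hxs]) x5 (by simp [hxs])))
    have hi : ∀ u ∈ xs, u⁻¹ = u := fun u hu => inv_eq hD.1 (hLp u hu).1
    have h1' : x0 * x1 * (x2 * x3 * (x4 * x5)) = 1 := by rw [← h1]; simp [hxs, mul_assoc]
    rw [eq_inv_of_mul_eq_one_left h1', mul_inv_rev, mul_inv_rev, mul_inv_rev,
      hi x2 (by simp [hxs]), hi x3 (by simp [hxs]), hi x4 (by simp [hxs]), hi x5 (by simp [hxs]),
      (hLT.2.2 x5 (by simp [hxs]) x4 (by simp [hxs])).eq, (hLT.2.2 x3 (by simp [hxs]) x2 (by simp [hxs])).eq]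
    exact hc.eq.symm
  have hder : (⟨a, haK⟩ : ↥K) ∈ commutator ↥K := by
    have e0 := fun y (hy : y ∈ xs) => hconjcl (hLp y hy) (hLK y hy).1 (hLK y hy).2 (hLp x0 (by simp [hxs]))
      (hLK x0 (by simp [hxs])).1 (hLK x0 (by simp [hxs])).2
    rw [← Abelianization.ker_of, MonoidHom.mem_ker,
      show (⟨a, haK⟩ : ↥K) = ⟨x0, hmK x0 (by simp [hxs])⟩ * (⟨x1, hmK x1 (by simp [hxs])⟩ *
        (⟨x2, hmK x2 (by simp [hxs])⟩ * (⟨x3, hmK x3 (by simp [hxs])⟩ *
          (⟨x4, hmK x4 (by simp [hxs])⟩ * ⟨x5, hmK x5 (by simp [hxs])⟩)))) from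
        Subtype.ext (hpa.symm.trans (by simp [hxs]))]
    simp only [map_mul]
    have hsq : Abelianization.of (⟨x0, hmK x0 (by simp [hxs])⟩ : ↥K) *
        Abelianization.of (⟨x0, hmK x0 (by simp [hxs])⟩ : ↥K) = 1 := by
      rw [← map_mul, show (⟨x0, hmK x0 (by simp [hxs])⟩ : ↥K) * ⟨x0, hmK x0 (by simp [hxs])⟩ = 1 from
        Subtype.ext (mul_self hD.1 (hLp x0 (by simp [hxs])).1), map_one]
    rw [e0 x1 (by simp [hxs]), e0 x2 (by simp [hxs]), e0 x3 (by simp [hxs]), e0 x4 (by simp [hxs]),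
      e0 x5 (by simp [hxs]), hsq, mul_one, hsq, mul_one, hsq]
  -- generation
  have hgen : K ≤ Subgroup.closure (perp₂ D a b) := by
    set J := Subgroup.closure (perp₂ D a b)
    have hxJ : a ∈ J := hpa ▸ Subgroup.list_prod_mem _ fun y hy =>
      Subgroup.subset_closure ⟨hLp y hy, (hLp y hy).1, (hLK y hy).1, (hLK y hy).2⟩
    have hJH : J ≤ Subgroup.closure (perp D a) := Subgroup.closure_mono fun y hy => hy.1
    have hall : ∀ q ∈ H₂, ∃ y ∈ J, S.f ha y = q := by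
      intro q hq
      induction hq using Subgroup.closure_induction with
      | mem q hq =>
        obtain ⟨y, hy, hyb, hby, rfl⟩ := hlift hq
        exact ⟨y, Subgroup.subset_closure ⟨hy, hy.1, hyb, hby⟩, rfl⟩
      | one => exact ⟨1, one_mem _, S.f_one ha⟩
      | mul u v _ _ ihu ihv =>
        obtain ⟨y, hy, rfl⟩ := ihu
        obtain ⟨z, hz, rfl⟩ := ihv
        exact ⟨y * z, mul_mem hy hz, S.f_mul ha (hJH hy) (hJH hz)⟩
      | inv u _ ih =>
        obtain ⟨y, hy, rfl⟩ := ih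
        exact ⟨y⁻¹, inv_mem hy, S.f_inv ha (hJH hy)⟩
    have hJK : J ≤ K := (Subgroup.closure_le _).mpr fun y hy => hpairK hy.1 hy.2.2.2
    intro g hg
    obtain ⟨y, hy, hye⟩ := hall _ (hfK hg)
    have h1 := hker (mul_mem (inv_mem (hJK hy)) hg) (by
      rw [S.f_mul ha (inv_mem (hJH hy)) (inH hg), S.f_inv ha (hJH hy), hye, inv_mul_cancel])
    rw [show g = y * (y⁻¹ * g) by group]
    refine mul_mem hy ?_
    rcases h1 with h1 | h1 <;> rw [h1]
    · exact one_mem _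
    · exact hxJ
  -- centre
  have hcenV : ∀ {g : G}, g ∈ K → (∀ k ∈ K, Commute k g) → g ∈ V := by
    intro g hg hgc
    have hcen : ∀ y ∈ perp E q₀, Commute y (S.f ha g) := fun q hq => by
      obtain ⟨y, hy, -, hby, rfl⟩ := hlift hq
      show _ * _ = _ * _
      rw [← S.f_mul ha (Subgroup.subset_closure hy) (inH hg),
        ← S.f_mul ha (inH hg) (Subgroup.subset_closure hy), (hgc y (hpairK hy hby)).eq]
    have haV : a ∈ V := hV ▸ Subgroup.subset_closure (by simp)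
    have hbV : b ∈ V := hV ▸ Subgroup.subset_closure (by simp)
    rcases StabilizerM22.center_perp S22 hq₀E (hfK hg) hcen with h1 | h1
    · rcases hker hg h1 with rfl | rfl
      exacts [one_mem _, haV]
    · rcases hker (mul_mem (inv_mem hbK) hg) (by
        rw [S.f_mul ha (inv_mem (inH hbK)) (inH hg), S.f_inv ha (inH hbK), h1, ← hq₀, inv_mul_cancel]) with h2 | h2
      · rw [← inv_mul_eq_one.mp h2]; exact hbV
      · rw [inv_mul_eq_iff_eq_mul.mp h2]; exact mul_mem hbV haV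
  have hVK : V ≤ K := hV ▸ (Subgroup.closure_le _).mpr (by
    rintro y (rfl | rfl)
    exacts [haK, hbK])
  have hVc : ∀ v ∈ V, ∀ k ∈ K, Commute k v := fun v hv k hk => by
    rw [hV] at hv
    exact commute_closure (u := k) (fun s hs => by
      rcases hs with rfl | rfl
      exacts [(memK.mp hk).1, (memK.mp hk).2]) v hv
  have hcenter : (Subgroup.center ↥K).map K.subtype = V := by
    ext g
    rw [Subgroup.mem_map]
    constructor
    · rintro ⟨⟨g, hg⟩, hgc, rfl⟩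
      exact hcenV hg fun k hk => congrArg Subtype.val (Subgroup.mem_center_iff.mp hgc ⟨k, hk⟩)
    · intro hg
      exact ⟨⟨g, hVK hg⟩, Subgroup.mem_center_iff.mpr fun k => Subtype.ext (hVc g hg k k.2).eq, rfl⟩
  -- quotient
  let χ : ↥K →* ↥H₂ ⧸ Subgroup.center ↥H₂ := (QuotientGroup.mk' _).comp ψ
  have hχ : Function.Surjective χ := (QuotientGroup.mk'_surjective _).comp hψ
  have hχker : χ.ker = Subgroup.center ↥K := by
    ext g
    rw [MonoidHom.mem_ker]
    show (QuotientGroup.mk (ψ g) : ↥H₂ ⧸ Subgroup.center ↥H₂) = 1 ↔ _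
    rw [QuotientGroup.eq_one_iff]
    constructor
    · intro hg
      rw [Subgroup.mem_center_iff]
      rcases StabilizerM22.center_perp S22 hq₀E (ψ g).2
        (fun y hy => congrArg Subtype.val (Subgroup.mem_center_iff.mp hg ⟨y, Subgroup.subset_closure hy⟩)) with h1 | h1
      all_goals intro k; refine Subtype.ext (hVc _ ?_ k k.2).eq
      · rcases hker g.2 h1 with h2 | h2 <;> rw [h2]
        exacts [one_mem _, hV ▸ Subgroup.subset_closure (by simp)]
      · have h1' : S.f ha (g : G) = q₀ := h1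
        rcases hker (mul_mem (inv_mem hbK) g.2) (by
          rw [S.f_mul ha (inv_mem (inH hbK)) (inH g.2), S.f_inv ha (inH hbK), h1', ← hq₀, inv_mul_cancel])
          with h2 | h2
        · rw [← inv_mul_eq_one.mp h2]; exact hV ▸ Subgroup.subset_closure (by simp)
        · rw [inv_mul_eq_iff_eq_mul.mp h2]
          exact mul_mem (hV ▸ Subgroup.subset_closure (by simp)) (hV ▸ Subgroup.subset_closure (by simp))
    · intro hg
      rw [Subgroup.mem_center_iff]
      intro k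
      obtain ⟨k, rfl⟩ := hψ k
      rw [← map_mul, ← map_mul, Subgroup.mem_center_iff.mp hg k]
  let eK : ↥K ⧸ Subgroup.center ↥K ≃* ↥H₂ ⧸ Subgroup.center ↥H₂ :=
    (QuotientGroup.quotientMulEquivOfEq hχker.symm).trans (QuotientGroup.quotientKerEquivOfSurjective χ hχ)
  let eP : ↥K ⧸ Subgroup.center ↥K ≃* Cfsg.PSU 6 F 2 :=
    eK.trans ((QuotientGroup.quotientMulEquivOfEq ((S22.ctx q₀ hq₀E).ker_eq).symm).trans
      (QuotientGroup.quotientKerEquivOfSurjective _ (S22.ctx q₀ hq₀E).surj)).symm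
  haveI : IsSimpleGroup (↥H₂ ⧸ Subgroup.center ↥H₂) := QuasiM22.simple_quot S22 hq₀E
  have hperf : commutator ↥K = ⊤ := by
    rw [eq_top_iff]
    intro g _
    have hmap : (commutator ↥K).map ψ = ⊤ := by
      rw [commutator_def, Subgroup.map_commutator, Subgroup.map_top_of_surjective _ hψ, ← commutator_def]
      exact QuasiM22.perfect S22 hq₀E
    obtain ⟨y, hy, hye⟩ := (Subgroup.eq_top_iff' _).mp hmap (ψ g)
    rw [show g = y * (y⁻¹ * g) by group]
    refine mul_mem hy ?_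
    have hk1 : S.f ha (((y⁻¹ * g : ↥K) : G)) = 1 := by
      have : ψ (y⁻¹ * g) = 1 := by rw [map_mul, map_inv, hye, inv_mul_cancel]
      exact congrArg Subtype.val this
    rcases hker (y⁻¹ * g : ↥K).2 hk1 with h1 | h1
    · rw [show y⁻¹ * g = 1 from Subtype.ext h1]; exact one_mem _
    · rw [show y⁻¹ * g = (⟨a, haK⟩ : ↥K) from Subtype.ext h1]; exact hder
  -- the outer half
  have hfac : ∀ g ∈ C, (g * a * g⁻¹ = a ∧ g * b * g⁻¹ = b) ∨ (g * a * g⁻¹ = b ∧ g * b * g⁻¹ = a) := by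
    intro g hg
    have he : g * a * g⁻¹ * (g * b * g⁻¹) = a * b := by
      rw [show g * a * g⁻¹ * (g * b * g⁻¹) = g * (a * b) * g⁻¹ by group, (memC.mp hg).eq, mul_inv_cancel_right]
    set u := g * a * g⁻¹
    set w := g * b * g⁻¹
    have hu : u ∈ D := hD.2.1 g a ha
    have hw : w ∈ D := hD.2.1 g b hb.1
    have cuw : Commute u w := Step.conj_commute hb.2.2
    have huj : Commute u (a * b) := he ▸ (Commute.refl u).mul_right cuw
    obtain ⟨cua, cub⟩ := comm_of_comm_mul hD.1 ha hb.1 hu hb.2.2 (Ne.symm hb.2.1) huj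
    by_cases h1 : u = a
    · exact Or.inl ⟨h1, by rw [h1] at he; exact mul_left_cancel he⟩
    by_cases h2 : u = b
    · exact Or.inr ⟨h2, by rw [h2, hb.2.2.eq] at he; exact mul_left_cancel he⟩
    exfalso
    have hw' : w = [u, a, b].prod := by
      simp only [List.prod_cons, List.prod_nil, mul_one]
      rw [← he, ← mul_assoc, mul_self hD.1 hu, one_mul]
    refine not_mem_of_prod hD hprim h S22 S (l := [u, a, b]) ?_ (by simp) (by simp) (hw' ▸ hw)
    refine ⟨by simp [h1, h2, Ne.symm hb.2.1], by simp [hu, ha, hb.1], ?_⟩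
    simp [cua, cub, cua.symm, cub.symm, hb.2.2, hb.2.2.symm]
  have hT2 : TupleTrans D 2 := S.trans_succ (InvolutionsM23.trans_M22 S22 (by norm_num))
  obtain ⟨g₀, hg₀⟩ := hT2 [a, b] [b, a]
    ⟨by simp [Ne.symm hb.2.1], by simp [ha, hb.1], by simp [hb.2.2, hb.2.2.symm]⟩
    ⟨by simp [hb.2.1], by simp [ha, hb.1], by simp [hb.2.2, hb.2.2.symm]⟩ rfl rfl
  simp only [List.map_cons, List.map_nil, List.cons.injEq, and_true] at hg₀
  have hg₀C : g₀ ∈ C := memC.mpr (by
    show g₀ * (a * b) = a * b * g₀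
    calc g₀ * (a * b) = (g₀ * a * g₀⁻¹) * (g₀ * b * g₀⁻¹) * g₀ := by group
      _ = a * b * g₀ := by rw [hg₀.1, hg₀.2, hb.2.2.eq])
  have hindex : (K.subgroupOf C).index = 2 := by
    rw [Subgroup.index_eq_two_iff]
    refine ⟨⟨g₀, hg₀C⟩, fun x => ?_⟩
    rw [Subgroup.mem_subgroupOf, Subgroup.mem_subgroupOf, Subgroup.coe_mul]
    rcases hfac x x.2 with h1 | h1
    · refine Or.inr ⟨memK.mpr ⟨mul_inv_eq_iff_eq_mul.mp h1.1, mul_inv_eq_iff_eq_mul.mp h1.2⟩, fun hx => ?_⟩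
      have := (memK.mp hx).1
      have e : (x : G) * g₀ * a * ((x : G) * g₀)⁻¹ = a := by rw [this.eq, mul_inv_cancel_right]
      rw [show (x : G) * g₀ * a * ((x : G) * g₀)⁻¹ = x * (g₀ * a * g₀⁻¹) * (x : G)⁻¹ by group, hg₀.1, h1.2] at e
      exact hb.2.1 e
    · refine Or.inl ⟨memK.mpr ⟨mul_inv_eq_iff_eq_mul.mp ?_, mul_inv_eq_iff_eq_mul.mp ?_⟩, fun hx => ?_⟩
      · rw [show (x : G) * g₀ * a * ((x : G) * g₀)⁻¹ = x * (g₀ * a * g₀⁻¹) * (x : G)⁻¹ by group, hg₀.1, h1.2]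
      · rw [show (x : G) * g₀ * b * ((x : G) * g₀)⁻¹ = x * (g₀ * b * g₀⁻¹) * (x : G)⁻¹ by group, hg₀.2, h1.1]
      · have := (memK.mp hx).1
        rw [show (x : G) * a * (x : G)⁻¹ = a by rw [this.eq, mul_inv_cancel_right]] at h1
        exact hb.2.1 h1.1.symm
  refine ⟨hKC, hindex, hcenter, ⟨⟨hperf⟩, eK.isSimpleGroup⟩, ⟨F, inferInstance, inferInstance, ?_, ⟨eP⟩⟩, ?_⟩
  · rw [(S22.ctx q₀ hq₀E).hF]; norm_num
  rw [eq_bot_iff]
  intro z hz
  obtain ⟨⟨x, hx⟩, rfl⟩ := QuotientGroup.mk_surjective z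
  rw [Subgroup.mem_bot, QuotientGroup.eq_one_iff, Subgroup.mem_subgroupOf]
  show x ∈ V
  have hxt : ∀ t ∈ perp₂ D a b, Commute x t := by
    intro t ht
    have htK : t ∈ K := hpairK ht.1 ht.2.2.2
    have hv : (⟨t, hKC htK⟩ : ↥C)⁻¹ * (⟨x, hx⟩ * ⟨t, hKC htK⟩ * ⟨x, hx⟩⁻¹) ∈ V.subgroupOf C := by
      rw [← QuotientGroup.eq, QuotientGroup.mk_mul, QuotientGroup.mk_mul, QuotientGroup.mk_inv,
        ← Subgroup.mem_center_iff.mp hz, mul_inv_cancel_right]
    rw [Subgroup.mem_subgroupOf, Subgroup.coe_mul, Subgroup.coe_mul, Subgroup.coe_mul, Subgroup.coe_inv,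
      Subgroup.coe_inv] at hv
    set v := t⁻¹ * (x * t * x⁻¹)
    have hxD : t * v ∈ D := by rw [mul_inv_cancel_left]; exact hD.2.1 x t ht.1.1
    have hv4 : v = 1 ∨ v = a ∨ v = b ∨ v = a * b := by
      rw [hV] at hv
      have hi : ∀ s ∈ ({1, a, b, a * b} : Set G), ∀ r ∈ ({a, b} : Set G), r * s ∈ ({1, a, b, a * b} : Set G) := by
        have e1 : b * a = a * b := hb.2.2.eq.symm
        have e2 : a * (a * b) = b := by rw [← mul_assoc, mul_self hD.1 ha, one_mul]
        have e3 : b * (a * b) = a := by rw [← mul_assoc, e1, mul_assoc, mul_self hD.1 hb.1, mul_one]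
        rintro s (rfl | rfl | rfl | rfl) r (rfl | rfl) <;>
          simp [mul_self hD.1 ha, mul_self hD.1 hb.1, e1, e2, e3]
      revert hv
      generalize v = w
      intro hv
      clear hxD
      induction hv using Subgroup.closure_induction_left with
      | one => exact Or.inl rfl
      | mul_left r hr s _ ih =>
        simpa using hi s (by simpa using ih) r hr
      | inv_mul_cancel r hr s _ ih =>
        have hr' : r⁻¹ = r := by
          rcases hr with rfl | rfl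
          exacts [inv_eq hD.1 ha, inv_eq hD.1 hb.1]
        rw [hr']
        simpa using hi s (by simpa using ih) r hr
    have hta : t ≠ a := ht.1.2.1
    have htb : t ≠ b := ht.2.2.1
    have ta : Commute t a := ht.1.2.2.symm
    have tb : Commute t b := ht.2.2.2.symm
    rcases hv4 with h1 | h1 | h1 | h1
    · exact mul_inv_eq_iff_eq_mul.mp (inv_mul_eq_one.mp h1).symm
    all_goals exfalso; rw [h1] at hxD
    · exact not_mem_of_prod hD hprim h S22 S (l := [t, a]) ⟨by simp [hta], by simp [ht.1.1, ha],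
        by simp [ta, ta.symm]⟩ (by simp) (by simp) (by simpa using hxD)
    · exact not_mem_of_prod hD hprim h S22 S (l := [t, b]) ⟨by simp [htb], by simp [ht.1.1, hb.1],
        by simp [tb, tb.symm]⟩ (by simp) (by simp) (by simpa using hxD)
    · exact not_mem_of_prod hD hprim h S22 S (l := [t, a, b]) ⟨by simp [hta, htb, Ne.symm hb.2.1],
        by simp [ht.1.1, ha, hb.1], by simp [ta, ta.symm, tb, tb.symm, hb.2.2, hb.2.2.symm]⟩ (by simp) (by simp)
        (by simpa using hxD)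
  have hxK : ∀ k ∈ K, Commute x k := fun k hk => commute_closure hxt k (hgen hk)
  exact hcenV (memK.mpr ⟨hxK a haK, hxK b hbK⟩) fun k hk => (hxK k hk).symm

end Cfsg.Agent.Lib.FischerMTypes.PairCentralizer
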