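import Mathlib
import Cfsg.Agent.Lib.FischerMTypes.Connected
import Cfsg.Agent.Lib.FischerMTypes.StepInvol

/-!
One step up, before primitivity is known: an involution centralising a perp set inside the even part
of its component makes the commuting graph connected, and then conjugation is primitive.
-/

set_option autoImplicit false
set_option linter.style.haveILetI false
set_option linter.unusedSectionVars false

namespace Cfsg.Agent.Lib.FischerMTypes.Step

open Cfsg.Agent.Lib.FischerMTypes.Basic Cfsg.Agent.Lib.FischerMTypes.Primitive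
  Cfsg.Agent.Lib.FischerMTypes.Levels Cfsg.Agent.Lib.FischerMTypes.Rank
open Cfsg.Agent.Lib.FischerMTypes.Connected (Conn Fixes ev W_eq_one Odd' connected_of_odd)

variable {G : Type*} [Group G] [Finite G] {D : Set G}
variable {Q : Type*} [Group Q] [Finite Q] {E : Set Q} {N A k n T : ℕ}

namespace PreStep

variable (S : PreStep D E N A k n T)

include S in
theorem fixes_of_star (hs : Small N A k n) {a w : G} (ha : a ∈ D) (hw : Star D w a) : Fixes D a w := by
  suffices h : ∀ y, Conn D a y → Star D w y from fun y hy => (h y hy).1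
  intro y hy
  induction hy with
  | refl => exact hw
  | @tail v u hav hst ih =>
    by_cases huv : u = v
    · exact huv ▸ ih
    have hu : u ∈ perp D v := ⟨hst.2.1, huv, hst.2.2⟩
    have hwu := ih.2.1 u hu
    have hperp : ∀ z ∈ perp D u, Commute w z := by
      intro z hz
      by_cases hzv : z = v
      · rw [hzv]; exact ih.1
      by_cases hc : Commute v z
      · exact ih.2.1 z ⟨hz.1, hzv, hc⟩
      · exact ih.2.2 z ⟨hz.1, hc, u, hu, ⟨hst.2.1, Ne.symm hz.2.1, hz.2.2.symm⟩⟩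
    rcases S.choice hs hst.2.1 hwu hperp with h | h
    · exact ⟨hwu, hperp, h⟩
    · exfalso
      obtain ⟨x, hx, hux⟩ := S.exists_off hs hst.1 hu
      have h1 := h x ⟨hx.1, hux, v, ⟨hst.1, Ne.symm huv, hst.2.2.symm⟩, hst.1, Ne.symm hx.2.1, hx.2.2.symm⟩
      have := h1.mul_left (ih.2.1 x hx).inv_left
      rw [mul_inv_cancel_right] at this
      exact hux this

include S in
/-- an odd invariant from a central involution of the perp set -/
theorem exists_odd (hs : Small N A k n) (hcore : Cfsg.pCore 2 G = ⊥) {a z : G} (ha : a ∈ D) (hz1 : z ≠ 1)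
    (hz2 : z * z = 1) (hzev : z ∈ ev D a) (hza : Commute z a) (hzp : ∀ y ∈ perp D a, Commute z y) :
    ∃ w, Odd' D a w := by
  rcases S.choice hs ha hza hzp with h | h
  · exact absurd (W_eq_one S.hD hcore ha ⟨hzev, hz2, S.fixes_of_star hs ha ⟨hza, hzp, h⟩⟩) hz1
  refine ⟨a * z, ?_, ?_, S.fixes_of_star hs ha ⟨(Commute.refl a).mul_left hza, fun y hy => ?_, h⟩⟩
  · rw [hza.mul_mul_mul_comm, mul_self S.hD.1 ha, hz2, one_mul]
  · rwa [← mul_assoc, mul_self S.hD.1 ha, one_mul]
  · exact hy.2.2.mul_left (hzp y hy)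

include S in
/-- a connected commuting graph gives primitivity -/
theorem primitive_of_conn (hs : Small N A k n) (hnA : n < A) (hne : D.Nonempty)
    (hconn : ∀ a ∈ D, ∀ x ∈ D, Conn D a x) : Cfsg.IsPrimitiveUnderConj D := by
  obtain ⟨a₀, ha₀⟩ := hne
  obtain ⟨e₀, he₀⟩ := S.perp_nonempty hs ha₀
  refine ⟨S.hcl, ⟨a₀, ha₀, e₀, he₀.1, Ne.symm he₀.2.1⟩, fun K hK hblock => ?_⟩
  by_cases hss : K.Subsingleton
  · exact Or.inl hss
  right
  obtain ⟨a, haK, b, hbK, hab⟩ := Set.not_subsingleton_iff.mp hss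
  have stab : ∀ v ∈ K, ∀ h ∈ Subgroup.closure {y | y ∈ D ∧ Commute y v}, ∀ c ∈ K, h * c * h⁻¹ ∈ K := by
    intro v hv h hh
    have hgen : ∀ y ∈ D, Commute y v → (fun x => y * x * y⁻¹) '' K = K := fun y hy hyv =>
      (hblock y).resolve_right (Set.not_disjoint_iff.mpr
        ⟨v, ⟨v, hv, by simp only [hyv.eq, mul_inv_cancel_right]⟩, hv⟩)
    induction hh using Subgroup.closure_induction_left with
    | one => simp
    | mul_left y hy h _ ih =>
      intro c hc
      rw [← hgen y hy.1 hy.2]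
      exact ⟨_, ih c hc, by group⟩
    | inv_mul_cancel y hy h _ ih =>
      intro c hc
      rw [inv_eq S.hD.1 hy.1, ← hgen y hy.1 hy.2]
      exact ⟨_, ih c hc, by group⟩
  have hperp : ∀ v ∈ K, ∀ u ∈ K, u ∈ perp D v → perp D v ⊆ K := by
    intro v hv u hu huv u' hu'
    obtain ⟨h, hh, hhu⟩ := S.trans_perp (hK hv) huv hu'
    rw [← hhu]
    have hle : perp D v ⊆ {y | y ∈ D ∧ Commute y v} := fun y hy => ⟨hy.1, hy.2.2.symm⟩
    exact stab v hv h (Subgroup.closure_mono hle hh) u hu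
  have edge : ∀ v ∈ K, ∀ u ∈ K, u ∈ perp D v → K = D := by
    intro v hv u hu huv
    refine Set.Subset.antisymm hK fun y hy => ?_
    suffices h : ∀ y, Conn D v y → y ∈ K ∧ perp D y ⊆ K from (h y (hconn v (hK hv) y hy)).1
    intro y hy
    induction hy with
    | refl => exact ⟨hv, hperp v hv u hu huv⟩
    | @tail p q _ hst ih =>
      by_cases hqp : q = p
      · exact hqp ▸ ih
      have hq : q ∈ K := ih.2 ⟨hst.2.1, hqp, hst.2.2⟩
      exact ⟨hq, hperp q hq p ih.1 ⟨hst.1, Ne.symm hqp, hst.2.2.symm⟩⟩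
  by_contra hKD
  have haD := hK haK
  have hbD := hK hbK
  have hnc : ¬ Commute a b := fun h => hKD (edge a haK b hbK ⟨hbD, hab.symm, h⟩)
  by_cases hcommon : (perp₂ D a b).Nonempty
  · obtain ⟨p, hpa, hpb⟩ := hcommon
    have hap : a ∈ perp D p := ⟨haD, Ne.symm hpa.2.1, hpa.2.2.symm⟩
    have hbp : b ∈ perp D p := ⟨hbD, Ne.symm hpb.2.1, hpb.2.2.symm⟩
    obtain ⟨q, hq, hqb, hbq, haq⟩ : ∃ q ∈ perp D p, q ≠ b ∧ Commute b q ∧ ¬ Commute a q := by
      by_contra hcon
      push Not at hcon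
      have hsub : perp₂ D p b ⊆ {y | y ∈ perp D p ∧ (Commute a y ∧ Commute b y)} := fun y hy =>
        ⟨hy.1, hcon y hy.1 hy.2.2.1 hy.2.2.2, hy.2.2.2⟩
      have h1 := Set.ncard_le_ncard hsub (Set.toFinite _)
      rw [S.ncard_edge hpa.1 hbp, S.ncard_nonedge hpa.1 hap hbp hnc] at h1
      omega
    obtain ⟨g, hg, hgb⟩ := S.move_off hpa.1 hap hbp hq hnc haq
    refine hKD (edge b hbK q ?_ ⟨hq.1, hqb, hbq⟩)
    rw [← hgb]
    have hle : pstar D p a ⊆ {y | y ∈ D ∧ Commute y a} := fun y hy => ⟨hy.1.1, hy.2.symm⟩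
    exact stab a haK g (Subgroup.closure_mono hle hg) b hbK
  · obtain ⟨y, hy⟩ := S.perp_nonempty hs haD
    obtain ⟨y', hy', hy'y⟩ : (perp₂ D a y).Nonempty :=
      Set.nonempty_of_ncard_ne_zero (by rw [S.ncard_edge haD hy]; omega)
    have nc : ∀ {y : G}, y ∈ perp D a → ¬ Commute y b := fun {y} hy h =>
      hcommon ⟨y, hy, hy.1, fun h' => hnc (h' ▸ hy.2.2), h.symm⟩
    have inK : ∀ {y : G}, y ∈ perp D a → b * y * b ∈ K := fun {y} hy => by
      rw [← braid S.hD.1 hy.1 hbD (nc hy)]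
      have := stab a haK y (Subgroup.subset_closure ⟨hy.1, hy.2.2.symm⟩) b hbK
      rwa [inv_eq S.hD.1 hy.1] at this
    refine hKD (edge _ (inK hy) _ (inK hy') ⟨hK (inK hy'), fun h => hy'y.2.1 ?_, ?_⟩)
    · rw [← conj_self_inv S.hD.1 hbD y', h, conj_self_inv S.hD.1 hbD]
    · exact (conj_comm_iff S.hD.1 hbD).mpr hy'y.2.2

include S in
/-- central involutions of the perp sets make conjugation primitive -/
theorem primitive_of_central (hs : Small N A k n) (hnA : n < A) (hcore : Cfsg.pCore 2 G = ⊥) (hne : D.Nonempty)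
    (hz : ∀ a ∈ D, ∃ z, z ≠ 1 ∧ z * z = 1 ∧ z ∈ ev D a ∧ Commute z a ∧ ∀ y ∈ perp D a, Commute z y) :
    Cfsg.IsPrimitiveUnderConj D :=
  S.primitive_of_conn hs hnA hne fun _ ha _ hx =>
    connected_of_odd S.hD hcore (fun _ h => S.perp_nonempty hs h) (fun a h => by
      obtain ⟨z, h1, h2, h3, h4, h5⟩ := hz a h
      exact S.exists_odd hs hcore h h1 h2 h3 h4 h5) ha hx

end PreStep

end Cfsg.Agent.Lib.FischerMTypes.Step
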