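import Mathlib
import Cfsg.Agent.Lib.FischerMTypes.StepConn
import Cfsg.Agent.Lib.FischerMTypes.PairCentralizer

/-!
Type M(23) forces conjugation to be primitive on the transpositions.
-/

set_option autoImplicit false
set_option linter.style.haveILetI false
set_option linter.unusedSectionVars false

namespace Cfsg.Agent.Lib.FischerMTypes.TypeM23

open Cfsg.Agent.Lib.FischerMTypes.Basic Cfsg.Agent.Lib.FischerMTypes.Primitive
  Cfsg.Agent.Lib.FischerMTypes.Levels Cfsg.Agent.Lib.FischerMTypes.Types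
  Cfsg.Agent.Lib.FischerMTypes.Unique Cfsg.Agent.Lib.FischerMTypes.Step
open Cfsg.Agent.Lib.FischerMTypes.TraceCounts (Sys exists_sys)
open Cfsg.Agent.Lib.FischerMTypes.M23Data (small loc_conj)
open Cfsg.Agent.Lib.FischerMTypes.Connected (Conn ev mul_mem_ev subsetEq_of_class primitive_of_M22)

universe u

variable {G : Type u} [Group G] [Finite G] {D : Set G}

/-- the data of a group of type M(23) before primitivity -/
theorem exists_pre (hD : Cfsg.IsThreeTranspositionGroup D) (h : Cfsg.IsOfTypeM23 G D) :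
    ∃ (Q : Type u) (_ : Group Q) (_ : Finite Q) (E : Set Q) (F : Type) (_ : Field F) (_ : Fintype F)
      (_ : Sys E F), Nonempty (PreStep D E 3510 693 180 126 6531840) ∧ Cfsg.pCore 2 G = ⊥ ∧ D.Nonempty := by
  obtain ⟨hZ, d, hd, c, hc, hdc, hH, c₃, -, hL⟩ := h
  obtain ⟨hcl', hgen⟩ := image_erase_closed (perp_closed hD d) (Subgroup.closure (perp D d)) rfl
  have hE := closed hD
  have hg : Good D d := good_of_solid hE (solid_of_M22 Simple.simple_psu hcl' hgen hH)
  have htr := single_class hE hD.2.2 hZ hd hc hdc hg (reflection_not_dvd (Or.inr rfl) hL)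
  have hcl : ∀ a ∈ D, ∀ b ∈ D, ∃ g : G, g * a * g⁻¹ = b := by
    intro a ha b hb
    obtain ⟨g, rfl⟩ := htr a ha
    obtain ⟨k, rfl⟩ := htr b hb
    exact ⟨k * g⁻¹, by group⟩
  have hsub := subsetEq_of_class hD hcl (no_twins hE hD.2.2 hd hg htr)
  set H := Subgroup.closure (perp D d)
  set E : Set (↥H ⧸ Subgroup.center ↥H) := (QuotientGroup.mk : ↥H → _) '' {x : ↥H | (x : G) ∈ perp D d}
  have hE1 : (1 : ↥H ⧸ Subgroup.center ↥H) ∉ E := by
    rintro ⟨⟨y, hyH⟩, hy, hy1⟩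
    exact im_ne_one' hsub hd hy hy1
  have hEeq : E \ {1} = E := Set.ext fun q => ⟨fun hq => hq.1, fun hq => ⟨hq, fun h1 => hE1 (h1 ▸ hq)⟩⟩
  rw [hEeq] at hcl' hgen
  have hE3 : Cfsg.IsThreeTranspositionGroup E := ⟨hcl'.1, conj_mem_all hcl' hgen, hgen⟩
  have hEprim := primitive_of_M22 hE3 hH
  obtain ⟨F, iF, iF', ⟨S22⟩⟩ := exists_sys hE3 hEprim hH
  let L : Loc D d E := ⟨QuotientGroup.mk' _, QuotientGroup.mk'_surjective _, QuotientGroup.ker_mk' _, rfl⟩
  refine ⟨_, inferInstance, inferInstance, E, F, iF, iF', S22,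
    ⟨⟨hD, hcl, hsub, hZ, RankM22.rankData S22, fun a ha => Nonempty.some ?_⟩⟩,
    core_bot hE hD.2.2 hZ hd hg htr, d, hd⟩
  obtain ⟨g, rfl⟩ := hcl d hd a ha
  exact loc_conj hD L g

variable {Q : Type*} [Group Q] [Finite Q] {E : Set Q} {F : Type} [Field F] [Fintype F]

/-- six distinct commuting transpositions do not multiply to one -/
theorem six_ne_one (S22 : Sys E F) (S : PreStep D E 3510 693 180 126 6531840) {L : List G} (hT : Tuple D L)
    (hlen : L.length = 6) : L.prod ≠ 1 := by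
  obtain ⟨x0, x1, x2, x3, x4, x5, rfl⟩ : ∃ x0 x1 x2 x3 x4 x5, L = [x0, x1, x2, x3, x4, x5] := by
    match L, hlen with
    | [x0, x1, x2, x3, x4, x5], _ => exact ⟨_, _, _, _, _, _, rfl⟩
  obtain ⟨hnd, hLD, hcom⟩ := hT
  set xs := [x0, x1, x2, x3, x4, x5] with hxs
  have cm : ∀ {u v : G}, u ∈ xs → v ∈ xs → Commute u v := fun hu hv => hcom _ hu _ hv
  intro h1
  -- six with product one would give twins at the second level of the model
  have h0 : x0 ∈ D := hLD x0 (by simp [hxs])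
  have hnd' := hnd
  simp only [hxs, List.nodup_cons, List.mem_cons, List.not_mem_nil, or_false, not_or, List.nodup_nil, and_true,
    not_false_eq_true] at hnd'
  obtain ⟨⟨n01, n02, n03, -, -⟩, ⟨n12, n13, -, -⟩, ⟨n23, n24, n25⟩, ⟨n34, n35⟩, n45⟩ := hnd'
  have hp : ∀ {u}, u ∈ xs → x0 ≠ u → u ∈ perp D x0 := fun {u} hu hne =>
    ⟨hLD u hu, Ne.symm hne, cm (by simp [hxs]) hu⟩
  have m1 := hp (u := x1) (by simp [hxs]) n01
  have m2 := hp (u := x2) (by simp [hxs]) n02
  have m3 := hp (u := x3) (by simp [hxs]) n03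
  have hprod : x2 * x3 * (x4 * x5) = (x0 * x1)⁻¹ := by
    refine eq_inv_of_mul_eq_one_right ?_
    rw [← h1]; simp [hxs, mul_assoc]
  set q₁ := S.f h0 x1
  set q₂ := S.f h0 x2
  set q₃ := S.f h0 x3
  have hq₁ : q₁ ∈ E := S.f_mem h0 m1
  have hb : q₂ ∈ perp E q₁ := ⟨S.f_mem h0 m2, fun h => n12 (S.f_inj h0 m2 m1 h).symm,
    (S.commute_iff h0 m1 m2).mpr (cm (by simp [hxs]) (by simp [hxs]))⟩
  have hc : q₃ ∈ perp E q₁ := ⟨S.f_mem h0 m3, fun h => n13 (S.f_inj h0 m3 m1 h).symm,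
    (S.commute_iff h0 m1 m3).mpr (cm (by simp [hxs]) (by simp [hxs]))⟩
  have hne : q₂ ≠ q₃ := fun h => n23 (S.f_inj h0 m2 m3 h)
  have hbc : Commute q₂ q₃ := (S.commute_iff h0 m2 m3).mpr (cm (by simp [hxs]) (by simp [hxs]))
  have hsub : perp₂ E q₁ q₂ ⊆
      insert q₃ {y | y ∈ perp E q₁ ∧ (y ≠ q₂ ∧ y ≠ q₃ ∧ Commute q₂ y ∧ Commute q₃ y)} := by
    rintro q ⟨hq, hq2⟩
    by_cases hq3 : q = q₃
    · exact Or.inl hq3
    refine Or.inr ⟨hq, hq2.2.1, hq3, hq2.2.2, ?_⟩
    obtain ⟨y, hy, rfl⟩ := S.exists_f h0 hq.1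
    have hy1 : Commute y x1 := ((S.commute_iff h0 m1 hy).mp hq.2.2).symm
    have hy2 : Commute y x2 := ((S.commute_iff h0 m2 hy).mp hq2.2.2).symm
    have hy4 : Commute y (x2 * x3 * (x4 * x5)) := by
      rw [hprod]; exact (hy.2.2.symm.mul_right hy1).inv_right
    exact (S.commute_iff h0 m3 hy).mpr ((six_iff S.hD.1 m2.1 m3.1 (hLD x4 (by simp [hxs]))
      (hLD x5 (by simp [hxs])) hy.1 (cm (by simp [hxs]) (by simp [hxs])) (cm (by simp [hxs]) (by simp [hxs]))
      (cm (by simp [hxs]) (by simp [hxs])) (cm (by simp [hxs]) (by simp [hxs])) (cm (by simp [hxs]) (by simp [hxs]))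
      (cm (by simp [hxs]) (by simp [hxs])) n23 n24 n25 n34 n35 n45 hy4).mp hy2).symm
  have h := (Set.ncard_le_ncard hsub (Set.toFinite _)).trans (Set.ncard_insert_le _ _)
  rw [(S22.ctx q₁ hq₁).ncard_edge hb, (S22.ctx q₁ hq₁).ncard_edge₂ hb hc hne hbc] at h
  omega

/-- a central involution of a perp set: six commuting neighbours of product one in the model -/
theorem exists_central (S22 : Sys E F) (S : PreStep D E 3510 693 180 126 6531840) {a : G} (ha : a ∈ D) :
    ∃ z, z ≠ 1 ∧ z * z = 1 ∧ z ∈ ev D a ∧ Commute z a ∧ ∀ y ∈ perp D a, Commute z y := by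
  obtain ⟨e₀, he₀, -⟩ := S22.hprim.2.1
  obtain ⟨l, hl, hlen, -, hl1⟩ := PairCentralizer.exists_six_in_perp S22 he₀
  obtain ⟨L, hLf, ⟨hnd, hLD, hcom⟩, hLp⟩ := S.exists_lift ha hl
  obtain ⟨x0, x1, x2, x3, x4, x5, rfl⟩ : ∃ x0 x1 x2 x3 x4 x5, L = [x0, x1, x2, x3, x4, x5] := by
    have hL6 : L.length = 6 := by rw [← hlen, ← hLf, List.length_map]
    match L, hL6 with
    | [x0, x1, x2, x3, x4, x5], _ => exact ⟨_, _, _, _, _, _, rfl⟩
  set xs := [x0, x1, x2, x3, x4, x5] with hxs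
  have cm : ∀ {u v : G}, u ∈ xs → v ∈ xs → Commute u v := fun hu hv => hcom _ hu _ hv
  have hm : xs.prod ∈ Subgroup.closure (perp D a) := PreStep.list_prod_mem hLp
  have hcent : ∀ y ∈ perp D a, Commute xs.prod y := fun y hy => by
    have := (S.f_eq_iff ha hm (one_mem _)).mp (by rw [S.f_prod ha hLp, hLf, hl1, S.f_one]) y hy
    rw [mul_one, Commute.inv_right_iff] at this
    exact this.symm
  have hza : Commute xs.prod a := (Commute.list_prod_right xs a fun y hy => (hLp y hy).2.2).symm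
  have hinv : ∀ u ∈ xs, u * u = 1 := fun u hu => mul_self S.hD.1 (hLp u hu).1
  have hpm : xs.prod ∈ ev D a := by
    have hc : ∀ u ∈ xs, Conn D a u := fun u hu => Connected.Conn.single' ha (hLp u hu).1 (hLp u hu).2.2
    have e : xs.prod = x0 * x1 * (x2 * x3) * (x4 * x5) := by simp [hxs, mul_assoc]
    rw [e]
    exact mul_mem (mul_mem (mul_mem_ev (hc x0 (by simp [hxs])) (hc x1 (by simp [hxs])))
      (mul_mem_ev (hc x2 (by simp [hxs])) (hc x3 (by simp [hxs]))))
      (mul_mem_ev (hc x4 (by simp [hxs])) (hc x5 (by simp [hxs])))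
  have hsq : ∀ l : List G, (∀ u ∈ l, u ∈ xs) → l.prod * l.prod = 1 := by
    intro l
    induction l with
    | nil => simp
    | cons u l ih =>
      intro h
      have hcu : Commute u l.prod := Commute.list_prod_right _ _ fun y hy => cm (h u (by simp)) (h y (by simp [hy]))
      rw [List.prod_cons, hcu.symm.mul_mul_mul_comm, hinv u (h u (by simp)), one_mul]
      exact ih fun y hy => h y (by simp [hy])
  exact ⟨xs.prod, six_ne_one S22 S ⟨hnd, hLD, hcom⟩ rfl, hsq xs fun _ h => h, hpm, hza, hcent⟩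

/-- type M(23) forces primitivity -/
theorem primitive_of_M23 (hD : Cfsg.IsThreeTranspositionGroup D) (h : Cfsg.IsOfTypeM23 G D) :
    Cfsg.IsPrimitiveUnderConj D := by
  obtain ⟨Q, iQ, iQ', E, F, iF, iF', S22, ⟨S⟩, hcore, hne⟩ := exists_pre hD h
  exact S.primitive_of_central small (by norm_num) hcore hne fun a ha => exists_central S22 S ha

end Cfsg.Agent.Lib.FischerMTypes.TypeM23
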