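import Mathlib

/-!
A clique of 22 points in a graph with the parameters of the M(22) graph: every other point is joined
to none or six of it, and the neighbours of a point joined to none that are joined to none number 231.
-/

set_option autoImplicit false
set_option linter.unusedSectionVars false

namespace Cfsg.Agent.Lib.FischerMTypes.CliqueMoments

open Finset

variable {α : Type*} [DecidableEq α] (R : α → α → Prop) [DecidableRel R]

/-- the number of members of `C` joined to `y` -/
def deg (C : Finset α) (y : α) : ℕ := (C.filter fun c => R c y).card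

theorem card_outside {V C : Finset α} (hCV : C ⊆ V) (hcl : ∀ c ∈ C, ∀ d ∈ C, R c d) {S : Finset α}
    (hS : S ⊆ C) :
    ((V \ C).filter fun y => ∀ c ∈ S, R c y).card + (C.card - S.card) =
      (V.filter fun y => ∀ c ∈ S, y ≠ c ∧ R c y).card := by
  rw [← card_sdiff_of_subset hS, ← card_union_of_disjoint (Finset.disjoint_left.mpr fun y hy hy' =>
    (mem_sdiff.mp (mem_filter.mp hy).1).2 (mem_sdiff.mp hy').1)]
  congr 1
  ext y
  simp only [mem_union, mem_filter, mem_sdiff]
  constructor
  · rintro (⟨⟨hy, hyC⟩, h⟩ | ⟨hyC, hyS⟩)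
    · exact ⟨hy, fun c hc => ⟨fun e => hyC (e ▸ hS hc), h c hc⟩⟩
    · exact ⟨hCV hyC, fun c hc => ⟨fun e => hyS (e ▸ hc), hcl c (hS hc) y hyC⟩⟩
  · rintro ⟨hy, h⟩
    by_cases hyC : y ∈ C
    · exact Or.inr ⟨hyC, fun hs => (h y hs).1 rfl⟩
    · exact Or.inl ⟨⟨hy, hyC⟩, fun c hc => (h c hc).2⟩

/-- the counts around a clique -/
structure Params (V C : Finset α) : Prop where
  sub : C ⊆ V
  card_C : C.card = 22
  card_V : V.card = 3510
  clique : ∀ c ∈ C, ∀ d ∈ C, R c d
  one : ∀ c ∈ C, (V.filter fun y => y ≠ c ∧ R c y).card = 693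
  two : ∀ c ∈ C, ∀ d ∈ C, c ≠ d → (V.filter fun y => (y ≠ c ∧ R c y) ∧ y ≠ d ∧ R d y).card = 180
  three : ∀ c ∈ C, ∀ d ∈ C, ∀ e ∈ C, c ≠ d → c ≠ e → d ≠ e →
    (V.filter fun y => (y ≠ c ∧ R c y) ∧ (y ≠ d ∧ R d y) ∧ y ≠ e ∧ R e y).card = 51

variable {R} {V C : Finset α}

theorem Params.out_one (P : Params R V C) {c : α} (hc : c ∈ C) :
    ((V \ C).filter fun y => R c y).card = 672 := by
  have := card_outside R P.sub P.clique (S := {c}) (by simpa using hc)
  simp only [mem_singleton, forall_eq, card_singleton, P.card_C] at this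
  rw [P.one c hc] at this
  omega

theorem Params.out_two (P : Params R V C) {c d : α} (hc : c ∈ C) (hd : d ∈ C) (h : c ≠ d) :
    ((V \ C).filter fun y => R c y ∧ R d y).card = 160 := by
  have := card_outside R P.sub P.clique (S := {c, d}) (by simp [insert_subset_iff, hc, hd])
  simp only [mem_insert, mem_singleton, forall_eq_or_imp, forall_eq, card_pair h, P.card_C] at this
  rw [P.two c hc d hd h] at this
  omega

theorem Params.out_three (P : Params R V C) {c d e : α} (hc : c ∈ C) (hd : d ∈ C) (he : e ∈ C) (h : c ≠ d)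
    (h' : c ≠ e) (h'' : d ≠ e) : ((V \ C).filter fun y => R c y ∧ R d y ∧ R e y).card = 32 := by
  have := card_outside R P.sub P.clique (S := {c, d, e}) (by simp [insert_subset_iff, hc, hd, he])
  simp only [mem_insert, mem_singleton, forall_eq_or_imp, forall_eq, P.card_C] at this
  rw [P.three c hc d hd e he h h' h'', card_insert_of_notMem (by simp [h, h']), card_pair h''] at this
  omega

theorem sum_split {s : Finset α} {f : α → ℕ} {c : α} {v n : ℕ} (hc : c ∈ s) (hn : s.card = n + 1)
    (h : ∀ d ∈ s, d ≠ c → f d = v) : ∑ d ∈ s, f d = f c + n * v := by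
  rw [← add_sum_erase s f hc, sum_const_nat (fun d hd => h d (mem_of_mem_erase hd) (ne_of_mem_erase hd)),
    card_erase_of_mem hc, hn]
  simp

theorem sum_deg (C U : Finset α) :
    ∑ y ∈ U, deg R C y = ∑ c ∈ C, (U.filter fun y => R c y).card := by
  simp only [deg, card_filter]
  exact sum_comm

theorem sum_deg_sq (C U : Finset α) :
    ∑ y ∈ U, deg R C y ^ 2 = ∑ c ∈ C, ∑ d ∈ C, (U.filter fun y => R c y ∧ R d y).card := by
  simp only [deg, card_filter, sq, sum_mul, mul_sum]
  rw [sum_comm]
  refine sum_congr rfl fun c _ => ?_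
  rw [sum_comm]
  refine sum_congr rfl fun d _ => sum_congr rfl fun y _ => ?_
  split_ifs <;> simp_all

theorem sum_deg_cube (C U : Finset α) :
    ∑ y ∈ U, deg R C y ^ 3 =
      ∑ c ∈ C, ∑ d ∈ C, ∑ e ∈ C, (U.filter fun y => R c y ∧ R d y ∧ R e y).card := by
  simp only [deg, card_filter, pow_three, sum_mul, mul_sum]
  rw [sum_comm]
  refine sum_congr rfl fun c _ => ?_
  rw [sum_comm]
  refine sum_congr rfl fun d _ => ?_
  rw [sum_comm]
  refine sum_congr rfl fun e _ => sum_congr rfl fun y _ => ?_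
  split_ifs <;> simp_all

/-- every outside point sees none or six, and some see none -/
theorem Params.dichotomy (P : Params R V C) :
    (∀ y ∈ V \ C, deg R C y = 0 ∨ deg R C y = 6) ∧ ∃ y ∈ V \ C, deg R C y = 0 := by
  set U := V \ C with hU
  have h22 : C.card = 21 + 1 := P.card_C
  have s1 : ∑ y ∈ U, deg R C y = 14784 := by
    rw [sum_deg, sum_const_nat fun c hc => P.out_one hc, P.card_C]
  have s2 : ∑ y ∈ U, deg R C y ^ 2 = 88704 := by
    rw [sum_deg_sq, sum_const_nat (m := 4032) fun c hc => ?_, P.card_C]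
    rw [sum_split (v := 160) hc h22 fun d hd hne => P.out_two hc hd (Ne.symm hne)]
    simp only [and_self, P.out_one hc]
  have s3 : ∑ y ∈ U, deg R C y ^ 3 = 532224 := by
    rw [sum_deg_cube, sum_const_nat (m := 24192) fun c hc => ?_, P.card_C]
    rw [sum_split (v := 960) hc h22 fun d hd hne => ?_]
    · have e1 : ∀ e ∈ C, (U.filter fun y => R c y ∧ R c y ∧ R e y).card =
          (U.filter fun y => R c y ∧ R e y).card := fun e _ => by simp only [and_self_left]
      rw [sum_congr rfl e1, sum_split (v := 160) hc h22 fun d hd hne => P.out_two hc hd (Ne.symm hne)]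
      simp only [and_self, P.out_one hc]
    · have hcd : c ∈ C.erase d := mem_erase.mpr ⟨Ne.symm hne, hc⟩
      rw [← add_sum_erase C _ hd, sum_split (v := 32) hcd (n := 20) (by rw [card_erase_of_mem hd, P.card_C])
        fun e he hec => P.out_three hc hd (mem_of_mem_erase he) (Ne.symm hne) (Ne.symm hec)
          (Ne.symm (ne_of_mem_erase he))]
      have h2 := P.out_two hc hd (Ne.symm hne)
      have ea : (U.filter fun y => R c y ∧ R d y ∧ R d y) = U.filter fun y => R c y ∧ R d y := by
        simp only [and_self]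
      have eb : (U.filter fun y => R c y ∧ R d y ∧ R c y) = U.filter fun y => R c y ∧ R d y := by
        ext y; simp only [mem_filter]; tauto
      rw [ea, eb, hU, h2]
  have hz : ∑ y ∈ U, (deg R C y : ℤ) * ((deg R C y : ℤ) - 6) ^ 2 = 0 := by
    have : ∀ m : ℤ, m * (m - 6) ^ 2 = m ^ 3 - 12 * m ^ 2 + 36 * m := fun m => by ring
    simp only [this, sum_add_distrib, sum_sub_distrib, ← mul_sum]
    rw [show ∑ y ∈ U, (deg R C y : ℤ) = 14784 by exact_mod_cast s1,
      show ∑ y ∈ U, (deg R C y : ℤ) ^ 2 = 88704 by exact_mod_cast s2,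
      show ∑ y ∈ U, (deg R C y : ℤ) ^ 3 = 532224 by exact_mod_cast s3]
    norm_num
  have hall : ∀ y ∈ U, deg R C y = 0 ∨ deg R C y = 6 := fun y hy => by
    have := (sum_eq_zero_iff_of_nonneg fun z _ => by positivity).mp hz y hy
    rcases mul_eq_zero.mp this with h | h
    · exact Or.inl (by exact_mod_cast h)
    · exact Or.inr (by
        have h6 : (deg R C y : ℤ) = 6 := sub_eq_zero.mp (eq_zero_of_pow_eq_zero h)
        exact_mod_cast h6)
  refine ⟨hall, ?_⟩
  by_contra hno
  push Not at hno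
  rw [sum_const_nat fun y hy => (hall y hy).resolve_left (hno y hy), hU, card_sdiff_of_subset P.sub,
    P.card_C, P.card_V] at s1
  norm_num at s1

/-- the neighbours seeing none of a point seeing none -/
theorem Params.card_zero_nbrs (P : Params R V C) {z : α} (hz0 : deg R C z = 0)
    (hsymm : ∀ u v, R u v → R v u) (hdeg : (V.filter fun y => y ≠ z ∧ R z y).card = 693)
    (hpair : ∀ c ∈ C, (V.filter fun y => R c y ∧ R z y).card = 126) :
    (V.filter fun y => (y ≠ z ∧ R z y) ∧ y ∉ C ∧ deg R C y = 0).card = 231 := by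
  have hzc : ∀ c ∈ C, ¬ R c z := fun c hc h => by
    have : c ∈ C.filter fun c => R c z := mem_filter.mpr ⟨hc, h⟩
    rw [deg, card_eq_zero] at hz0
    simp [hz0] at this
  set W := V.filter fun y => y ≠ z ∧ R z y with hW
  have hWU : ∀ y ∈ W, y ∈ V \ C := fun y hy => by
    obtain ⟨hy, -, hzy⟩ := mem_filter.mp hy
    exact mem_sdiff.mpr ⟨hy, fun hyC => hzc y hyC (hsymm _ _ hzy)⟩
  have s1 : ∑ y ∈ W, deg R C y = 2772 := by
    rw [sum_deg, sum_const_nat (m := 126) fun c hc => ?_, P.card_C]
    rw [← hpair c hc]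
    congr 1
    ext y
    simp only [hW, mem_filter]
    refine ⟨fun h => ⟨h.1.1, h.2, h.1.2.2⟩, fun h => ⟨⟨h.1, fun e => hzc c hc (e ▸ h.2.1), h.2.2⟩, h.2.1⟩⟩
  have hsplit := card_filter_add_card_filter_not (s := W) fun y => deg R C y = 0
  have h6 : ∑ y ∈ W, deg R C y = 6 * (W.filter fun y => ¬ deg R C y = 0).card := by
    rw [← sum_filter_of_ne (p := fun y => ¬ deg R C y = 0) fun y _ h => h,
      sum_const_nat fun y hy => ((P.dichotomy).1 y (hWU y (mem_filter.mp hy).1)).resolve_left
        (mem_filter.mp hy).2, mul_comm]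
  have e : (V.filter fun y => (y ≠ z ∧ R z y) ∧ y ∉ C ∧ deg R C y = 0) = W.filter fun y => deg R C y = 0 := by
    ext y
    simp only [hW, mem_filter]
    refine ⟨fun h => ⟨⟨h.1, h.2.1⟩, h.2.2.2⟩, fun h => ⟨h.1.1, h.1.2, ?_, h.2⟩⟩
    exact (mem_sdiff.mp (hWU y (mem_filter.mpr h.1))).2
  rw [e]
  omega

end Cfsg.Agent.Lib.FischerMTypes.CliqueMoments
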