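import Mathlib
import Cfsg.Agent.Lib.FischerMTypes.StepNear

/-!
One step up: a trace is one class, and a map of its group onto the symmetric group of degree three
splits it into three fibres, each holding at least the neighbourhood of two commuting members.
-/

set_option autoImplicit false
set_option linter.style.haveILetI false
set_option linter.unusedSectionVars false

namespace Cfsg.Agent.Lib.FischerMTypes.Step

open Cfsg.Agent.Lib.FischerMTypes.Basic Cfsg.Agent.Lib.FischerMTypes.Primitive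
  Cfsg.Agent.Lib.FischerMTypes.Levels Cfsg.Agent.Lib.FischerMTypes.Rank

variable {G : Type*} [Group G] [Finite G] {D : Set G}
variable {Q : Type*} [Group Q] [Finite Q] {E : Set Q} {N A k n T : ℕ}

set_option synthInstance.maxSize 2000 in
theorem sym_three_inv_comm : ∀ s t : Equiv.Perm (Fin 3), s * s = 1 → t * t = 1 → s ≠ 1 → t ≠ 1 →
    s * t = t * s → s = t := by decide

theorem sym_three_not_comm : ∃ s t : Equiv.Perm (Fin 3), s * t ≠ t * s :=
  ⟨Equiv.swap 0 1, Equiv.swap 1 2, by decide⟩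

set_option synthInstance.maxSize 2000 in
theorem sym_three_third : ∀ s t : Equiv.Perm (Fin 3), s * s = 1 → t * t = 1 → s ≠ 1 → t ≠ 1 → s ≠ t →
    s * t * s ≠ s ∧ s * t * s ≠ t := by decide

namespace StepData

variable (S : StepData D E N A k n T)

/-- two commuting members of a trace have `m` common neighbours in it -/
def TraceCommon (D : Set G) (d c : G) (m : ℕ) : Prop :=
  ∀ p ∈ perp₂ D d c, ∀ q ∈ perp₂ D d c, p ≠ q → Commute p q →
    {y | y ∈ perp₂ D d c ∧ (y ≠ p ∧ y ≠ q ∧ Commute p y ∧ Commute q y)}.ncard = m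

include S in
/-- a trace is one class -/
theorem trace_trans' {d c p : G} {m : ℕ} (hd : d ∈ D) (hnear : c ∈ near D d) (hk : TraceCommon D d c m)
    (hm0 : 0 < m) (hm : 2 * m < n) (hp : p ∈ perp₂ D d c) :
    ∀ z ∈ perp₂ D d c, ∃ g ∈ Subgroup.closure (perp₂ D d c), g * p * g⁻¹ = z := by
  classical
  set L := perp₂ D d c
  set H := Subgroup.closure L
  set O : Set G := {z | z ∈ L ∧ ∃ g ∈ H, g * p * g⁻¹ = z} with hO
  by_contra hcon
  push Not at hcon
  obtain ⟨r, hr, hr'⟩ := hcon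
  have hrO : r ∈ L \ O := ⟨hr, fun h => by obtain ⟨-, g, hg, he⟩ := h; exact hr' g hg he⟩
  have hpO : p ∈ O := ⟨hp, 1, one_mem _, by simp⟩
  have hcross : ∀ o ∈ O, ∀ s ∈ L \ O, Commute o s := by
    rintro o ⟨ho, g, hg, hgo⟩ s ⟨hs, hs'⟩
    by_contra hc
    obtain ⟨h, hh, hhs⟩ := conj_step S.hD ho hs hc
    exact hs' ⟨hs, h * g, mul_mem hh hg, by rw [← hhs, ← hgo]; group⟩
  set R := L \ O
  have hne : ∀ o ∈ O, ∀ s ∈ R, o ≠ s := fun o ho s hs he => hs.2 (he ▸ ho)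
  set A₁ := {y | y ∈ O ∧ (y ≠ p ∧ Commute p y)}
  set B₁ := {y | y ∈ R ∧ (y ≠ r ∧ Commute r y)}
  have hfin : ∀ s : Set G, s.Finite := fun s => Set.toFinite s
  -- the two neighbourhoods and their intersection
  have e1 : A₁.ncard + R.ncard = n := by
    rw [← Set.ncard_union_eq (Set.disjoint_left.mpr fun y hy hy' => hy'.2 hy.1) (hfin _) (hfin _),
      ← S.ncard_trace_nbr hd hnear.1 hnear.2.1 hp]
    congr 1
    ext y
    constructor
    · rintro (⟨hy, h⟩ | hy)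
      · exact ⟨hy.1, h⟩
      · exact ⟨hy.1, (hne p hpO y hy).symm, hcross p hpO y hy⟩
    · rintro ⟨hy, h⟩
      by_cases hyO : y ∈ O
      · exact Or.inl ⟨hyO, h⟩
      · exact Or.inr ⟨hy, hyO⟩
  have e2 : B₁.ncard + O.ncard = n := by
    rw [← Set.ncard_union_eq (Set.disjoint_left.mpr fun y hy hy' => hy.1.2 hy') (hfin _) (hfin _),
      ← S.ncard_trace_nbr hd hnear.1 hnear.2.1 hrO.1]
    congr 1
    ext y
    constructor
    · rintro (⟨hy, h⟩ | hy)
      · exact ⟨hy.1, h⟩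
      · exact ⟨hy.1, hne y hy r hrO, (hcross y hy r hrO).symm⟩
    · rintro ⟨hy, h⟩
      by_cases hyO : y ∈ O
      · exact Or.inr hyO
      · exact Or.inl ⟨⟨hy, hyO⟩, h⟩
  have e3 : A₁.ncard + B₁.ncard = m := by
    rw [← Set.ncard_union_eq (Set.disjoint_left.mpr fun y hy hy' => hy'.1.2 hy.1) (hfin _) (hfin _),
      ← hk p hp r hr (hne p hpO r hrO) (hcross p hpO r hrO)]
    congr 1
    ext y
    constructor
    · rintro (⟨hy, h1, h2⟩ | ⟨hy, h1, h2⟩)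
      · exact ⟨hy.1, h1, hne y hy r hrO, h2, (hcross y hy r hrO).symm⟩
      · exact ⟨hy.1, (hne p hpO y hy).symm, h1, hcross p hpO y hy, h2⟩
    · rintro ⟨hy, h1, h2, h3, h4⟩
      by_cases hyO : y ∈ O
      · exact Or.inl ⟨hyO, h1, h3⟩
      · exact Or.inr ⟨⟨hy, hyO⟩, h2, h4⟩
  have e4 : 0 < A₁.ncard → R.ncard ≤ m := by
    intro h
    obtain ⟨o, ho, hop, hpo⟩ := Set.nonempty_of_ncard_ne_zero (by omega : A₁.ncard ≠ 0)
    rw [← hk p hp o ho.1 (Ne.symm hop) hpo]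
    exact Set.ncard_le_ncard (fun y hy => ⟨hy.1, (hne p hpO y hy).symm, (hne o ho y hy).symm,
      hcross p hpO y hy, hcross o ho y hy⟩) (hfin _)
  have e5 : 0 < B₁.ncard → O.ncard ≤ m := by
    intro h
    obtain ⟨s, hs, hsr, hrs⟩ := Set.nonempty_of_ncard_ne_zero (by omega : B₁.ncard ≠ 0)
    rw [← hk r hr s hs.1 (Ne.symm hsr) hrs]
    exact Set.ncard_le_ncard (fun y hy => ⟨hy.1, hne y hy r hrO, hne y hy s hs,
      (hcross y hy r hrO).symm, (hcross y hy s hs).symm⟩) (hfin _)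
  rcases Nat.eq_zero_or_pos A₁.ncard with h1 | h1
  · have := e5 (by omega); omega
  rcases Nat.eq_zero_or_pos B₁.ncard with h2 | h2
  · have := e4 h1; omega
  have := e4 h1
  have := e5 h2
  omega

include S in
/-- three fibres over the symmetric group of degree three -/
theorem trace_fibres {d c : G} {m : ℕ} (hd : d ∈ D) (hnear : c ∈ near D d) (hk : TraceCommon D d c m)
    (hm0 : 0 < m) (hm : 2 * m < n) (φ : ↥(Subgroup.closure (perp₂ D d c)) →* Equiv.Perm (Fin 3))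
    (hφ : Function.Surjective φ) : 3 * (2 * n - m) ≤ (perp₂ D d c).ncard := by
  classical
  revert φ hφ
  set L := perp₂ D d c
  set H := Subgroup.closure L
  intro φ hφ
  have hLH : ∀ {y}, y ∈ L → y ∈ H := fun hy => Subgroup.subset_closure hy
  set ψ : G → Equiv.Perm (Fin 3) := fun y => if h : y ∈ H then φ ⟨y, h⟩ else 1
  have hψ : ∀ {y} (h : y ∈ H), ψ y = φ ⟨y, h⟩ := fun h => dif_pos h
  have hψc : ∀ {g y}, g ∈ H → y ∈ H → ψ (g * y * g⁻¹) = ψ g * ψ y * (ψ g)⁻¹ := fun {g y} hg hy => by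
    rw [hψ hg, hψ hy, hψ (mul_mem (mul_mem hg hy) (inv_mem hg)), ← map_inv, ← map_mul, ← map_mul]
    rfl
  have hsq : ∀ y ∈ L, ψ y * ψ y = 1 := fun y hy => by
    rw [hψ (hLH hy), ← map_mul, show (⟨y, hLH hy⟩ : ↥H) * ⟨y, hLH hy⟩ = 1 from
      Subtype.ext (mul_self S.hD.1 hy.1.1), map_one]
  have htr : ∀ p ∈ L, ∀ z ∈ L, ∃ g ∈ H, g * p * g⁻¹ = z := fun p hp =>
    S.trace_trans' hd hnear hk hm0 hm hp
  -- the image is not abelian
  obtain ⟨p, hp, y, hy, hpy⟩ : ∃ p ∈ L, ∃ y ∈ L, ψ p ≠ ψ y := by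
    by_contra hcon
    push Not at hcon
    obtain ⟨s, t, hst⟩ := sym_three_not_comm
    obtain ⟨⟨g, hg⟩, hs⟩ := hφ s
    obtain ⟨⟨h, hh⟩, ht⟩ := hφ t
    have hall : ∀ g (hg : g ∈ H), ∀ h (hh : h ∈ H), φ ⟨g, hg⟩ * φ ⟨h, hh⟩ = φ ⟨h, hh⟩ * φ ⟨g, hg⟩ := by
      intro g hg h hh
      induction hg using Subgroup.closure_induction generalizing h with
      | mem x hx =>
        induction hh using Subgroup.closure_induction with
        | mem z hz => rw [← hψ (hLH hx), ← hψ (hLH hz), hcon x hx z hz]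
        | one => rw [show (⟨1, _⟩ : ↥H) = 1 from rfl, map_one, one_mul, mul_one]
        | mul u v hu hv ihu ihv =>
          rw [show (⟨u * v, _⟩ : ↥H) = ⟨u, hu⟩ * ⟨v, hv⟩ from rfl, map_mul]
          exact (Commute.mul_right ihu ihv).eq
        | inv u hu ihu =>
          rw [show (⟨u⁻¹, _⟩ : ↥H) = (⟨u, hu⟩ : ↥H)⁻¹ from rfl, map_inv]
          exact (Commute.inv_right ihu).eq
      | one => rw [show (⟨1, _⟩ : ↥H) = 1 from rfl, map_one, one_mul, mul_one]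
      | mul u v hu hv ihu ihv =>
        rw [show (⟨u * v, _⟩ : ↥H) = ⟨u, hu⟩ * ⟨v, hv⟩ from rfl, map_mul]
        exact (Commute.mul_left (ihu h hh) (ihv h hh)).eq
      | inv u hu ihu =>
        rw [show (⟨u⁻¹, _⟩ : ↥H) = (⟨u, hu⟩ : ↥H)⁻¹ from rfl, map_inv]
        exact (Commute.inv_left (ihu h hh)).eq
    exact hst (hs ▸ ht ▸ hall g hg h hh)
  have hone : ∀ z ∈ L, ψ z ≠ 1 := by
    intro z hz h1
    obtain ⟨g, hg, hgp⟩ := htr z hz p hp
    obtain ⟨g', hg', hgy⟩ := htr z hz y hy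
    refine hpy ?_
    rw [← hgp, ← hgy, hψc hg (hLH hz), hψc hg' (hLH hz), h1]
    simp
  -- a fibre holds the neighbours of a commuting pair
  have hfib : ∀ z ∈ L, 2 * n - m ≤ {u | u ∈ L ∧ ψ u = ψ z}.ncard := by
    intro z hz
    have heq : ∀ {u v}, u ∈ L → v ∈ L → Commute u v → ψ u = ψ v := fun {u v} hu hv huv => by
      refine sym_three_inv_comm _ _ (hsq u hu) (hsq v hv) (hone u hu) (hone v hv) ?_
      rw [hψ (hLH hu), hψ (hLH hv), ← map_mul, ← map_mul]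
      exact congrArg φ (Subtype.ext huv.eq)
    have hnb := S.ncard_trace_nbr hd hnear.1 hnear.2.1 hz
    obtain ⟨q, hq, hqz, hzq⟩ := Set.nonempty_of_ncard_ne_zero (s := {y | y ∈ L ∧ (y ≠ z ∧ Commute z y)})
      (by rw [hnb]; omega)
    set C₁ := {y | y ∈ L ∧ (y ≠ z ∧ Commute z y)}
    set C₂ := {y | y ∈ L ∧ (y ≠ q ∧ Commute q y)}
    set M := {y | y ∈ L ∧ (y ≠ z ∧ y ≠ q ∧ Commute z y ∧ Commute q y)}
    have hsub : C₁ ∪ C₂ ⊆ {u | u ∈ L ∧ ψ u = ψ z} := by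
      rintro u (⟨hu, -, hzu⟩ | ⟨hu, -, hqu⟩)
      · exact ⟨hu, (heq hz hu hzu).symm⟩
      · exact ⟨hu, ((heq hz hq hzq).trans (heq hq hu hqu)).symm⟩
    have hinter : C₁ ∩ C₂ = M := Set.ext fun u => ⟨fun h => ⟨h.1.1, h.1.2.1, h.2.2.1, h.1.2.2, h.2.2.2⟩,
      fun h => ⟨⟨h.1, h.2.1, h.2.2.2.1⟩, h.1, h.2.2.1, h.2.2.2.2⟩⟩
    have h1 := Set.ncard_union_add_ncard_inter C₁ C₂ (Set.toFinite _) (Set.toFinite _)
    rw [hinter, hk z hz q hq (Ne.symm hqz) hzq, S.ncard_trace_nbr hd hnear.1 hnear.2.1 hq] at h1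
    have h2 := Set.ncard_le_ncard hsub (Set.toFinite _)
    omega
  have hz₃ : p * y * p⁻¹ ∈ L := conj_mem_of_mem_closure (perp₂_closed S.hD d c) (hLH hp) y hy
  obtain ⟨h31, h32⟩ := sym_three_third _ _ (hsq p hp) (hsq y hy) (hone p hp) (hone y hy) hpy
  have e3 : ψ (p * y * p⁻¹) = ψ p * ψ y * ψ p := by
    rw [hψc (hLH hp) (hLH hy), inv_eq_of_mul_eq_one_right (hsq p hp)]
  set F₁ := {u | u ∈ L ∧ ψ u = ψ p}
  set F₂ := {u | u ∈ L ∧ ψ u = ψ y}
  set F₃ := {u | u ∈ L ∧ ψ u = ψ (p * y * p⁻¹)}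
  have d12 : Disjoint F₁ F₂ := Set.disjoint_left.mpr fun u hu hu' => hpy (hu.2.symm.trans hu'.2)
  have d3 : Disjoint (F₁ ∪ F₂) F₃ := Set.disjoint_left.mpr fun u hu hu' => by
    rcases hu with hu | hu
    · exact h31 (e3 ▸ hu'.2.symm.trans hu.2)
    · exact h32 (e3 ▸ hu'.2.symm.trans hu.2)
  have hsub : F₁ ∪ F₂ ∪ F₃ ⊆ L := by
    rintro u ((hu | hu) | hu) <;> exact hu.1
  have h := Set.ncard_le_ncard hsub (Set.toFinite _)
  rw [Set.ncard_union_eq d3 (Set.toFinite _) (Set.toFinite _),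
    Set.ncard_union_eq d12 (Set.toFinite _) (Set.toFinite _)] at h
  have g1 : 2 * n - m ≤ F₁.ncard := hfib p hp
  have g2 : 2 * n - m ≤ F₂.ncard := hfib y hy
  have g3 : 2 * n - m ≤ F₃.ncard := hfib _ hz₃
  omega

end StepData

end Cfsg.Agent.Lib.FischerMTypes.Step
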