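import Mathlib
import Cfsg.Agent.Lib.FischerMTypes.TypeM23
import Cfsg.Agent.Lib.FischerMTypes.TraceFibres
import Cfsg.Agent.Lib.OrthOmega.Simple

/-!
Type M(24): every transposition has a perp group modelled on a group of type M(23), and a
non-commuting pair has 3240 common neighbours.
-/

set_option autoImplicit false
set_option linter.style.haveILetI false
set_option linter.unusedSectionVars false

namespace Cfsg.Agent.Lib.FischerMTypes.M24Data

open Cfsg.Agent.Lib.FischerMTypes.Basic Cfsg.Agent.Lib.FischerMTypes.Primitive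
  Cfsg.Agent.Lib.FischerMTypes.Levels Cfsg.Agent.Lib.FischerMTypes.Types
  Cfsg.Agent.Lib.FischerMTypes.Unique Cfsg.Agent.Lib.FischerMTypes.Rank
  Cfsg.Agent.Lib.FischerMTypes.Step
open Cfsg.Agent.Lib.FischerMTypes.TraceCounts (Sys)
open Cfsg.Agent.Lib.FischerMTypes.M23Data (loc_conj)

universe u

variable {G : Type u} [Group G] [Finite G] {D : Set G}

/-- the model on the quotient at a transposition of the definition, and its copies -/
theorem exists_step (hD : Cfsg.IsThreeTranspositionGroup D) (hprim : Cfsg.IsPrimitiveUnderConj D)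
    (h : Cfsg.IsOfTypeM24 G D) :
    ∃ (Q : Type u) (_ : Group Q) (_ : Finite Q) (E : Set Q) (Q₂ : Type u) (_ : Group Q₂) (_ : Finite Q₂)
      (E₂ : Set Q₂) (F : Type) (_ : Field F) (_ : Fintype F) (_ : Sys E₂ F)
      (_ : StepData E E₂ 3510 693 180 126 6531840),
      Cfsg.IsOfTypeM23 Q E ∧ Nonempty (StepData D E 31671 3510 693 351 4585351680) := by
  obtain ⟨hZ, d, hd, c, -, -, hH, -⟩ := h
  obtain ⟨hcl, hgen⟩ := image_erase_closed (perp_closed hD d) (Subgroup.closure (perp D d)) rfl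
  set H := Subgroup.closure (perp D d)
  set E : Set (↥H ⧸ Subgroup.center ↥H) := (QuotientGroup.mk : ↥H → _) '' {x : ↥H | (x : G) ∈ perp D d}
  have hE1 : (1 : ↥H ⧸ Subgroup.center ↥H) ∉ E := by
    rintro ⟨⟨y, hyH⟩, hy, hy1⟩
    exact im_ne_one hD hprim hZ hd hy hy1
  have hEeq : E \ {1} = E := Set.ext fun q => ⟨fun hq => hq.1, fun hq => ⟨hq, fun h1 => hE1 (h1 ▸ hq)⟩⟩
  rw [hEeq] at hcl hgen
  have hE3 : Cfsg.IsThreeTranspositionGroup E := ⟨hcl.1, conj_mem_all hcl hgen, hgen⟩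
  have hEprim := TypeM23.primitive_of_M23 hE3 hH
  obtain ⟨Q₂, i₁, i₂, E₂, F, iF, iF', S22, ⟨S23⟩⟩ := M23Data.exists_step hE3 hEprim hH
  let L : Loc D d E := ⟨QuotientGroup.mk' _, QuotientGroup.mk'_surjective _, QuotientGroup.ker_mk' _, rfl⟩
  refine ⟨_, inferInstance, inferInstance, E, Q₂, i₁, i₂, E₂, F, iF, iF', S22, S23, hH,
    ⟨StepData.ofPrimitive hD hprim hZ (M23Data.rankData hE3 hEprim hH S22 S23) fun a ha => Nonempty.some ?_⟩⟩
  obtain ⟨g, rfl⟩ := hprim.1 d hd a ha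
  exact loc_conj hD L g

section

variable {Q : Type u} [Group Q] [Finite Q] {E : Set Q} {Q₂ : Type u} [Group Q₂] [Finite Q₂] {E₂ : Set Q₂}
  {F : Type} [Field F] [Fintype F]
variable (S22 : Sys E₂ F) (S23 : StepData E E₂ 3510 693 180 126 6531840)
  (S : StepData D E 31671 3510 693 351 4585351680)

theorem small : Small 31671 3510 693 351 := ⟨by norm_num, by norm_num, by norm_num⟩

include S22 S23 in
/-- seven commuting transpositions of type M(23) with product one -/
theorem exists_seven (hM : Cfsg.IsOfTypeM23 Q E) :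
    ∃ l : List Q, Tuple E l ∧ l.length = 7 ∧ l.prod = 1 := by
  obtain ⟨e, he, -⟩ := S23.hprim.2.1
  obtain ⟨e₂, he₂, -⟩ := S22.hprim.2.1
  obtain ⟨l, hl, hlen, -, hl1⟩ := PairCentralizer.exists_six_in_perp S22 he₂
  obtain ⟨L, hLf, hLT, hLp⟩ := S23.exists_lift he hl
  have hL6 : L.length = 6 := by rw [← hlen, ← hLf, List.length_map]
  refine ⟨e :: L, tuple_cons he hLT hLp, by simp [hL6], ?_⟩
  have hm : L.prod ∈ Subgroup.closure (perp E e) := PreStep.list_prod_mem hLp
  have hcent : ∀ y ∈ perp E e, Commute y L.prod := fun y hy => by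
    have := (S23.f_eq_iff he hm (one_mem _)).mp (by rw [S23.f_prod he hLp, hLf, hl1, S23.f_one]) y hy
    rwa [mul_one, Commute.inv_right_iff] at this
  rw [List.prod_cons, (S23.center_perp M23Data.small he hm hcent).resolve_left
    (TypeM23.six_ne_one S22 S23.toPreStep hLT hL6), mul_self S23.hD.1 he]

include S22 S23 S in
/-- seven distinct commuting transpositions do not multiply to one -/
theorem seven_ne_one {L : List G} (hT : Tuple D L) (hlen : L.length = 7) : L.prod ≠ 1 := by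
  intro h1
  obtain ⟨y, M, rfl⟩ : ∃ y M, L = y :: M := List.exists_cons_of_length_eq_add_one hlen
  obtain ⟨hM, hy, hp⟩ := tuple_tail hT
  have hyM : M.prod = y := by
    rw [List.prod_cons] at h1
    rw [← inv_eq S.hD.1 hy, eq_inv_of_mul_eq_one_right h1]
  have hym : y ∈ Subgroup.closure (perp D y) := by
    have h' := PreStep.list_prod_mem (D := D) (a := y) hp
    rwa [hyM] at h'
  refine TypeM23.six_ne_one S22 S23.toPreStep (S.tuple_map hy hM hp) (by simpa using hlen) ?_
  rw [← S.f_prod hy hp, hyM, ← S.f_one hy]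
  exact (S.f_eq_iff hy hym (one_mem _)).mpr fun u hu => by rw [mul_one]; exact hu.2.2.symm.inv_right

include S22 S23 S in
/-- every transposition is a product of seven of its neighbours -/
theorem exists_heptad (hM : Cfsg.IsOfTypeM23 Q E) {a : G} (ha : a ∈ D) :
    ∃ L : List G, (∀ y ∈ L, y ∈ perp D a) ∧ L.length = 7 ∧ L.prod = a := by
  obtain ⟨l, hl, hlen, hl1⟩ := exists_seven S22 S23 hM
  obtain ⟨L, hLf, hLT, hLp⟩ := S.exists_lift ha hl
  have hL7 : L.length = 7 := by rw [← hlen, ← hLf, List.length_map]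
  refine ⟨L, hLp, hL7, ?_⟩
  have hm : L.prod ∈ Subgroup.closure (perp D a) := PreStep.list_prod_mem hLp
  refine (S.center_perp small ha hm fun y hy => ?_).resolve_left (seven_ne_one S22 S23 S hLT hL7)
  have := (S.f_eq_iff ha hm (one_mem _)).mp (by rw [S.f_prod ha hLp, hLf, hl1, S.f_one]) y hy
  rwa [mul_one, Commute.inv_right_iff] at this

include S22 S23 S in
theorem self_mem (hM : Cfsg.IsOfTypeM23 Q E) {a : G} (ha : a ∈ D) : a ∈ Subgroup.closure (perp D a) := by
  obtain ⟨L, hLp, -, he⟩ := exists_heptad S22 S23 S hM ha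
  exact (congrArg (· ∈ Subgroup.closure (perp D a)) he).mp (PreStep.list_prod_mem hLp)

include S23 S in
/-- two commuting members of a trace have 126 common neighbours there -/
theorem trace_common {a x : G} (ha : a ∈ D) (hx : x ∈ D) (hax : ¬ Commute a x) :
    StepData.TraceCommon D a x 126 := by
  intro p hp q hq hne hpq
  obtain ⟨hap, hxp⟩ := mem_perp_of_common ha hx hp
  have hqp : q ∈ perp D p := ⟨hq.1.1, Ne.symm hne, hpq⟩
  have hnc : ¬ Commute (S.f hp.1.1 a) (S.f hp.1.1 x) := fun h => hax ((S.commute_iff hp.1.1 hap hxp).mp h)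
  have hqf : S.f hp.1.1 q ∈ perp₂ E (S.f hp.1.1 a) (S.f hp.1.1 x) :=
    ⟨⟨S.f_mem _ hqp, fun h => hq.1.2.1 (S.f_inj _ hqp hap h), (S.commute_iff _ hap hqp).mpr hq.1.2.2⟩,
      S.f_mem _ hqp, fun h => hq.2.2.1 (S.f_inj _ hqp hxp h), (S.commute_iff _ hxp hqp).mpr hq.2.2.2⟩
  refine Eq.trans ?_ (S23.ncard_trace_nbr (S.f_mem _ hap) (S.f_mem _ hxp) hnc hqf)
  rw [show {y | y ∈ perp₂ D a x ∧ (y ≠ p ∧ y ≠ q ∧ Commute p y ∧ Commute q y)} =
      {y | y ∈ perp D p ∧ (y ≠ q ∧ Commute a y ∧ Commute x y ∧ Commute q y)} from ?_,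
    S.ncard_local hp.1.1 _ (fun r => r ≠ S.f hp.1.1 q ∧ Commute (S.f hp.1.1 a) r ∧ Commute (S.f hp.1.1 x) r ∧
      Commute (S.f hp.1.1 q) r) fun y hy => by
      rw [S.commute_iff _ hap hy, S.commute_iff _ hxp hy, S.commute_iff _ hqp hy]
      exact and_congr_left fun _ => not_congr ⟨fun h => h ▸ rfl, S.f_inj _ hy hqp⟩]
  · congr 1
    ext r
    exact ⟨fun h => ⟨⟨⟨h.1, fun e => hnc (e ▸ h.2.2.2.1).symm, h.2.2.1⟩,
      h.1, fun e => hnc (e ▸ h.2.2.1), h.2.2.2.1⟩, h.2.1, h.2.2.2.2⟩,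
      fun h => ⟨h.1.1.1, h.2.1, h.1.1.2.2, h.1.2.2.2, h.2.2⟩⟩
  · ext y
    exact ⟨fun h => ⟨⟨h.1.1.1, h.2.1, h.2.2.2.1⟩, h.2.2.1, h.1.1.2.2, h.1.2.2.2, h.2.2.2.2⟩,
      fun h => ⟨⟨⟨h.1.1, fun e => hax (e ▸ h.2.2.2.1).symm, h.2.2.1⟩, h.1.1, fun e => hax (e ▸ h.2.2.1),
        h.2.2.2.1⟩, h.1.2.1, h.2.1, h.1.2.2, h.2.2.2.2⟩⟩

include S in
theorem trace_bounds {a x : G} (ha : a ∈ D) (hx : x ∈ near D a) :
    (perp₂ D a x).ncard ≤ 3240 ∧
      ((perp₂ D a x).ncard = 3240 →
        ∀ f ∈ perp D a, f ∉ perp₂ D a x → {p | p ∈ perp₂ D a x ∧ Commute p f}.ncard = 360) := by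
  obtain ⟨U, hU, hc, h46, h1, h2⟩ := S.moments ha hx
  set n := (perp₂ D a x).ncard
  set M : G → ℕ := fun f => {p | p ∈ perp₂ D a x ∧ Commute p f}.ncard
  have h1' : (∑ f ∈ U, (M f : ℤ)) = 3159 * n := by
    have := congrArg (fun k : ℕ => (k : ℤ)) h1
    push_cast at this
    linarith
  have h2' : (∑ f ∈ U, (M f : ℤ) ^ 2) = 351 * (n : ℤ) ^ 2 := by
    have := congrArg (fun k : ℕ => (k : ℤ)) h2
    push_cast at this
    linarith
  have hcs := sq_sum_le_card_mul_sum_sq (s := U) (f := fun f => (M f : ℤ))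
  have hc' : (U.card : ℤ) = 31671 - n := by omega
  rw [h1', h2', hc'] at hcs
  refine ⟨?_, fun hn f hf hf' => ?_⟩
  · by_contra h
    have hn : (3241 : ℤ) ≤ n := by omega
    nlinarith [mul_le_mul hn hn (by norm_num) (by omega)]
  · have hzero : ∑ g ∈ U, ((M g : ℤ) - 360) ^ 2 = 0 := by
      have hU' : (U.card : ℤ) = 28431 := by omega
      simp only [sub_sq, Finset.sum_add_distrib, Finset.sum_sub_distrib, Finset.sum_const, nsmul_eq_mul,
        ← Finset.sum_mul, ← Finset.mul_sum, hU', h1', h2', hn]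
      norm_num
    have hfU : f ∈ U := by rw [← Finset.mem_coe, hU]; exact ⟨hf, hf'⟩
    have := (Finset.sum_eq_zero_iff_of_nonneg fun g _ => sq_nonneg _).mp hzero f hfU
    have h360 : (M f : ℤ) = 360 := by
      linarith [pow_eq_zero_iff (n := 2) (a := (M f : ℤ) - 360) (by norm_num) |>.mp this]
    exact_mod_cast h360

theorem card_POmega :
    Nat.card (Cfsg.POmega (ZMod 3) (Cfsg.quadFormPlus 4 (ZMod 3))) = 4952179814400 := by
  haveI : Fact (Nat.Prime 3) := ⟨Nat.prime_three⟩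
  have h := OrthOmega.card_pOmega_plus (F := ZMod 3) (q := 3) (ZMod.card 3) 4 (by norm_num)
  simp only [Finset.prod_range_succ, Finset.prod_range_zero] at h
  norm_num at h
  omega

include S22 S23 in
/-- the trace size is 3240 -/
theorem ncard_trace_near (hM : Cfsg.IsOfTypeM23 Q E) (h : Cfsg.IsOfTypeM24 G D)
    (S : StepData D E 31671 3510 693 351 4585351680) {a x : G} (ha : a ∈ D) (hx : x ∈ near D a) :
    (perp₂ D a x).ncard = 3240 := by
  have hself : ∀ a ∈ D, a ∈ Subgroup.closure (perp D a) := fun a ha => self_mem S22 S23 S hM ha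
  obtain ⟨-, d, hd, c, hc, hdc, -, N, hN, ⟨eN⟩, ⟨eS⟩⟩ := h
  let ψ : ↥(Subgroup.closure (perp₂ D d c)) →* Equiv.Perm (Fin 3) :=
    eS.toMonoidHom.comp ((QuotientGroup.mk' N).comp (QuotientGroup.mk' _))
  have hψ : Function.Surjective ψ :=
    eS.surjective.comp ((QuotientGroup.mk'_surjective N).comp (QuotientGroup.mk'_surjective _))
  have hne : (perp₂ D d c).Nonempty := by
    by_contra hempty
    rw [Set.not_nonempty_iff_eq_empty] at hempty
    have hbot : Subgroup.closure (perp₂ D d c) = ⊥ := by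
      rw [show perp₂ D d c = (∅ : Set G) from hempty, Subgroup.closure_empty]
    obtain ⟨s, t, hst⟩ := sym_three_not_comm
    obtain ⟨u, hu⟩ := hψ s
    obtain ⟨v, hv⟩ := hψ t
    have e : ∀ w : ↥(Subgroup.closure (perp₂ D d c)), w = 1 := fun w =>
      Subtype.ext (Subgroup.mem_bot.mp (hbot ▸ w.2 : (w : G) ∈ (⊥ : Subgroup G)))
    rw [← hu, ← hv, e u, e v, map_one] at hst
    exact hst rfl
  have hnear : c ∈ near D d := ⟨hc, hdc, hne⟩
  rw [S.ncard_trace_eq ha hx hd hnear]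
  have hk := trace_common S23 S hd hc hdc
  have h1 : 3 * (2 * 351 - 126) ≤ (perp₂ D d c).ncard :=
    S.trace_fibres hd hnear hk (by norm_num) (by norm_num) ψ hψ
  have h2 := (trace_bounds S hd hnear).1
  have hdvd := S.trace_group_dvd_of_trans hself hd hnear (by omega)
    fun p hp => S.trace_trans' hd hnear hk (by norm_num) (by norm_num) hp
  have hcard : Nat.card (↥(Subgroup.closure (perp₂ D d c)) ⧸ Subgroup.center ↥(Subgroup.closure (perp₂ D d c))) =
      6 * 4952179814400 := by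
    refine ((Subgroup.card_eq_card_quotient_mul_card_subgroup N).trans ?_)
    rw [Nat.card_congr eN.toEquiv, card_POmega, Nat.card_congr eS.toEquiv, Nat.card_eq_fintype_card,
      Fintype.card_perm, Fintype.card_fin]
    rfl
  rw [hcard, show 6 * 4952179814400 = 3240 * (2 * 4585351680) by norm_num] at hdvd
  obtain ⟨m, hm⟩ := Nat.dvd_of_mul_dvd_mul_right (by norm_num : 0 < 2 * 4585351680) hdvd
  rcases m with _ | _ | m
  · simp at hm
  · omega
  · exfalso
    have h3 := Nat.mul_le_mul_left (perp₂ D d c).ncard (show 2 ≤ m + 1 + 1 by omega)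
    omega

include S22 S23 in
/-- everything needed to climb -/
theorem pinned (hM : Cfsg.IsOfTypeM23 Q E) (h : Cfsg.IsOfTypeM24 G D)
    (S : StepData D E 31671 3510 693 351 4585351680) : Pinned D 31671 3510 693 351 3240 where
  small := small
  self a ha := self_mem S22 S23 S hM ha
  trace_card a ha x hx := ncard_trace_near S22 S23 hM h S ha hx
  meet a ha x hx f hf hf' := by
    rw [(trace_bounds S ha hx).2 (ncard_trace_near S22 S23 hM h S ha hx) f hf hf']
    norm_num
  big_edge := by norm_num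
  big_trace := by norm_num

end

end Cfsg.Agent.Lib.FischerMTypes.M24Data
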