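import Mathlib
import Cfsg.Agent.Lib.FischerMTypes.InvolutionsM23
import Cfsg.Agent.Lib.FischerMTypes.M24Data

/-!
Types M(23) and M(24): short relations between commuting transpositions, and octads.
-/

set_option autoImplicit false
set_option linter.style.haveILetI false
set_option linter.unusedSectionVars false

namespace Cfsg.Agent.Lib.FischerMTypes.SmallRelations

open Cfsg.Agent.Lib.FischerMTypes.Basic Cfsg.Agent.Lib.FischerMTypes.Primitive
  Cfsg.Agent.Lib.FischerMTypes.Levels Cfsg.Agent.Lib.FischerMTypes.Step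
open Cfsg.Agent.Lib.FischerMTypes.TraceCounts (Sys)
open Cfsg.Agent.Lib.FischerMTypes.M23Data (small)

universe u

variable {G : Type u} [Group G] [Finite G] {D : Set G}
variable {Q : Type u} [Group Q] [Finite Q] {E : Set Q}
variable {Q₂ : Type u} [Group Q₂] [Finite Q₂] {E₂ : Set Q₂} {F : Type} [Field F] [Fintype F]
variable (S22 : Sys E₂ F) (S23 : StepData E E₂ 3510 693 180 126 6531840)
  (S : StepData D E 31671 3510 693 351 4585351680)

theorem tuple_take {l : List G} (h : Tuple D l) (k : ℕ) : Tuple D (l.take k) :=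
  ⟨h.1.sublist (List.take_sublist _ _), fun y hy => h.2.1 y (List.mem_of_mem_take hy),
    fun y hy z hz => h.2.2 y (List.mem_of_mem_take hy) z (List.mem_of_mem_take hz)⟩

theorem tuple_drop {l : List G} (h : Tuple D l) (k : ℕ) : Tuple D (l.drop k) :=
  ⟨h.1.sublist (List.drop_sublist _ _), fun y hy => h.2.1 y (List.mem_of_mem_drop hy),
    fun y hy z hz => h.2.2 y (List.mem_of_mem_drop hy) z (List.mem_of_mem_drop hz)⟩

theorem tuple_sq (hD : Cfsg.IsThreeTranspositionGroup D) :
    ∀ {l : List G}, Tuple D l → l.prod * l.prod = 1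
  | [], _ => by simp
  | a :: l, h => by
    obtain ⟨hl, ha, hp⟩ := tuple_tail h
    have hc : Commute a l.prod := Commute.list_prod_right _ _ fun y hy => (hp y hy).2.2
    rw [List.prod_cons, hc.symm.mul_mul_mul_comm, mul_self hD.1 ha, one_mul, tuple_sq hD hl]

include S22 S23 in
/-- at most six distinct commuting transpositions of type M(23) do not multiply to one -/
theorem ne_one_M23 (hM : Cfsg.IsOfTypeM23 Q E) {l : List Q} (hl : Tuple E l) (h1 : 1 ≤ l.length)
    (h6 : l.length ≤ 6) : l.prod ≠ 1 := by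
  intro hp
  by_cases h : l.length = 6
  · exact TypeM23.six_ne_one S22 S23.toPreStep hl h hp
  by_cases h' : l.length ≤ 2
  · rcases l with _ | ⟨a, _ | ⟨b, _ | ⟨c, l⟩⟩⟩
    · simp at h1
    · exact Basic.ne_one S23.hD.1 (hl.2.1 a (by simp)) (by simpa using hp)
    · refine (by simpa using hl.1 : a ≠ b) ?_
      rw [← inv_eq S23.hD.1 (hl.2.1 b (by simp))]
      exact eq_inv_of_mul_eq_one_left (by simpa using hp)
    · simp only [List.length_cons] at h'; omega
  obtain ⟨j, hj1, hj2, hj3, hj4⟩ : ∃ j, 1 ≤ j ∧ j ≤ 3 ∧ j < l.length ∧ l.length < 2 * j :=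
    ⟨l.length / 2 + 1, by omega, by omega, by omega, by omega⟩
  have hpr : l.prod = (l.take j).prod * (l.drop j).prod := by rw [← List.prod_append, List.take_append_drop]
  have he : (l.take j).prod = (l.drop j).prod := by
    rw [hpr] at hp
    exact (eq_inv_of_mul_eq_one_left hp).trans (eq_inv_of_mul_eq_one_left (tuple_sq S23.hD (tuple_drop hl j))).symm
  have hun := (InvolutionsM23.three_classes S23.hD S23.hprim hM S22 S23).2.2 j (l.length - j) (l.take j).prod
    hj1 hj2 (by omega) (by omega) ⟨l.take j, (tuple_take hl j).1, by simp; omega, (tuple_take hl j).2.1,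
      (tuple_take hl j).2.2, rfl⟩
    ⟨l.drop j, (tuple_drop hl j).1, by simp, (tuple_drop hl j).2.1, (tuple_drop hl j).2.2, he.symm⟩
  omega

include S22 S23 S in
/-- at most seven distinct commuting transpositions of type M(24) do not multiply to one -/
theorem ne_one_M24 (hM : Cfsg.IsOfTypeM23 Q E) {l : List G} (hl : Tuple D l) (h1 : 1 ≤ l.length)
    (h7 : l.length ≤ 7) : l.prod ≠ 1 := by
  intro hp
  by_cases h : l.length = 7
  · exact M24Data.seven_ne_one S22 S23 S hl h hp
  obtain ⟨a, L, rfl⟩ : ∃ a L, l = a :: L := List.exists_cons_of_length_pos (by omega) |>.imp fun _ h => h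
  obtain ⟨hL, ha, hLp⟩ := tuple_tail hl
  simp only [List.length_cons] at h1 h7 h
  by_cases hne : L = []
  · subst hne; exact Basic.ne_one S.hD.1 ha (by simpa using hp)
  have ha' := M24Data.self_mem S22 S23 S hM ha
  have hLa : L.prod = a := by
    rw [List.prod_cons] at hp
    rw [eq_inv_of_mul_eq_one_right hp, inv_eq S.hD.1 ha]
  refine ne_one_M23 S22 S23 hM (S.tuple_map ha hL hLp)
    (by rw [List.length_map]; exact List.length_pos_iff.mpr hne) (by simp only [List.length_map]; omega) ?_
  rw [← S.f_prod ha hLp, hLa, ← S.f_one ha]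
  exact (S.f_eq_iff ha ha' (one_mem _)).mpr fun u hu => by rw [mul_one]; exact hu.2.2.symm.inv_right

include S22 S23 S in
/-- five commuting transpositions extend to an octad -/
theorem octad (hM : Cfsg.IsOfTypeM23 Q E) {a p q r s : G} (hl : Tuple D [a, p, q, r, s]) :
    ∃ u v w : G, Tuple D [a, p, q, r, s, u, v, w] ∧ p * q * r * s * (u * v * w) = a := by
  obtain ⟨hl', ha, hp⟩ := tuple_tail hl
  obtain ⟨x, y, z, hT, he⟩ := InvolutionsM23.shorten4 S22 S23 S23.hD S23.hprim hM (S.tuple_map ha hl' hp)
  have hsub : List.Sublist [x, y, z] ([S.f ha p, S.f ha q, S.f ha r, S.f ha s] ++ [x, y, z]) :=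
    List.sublist_append_right _ _
  have hxyz : Tuple E [x, y, z] :=
    ⟨hT.1.sublist hsub, fun t ht => hT.2.1 t (hsub.subset ht),
      fun t ht t' ht' => hT.2.2 t (hsub.subset ht) t' (hsub.subset ht')⟩
  obtain ⟨L, hf, -, hp3⟩ := S.exists_lift ha hxyz
  obtain ⟨u, v, w, rfl⟩ : ∃ u v w, L = [u, v, w] :=
    List.length_eq_three.mp (by simpa using congrArg List.length hf)
  simp only [List.map_cons, List.map_nil, List.cons.injEq, and_true] at hf
  obtain ⟨rfl, rfl, rfl⟩ := hf
  set M := [p, q, r, s, u, v, w] with hMdef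
  have hpall : ∀ t ∈ M, t ∈ perp D a := by
    intro t ht
    rcases List.mem_append.mp (show t ∈ [p, q, r, s] ++ [u, v, w] from ht) with ht | ht
    · exact hp t ht
    · exact hp3 t ht
  have hTM : Tuple D M := by
    refine ⟨List.Nodup.of_map (S.f ha) hT.1, fun t ht => (hpall t ht).1, fun t ht t' ht' => ?_⟩
    exact (S.commute_iff ha (hpall t ht) (hpall t' ht')).mp
      (hT.2.2 _ (List.mem_map_of_mem (f := S.f ha) ht) _ (List.mem_map_of_mem (f := S.f ha) ht'))
  have hm : M.prod ∈ Subgroup.closure (perp D a) := PreStep.list_prod_mem hpall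
  have hf1 : S.f ha M.prod = S.f ha 1 := by
    rw [S.f_one, S.f_prod ha hpall]
    have := tuple_sq S23.hD hxyz
    simp only [List.prod_cons, List.prod_nil, mul_one] at this
    simp only [hMdef, List.map_cons, List.map_nil, List.prod_cons, List.prod_nil, mul_one]
    rw [show ∀ A B C E' : Q, A * (B * (C * (E' * (S.f ha u * (S.f ha v * S.f ha w))))) =
      A * (B * (C * E')) * (S.f ha u * (S.f ha v * S.f ha w)) from fun A B C E' => by group, he, this]
  have hc : ∀ t ∈ perp D a, Commute t M.prod := fun t ht => by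
    have := (S.f_eq_iff ha hm (one_mem _)).mp hf1 t ht
    rwa [mul_one, Commute.inv_right_iff] at this
  refine ⟨u, v, w, tuple_cons ha hTM hpall, ?_⟩
  refine Eq.trans ?_ ((S.center_perp M24Data.small ha hm hc).resolve_left
    (ne_one_M24 S22 S23 S hM hTM (by simp [hMdef]) (by simp [hMdef])))
  simp [hMdef, mul_assoc]

end Cfsg.Agent.Lib.FischerMTypes.SmallRelations
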