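import Mathlib
import Cfsg.Agent.Lib.FischerMTypes.SmallRelations
import Cfsg.Agent.Lib.FischerMTypes.PlaneClique
import Cfsg.Agent.Lib.FischerMTypes.CliqueMoments

/-!
Type M(24): every element of order two commutes with a transposition. Otherwise it swaps the two
members of commuting pairs; it then keeps a clique of 22 common neighbours of such a pair, and the
eleven pairs in it would carry a triple system on nine of them with blocks of a wrong size.
-/

set_option autoImplicit false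
set_option linter.style.haveILetI false
set_option linter.unusedSectionVars false

namespace Cfsg.Agent.Lib.FischerMTypes.InvolutionFix24

open Cfsg.Agent.Lib.FischerMTypes.Basic Cfsg.Agent.Lib.FischerMTypes.Primitive
  Cfsg.Agent.Lib.FischerMTypes.Levels Cfsg.Agent.Lib.FischerMTypes.Step
  Cfsg.Agent.Lib.FischerMTypes.SmallRelations
open Cfsg.Agent.Lib.FischerMTypes.TraceCounts (Sys)
open Cfsg.Agent.Lib.FischerMTypes.CliqueMoments (deg Params)

universe u

variable {G : Type u} [Group G] [Finite G] {D : Set G}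
variable {Q : Type u} [Group Q] [Finite Q] {E : Set Q}
variable {Q₂ : Type u} [Group Q₂] [Finite Q₂] {E₂ : Set Q₂} {F : Type} [Field F] [Fintype F]
variable (S22 : Sys E₂ F) (S23 : StepData E E₂ 3510 693 180 126 6531840)
  (S : StepData D E 31671 3510 693 351 4585351680)

/-- the model two levels down, with its counts -/
structure Model (D : Set G) (E₂ : Set Q₂) (a b : G) where
  g : G → Q₂
  mem : ∀ y ∈ perp₂ D a b, g y ∈ E₂
  inj : ∀ y ∈ perp₂ D a b, ∀ z ∈ perp₂ D a b, g y = g z → y = z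
  surj : ∀ q ∈ E₂, ∃ y ∈ perp₂ D a b, g y = q
  comm : ∀ y ∈ perp₂ D a b, ∀ z ∈ perp₂ D a b, (Commute (g y) (g z) ↔ Commute y z)

include S23 S in
theorem exists_model {a b : G} (ha : a ∈ D) (hb : b ∈ perp D a) : Nonempty (Model D E₂ a b) := by
  have hb' := S.f_mem ha hb
  have into : ∀ y ∈ perp₂ D a b, S.f ha y ∈ perp E (S.f ha b) := fun y hy =>
    ⟨S.f_mem ha hy.1, fun h => hy.2.2.1 (S.f_inj ha hy.1 hb h), (S.commute_iff ha hb hy.1).mpr hy.2.2.2⟩
  refine ⟨⟨fun y => S23.f hb' (S.f ha y), fun y hy => S23.f_mem hb' (into y hy), fun y hy z hz h =>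
    S.f_inj ha hy.1 hz.1 (S23.f_inj hb' (into y hy) (into z hz) h), fun q hq => ?_, fun y hy z hz => ?_⟩⟩
  · obtain ⟨r, hr, rfl⟩ := S23.exists_f hb' hq
    obtain ⟨y, hy, rfl⟩ := S.exists_f ha hr.1
    exact ⟨y, ⟨hy, hy.1, fun h => hr.2.1 (h ▸ rfl), (S.commute_iff ha hb hy).mp hr.2.2⟩, rfl⟩
  · rw [S23.commute_iff hb' (into y hy) (into z hz), S.commute_iff ha hy.1 hz.1]

theorem Model.ncard_eq {a b : G} (M : Model D E₂ a b) (P : G → Prop) (P' : Q₂ → Prop)
    (h : ∀ y ∈ perp₂ D a b, P y ↔ P' (M.g y)) :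
    {y | y ∈ perp₂ D a b ∧ P y}.ncard = {q | q ∈ E₂ ∧ P' q}.ncard := by
  refine Set.ncard_congr (fun y _ => M.g y) ?_ ?_ ?_
  · exact fun y hy => ⟨M.mem y hy.1, (h y hy.1).mp hy.2⟩
  · exact fun y z hy hz he => M.inj y hy.1 z hz.1 he
  · rintro q ⟨hq, hq'⟩
    obtain ⟨y, hy, rfl⟩ := M.surj q hq
    exact ⟨y, ⟨hy, (h y hy).mpr hq'⟩, rfl⟩

theorem Model.ne_iff {a b : G} (M : Model D E₂ a b) {y z : G} (hy : y ∈ perp₂ D a b) (hz : z ∈ perp₂ D a b) :
    M.g y ≠ M.g z ↔ y ≠ z :=
  ⟨fun h e => h (e ▸ rfl), fun h e => h (M.inj y hy z hz e)⟩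

theorem Model.perp_iff {a b : G} (M : Model D E₂ a b) {y z : G} (hy : y ∈ perp₂ D a b) (hz : z ∈ perp₂ D a b) :
    M.g y ∈ perp E₂ (M.g z) ↔ y ≠ z ∧ Commute z y :=
  ⟨fun h => ⟨(M.ne_iff hy hz).mp h.2.1, (M.comm z hz y hy).mp h.2.2⟩,
    fun h => ⟨M.mem y hy, (M.ne_iff hy hz).mpr h.1, (M.comm z hz y hy).mpr h.2⟩⟩

/-- a transposition commuting with `x y x` but not with `y` gives a fixed one -/
theorem commute_image (hD : Cfsg.IsThreeTranspositionGroup D) {x : G} (hx : x * x = 1)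
    (hno : ∀ a ∈ D, x * a * x ≠ a) {a : G} (ha : a ∈ D) : Commute a (x * a * x) := by
  have hxi : x⁻¹ = x := inv_eq_of_mul_eq_one_left hx
  have hb : x * a * x ∈ D := by simpa [hxi] using hD.2.1 x a ha
  have hxx : x * (x * a * x) * x = a := by
    calc x * (x * a * x) * x = (x * x) * a * (x * x) := by group
      _ = a := by rw [hx, one_mul, mul_one]
  by_contra hnc
  have hc : a * (x * a * x) * a ∈ D := by simpa [inv_eq hD.1 ha] using hD.2.1 a _ hb
  refine hno _ hc ?_
  calc x * (a * (x * a * x) * a) * x = (x * a * x) * (x * (x * a * x) * x) * (x * a * x) := by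
        rw [hxx]
        calc x * (a * (x * a * x) * a) * x = x * a * x * a * (x * a * x) := by group
          _ = _ := rfl
    _ = (x * a * x) * a * (x * a * x) := by rw [hxx]
    _ = a * (x * a * x) * a := (braid hD.1 ha hb hnc).symm

include S22 S23 S in
/-- an invariant clique of 22 common neighbours of a swapped pair -/
theorem exists_clique {x : G} (hx : x * x = 1) (hno : ∀ a ∈ D, x * a * x ≠ a) {a : G} (ha : a ∈ D) :
    ∃ C : Set G, C ⊆ perp₂ D a (x * a * x) ∧ C.ncard = 22 ∧ (∀ y ∈ C, ∀ z ∈ C, Commute y z) ∧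
      ∀ y ∈ C, x * y * x ∈ C := by
  have hxi : x⁻¹ = x := inv_eq_of_mul_eq_one_left hx
  set b := x * a * x with hb_def
  have hσ : ∀ y : G, x * (x * y * x) * x = y := fun y => by
    calc x * (x * y * x) * x = (x * x) * y * (x * x) := by group
      _ = y := by rw [hx, one_mul, mul_one]
  have hσc : ∀ {y z : G}, Commute y z → Commute (x * y * x) (x * z * x) := fun {y z} h => by
    have := (commute_conj_iff x y z).mpr h
    simpa [hxi] using this
  have hσD : ∀ {y : G}, y ∈ D → x * y * x ∈ D := fun {y} hy => by simpa [hxi] using S.hD.2.1 x y hy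
  have hb : b ∈ perp D a := ⟨hσD ha, hno a ha, commute_image S.hD hx hno ha⟩
  have hσV : ∀ {y : G}, y ∈ perp₂ D a b → x * y * x ∈ perp₂ D a b := fun {y} hy => by
    have h1 : x * y * x ∈ perp D (x * b * x) := by
      have := (conj_mem_perp_iff S.hD x b y).mpr hy.2
      rwa [hxi] at this
    have h2 : x * y * x ∈ perp D b := by
      have := (conj_mem_perp_iff S.hD x a y).mpr hy.1
      rwa [hxi] at this
    rw [hσ a] at h1
    exact ⟨h1, h2⟩
  obtain ⟨M⟩ := exists_model S23 S ha hb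
  obtain ⟨c, hc⟩ : (perp₂ D a b).Nonempty :=
    Set.nonempty_of_ncard_ne_zero (by rw [S.ncard_edge ha hb]; norm_num)
  have hc' := hσV hc
  have hcc := commute_image S.hD hx hno hc.1.1
  have hq := M.mem c hc
  have hp : M.g (x * c * x) ∈ perp E₂ (M.g c) := (M.perp_iff hc' hc).mpr ⟨hno c hc.1.1, hcc⟩
  obtain ⟨q, hq'⟩ : (perp₂ E₂ (M.g c) (M.g (x * c * x))).Nonempty :=
    Set.nonempty_of_ncard_ne_zero (by rw [(S22.ctx _ hq).ncard_edge hp]; norm_num)
  obtain ⟨z, hz, rfl⟩ := M.surj q hq'.1.1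
  have hzc := (M.perp_iff hz hc).mp hq'.1
  have hzc' := (M.perp_iff hz hc').mp hq'.2
  have hz' := hσV hz
  have hz'c : Commute c (x * z * x) := by simpa [hσ] using hσc hzc'.2
  have hz'c' : Commute (x * c * x) (x * z * x) := hσc hzc.2
  have hne1 : x * z * x ≠ c := fun h => hzc'.1 (by rw [← h, hσ])
  have hne2 : x * z * x ≠ x * c * x := fun h => hzc.1 (by rw [← hσ z, h, hσ])
  obtain ⟨w', hw', hzw, hz'w, h21, hcl⟩ := (S22.ctx _ hq).exists_plane hp hq'
    ⟨(M.perp_iff hz' hc).mpr ⟨hne1, hz'c⟩, (M.perp_iff hz' hc').mpr ⟨hne2, hz'c'⟩⟩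
    ((M.comm z hz _ hz').mpr (commute_image S.hD hx hno hz.1.1))
  obtain ⟨w, hw, rfl⟩ := M.surj w' hw'.1.1
  have hwc := (M.perp_iff hw hc).mp hw'.1
  have hwc' := (M.perp_iff hw hc').mp hw'.2
  rw [M.comm z hz w hw] at hzw
  rw [M.comm _ hz' w hw] at hz'w
  set C : Set G := {y | y ∈ perp₂ D a b ∧ (Commute c y ∧ Commute (x * c * x) y ∧ Commute z y ∧ Commute w y)}
  have key : ∀ y ∈ perp₂ D a b, y ≠ c → Commute c y → M.g y ∈ perp E₂ (M.g c) := fun y hy hne h =>
    (M.perp_iff hy hc).mpr ⟨hne, h⟩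
  have hclique : ∀ y ∈ C, ∀ v ∈ C, Commute y v := by
    intro y hy v hv
    by_cases h1 : y = c
    · subst h1; exact hv.2.1
    by_cases h2 : v = c
    · subst h2; exact hy.2.1.symm
    exact (M.comm y hy.1 v hv.1).mp (hcl _ (key y hy.1 h1 hy.2.1) ((M.comm _ hc' y hy.1).mpr hy.2.2.1)
      ((M.comm z hz y hy.1).mpr hy.2.2.2.1) ((M.comm w hw y hy.1).mpr hy.2.2.2.2)
      _ (key v hv.1 h2 hv.2.1) ((M.comm _ hc' v hv.1).mpr hv.2.2.1)
      ((M.comm z hz v hv.1).mpr hv.2.2.2.1) ((M.comm w hw v hv.1).mpr hv.2.2.2.2))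
  refine ⟨C, fun y hy => hy.1, ?_, hclique, ?_⟩
  · have hset : C = insert c {y | y ∈ perp₂ D a b ∧ (y ≠ c ∧ Commute c y ∧ Commute (x * c * x) y ∧
        Commute z y ∧ Commute w y)} := by
      ext y
      constructor
      · intro hy
        by_cases h : y = c
        · exact Or.inl h
        · exact Or.inr ⟨hy.1, h, hy.2⟩
      · rintro (rfl | hy)
        · exact ⟨hc, Commute.refl _, hcc.symm, hzc.2.symm, hwc.2.symm⟩
        · exact ⟨hy.1, hy.2.2⟩
    rw [hset, Set.ncard_insert_of_notMem (fun h => h.2.1 rfl) (Set.toFinite _),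
      M.ncard_eq _ (fun q => q ∈ perp E₂ (M.g c) ∧ Commute (M.g (x * c * x)) q ∧ Commute (M.g z) q ∧
        Commute (M.g w) q) fun y hy => by
        rw [M.perp_iff hy hc, M.comm _ hc' y hy, M.comm z hz y hy, M.comm w hw y hy, and_assoc]]
    rw [show {q | q ∈ E₂ ∧ (q ∈ perp E₂ (M.g c) ∧ Commute (M.g (x * c * x)) q ∧ Commute (M.g z) q ∧
        Commute (M.g w) q)} = {q | q ∈ perp E₂ (M.g c) ∧ Commute (M.g (x * c * x)) q ∧ Commute (M.g z) q ∧
        Commute (M.g w) q} from Set.ext fun q => ⟨fun h => h.2, fun h => ⟨h.1.1, h⟩⟩, h21]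
  · have m1 : x * z * x ∈ C := ⟨hz', hz'c, hz'c', commute_image S.hD hx hno hz.1.1, hz'w.symm⟩
    have m2 : x * w * x ∈ C := by
      refine ⟨hσV hw, ?_, hσc hwc.2, ?_, commute_image S.hD hx hno hw.1.1⟩
      · simpa [hσ] using hσc hwc'.2
      · simpa [hσ] using hσc hz'w
    intro y hy
    refine ⟨hσV hy.1, ?_, hσc hy.2.1, ?_, ?_⟩
    · simpa [hσ] using hσc hy.2.2.1
    · simpa [hσ] using hσc (hclique _ m1 _ hy)
    · simpa [hσ] using hσc (hclique _ m2 _ hy)

include S22 S23 S in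
/-- the counts of the clique -/
theorem params [DecidableEq G] [DecidableRel fun u v : G => Commute u v] {a b : G} (ha : a ∈ D)
    (hb : b ∈ perp D a) {V C : Finset G} (hV : (V : Set G) = perp₂ D a b) (hCV : C ⊆ V) (hC : C.card = 22)
    (hcl : ∀ c ∈ C, ∀ d ∈ C, Commute c d) :
    Params (fun u v : G => Commute u v) V C ∧
      (∀ z ∈ V, (V.filter fun y => y ≠ z ∧ Commute z y).card = 693) ∧
      ∀ c ∈ V, ∀ z ∈ V, ¬ Commute c z → (V.filter fun y => Commute c y ∧ Commute z y).card = 126 := by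
  obtain ⟨M⟩ := exists_model S23 S ha hb
  have mem : ∀ {y}, y ∈ V → y ∈ perp₂ D a b := fun hy => hV ▸ hy
  have tr : ∀ (P : G → Prop) [DecidablePred P] (P' : Q₂ → Prop),
      (∀ y ∈ perp₂ D a b, P y ↔ P' (M.g y)) → (V.filter P).card = {q | q ∈ E₂ ∧ P' q}.ncard := by
    intro P _ P' h
    rw [← M.ncard_eq P P' h, ← Set.ncard_coe_finset, Finset.coe_filter]
    congr 1
    ext y
    simp only [Set.mem_ofPred_eq, ← Finset.mem_coe, hV]
  have h1 : ∀ z ∈ V, (V.filter fun y => y ≠ z ∧ Commute z y).card = 693 := fun z hz => by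
    rw [tr _ (fun q => q ∈ perp E₂ (M.g z)) fun y hy => (M.perp_iff hy (mem hz)).symm,
      ← (S22.ctx _ (M.mem z (mem hz))).ncard_perp]
    exact congrArg _ (Set.ext fun q => ⟨fun h => h.2, fun h => ⟨h.1, h⟩⟩)
  refine ⟨⟨hCV, hC, ?_, hcl, fun c hc => h1 c (hCV hc), fun c hc d hd hne => ?_,
    fun c hc d hd e he n1 n2 n3 => ?_⟩, h1, fun c hc z hz hnc => ?_⟩
  · rw [← Set.ncard_coe_finset, hV]
    exact S.ncard_edge ha hb
  · have hc' := mem (hCV hc)
    have hd' := mem (hCV hd)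
    rw [tr _ (fun q => q ∈ perp₂ E₂ (M.g c) (M.g d)) fun y hy => by
      rw [Set.mem_inter_iff, M.perp_iff hy hc', M.perp_iff hy hd']]
    rw [← (S22.ctx _ (M.mem c hc')).ncard_edge (b := M.g d)
      ((M.perp_iff hd' hc').mpr ⟨Ne.symm hne, hcl c hc d hd⟩)]
    exact congrArg _ (Set.ext fun q => ⟨fun h => h.2, fun h => ⟨h.1.1, h⟩⟩)
  · have hc' := mem (hCV hc)
    have hd' := mem (hCV hd)
    have he' := mem (hCV he)
    rw [tr _ (fun q => q ∈ perp E₂ (M.g c) ∧ (q ≠ M.g d ∧ q ≠ M.g e ∧ Commute (M.g d) q ∧ Commute (M.g e) q))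
      fun y hy => by
        rw [M.perp_iff hy hc', M.ne_iff hy hd', M.ne_iff hy he', M.comm d hd' y hy, M.comm e he' y hy]
        tauto]
    rw [← (S22.ctx _ (M.mem c hc')).ncard_edge₂ ((M.perp_iff hd' hc').mpr ⟨Ne.symm n1, hcl c hc d hd⟩)
      ((M.perp_iff he' hc').mpr ⟨Ne.symm n2, hcl c hc e he⟩) ((M.ne_iff hd' he').mpr n3)
      ((M.comm d hd' e he').mpr (hcl d hd e he))]
    exact congrArg _ (Set.ext fun q => ⟨fun h => h.2, fun h => ⟨h.1.1, h⟩⟩)
  · have hc' := mem hc
    have hz' := mem hz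
    have hnc' : ¬ Commute (M.g c) (M.g z) := fun h => hnc ((M.comm c hc' z hz').mp h)
    rw [tr _ (fun q => Commute (M.g c) q ∧ Commute (M.g z) q) fun y hy => by
      rw [M.comm c hc' y hy, M.comm z hz' y hy]]
    rw [← S23.rank.trace _ (M.mem c hc') _ (M.mem z hz') hnc']
    congr 1
    ext q
    exact ⟨fun h => ⟨⟨h.1, fun e => hnc' (e ▸ h.2.2).symm, h.2.1⟩,
      h.1, fun e => hnc' (e ▸ h.2.1), h.2.2⟩, fun h => ⟨h.1.1, h.1.2.2, h.2.2.2⟩⟩

/-- conjugating by two commuting non-neighbours gives a neighbour -/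
theorem commute_translate (hD : Cfsg.IsThreeTranspositionGroup D) {p q z : G} (hp : p ∈ D) (hq : q ∈ D)
    (hz : z ∈ D) (hpq : Commute p q) (hzp : ¬ Commute z p) (hzq : ¬ Commute z q) :
    Commute z (p * q * z * (q * p)) := by
  have h1 : Commute (z * p * z) (z * q * z) := (conj_comm_iff hD.1 hz).mpr hpq
  rw [braid hD.1 hz hp hzp, braid hD.1 hz hq hzq] at h1
  have h2 := (conj_comm_iff hD.1 hp).mpr h1
  rw [conj_self_inv hD.1 hp z] at h2
  rwa [show p * (q * z * q) * p = p * q * z * (q * p) by group] at h2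

include S22 S23 S in
/-- every element of order two commutes with a transposition -/
theorem exists_commute (hM : Cfsg.IsOfTypeM23 Q E) {x : G} (hx : x * x = 1) :
    ∃ a ∈ D, Commute x a := by
  classical
  by_contra hcon
  push Not at hcon
  have hxi : x⁻¹ = x := inv_eq_of_mul_eq_one_left hx
  have hno : ∀ a ∈ D, x * a * x ≠ a := fun a ha h => hcon a ha (by
    show x * a = a * x
    calc x * a = x * a * x * x := by rw [mul_assoc _ x x, hx, mul_one]
      _ = a * x := by rw [h])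
  have hσ : ∀ y : G, x * (x * y * x) * x = y := fun y => by
    calc x * (x * y * x) * x = (x * x) * y * (x * x) := by group
      _ = y := by rw [hx, one_mul, mul_one]
  have hσm : ∀ u v : G, x * (u * v) * x = x * u * x * (x * v * x) := fun u v => by
    calc x * (u * v) * x = x * u * (x * x) * v * x := by rw [hx]; group
      _ = _ := by group
  have hσconj : ∀ g y : G, x * (g * y * g⁻¹) * x = x * g * x * (x * y * x) * (x * g * x)⁻¹ := fun g y => by
    rw [mul_inv_rev (a := x * g), mul_inv_rev, hxi]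
    calc x * (g * y * g⁻¹) * x = x * g * (x * x) * y * (x * x) * g⁻¹ * x := by rw [hx]; group
      _ = _ := by group
  obtain ⟨a, ha, -⟩ := S.hprim.2.1
  set b := x * a * x with hbdef
  have hbD : b ∈ D := by simpa [hxi] using S.hD.2.1 x a ha
  have hb : b ∈ perp D a := ⟨hbD, hno a ha, commute_image S.hD hx hno ha⟩
  obtain ⟨C₀, hC₀V, hC₀, hcl₀, hσ₀⟩ := exists_clique S22 S23 S hx hno ha
  set V : Finset G := (Set.toFinite (perp₂ D a b)).toFinset with hVdef
  set C : Finset G := (Set.toFinite C₀).toFinset with hCdef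
  have memV : ∀ {y}, y ∈ V ↔ y ∈ perp₂ D a b := fun {y} => Set.Finite.mem_toFinset _
  have memC : ∀ {y}, y ∈ C ↔ y ∈ C₀ := fun {y} => Set.Finite.mem_toFinset _
  have hV : (V : Set G) = perp₂ D a b := Set.Finite.coe_toFinset _
  have hCV : C ⊆ V := fun y hy => memV.mpr (hC₀V (memC.mp hy))
  have hC : C.card = 22 := by rw [hCdef, ← Set.ncard_eq_toFinset_card _ _, hC₀]
  have hcl : ∀ c ∈ C, ∀ d ∈ C, Commute c d := fun c hc d hd => hcl₀ c (memC.mp hc) d (memC.mp hd)
  have hσC : ∀ c ∈ C, x * c * x ∈ C := fun c hc => memC.mpr (hσ₀ c (memC.mp hc))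
  have hCD : ∀ c ∈ C, c ∈ D := fun c hc => (memV.mp (hCV hc)).1.1
  obtain ⟨P, hdeg, htrace⟩ := params S22 S23 S ha hb hV hCV hC hcl
  obtain ⟨hdich, z, hzU, hz0⟩ := P.dichotomy
  have hzV := (Finset.mem_sdiff.mp hzU).1
  have hzC := (Finset.mem_sdiff.mp hzU).2
  have deg0 : ∀ {y}, deg (fun u v : G => Commute u v) C y = 0 ↔ ∀ c ∈ C, ¬ Commute c y := by
    intro y
    rw [deg, Finset.card_eq_zero, Finset.filter_eq_empty_iff]
  -- no two and no four members of the clique have a product fixing a point seeing none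
  have w2 : ∀ {y}, y ∈ V → deg (fun u v : G => Commute u v) C y = 0 → ∀ p ∈ C, ∀ q ∈ C, p ≠ q →
      ¬ Commute y (p * q) := fun {y} hy h0 p hp q hq hne h =>
    deg0.mp h0 p hp (comm_of_comm_mul S.hD.1 (hCD p hp) (hCD q hq) (memV.mp hy).1.1 (hcl p hp q hq) hne h).1.symm
  have w4 : ∀ {y}, y ∈ V → deg (fun u v : G => Commute u v) C y = 0 → ∀ p ∈ C, ∀ q ∈ C, ∀ r ∈ C, ∀ s ∈ C,
      [p, q, r, s].Nodup → ¬ Commute y (p * q * r * s) := by
    intro y hy h0 p hp q hq r hr s hs hnd hyj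
    have hy' := memV.mp hy
    have hmem : ∀ t ∈ [p, q, r, s], t ∈ C := by simp [hp, hq, hr, hs]
    have h5 : Tuple D [a, p, q, r, s] := tuple_cons ha
      ⟨hnd, fun t ht => hCD t (hmem t ht), fun t ht t' ht' => hcl t (hmem t ht) t' (hmem t' ht')⟩
      fun t ht => (memV.mp (hCV (hmem t ht))).1
    obtain ⟨u, v, w, hT, he⟩ := octad S22 S23 S hM h5
    have hmT : ∀ t ∈ [u, v, w], t ∈ [a, p, q, r, s, u, v, w] := fun t ht =>
      List.mem_append.mpr (Or.inr ht : t ∈ [a, p, q, r, s] ∨ t ∈ [u, v, w])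
    have hnd3 : [u, v, w].Nodup := hT.1.sublist (List.sublist_append_right [a, p, q, r, s] [u, v, w])
    have hD3 : ∀ t ∈ [u, v, w], t ∈ D := fun t ht => hT.2.1 t (hmT t ht)
    have hc3 : ∀ t ∈ [u, v, w], ∀ t' ∈ [u, v, w], Commute t t' := fun t ht t' ht' =>
      hT.2.2 t (hmT t ht) t' (hmT t' ht')
    simp only [List.nodup_cons, List.mem_cons, List.not_mem_nil, or_false, not_or, List.nodup_nil, and_true,
      not_false_eq_true] at hnd3
    have hsee : ∀ t ∈ D, Commute t a → Commute t (p * q * r * s) → ∀ e ∈ [u, v, w], Commute t e := by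
      intro t ht hta htj
      have h3 : Commute t (u * v * w) := by
        rw [show u * v * w = (p * q * r * s)⁻¹ * a by rw [← he]; group]
        exact htj.inv_right.mul_right hta
      obtain ⟨c1, c2, c3⟩ := SixSets.cross S.hD (hD3 u (by simp)) (hD3 v (by simp)) (hD3 w (by simp)) ht
        (hc3 u (by simp) v (by simp)) (hc3 u (by simp) w (by simp)) (hc3 v (by simp) w (by simp))
        hnd3.1.1 hnd3.1.2 hnd3.2 h3
      simp [c1, c2, c3]
    have hCt : ∀ c ∈ C, ∀ e ∈ [u, v, w], Commute c e := fun c hc => hsee c (hCD c hc) (memV.mp (hCV hc)).1.2.2.symm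
      (((hcl c hc p hp).mul_right (hcl c hc q hq)).mul_right (hcl c hc r hr) |>.mul_right (hcl c hc s hs))
    have hbt : ∀ e ∈ [u, v, w], Commute b e := by
      have hpb : ∀ t ∈ C, Commute b t := fun t ht => (memV.mp (hCV ht)).2.2.2
      exact hsee b hbD hb.2.2.symm
        (((hpb p hp).mul_right (hpb q hq)).mul_right (hpb r hr) |>.mul_right (hpb s hs))
    have hin : ∀ e ∈ [u, v, w], e = b ∨ e ∈ C := by
      intro e he3
      by_contra hne
      push Not at hne
      obtain ⟨heb, heC⟩ := hne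
      have hea : e ≠ a := by
        rintro rfl
        exact (List.nodup_cons.mp hT.1).1 (List.mem_append.mpr
          (Or.inr he3 : e ∈ [p, q, r, s] ∨ e ∈ [u, v, w]))
      have heV : e ∈ V := memV.mpr ⟨⟨hD3 e he3, hea, hT.2.2 a (by simp) e (hmT e he3)⟩, hD3 e he3, heb, hbt e he3⟩
      have h22 : deg (fun u v : G => Commute u v) C e = 22 := by
        rw [deg, Finset.filter_true_of_mem fun c hc => hCt c hc e he3, hC]
      rcases hdich e (Finset.mem_sdiff.mpr ⟨heV, heC⟩) with h | h <;> omega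
    have hyt := hsee y hy'.1.1 hy'.1.2.2.symm hyj
    obtain ⟨e, he3, heC⟩ : ∃ e ∈ [u, v, w], e ∈ C := by
      rcases hin u (by simp) with h | h
      · exact ⟨v, by simp, (hin v (by simp)).resolve_left fun h' => hnd3.1.1 (h.trans h'.symm)⟩
      · exact ⟨u, by simp, h⟩
    exact deg0.mp h0 e heC (hyt e he3).symm
  -- the image of a point seeing none is its translate by a swapped pair
  have hfixC : ∀ {g : G}, g ∈ Subgroup.closure (C : Set G) → ∀ c ∈ C, Commute g c := fun {g} hg c hc =>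
    (commute_closure (u := c) (fun s hs => hcl c hc s hs) g hg).symm
  have hfixab : ∀ {g : G}, g ∈ Subgroup.closure (C : Set G) → Commute g a ∧ Commute g b := fun {g} hg =>
    ⟨(commute_closure (u := a) (fun s hs => (memV.mp (hCV hs)).1.2.2) g hg).symm,
      (commute_closure (u := b) (fun s hs => (memV.mp (hCV hs)).2.2.2) g hg).symm⟩
  have hconjV : ∀ {g : G}, g ∈ Subgroup.closure (C : Set G) → ∀ {y : G}, y ∈ V → g * y * g⁻¹ ∈ V := by
    intro g hg y hy
    obtain ⟨ga, gb⟩ := hfixab hg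
    have h1 := (conj_mem_perp_iff S.hD g a y).mpr (memV.mp hy).1
    have h2 := (conj_mem_perp_iff S.hD g b y).mpr (memV.mp hy).2
    rw [ga.eq, mul_inv_cancel_right] at h1
    rw [gb.eq, mul_inv_cancel_right] at h2
    exact memV.mpr ⟨h1, h2⟩
  have hconj0 : ∀ {g : G}, g ∈ Subgroup.closure (C : Set G) → ∀ {y : G},
      deg (fun u v : G => Commute u v) C y = 0 → g * y * g⁻¹ ∉ C ∧ deg (fun u v : G => Commute u v) C (g * y * g⁻¹) = 0 := by
    intro g hg y h0
    refine ⟨fun h => ?_, deg0.mpr fun c hc h => deg0.mp h0 c hc ?_⟩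
    · have h' : y = g * y * g⁻¹ := by
        have := (hfixC hg _ h).eq
        calc y = g⁻¹ * (g * y * g⁻¹ * g) := by group
          _ = g⁻¹ * (g * (g * y * g⁻¹)) := by rw [this]
          _ = g * y * g⁻¹ := by group
      exact deg0.mp h0 _ h (by rw [← h'])
    · have hgc : c = g * c * g⁻¹ := by rw [(hfixC hg c hc).eq, mul_inv_cancel_right]
      rw [hgc] at h
      exact (commute_conj_iff g c y).mp h
  have trans' : ∀ {y}, y ∈ V → y ∉ C → deg (fun u v : G => Commute u v) C y = 0 →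
      ∃ c ∈ C, x * y * x = c * (x * c * x) * y * (c * (x * c * x))⁻¹ := by
    intro y hy hyC h0
    set W := V.filter fun t => (t ≠ y ∧ Commute y t) ∧ t ∉ C ∧ deg (fun u v : G => Commute u v) C t = 0
    have hW : W.card = 231 := P.card_zero_nbrs h0 (fun u v h => h.symm) (hdeg y hy)
      fun c hc => htrace c (hCV hc) y hy (deg0.mp h0 c hc)
    set T : G × G → G := fun pq => pq.1 * pq.2 * y * (pq.1 * pq.2)⁻¹
    have hTW : C.offDiag.image T ⊆ W := by
      intro t ht
      obtain ⟨⟨p, q⟩, hpq, rfl⟩ := Finset.mem_image.mp ht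
      obtain ⟨hp, hq, hne⟩ := Finset.mem_offDiag.mp hpq
      have hg : p * q ∈ Subgroup.closure (C : Set G) :=
        mul_mem (Subgroup.subset_closure hp) (Subgroup.subset_closure hq)
      refine Finset.mem_filter.mpr ⟨hconjV hg hy, ⟨fun h => w2 hy h0 p hp q hq hne ?_, ?_⟩, hconj0 hg h0⟩
      · exact (mul_inv_eq_iff_eq_mul.mp h).symm
      · show Commute y (p * q * y * (p * q)⁻¹)
        rw [mul_inv_rev, inv_eq S.hD.1 (hCD p hp), inv_eq S.hD.1 (hCD q hq)]
        exact commute_translate S.hD (hCD p hp) (hCD q hq) (memV.mp hy).1.1 (hcl p hp q hq)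
          (fun h => deg0.mp h0 p hp h.symm) fun h => deg0.mp h0 q hq h.symm
    have hinj : ∀ t ∈ C.offDiag.image T, (C.offDiag.filter fun pq => T pq = t).card ≤ 2 := by
      intro t ht
      obtain ⟨⟨p, q⟩, hpq, rfl⟩ := Finset.mem_image.mp ht
      obtain ⟨hp, hq, hne⟩ := Finset.mem_offDiag.mp hpq
      refine le_trans (Finset.card_le_card (t := {(p, q), (q, p)}) ?_) Finset.card_le_two
      rintro ⟨r, s⟩ hrs
      obtain ⟨hrs, he⟩ := Finset.mem_filter.mp hrs
      obtain ⟨hr, hs, hne'⟩ := Finset.mem_offDiag.mp hrs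
      have hj : Commute y ((p * q)⁻¹ * (r * s)) := by
        refine Eq.symm ?_
        calc (p * q)⁻¹ * (r * s) * y = (p * q)⁻¹ * (r * s * y * (r * s)⁻¹) * (r * s) := by group
          _ = (p * q)⁻¹ * (p * q * y * (p * q)⁻¹) * (r * s) := by rw [show r * s * y * (r * s)⁻¹ = p * q * y * (p * q)⁻¹ from he]
          _ = y * ((p * q)⁻¹ * (r * s)) := by group
      rw [mul_inv_rev, inv_eq S.hD.1 (hCD p hp), inv_eq S.hD.1 (hCD q hq), ← (hcl p hp q hq).eq] at hj
      simp only [Finset.mem_insert, Finset.mem_singleton, Prod.mk.injEq]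
      by_cases h1 : r = p
      · refine Or.inl ⟨h1, ?_⟩
        by_contra h2
        refine w2 hy h0 q hq s hs (Ne.symm h2) ?_
        rwa [h1, (hcl p hp q hq).eq, show q * p * (p * s) = q * (p * p) * s by group,
          mul_self S.hD.1 (hCD p hp), mul_one] at hj
      by_cases h3 : s = q
      · exfalso
        refine w2 hy h0 p hp r hr (Ne.symm h1) ?_
        rwa [h3, (hcl r hr q hq).eq, show p * q * (q * r) = p * (q * q) * r by group,
          mul_self S.hD.1 (hCD q hq), mul_one] at hj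
      by_cases h4 : r = q
      · refine Or.inr ⟨h4, ?_⟩
        by_contra h5
        refine w2 hy h0 p hp s hs (Ne.symm h5) ?_
        rwa [h4, show p * q * (q * s) = p * (q * q) * s by group, mul_self S.hD.1 (hCD q hq), mul_one] at hj
      by_cases h5 : s = p
      · exfalso
        refine w2 hy h0 q hq r hr (Ne.symm h4) ?_
        rwa [h5, (hcl p hp q hq).eq, (hcl r hr p hp).eq, show q * p * (p * r) = q * (p * p) * r by group,
          mul_self S.hD.1 (hCD p hp), mul_one] at hj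
      refine absurd ?_ (w4 hy h0 p hp q hq r hr s hs ?_)
      · rwa [mul_assoc (p * q)]
      · simp [hne, hne', Ne.symm h1, Ne.symm h3, Ne.symm h4, Ne.symm h5]
    have himg : W = C.offDiag.image T := by
      refine (Finset.eq_of_subset_of_card_le hTW ?_).symm
      have := Finset.card_le_mul_card_image (s := C.offDiag) (f := T) 2 hinj
      rw [Finset.offDiag_card, hC] at this
      omega
    have hxW : x * y * x ∈ W := by
      have hy' := memV.mp hy
      refine Finset.mem_filter.mpr ⟨memV.mpr ⟨?_, ?_⟩, ⟨hno y hy'.1.1, commute_image S.hD hx hno hy'.1.1⟩,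
        fun h => ?_, deg0.mpr fun c hc h => ?_⟩
      · have := (conj_mem_perp_iff S.hD x b y).mpr hy'.2
        rw [hxi] at this
        rwa [hbdef, hσ a] at this
      · have := (conj_mem_perp_iff S.hD x a y).mpr hy'.1
        rwa [hxi] at this
      · exact hyC (by simpa [hσ] using hσC _ h)
      · refine deg0.mp h0 (x * c * x) (hσC c hc) ?_
        have := (commute_conj_iff x _ _).mpr h
        simpa [hxi, hσ] using this
    rw [himg] at hxW
    obtain ⟨⟨p, q⟩, hpq, hT⟩ := Finset.mem_image.mp hxW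
    obtain ⟨hp, hq, hne⟩ := Finset.mem_offDiag.mp hpq
    refine ⟨p, hp, ?_⟩
    suffices hqp : x * p * x = q by rw [hqp]; exact hT.symm
    by_contra hqp
    have hqp' : x * q * x ≠ p := fun h => hqp (by rw [← h, hσ])
    have hT' : p * q * y * (p * q)⁻¹ = x * y * x := hT
    have h' : y = x * (p * q) * x * (p * q * y * (p * q)⁻¹) * (x * (p * q) * x)⁻¹ := by
      conv_lhs => rw [← hσ y, ← hT', hσconj]
      rw [hT']
    have hj : Commute y (x * (p * q) * x * (p * q)) := by
      refine Eq.symm ?_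
      calc x * (p * q) * x * (p * q) * y
          = x * (p * q) * x * (p * q * y * (p * q)⁻¹) * (x * (p * q) * x)⁻¹ * (x * (p * q) * x * (p * q)) := by group
        _ = y * (x * (p * q) * x * (p * q)) := by rw [← h']
    rw [hσm, show x * p * x * (x * q * x) * (p * q) = x * p * x * (x * q * x) * p * q by group] at hj
    refine w4 hy h0 _ (hσC p hp) _ (hσC q hq) p hp q hq ?_ hj
    simp only [List.nodup_cons, List.mem_cons, List.not_mem_nil, or_false, not_or, List.nodup_nil, and_true,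
      not_false_eq_true]
    exact ⟨⟨fun h => hne (by rw [← hσ p, h, hσ]), hno p (hCD p hp), hqp⟩, ⟨hqp', hno q (hCD q hq)⟩, hne⟩
  -- the abelian group of the clique
  set K := Subgroup.closure (C : Set G)
  have hKc : ∀ u ∈ K, ∀ v ∈ K, Commute u v := fun u hu v hv =>
    commute_closure (u := u) (fun s hs => hfixC hu s hs) v hv
  have hKs : ∀ u ∈ K, u * u = 1 := fun u hu => by
    induction hu using Subgroup.closure_induction with
    | mem c hc => exact mul_self S.hD.1 (hCD c hc)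
    | one => simp
    | mul u v hu hv iu iv =>
      rw [(show Commute v u from hKc v hv u hu).mul_mul_mul_comm, iu, iv, one_mul]
    | inv u _ iu => rw [← mul_inv_rev, iu, inv_one]
  let Pr : G → G := fun c => c * (x * c * x)
  have hPK : ∀ c ∈ C, Pr c ∈ K := fun c hc =>
    mul_mem (Subgroup.subset_closure hc) (Subgroup.subset_closure (hσC c hc))
  set Ω := C.image Pr with hΩ
  have hΩK : ∀ ω ∈ Ω, ω ∈ K := fun ω hω => by
    obtain ⟨c, hc, rfl⟩ := Finset.mem_image.mp hω; exact hPK c hc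
  have hPσ : ∀ c ∈ C, Pr (x * c * x) = Pr c := fun c hc => by
    show x * c * x * (x * (x * c * x) * x) = c * (x * c * x)
    rw [hσ]; exact (hcl _ (hσC c hc) c hc).eq
  have hPeq : ∀ c ∈ C, ∀ d ∈ C, d ≠ c → d ≠ x * c * x → ¬ Commute z (Pr c * Pr d) := by
    intro c hc d hd n1 n2 h
    refine w4 hzV hz0 c hc _ (hσC c hc) d hd _ (hσC d hd) ?_ (by simpa [Pr, mul_assoc] using h)
    simp only [List.nodup_cons, List.mem_cons, List.not_mem_nil, or_false, not_or, List.nodup_nil, and_true,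
      not_false_eq_true]
    exact ⟨⟨(hno c (hCD c hc)).symm, n1.symm, fun h => n2 (by rw [h, hσ])⟩,
      ⟨n2.symm, fun h => n1 (by rw [← hσ d, ← h, hσ])⟩, (hno d (hCD d hd)).symm⟩
  have F1 : ∀ ω ∈ Ω, ∀ ω' ∈ Ω, ω ≠ ω' → ¬ Commute z (ω * ω') := by
    intro ω hω ω' hω' hne
    obtain ⟨c, hc, rfl⟩ := Finset.mem_image.mp hω
    obtain ⟨d, hd, rfl⟩ := Finset.mem_image.mp hω'
    exact hPeq c hc d hd (fun h => hne (by rw [h])) fun h => hne (by rw [h, hPσ c hc])
  have h11 : Ω.card = 11 := by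
    have h := Finset.card_eq_sum_card_image Pr C
    rw [hC, Finset.sum_const_nat (m := 2) fun ω hω => ?_] at h
    · rw [← hΩ] at h; omega
    obtain ⟨c, hc, rfl⟩ := Finset.mem_image.mp hω
    rw [show C.filter (fun d => Pr d = Pr c) = {c, x * c * x} from ?_, Finset.card_pair (hno c (hCD c hc)).symm]
    ext d
    simp only [Finset.mem_filter, Finset.mem_insert, Finset.mem_singleton]
    constructor
    · rintro ⟨hd, he⟩
      by_contra hcon
      push Not at hcon
      exact hPeq c hc d hd hcon.1 hcon.2 (by rw [he, hKs _ (hPK c hc)]; exact Commute.one_right z)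
    · rintro (rfl | rfl)
      · exact ⟨hc, rfl⟩
      · exact ⟨hσC c hc, hPσ c hc⟩
  obtain ⟨i, hi, hzi⟩ := trans' hzV hzC hz0
  have hiΩ : Pr i ∈ Ω := Finset.mem_image_of_mem Pr hi
  obtain ⟨k', hk', hki⟩ := Finset.exists_mem_ne (s := Ω) (by rw [h11]; norm_num) (Pr i)
  obtain ⟨k, hk, rfl⟩ := Finset.mem_image.mp hk'
  set L := (Ω.erase (Pr i)).erase (Pr k) with hL
  have h9 : L.card = 9 := by
    rw [hL, Finset.card_erase_of_mem (Finset.mem_erase.mpr ⟨hki, hk'⟩), Finset.card_erase_of_mem hiΩ, h11]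
  set p := Pr i * Pr k with hpdef
  have hpK : p ∈ K := mul_mem (hPK i hi) (hPK k hk)
  have hex : ∀ ω ∈ L, ∃ ω' ∈ L, ω' ≠ ω ∧ Commute z (p * ω * ω') := by
    intro ω hω
    obtain ⟨hωk, hωi, hωΩ⟩ : ω ≠ Pr k ∧ ω ≠ Pr i ∧ ω ∈ Ω := by
      simpa [hL] using hω
    obtain ⟨l, hl, rfl⟩ := Finset.mem_image.mp hωΩ
    have hg : k * l ∈ K := mul_mem (Subgroup.subset_closure hk) (Subgroup.subset_closure hl)
    have hg' : x * (k * l) * x ∈ K := by
      rw [hσm]; exact mul_mem (Subgroup.subset_closure (hσC k hk)) (Subgroup.subset_closure (hσC l hl))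
    obtain ⟨h1, h2⟩ := hconj0 hg hz0
    obtain ⟨j, hj, he⟩ := trans' (hconjV hg hzV) h1 h2
    have hjK := hPK j hj
    have hcz : Commute z ((Pr j * (k * l))⁻¹ * (x * (k * l) * x * Pr i)) := by
      refine Eq.symm ?_
      have e1 : x * (k * l * z * (k * l)⁻¹) * x =
          x * (k * l) * x * (Pr i * z * (Pr i)⁻¹) * (x * (k * l) * x)⁻¹ := by
        rw [← show x * z * x = Pr i * z * (Pr i)⁻¹ from hzi, hσconj]
      rw [he] at e1
      calc (Pr j * (k * l))⁻¹ * (x * (k * l) * x * Pr i) * z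
          = (Pr j * (k * l))⁻¹ * (x * (k * l) * x * (Pr i * z * (Pr i)⁻¹) * (x * (k * l) * x)⁻¹) *
            (x * (k * l) * x * Pr i) := by group
        _ = (Pr j * (k * l))⁻¹ * (j * (x * j * x) * (k * l * z * (k * l)⁻¹) * (j * (x * j * x))⁻¹) *
            (x * (k * l) * x * Pr i) := by rw [e1]
        _ = z * ((Pr j * (k * l))⁻¹ * (x * (k * l) * x * Pr i)) := by simp only [Pr]; group
    have halg : (Pr j * (k * l))⁻¹ * (x * (k * l) * x * Pr i) = p * Pr l * Pr j := by
      have hklc : Commute l (x * k * x) := hcl l hl _ (hσC k hk)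
      have hkl : Pr k * Pr l = k * l * (x * (k * l) * x) := by
        rw [hσm]
        show k * (x * k * x) * (l * (x * l * x)) = k * l * (x * k * x * (x * l * x))
        calc k * (x * k * x) * (l * (x * l * x)) = k * (x * k * x * l) * (x * l * x) := by group
          _ = k * (l * (x * k * x)) * (x * l * x) := by rw [hklc.eq]
          _ = _ := by group
      rw [inv_eq_of_mul_eq_one_left (hKs _ (mul_mem hjK hg))]
      calc Pr j * (k * l) * (x * (k * l) * x * Pr i) = Pr j * (k * l * (x * (k * l) * x) * Pr i) := by group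
        _ = Pr j * (Pr k * Pr l * Pr i) := by rw [hkl]
        _ = Pr j * (Pr i * (Pr k * Pr l)) := by
          rw [(hKc _ (mul_mem (hPK k hk) (hPK l hl)) _ (hPK i hi)).eq]
        _ = Pr j * (p * Pr l) := by rw [hpdef, mul_assoc (Pr i)]
        _ = p * Pr l * Pr j := (hKc _ hjK _ (mul_mem hpK (hPK l hl))).eq
    rw [halg] at hcz
    have hjΩ := Finset.mem_image_of_mem Pr hj
    have n1 : Pr j ≠ Pr i := fun h => F1 _ hk' _ hωΩ hωk.symm (by
      rwa [h, (hKc _ (mul_mem hpK (hPK l hl)) _ (hPK i hi)).eq, hpdef,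
        show Pr i * (Pr i * Pr k * Pr l) = Pr i * Pr i * (Pr k * Pr l) by group, hKs _ (hPK i hi), one_mul] at hcz)
    have n2 : Pr j ≠ Pr k := fun h => F1 _ hiΩ _ hωΩ hωi.symm (by
      rwa [h, hpdef, mul_assoc _ (Pr l) (Pr k), (hKc _ (hPK l hl) _ (hPK k hk)).eq,
        show Pr i * Pr k * (Pr k * Pr l) = Pr i * (Pr k * Pr k) * Pr l by group, hKs _ (hPK k hk), mul_one] at hcz)
    have n3 : Pr j ≠ Pr l := fun h => F1 _ hiΩ _ hk' hki.symm (by
      rwa [h, mul_assoc p, hKs _ (hPK l hl), mul_one] at hcz)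
    exact ⟨Pr j, Finset.mem_erase.mpr ⟨n2, Finset.mem_erase.mpr ⟨n1, hjΩ⟩⟩, n3, hcz⟩
  choose g hgL hgne hgc using hex
  have hmemΩ : ∀ {ω}, ω ∈ L → ω ∈ Ω := fun h => Finset.mem_of_mem_erase (Finset.mem_of_mem_erase h)
  have h0 : ∑ _ω ∈ L, (1 : ZMod 2) = 0 := by
    refine Finset.sum_involution g (fun ω hω => by decide) (fun ω hω _ => hgne ω hω) hgL fun ω hω => ?_
    by_contra hne
    set ω' := g ω hω
    set ω'' := g ω' (hgL ω hω)
    have hωK := hΩK _ (hmemΩ hω)
    have hω'K := hΩK _ (hmemΩ (hgL ω hω))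
    have h1 : Commute z (p * ω * ω') := hgc ω hω
    have h2 : Commute z (p * ω' * ω'') := hgc ω' (hgL ω hω)
    refine F1 _ (hmemΩ hω) _ (hmemΩ (hgL ω' (hgL ω hω))) (fun h => hne h.symm) ?_
    have h3 := h1.mul_right h2
    rwa [show p * ω * ω' * (p * ω' * ω'') = p * ω * (ω' * (p * ω')) * ω'' by group,
      (hKc _ hω'K _ (mul_mem hpK hω'K)).eq, show p * ω * (p * ω' * ω') * ω'' = p * ω * p * (ω' * ω') * ω'' by group,
      hKs _ hω'K, mul_one, mul_assoc p, (hKc _ hωK _ hpK).eq, ← mul_assoc p, hKs _ hpK, one_mul] at h3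
  rw [Finset.sum_const, h9] at h0
  exact absurd h0 (by decide)

end Cfsg.Agent.Lib.FischerMTypes.InvolutionFix24
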