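import Mathlib
import Cfsg.Agent.Lib.FischerMTypes.InvolutionFix24

/-!
Type M(24): every involution is a product of at most four commuting transpositions, and the number
of factors determines the class.
-/

set_option autoImplicit false
set_option linter.style.haveILetI false
set_option linter.unusedSectionVars false

namespace Cfsg.Agent.Lib.FischerMTypes.InvolutionsM24

open Cfsg.Agent.Lib.FischerMTypes.Basic Cfsg.Agent.Lib.FischerMTypes.Primitive
  Cfsg.Agent.Lib.FischerMTypes.Levels Cfsg.Agent.Lib.FischerMTypes.Step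
  Cfsg.Agent.Lib.FischerMTypes.SmallRelations
open Cfsg.Agent.Lib.FischerMTypes.TraceCounts (Sys)

universe u

variable {G : Type u} [Group G] [Finite G] {D : Set G}
variable {Q : Type u} [Group Q] [Finite Q] {E : Set Q}
variable {Q₂ : Type u} [Group Q₂] [Finite Q₂] {E₂ : Set Q₂} {F : Type} [Field F] [Fintype F]
variable (S22 : Sys E₂ F) (S23 : StepData E E₂ 3510 693 180 126 6531840)
  (S : StepData D E 31671 3510 693 351 4585351680)

/-- every transposition commuting with a short product commutes with its factors -/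
theorem comm_factors (hD : Cfsg.IsThreeTranspositionGroup D) {l : List G} (hl : Tuple D l) (h3 : l.length ≤ 3)
    {y : G} (hy : y ∈ D) (h : Commute y l.prod) : ∀ t ∈ l, Commute y t := by
  obtain ⟨hn, hd, hc⟩ := hl
  match l, h3 with
  | [], _ => simp
  | [a], _ => simpa using h
  | [a, b], _ =>
    obtain ⟨c1, c2⟩ := comm_of_comm_mul hD.1 (hd a (by simp)) (hd b (by simp)) hy (hc a (by simp) b (by simp))
      (by simpa using hn) (by simpa using h)
    simp [c1, c2]
  | [a, b, c], _ =>
    simp only [List.nodup_cons, List.mem_cons, List.not_mem_nil, or_false, not_or, List.nodup_nil, and_true,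
      not_false_eq_true] at hn
    obtain ⟨c1, c2, c3⟩ := SixSets.cross hD (hd a (by simp)) (hd b (by simp)) (hd c (by simp)) hy
      (hc a (by simp) b (by simp)) (hc a (by simp) c (by simp)) (hc b (by simp) c (by simp))
      hn.1.1 hn.1.2 hn.2 (by simpa [mul_assoc] using h)
    simp [c1, c2, c3]
  | _ :: _ :: _ :: _ :: _, h3 => simp only [List.length_cons] at h3; omega

include S22 S23 S in
/-- two commuting families with the same product have the same size -/
theorem length_eq (hM : Cfsg.IsOfTypeM23 Q E) :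
    ∀ (n : ℕ) (l l' : List G), l.length ≤ n → Tuple D l → Tuple D l' → (∀ y ∈ l, ∀ z ∈ l', Commute y z) →
      l.prod = l'.prod → l.length + l'.length ≤ 7 → l.length = l'.length := by
  intro n
  induction n with
  | zero =>
    intro l l' hn _ hl' _ he h7
    rw [List.eq_nil_of_length_eq_zero (Nat.le_zero.mp hn)] at he h7 ⊢
    rcases Nat.eq_zero_or_pos l'.length with h | h
    · simp [h]
    · exact absurd (by simpa using he.symm) (ne_one_M24 S22 S23 S hM hl' h (by simpa using h7))
  | succ n ih =>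
    intro l l' hn hl hl' hc he h7
    by_cases hex : ∃ a ∈ l, a ∈ l'
    · classical
      obtain ⟨a, ha, ha'⟩ := hex
      have cons : ∀ {m : List G}, Tuple D m → a ∈ m →
          Tuple D (m.erase a) ∧ (m.erase a).length + 1 = m.length ∧ a * (m.erase a).prod = m.prod := fun {m} hm hma =>
        ⟨⟨hm.1.erase a, fun y hy => hm.2.1 y (List.mem_of_mem_erase hy),
          fun y hy z hz => hm.2.2 y (List.mem_of_mem_erase hy) z (List.mem_of_mem_erase hz)⟩,
          by rw [List.length_erase_of_mem hma]; have := List.length_pos_of_mem hma; omega,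
          List.prod_erase_of_comm hma fun x hx y hy => hm.2.2 x hx y hy⟩
      obtain ⟨h1, h2, h3⟩ := cons hl ha
      obtain ⟨h1', h2', h3'⟩ := cons hl' ha'
      have := ih (l.erase a) (l'.erase a) (by omega) h1 h1'
        (fun y hy z hz => hc y (List.mem_of_mem_erase hy) z (List.mem_of_mem_erase hz))
        (mul_left_cancel (h3.trans (he.trans h3'.symm))) (by omega)
      omega
    push Not at hex
    by_contra hne
    have hT : Tuple D (l ++ l') := by
      refine ⟨List.nodup_append.mpr ⟨hl.1, hl'.1, fun x hx y hy hxy => hex x hx (hxy ▸ hy)⟩, ?_, ?_⟩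
      · intro y hy
        rcases List.mem_append.mp hy with h | h
        · exact hl.2.1 y h
        · exact hl'.2.1 y h
      · intro y hy z hz
        rcases List.mem_append.mp hy with h | h <;> rcases List.mem_append.mp hz with h' | h'
        · exact hl.2.2 y h z h'
        · exact hc y h z h'
        · exact (hc z h' y h).symm
        · exact hl'.2.2 y h z h'
    refine ne_one_M24 S22 S23 S hM hT (by rw [List.length_append]; omega) (by rwa [List.length_append]) ?_
    rw [List.prod_append, he, tuple_sq S.hD hl']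

include S22 S23 S in
/-- the number of factors, at most four, is determined by the product -/
theorem unique_length (hM : Cfsg.IsOfTypeM23 Q E) {m m' : ℕ} {x : G} (hm : m ≤ 4) (hm' : m' ≤ 4)
    (hx : IsProd D m x) (hx' : IsProd D m' x) : m = m' := by
  rcases eq_or_ne m m' with h | hne
  · exact h
  wlog hlt : m < m' generalizing m m'
  · exact (this hm' hm hx' hx hne.symm (by omega)).symm
  obtain ⟨l, hn, hlen, hd, hc, rfl⟩ := hx
  obtain ⟨l', hn', hlen', hd', hc', he⟩ := hx'
  have := length_eq S22 S23 S hM l.length l l' le_rfl ⟨hn, hd, hc⟩ ⟨hn', hd', hc'⟩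
    (fun y hy z hz => (comm_factors S.hD ⟨hn, hd, hc⟩ (by omega) (hd' z hz)
      (he ▸ Commute.list_prod_right l' z fun t ht => hc' z hz t ht) y hy).symm) he.symm (by omega)
  omega

include S22 S23 S in
/-- tuples of at most four are conjugate -/
theorem trans_M24 {m : ℕ} (hm : m ≤ 3) : TupleTrans D (m + 1) := by
  refine S.trans_succ ?_
  rcases m with _ | m
  · exact trans_zero E
  · exact S23.trans_succ (InvolutionsM23.trans_M22 S22 (by omega))

include S22 S23 S in
/-- a commuting tuple of four -/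
theorem exists_tuple_four : ∃ a b c d : G, Tuple D [a, b, c, d] := by
  obtain ⟨a, ha, -⟩ := S.hprim.2.1
  obtain ⟨b, hb⟩ := S.perp_nonempty M24Data.small ha
  obtain ⟨c, hc⟩ := Set.nonempty_of_ncard_ne_zero (s := perp₂ D a b) (by rw [S.ncard_edge ha hb]; norm_num)
  have hbc : b ≠ c := Ne.symm hc.2.2.1
  obtain ⟨d, hd, hd1, hd2, hd3, hd4⟩ := Set.nonempty_of_ncard_ne_zero
    (s := {y | y ∈ perp D a ∧ (y ≠ b ∧ y ≠ c ∧ Commute b y ∧ Commute c y)})
    (by rw [S.ncard_edge₂ ha hb hc.1 hbc hc.2.2.2]; norm_num)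
  refine ⟨a, b, c, d, tuple_cons ha ⟨by simp [hbc, hd1.symm, hd2.symm], by simp [hb.1, hc.1.1, hd.1],
    by simp [hc.2.2.2, hc.2.2.2.symm, hd3, hd3.symm, hd4, hd4.symm]⟩ fun y hy => ?_⟩
  simp only [List.mem_cons, List.not_mem_nil, or_false] at hy
  rcases hy with rfl | rfl | rfl
  exacts [hb, hc.1, hd]

include S22 S23 S in
/-- the four classes of involutions -/
theorem four_classes (hM : Cfsg.IsOfTypeM23 Q E) {n₁ : ℕ} (P : Pinned D 31671 3510 693 351 n₁) :
    (∀ x : G, orderOf x = 2 → ∃ m : ℕ, 1 ≤ m ∧ m ≤ 4 ∧ IsProd D m x) ∧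
      (∀ m : ℕ, 1 ≤ m → m ≤ 4 → (∃ x : G, orderOf x = 2 ∧ IsProd D m x) ∧
        ∀ x y : G, IsProd D m x → IsProd D m y → IsConj x y) ∧
      ∀ (m m' : ℕ) (x : G), 1 ≤ m → m ≤ 4 → 1 ≤ m' → m' ≤ 4 → IsProd D m x → IsProd D m' x → m = m' := by
  refine ⟨fun x hx => ?_, fun m hm hm' => ⟨?_, fun x y => isConj_prod ?_⟩,
    fun m m' x _ h4 _ h4' => unique_length S22 S23 S hM h4 h4'⟩
  · have hxx : x * x = 1 := by rw [← sq, ← hx, pow_orderOf_eq_one]
    have hx1 : x ≠ 1 := fun he => by simp [he] at hx
    obtain ⟨a, ha, hxa⟩ := InvolutionFix24.exists_commute S22 S23 S hM hxx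
    have hQ : ∀ q : Q, q * q = 1 → ∃ l : List Q, Tuple E l ∧ l.length ≤ 3 ∧ l.prod = q := fun q hq => by
      by_cases hq1 : q = 1
      · exact ⟨[], ⟨List.nodup_nil, by simp, by simp⟩, by simp, by simp [hq1]⟩
      obtain ⟨j, -, hj, l, h1, h2, h3, h4, h5⟩ := (InvolutionsM23.three_classes S23.hD S23.hprim hM S22 S23).1 q
        (orderOf_eq_prime (by rw [sq]; exact hq) hq1)
      exact ⟨l, ⟨h1, h3, h4⟩, by omega, h5⟩
    obtain ⟨L, hT, hp, hlen, he | he⟩ := S.split P hQ ha hxa hxx
    · refine ⟨L.length, ?_, by omega, L, hT.1, rfl, hT.2.1, hT.2.2, he.symm⟩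
      rcases L with _ | ⟨b, L⟩
      · exact absurd (by simpa using he) hx1
      · simp
    · have hT' := tuple_cons ha hT hp
      exact ⟨L.length + 1, by omega, by omega, a :: L, hT'.1, rfl, hT'.2.1, hT'.2.2, he.symm⟩
  · obtain ⟨a, b, c, d, hl⟩ := exists_tuple_four S22 S23 S
    have hk := tuple_take hl m
    have hlen : ([a, b, c, d].take m).length = m := by simp; omega
    refine ⟨_, orderOf_eq_prime (by rw [sq]; exact tuple_sq S.hD hk)
      (ne_one_M24 S22 S23 S hM hk (by omega) (by omega)), _, hk.1, hlen, hk.2.1, hk.2.2, rfl⟩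
  · obtain ⟨k, rfl⟩ : ∃ k, m = k + 1 := ⟨m - 1, by omega⟩
    exact trans_M24 S22 S23 S (by omega)

end Cfsg.Agent.Lib.FischerMTypes.InvolutionsM24
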