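import Mathlib
import Cfsg.Agent.Lib.FischerMTypes.Levels
import Cfsg.Agent.Lib.Components.Basic

/-!
A primitive transposition group with trivial centre and a transposition outside the derived group:
the derived group has index two, is simple once its order has a prime to the first power dividing
every nontrivial normal piece, and is the layer.
-/

set_option autoImplicit false
set_option linter.style.haveILetI false
set_option linter.unusedSectionVars false

namespace Cfsg.Agent.Lib.FischerMTypes.IndexTwoLayer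

open Cfsg.Agent.Lib.FischerMTypes.Basic Cfsg.Agent.Lib.FischerMTypes.Primitive
  Cfsg.Agent.Lib.FischerMTypes.Levels
open scoped commutatorElement

variable {G : Type*} [Group G] [Finite G] {D : Set G}
variable (hD : Cfsg.IsThreeTranspositionGroup D) (hprim : Cfsg.IsPrimitiveUnderConj D)
  (hZ : Subgroup.center G = ⊥)

include hprim in
/-- a subgroup with all products of two transpositions is reached by one transposition -/
theorem mem_or {M : Subgroup G} [M.Normal] (hD : Cfsg.IsThreeTranspositionGroup D)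
    (hM : ∀ x ∈ D, ∀ y ∈ D, x * y ∈ M) {a : G} (ha : a ∈ D) (g : G) :
    g ∈ M ∨ g * a ∈ M := by
  set π := QuotientGroup.mk' M
  have h2 : π a * π a = 1 := by rw [← map_mul, mul_self hD.1 ha, map_one]
  suffices h : π g = 1 ∨ π g = π a by
    rcases h with h | h
    · exact Or.inl ((QuotientGroup.eq_one_iff g).mp h)
    · refine Or.inr ((QuotientGroup.eq_one_iff _).mp ?_)
      show π (g * a) = 1
      rw [map_mul, h, h2]
  have hg : g ∈ Subgroup.closure D := hD.2.2 ▸ Subgroup.mem_top g
  induction hg using Subgroup.closure_induction with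
  | mem x hx =>
    right
    have : π (x * a) = 1 := (QuotientGroup.eq_one_iff _).mpr (hM x hx a ha)
    rw [map_mul] at this
    rw [mul_eq_one_iff_eq_inv.mp this, inv_eq_of_mul_eq_one_right h2]
  | one => exact Or.inl (map_one π)
  | mul x y _ _ ihx ihy =>
    rw [map_mul]
    rcases ihx with h | h <;> rcases ihy with h' | h' <;> simp [h, h', h2]
  | inv x _ ih =>
    rw [map_inv]
    rcases ih with h | h <;> simp [h, inv_eq_of_mul_eq_one_right h2]

include hD hprim in
/-- products of two transpositions are in the derived group -/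
theorem mul_mem_commutator {x y : G} (hx : x ∈ D) (hy : y ∈ D) : x * y ∈ commutator G := by
  obtain ⟨g, hg⟩ := hprim.1 x hx y hy
  rw [← hg, show x * (g * x * g⁻¹) = x * g * x⁻¹ * g⁻¹ * (g * (x * x) * g⁻¹) by group,
    mul_self hD.1 hx, mul_one, mul_inv_cancel, mul_one]
  exact Subgroup.commutator_mem_commutator (Subgroup.mem_top x) (Subgroup.mem_top g)

include hD hprim in
theorem index_two {a : G} (ha : a ∈ D) (hpar : a ∉ commutator G) : (commutator G).index = 2 := by
  rw [Subgroup.index_eq_two_iff_exists_notMem_and]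
  exact ⟨a, hpar, fun g => (mem_or hprim hD (fun x hx y hy => mul_mem_commutator hD hprim hx hy) ha g).symm⟩

include hD hprim hZ in
/-- a nontrivial normal subgroup contains every product of two transpositions -/
theorem mul_mem_of_normal {M : Subgroup G} (hM : M.Normal) (hbot : M ≠ ⊥) {x y : G} (hx : x ∈ D)
    (hy : y ∈ D) : x * y ∈ M := by
  set O : Set G := {b | ∃ m ∈ M, m * x * m⁻¹ = b}
  have hblock : ∀ g : G, (fun x => g * x * g⁻¹) '' O = O ∨ Disjoint ((fun x => g * x * g⁻¹) '' O) O := by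
    intro g
    by_cases hd : Disjoint ((fun x => g * x * g⁻¹) '' O) O
    · exact Or.inr hd
    left
    obtain ⟨z, ⟨u, ⟨j, hj, rfl⟩, rfl⟩, m, hm, hmz⟩ := Set.not_disjoint_iff.mp hd
    obtain ⟨i, hi, hia⟩ : g * x * g⁻¹ ∈ O := by
      refine ⟨(g * j * g⁻¹)⁻¹ * m, mul_mem (inv_mem (hM.conj_mem j hj g)) hm, ?_⟩
      calc (g * j * g⁻¹)⁻¹ * m * x * ((g * j * g⁻¹)⁻¹ * m)⁻¹
          = (g * j * g⁻¹)⁻¹ * (m * x * m⁻¹) * (g * j * g⁻¹) := by group
        _ = g * x * g⁻¹ := by rw [hmz]; group
    ext z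
    constructor
    · rintro ⟨_, ⟨l, hl, rfl⟩, rfl⟩
      refine ⟨g * l * g⁻¹ * i, mul_mem (hM.conj_mem l hl g) hi, ?_⟩
      calc g * l * g⁻¹ * i * x * (g * l * g⁻¹ * i)⁻¹
          = g * l * g⁻¹ * (i * x * i⁻¹) * (g * l * g⁻¹)⁻¹ := by group
        _ = g * (l * x * l⁻¹) * g⁻¹ := by rw [hia]; group
    · rintro ⟨l, hl, rfl⟩
      refine ⟨g⁻¹ * (l * i⁻¹) * g * x * (g⁻¹ * (l * i⁻¹) * g)⁻¹, ⟨_, ?_, rfl⟩, ?_⟩
      · simpa using hM.conj_mem _ (mul_mem hl (inv_mem hi)) g⁻¹
      · calc g * (g⁻¹ * (l * i⁻¹) * g * x * (g⁻¹ * (l * i⁻¹) * g)⁻¹) * g⁻¹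
            = l * i⁻¹ * (g * x * g⁻¹) * (l * i⁻¹)⁻¹ := by group
          _ = l * x * l⁻¹ := by rw [← hia]; group
  rcases hprim.2.2 O (by rintro _ ⟨j, -, rfl⟩; exact hD.2.1 j x hx) hblock with h | h
  · exfalso
    apply hbot
    rw [eq_bot_iff, ← hZ]
    intro j hj
    refine center_of_commute_all hD.2.2 fun e he => ?_
    obtain ⟨g, rfl⟩ := hprim.1 x hx e he
    have hfix : g⁻¹ * j * g * x * (g⁻¹ * j * g)⁻¹ = x :=
      h ⟨g⁻¹ * j * g, by simpa using hM.conj_mem j hj g⁻¹, rfl⟩ ⟨1, one_mem _, by group⟩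
    show g * x * g⁻¹ * j = j * (g * x * g⁻¹)
    calc g * x * g⁻¹ * j = g * (g⁻¹ * j * g * x * (g⁻¹ * j * g)⁻¹) * g⁻¹ * j := by rw [hfix]
      _ = j * (g * x * g⁻¹) := by group
  · obtain ⟨m, hm, rfl⟩ : y ∈ O := h.symm ▸ hy
    rw [show x * (m * x * m⁻¹) = x * m * x⁻¹ * (x * x) * m⁻¹ by group, mul_self hD.1 hx, mul_one]
    exact mul_mem (hM.conj_mem m hm x) (inv_mem hm)

include hD hprim hZ in
theorem commutator_le_of_normal {M : Subgroup G} (hM : M.Normal) (hbot : M ≠ ⊥) : commutator G ≤ M := by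
  haveI := hM
  obtain ⟨a, ha, -⟩ := hprim.2.1
  rw [commutator_def, Subgroup.commutator_le]
  intro x _ y _
  have hor := mem_or hprim hD (fun x hx y hy => mul_mem_of_normal hD hprim hZ hM hbot hx hy) ha
  set π := QuotientGroup.mk' M
  have h : ∀ g, π g = 1 ∨ π g = (π a)⁻¹ := fun g => (hor g).imp (QuotientGroup.eq_one_iff g).mpr fun h => by
    have h' : π (g * a) = 1 := (QuotientGroup.eq_one_iff _).mpr h
    rw [map_mul] at h'
    exact mul_eq_one_iff_eq_inv.mp h'
  refine (QuotientGroup.eq_one_iff _).mp ?_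
  show π ⁅x, y⁆ = 1
  rw [map_commutatorElement, commutatorElement_eq_one_iff_mul_comm]
  rcases h x with h1 | h1 <;> rcases h y with h2 | h2 <;> simp [h1, h2]

include hD hprim hZ in
/-- the derived group is not abelian when a transposition commutes with two that do not commute -/
theorem not_abelian {a b c : G} (ha : a ∈ D) (hb : b ∈ D) (hc : c ∈ D) (hab : Commute a b)
    (hac : Commute a c) (hbc : ¬ Commute b c) :
    ¬ ∀ u ∈ commutator G, ∀ v ∈ commutator G, u * v = v * u := by
  intro hcomm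
  have hmem := mul_mem_commutator hD hprim hb hc
  have hcen : b * c ∈ Subgroup.center G := by
    rw [Subgroup.mem_center_iff]
    intro g
    have hca : Commute a (b * c) := hab.mul_right hac
    rcases mem_or hprim hD (fun x hx y hy => mul_mem_commutator hD hprim hx hy) ha g with h | h
    · exact hcomm _ h _ hmem
    · have h1 : g * a * (b * c) = b * c * (g * a) := hcomm _ h _ hmem
      calc g * (b * c) = g * a * (a * (b * c)) := by
            rw [← mul_assoc (g * a) a, mul_assoc g a a, mul_self hD.1 ha, mul_one]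
        _ = g * a * (b * c) * a := by rw [hca.eq]; group
        _ = b * c * g * (a * a) := by rw [h1]; group
        _ = b * c * g := by rw [mul_self hD.1 ha, mul_one]
  rw [hZ, Subgroup.mem_bot, mul_eq_one_iff_eq_inv, inv_eq hD.1 hc] at hcen
  exact hbc (hcen ▸ Commute.refl c)

include hD hprim hZ in
/-- simple, given a prime dividing its order exactly once -/
theorem simple {a : G} (ha : a ∈ D) {p : ℕ} (hp : p.Prime)
    (hdvd : p ∣ Nat.card ↥(commutator G)) (hsq : ¬ p * p ∣ Nat.card ↥(commutator G)) :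
    IsSimpleGroup ↥(commutator G) := by
  haveI : Nontrivial ↥(commutator G) := by
    rw [Subgroup.nontrivial_iff_ne_bot]
    intro h
    rw [h, Subgroup.card_bot, Nat.dvd_one] at hdvd
    exact hp.ne_one hdvd
  refine ⟨fun N hN => ?_⟩
  by_cases hbot : N = ⊥
  · exact Or.inl hbot
  right
  haveI := hN
  let φ : ↥(commutator G) ≃* ↥(commutator G) := MulAut.conjNormal a
  set M : Subgroup ↥(commutator G) := N.map φ.toMonoidHom with hMdef
  haveI hMn : M.Normal := hN.map _ φ.surjective
  have hφφ : ∀ u, φ (φ u) = u := fun u => Subtype.ext (by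
    simp only [φ, MulAut.conjNormal_apply]
    rw [show a * (a * (u : G) * a⁻¹) * a⁻¹ = a * a * u * (a * a)⁻¹ by group, mul_self hD.1 ha]
    group)
  have hor := mem_or hprim hD (fun x hx y hy => mul_mem_commutator hD hprim hx hy) ha
  have hlift : ∀ K : Subgroup ↥(commutator G), K.Normal → (∀ u ∈ K, φ u ∈ K) →
      K = ⊥ ∨ K = ⊤ := by
    intro K hK hinv
    set L := K.map (commutator G).subtype
    by_cases hL : L = ⊥
    · exact Or.inl ((Subgroup.map_eq_bot_iff_of_injective _ Subtype.val_injective).mp hL)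
    right
    have hLn : L.Normal := ⟨by
      rintro _ ⟨u, hu, rfl⟩ g
      rcases hor g with h | h
      · exact ⟨⟨g, h⟩ * u * ⟨g, h⟩⁻¹, hK.conj_mem u hu _, by simp⟩
      · refine ⟨⟨g * a, h⟩ * φ u * ⟨g * a, h⟩⁻¹, hK.conj_mem _ (hinv u hu) _, ?_⟩
        simp only [Subgroup.coe_subtype, Subgroup.coe_mul, Subgroup.coe_inv, φ, MulAut.conjNormal_apply]
        rw [show g * a * (a * (u : G) * a⁻¹) * (g * a)⁻¹ = g * (a * a) * u * (a * a)⁻¹ * g⁻¹ by group,
          mul_self hD.1 ha]
        group⟩
    have hle := commutator_le_of_normal hD hprim hZ hLn hL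
    rw [eq_top_iff]
    intro u _
    obtain ⟨v, hv, e⟩ := hle u.2
    rwa [← Subtype.ext e]
  rcases hlift (N ⊓ M) inferInstance (fun u hu => ⟨by
    obtain ⟨v, hv, e⟩ := hu.2
    have : φ v = u := e
    rw [← this, hφφ]; exact hv, ⟨u, hu.1, rfl⟩⟩) with h | h
  swap
  · exact top_le_iff.mp (h ▸ inf_le_left)
  have hsup : N ⊔ M = ⊤ := by
    refine (hlift (N ⊔ M) inferInstance fun u hu => ?_).resolve_left fun e => hbot (le_bot_iff.mp (e ▸ le_sup_left))
    have hu' : φ u ∈ (N ⊔ M).map φ.toMonoidHom := ⟨u, hu, rfl⟩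
    rw [Subgroup.map_sup, ← hMdef, hMdef, Subgroup.map_map,
      show φ.toMonoidHom.comp φ.toMonoidHom = MonoidHom.id _ from MonoidHom.ext hφφ, Subgroup.map_id,
      ← hMdef, sup_comm] at hu'
    exact hu'
  exfalso
  have hcardM : Nat.card M = Nat.card N := Subgroup.card_map_of_injective φ.injective
  have hcard : Nat.card ↥(commutator G) = Nat.card N * Nat.card N := by
    have h1 : N.relIndex (N ⊔ M) = N.relIndex M := Subgroup.relIndex_sup_left (H := M) (K := N)
    rw [hsup, Subgroup.relIndex_top_right, ← Subgroup.inf_relIndex_right, h, Subgroup.relIndex_bot_left,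
      hcardM] at h1
    rw [← Subgroup.card_mul_index N, h1]
  rw [hcard] at hdvd hsq
  exact hsq (by rcases hp.dvd_mul.mp hdvd with h' | h' <;> exact Nat.mul_dvd_mul h' h')

include hD hprim hZ in
/-- a simple derived group is the layer -/
theorem layer_eq {a b c : G} (ha : a ∈ D) (hb : b ∈ D) (hc : c ∈ D) (hab : Commute a b)
    (hac : Commute a c) (hbc : ¬ Commute b c) (hS : IsSimpleGroup ↥(commutator G)) :
    Cfsg.layer G = commutator G := by
  haveI := hS
  have hn : (commutator G).Normal := inferInstance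
  have hab' := not_abelian hD hprim hZ ha hb hc hab hac hbc
  have hnc : ¬ IsMulCommutative ↥(commutator G) := fun h => hab' fun u hu v hv =>
    congrArg Subtype.val (h.is_comm.comm ⟨u, hu⟩ ⟨v, hv⟩)
  have hK : Cfsg.IsComponent (commutator G) := ⟨hn.isSubnormal, Components.Quasisimple.of_isSimpleGroup hnc⟩
  refine le_antisymm (sSup_le fun K hK' => ?_) (Components.Layer.component_le_layer hK)
  by_contra hle
  have hne : K ≠ commutator G := fun e => hle e.le
  have hKc := Components.Component.le_centralizer_of_ne hK' hK hne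
  have hCn : (Subgroup.centralizer (commutator G : Set G)).Normal := inferInstance
  by_cases hC : Subgroup.centralizer (commutator G : Set G) = ⊥
  · exact Components.Component.ne_bot hK' (le_bot_iff.mp (hC ▸ hKc))
  · exact hab' fun u hu v hv => Subgroup.mem_centralizer_iff.mp
      (commutator_le_of_normal hD hprim hZ hCn hC hv) u hu

end Cfsg.Agent.Lib.FischerMTypes.IndexTwoLayer
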