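import Mathlib
import Cfsg.Agent.Lib.FischerMTypes.InvolutionFix24

/-!
Type M(24): cliques of 24 transpositions ("bases").  Five commuting transpositions lie in exactly
three of them, and there is an odd number of them.
-/

set_option autoImplicit false
set_option linter.style.haveILetI false
set_option linter.unusedSectionVars false

namespace Cfsg.Agent.Lib.FischerMTypes.Bases

open Cfsg.Agent.Lib.FischerMTypes.Basic Cfsg.Agent.Lib.FischerMTypes.Primitive
  Cfsg.Agent.Lib.FischerMTypes.Levels Cfsg.Agent.Lib.FischerMTypes.Step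
  Cfsg.Agent.Lib.FischerMTypes.SmallRelations Cfsg.Agent.Lib.FischerMTypes.InvolutionFix24
open Cfsg.Agent.Lib.FischerMTypes.TraceCounts (Sys)
open Finset

universe u

variable {G : Type u} [Group G] [Finite G] {D : Set G}
variable {Q : Type u} [Group Q] [Finite Q] {E : Set Q}
variable {Q₂ : Type u} [Group Q₂] [Finite Q₂] {E₂ : Set Q₂} {F : Type} [Field F] [Fintype F]
variable (S22 : Sys E₂ F) (S23 : StepData E E₂ 3510 693 180 126 6531840)
  (S : StepData D E 31671 3510 693 351 4585351680)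

/-- a set of pairwise commuting transpositions -/
def IsClique (D : Set G) (A : Finset G) : Prop := (A : Set G) ⊆ D ∧ ∀ x ∈ A, ∀ y ∈ A, Commute x y

/-- a clique of 24 transpositions -/
def IsBase (D : Set G) (B : Finset G) : Prop := IsClique D B ∧ B.card = 24

/-- the transpositions outside a family and commuting with it -/
def com (D : Set G) (l : List G) : Set G := {y | y ∈ D ∧ ∀ u ∈ l, y ≠ u ∧ Commute u y}

theorem com_cons₂ {a b : G} {l : List G} :
    com D (a :: b :: l) = {y | y ∈ perp₂ D a b ∧ ∀ u ∈ l, y ≠ u ∧ Commute u y} := by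
  ext y
  simp only [com, List.forall_mem_cons, Set.mem_ofPred_eq]
  exact ⟨fun h => ⟨⟨⟨h.1, h.2.1⟩, h.1, h.2.2.1⟩, h.2.2.2⟩, fun h => ⟨h.1.1.1, h.1.1.2, h.1.2.2, h.2⟩⟩

include S22 S23 S in
/-- the numbers of transpositions commuting with short tuples -/
theorem ncard_com (hN : D.ncard = 306936) {l : List G} (hl : Tuple D l) (h5 : l.length ≤ 5) :
    (com D l).ncard = if l.length = 0 then 306936 else if l.length = 1 then 31671
      else if l.length = 2 then 3510 else if l.length = 3 then 693 else if l.length = 4 then 180 else 51 := by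
  match l, h5 with
  | [], _ =>
    rw [show com D ([] : List G) = D from Set.ext fun y => by simp [com]]
    simpa using hN
  | [a], _ =>
    rw [show com D [a] = perp D a from Set.ext fun y => by simp [com]]
    simpa using S.ncard_perp (hl.2.1 a (by simp))
  | [a, b], _ =>
    obtain ⟨-, ha, hp⟩ := tuple_tail hl
    rw [com_cons₂]
    simp only [List.not_mem_nil, IsEmpty.forall_iff, implies_true, and_true, Set.setOf_mem_eq,
      List.length_cons, List.length_nil]
    simpa using S.ncard_edge ha (hp b (by simp))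
  | a :: b :: c :: l', h5 =>
    obtain ⟨hl', ha, hp⟩ := tuple_tail hl
    obtain ⟨hl'', -, hp'⟩ := tuple_tail hl'
    obtain ⟨M⟩ := exists_model S23 S ha (hp b (by simp))
    have hV : ∀ u ∈ c :: l', u ∈ perp₂ D a b := fun u hu => ⟨hp u (List.mem_cons_of_mem _ hu), hp' u hu⟩
    obtain ⟨hl3, -, hp''⟩ := tuple_tail hl''
    have hc := hV c (by simp)
    have hperp : ∀ u ∈ l', M.g u ∈ perp E₂ (M.g c) := fun u hu =>
      (M.perp_iff (hV u (List.mem_cons_of_mem _ hu)) hc).mpr ⟨(hp'' u hu).2.1, (hp'' u hu).2.2⟩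
    have e : (com D (a :: b :: c :: l')).ncard =
        {q | q ∈ E₂ ∧ (q ∈ perp E₂ (M.g c) ∧ ∀ u ∈ l', q ≠ M.g u ∧ Commute (M.g u) q)}.ncard := by
      rw [com_cons₂]
      refine M.ncard_eq _ _ fun y hy => ?_
      simp only [List.forall_mem_cons]
      rw [M.perp_iff hy hc]
      refine and_congr_right fun _ => forall₂_congr fun u hu => ?_
      rw [M.ne_iff hy (hV u (List.mem_cons_of_mem _ hu)), M.comm u (hV u (List.mem_cons_of_mem _ hu)) y hy]
    rw [e]
    match l', h5, hl3, hperp with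
    | [], _, _, _ =>
      refine Eq.trans (congrArg _ ?_) (S22.ctx _ (M.mem c hc)).ncard_perp
      ext q
      exact ⟨fun h => h.2.1, fun h => ⟨h.1, h, by simp⟩⟩
    | [d], _, _, hperp =>
      refine Eq.trans (congrArg _ ?_) ((S22.ctx _ (M.mem c hc)).ncard_edge (hperp d (by simp)))
      ext q
      constructor
      · rintro ⟨hq, h, h'⟩; exact ⟨h, hq, h' d (by simp)⟩
      · rintro ⟨h, h'⟩; exact ⟨h.1, h, by simpa using h'.2⟩
    | [d, e'], _, hl3, hperp =>
      have hne : d ≠ e' := by simpa using hl3.1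
      have hd := hV d (by simp)
      have he := hV e' (by simp)
      refine Eq.trans (congrArg _ ?_) ((S22.ctx _ (M.mem c hc)).ncard_edge₂ (hperp d (by simp))
        (hperp e' (by simp)) ((M.ne_iff hd he).mpr hne) ((M.comm d hd e' he).mpr (hl3.2.2 d (by simp) e' (by simp))))
      ext q
      simp only [List.forall_mem_cons, List.not_mem_nil, IsEmpty.forall_iff, implies_true, and_true,
        Set.mem_ofPred_eq]
      exact ⟨fun h => ⟨h.2.1, h.2.2.1.1, h.2.2.2.1, h.2.2.1.2, h.2.2.2.2⟩,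
        fun h => ⟨h.1.1, h.1, ⟨h.2.1, h.2.2.2.1⟩, h.2.2.1, h.2.2.2.2⟩⟩
    | _ :: _ :: _ :: _, h5, _, _ => simp only [List.length_cons] at h5; omega

include S22 S23 S in
/-- the three further members of the octad of five see whatever sees the five -/
theorem octad_see (hM : Cfsg.IsOfTypeM23 Q E) {a p q r s : G} (hl : Tuple D [a, p, q, r, s]) :
    ∃ u v w : G, Tuple D [a, p, q, r, s, u, v, w] ∧
      ∀ t ∈ D, Commute t a → Commute t (p * q * r * s) → ∀ e ∈ [u, v, w], Commute t e := by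
  obtain ⟨u, v, w, hT, he⟩ := octad S22 S23 S hM hl
  refine ⟨u, v, w, hT, fun t ht hta htj => ?_⟩
  have hmT : ∀ t ∈ [u, v, w], t ∈ [a, p, q, r, s, u, v, w] := fun t ht =>
    List.mem_append.mpr (Or.inr ht : t ∈ [a, p, q, r, s] ∨ t ∈ [u, v, w])
  have hnd3 : [u, v, w].Nodup := hT.1.sublist (List.sublist_append_right [a, p, q, r, s] [u, v, w])
  have hD3 : ∀ t ∈ [u, v, w], t ∈ D := fun t ht => hT.2.1 t (hmT t ht)
  have hc3 : ∀ t ∈ [u, v, w], ∀ t' ∈ [u, v, w], Commute t t' := fun t ht t' ht' =>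
    hT.2.2 t (hmT t ht) t' (hmT t' ht')
  simp only [List.nodup_cons, List.mem_cons, List.not_mem_nil, or_false, not_or, List.nodup_nil, and_true,
    not_false_eq_true] at hnd3
  have h3 : Commute t (u * v * w) := by
    rw [show u * v * w = (p * q * r * s)⁻¹ * a by rw [← he]; group]
    exact htj.inv_right.mul_right hta
  obtain ⟨c1, c2, c3⟩ := SixSets.cross S.hD (hD3 u (by simp)) (hD3 v (by simp)) (hD3 w (by simp)) ht
    (hc3 u (by simp) v (by simp)) (hc3 u (by simp) w (by simp)) (hc3 v (by simp) w (by simp))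
    hnd3.1.1 hnd3.1.2 hnd3.2 h3
  simp [c1, c2, c3]

include S22 S23 S in
/-- beside three special members the common neighbours of five form cliques of 16 with the three -/
theorem five_split (hM : Cfsg.IsOfTypeM23 Q E) (hN : D.ncard = 306936) {a b c d e : G}
    (hl : Tuple D [a, b, c, d, e]) :
    ∃ L : Set G, L ⊆ com D [a, b, c, d, e] ∧ L.ncard = 3 ∧
      (∀ u ∈ L, ∀ y ∈ com D [a, b, c, d, e], Commute u y) ∧
      ∀ w ∈ com D [a, b, c, d, e], w ∉ L →
        {y | y ∈ com D [a, b, c, d, e] ∧ Commute w y}.ncard = 19 ∧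
        ∀ y₁ ∈ com D [a, b, c, d, e], Commute w y₁ → ∀ y₂ ∈ com D [a, b, c, d, e], Commute w y₂ → Commute y₁ y₂ := by
  have h51 : (com D [a, b, c, d, e]).ncard = 51 := by simpa using ncard_com S22 S23 S hN hl (by simp)
  obtain ⟨u, v, w, hT, hsee⟩ := octad_see S22 S23 S hM hl
  obtain ⟨hl1, ha, hp⟩ := tuple_tail hl
  obtain ⟨hl2, -, hp'⟩ := tuple_tail hl1
  obtain ⟨hl3, -, hp''⟩ := tuple_tail hl2
  obtain ⟨hl4, -, hp3⟩ := tuple_tail hl3
  obtain ⟨M⟩ := exists_model S23 S ha (hp b (by simp))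
  have hV : ∀ x ∈ [c, d, e], x ∈ perp₂ D a b := fun x hx => ⟨hp x (List.mem_cons_of_mem _ hx), hp' x hx⟩
  have hc := hV c (by simp)
  have hd := hV d (by simp)
  have he := hV e (by simp)
  have hmem : ∀ y ∈ com D [a, b, c, d, e], y ∈ perp₂ D a b ∧ (y ≠ c ∧ Commute c y) ∧ (y ≠ d ∧ Commute d y) ∧
      (y ≠ e ∧ Commute e y) := fun y hy => by
    rw [com_cons₂] at hy
    exact ⟨hy.1, hy.2 c (by simp), hy.2 d (by simp), hy.2 e (by simp)⟩
  have hpd : M.g d ∈ perp E₂ (M.g c) := (M.perp_iff hd hc).mpr ⟨(hp'' d (by simp)).2.1, (hp'' d (by simp)).2.2⟩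
  have hpe : M.g e ∈ perp₂ E₂ (M.g c) (M.g d) := ⟨(M.perp_iff he hc).mpr ⟨(hp'' e (by simp)).2.1, (hp'' e (by simp)).2.2⟩,
    (M.perp_iff he hd).mpr ⟨(hp3 e (by simp)).2.1, (hp3 e (by simp)).2.2⟩⟩
  obtain ⟨L', hL', hplane⟩ := (S22.ctx _ (M.mem c hc)).line_or_plane hpd hpe
  -- the count and commutation in the plane of a member off `L'`
  have key : ∀ x ∈ com D [a, b, c, d, e], M.g x ∉ L' →
      {y | y ∈ com D [a, b, c, d, e] ∧ Commute x y}.ncard = 19 ∧
      ∀ y₁ ∈ com D [a, b, c, d, e], Commute x y₁ → ∀ y₂ ∈ com D [a, b, c, d, e], Commute x y₂ → Commute y₁ y₂ := by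
    intro x hx hxL
    obtain ⟨hxV, hxc, hxd, hxe⟩ := hmem x hx
    obtain ⟨h21, hcl⟩ := hplane (M.g x) ((M.perp_iff hxV hc).mpr hxc) ((M.ne_iff hxV hd).mpr hxd.1)
      ((M.ne_iff hxV he).mpr hxe.1) ((M.comm d hd x hxV).mpr hxd.2) ((M.comm e he x hxV).mpr hxe.2) hxL
    refine ⟨?_, fun y₁ hy₁ c₁ y₂ hy₂ c₂ => ?_⟩
    · have hset : {y | y ∈ com D [a, b, c, d, e] ∧ Commute x y} =
          {y | y ∈ perp₂ D a b ∧ ((y ≠ c ∧ Commute c y) ∧ (y ≠ d ∧ y ≠ e) ∧ Commute d y ∧ Commute e y ∧ Commute x y)} := by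
        ext y
        rw [Set.mem_ofPred_eq, com_cons₂]
        simp only [List.forall_mem_cons, List.not_mem_nil, IsEmpty.forall_iff, implies_true, and_true,
          Set.mem_ofPred_eq]
        tauto
      rw [hset, M.ncard_eq _ (fun q => q ∈ perp E₂ (M.g c) ∧ (q ≠ M.g d ∧ q ≠ M.g e) ∧ Commute (M.g d) q ∧
        Commute (M.g e) q ∧ Commute (M.g x) q) fun y hy => by
          rw [M.perp_iff hy hc, M.ne_iff hy hd, M.ne_iff hy he, M.comm d hd y hy, M.comm e he y hy,
            M.comm x hxV y hy]]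
      rw [show {q | q ∈ E₂ ∧ (q ∈ perp E₂ (M.g c) ∧ (q ≠ M.g d ∧ q ≠ M.g e) ∧ Commute (M.g d) q ∧
          Commute (M.g e) q ∧ Commute (M.g x) q)} = {q | q ∈ perp E₂ (M.g c) ∧ Commute (M.g d) q ∧
          Commute (M.g e) q ∧ Commute (M.g x) q} \ {M.g d, M.g e} from ?_,
        Set.ncard_sdiff ?_ (Set.toFinite _), h21, Set.ncard_pair (Ne.symm hpe.2.2.1)]
      · intro q hq
        rcases hq with rfl | rfl
        · exact ⟨hpd, Commute.refl _, hpe.2.2.2.symm, (M.comm x hxV d hd).mpr hxd.2.symm⟩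
        · exact ⟨hpe.1, hpe.2.2.2, Commute.refl _, (M.comm x hxV e he).mpr hxe.2.symm⟩
      · ext q
        simp only [Set.mem_sdiff, Set.mem_insert_iff, Set.mem_singleton_iff, not_or, Set.mem_ofPred_eq]
        exact ⟨fun h => ⟨⟨h.2.1, h.2.2.2.1, h.2.2.2.2.1, h.2.2.2.2.2⟩, h.2.2.1⟩,
          fun h => ⟨h.1.1.1, h.1.1, h.2, h.1.2.1, h.1.2.2.1, h.1.2.2.2⟩⟩
    · obtain ⟨v₁, q₁, r₁, s₁⟩ := hmem y₁ hy₁
      obtain ⟨v₂, q₂, r₂, s₂⟩ := hmem y₂ hy₂
      exact (M.comm y₁ v₁ y₂ v₂).mp (hcl _ ((M.perp_iff v₁ hc).mpr q₁) ((M.comm d hd y₁ v₁).mpr r₁.2)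
        ((M.comm e he y₁ v₁).mpr s₁.2) ((M.comm x hxV y₁ v₁).mpr c₁) _ ((M.perp_iff v₂ hc).mpr q₂)
        ((M.comm d hd y₂ v₂).mpr r₂.2) ((M.comm e he y₂ v₂).mpr s₂.2) ((M.comm x hxV y₂ v₂).mpr c₂))
  have hnd := List.nodup_append.mp (show ([a, b, c, d, e] ++ [u, v, w]).Nodup from hT.1)
  have hLcom : ∀ t ∈ [u, v, w], t ∈ com D [a, b, c, d, e] := fun t ht =>
    ⟨hT.2.1 t (List.mem_append.mpr (Or.inr ht : t ∈ [a, b, c, d, e] ∨ t ∈ [u, v, w])),
      fun x hx => ⟨fun h => hnd.2.2 x hx t ht h.symm,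
        hT.2.2 x (List.mem_append.mpr (Or.inl hx : x ∈ [a, b, c, d, e] ∨ x ∈ [u, v, w])) t
          (List.mem_append.mpr (Or.inr ht : t ∈ [a, b, c, d, e] ∨ t ∈ [u, v, w]))⟩⟩
  have hLall : ∀ t ∈ [u, v, w], ∀ y ∈ com D [a, b, c, d, e], Commute t y := fun t ht y hy =>
    (hsee y hy.1 (hy.2 a (by simp)).2.symm ((((hy.2 b (by simp)).2.symm.mul_right (hy.2 c (by simp)).2.symm).mul_right
      (hy.2 d (by simp)).2.symm).mul_right (hy.2 e (by simp)).2.symm) t ht).symm
  have hinto : ∀ t ∈ [u, v, w], M.g t ∈ L' := fun t ht => by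
    by_contra h
    have h19 := (key t (hLcom t ht) h).1
    rw [show {y | y ∈ com D [a, b, c, d, e] ∧ Commute t y} = com D [a, b, c, d, e] from
      Set.ext fun y => ⟨fun hy => hy.1, fun hy => ⟨hy, hLall t ht y hy⟩⟩, h51] at h19
    omega
  have h3 : ({u, v, w} : Set G).ncard = 3 := by
    have := hnd.2.1
    simp only [List.nodup_cons, List.mem_cons, List.not_mem_nil, or_false, not_or, List.nodup_nil, and_true,
      not_false_eq_true] at this
    exact Set.ncard_eq_three.mpr ⟨u, v, w, this.1.1, this.1.2, this.2, rfl⟩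
  refine ⟨{u, v, w}, fun t ht => hLcom t (by simpa using ht), h3, fun t ht => hLall t (by simpa using ht),
    fun x hx hxL => key x hx fun hxL' => hxL ?_⟩
  have himg : M.g '' {u, v, w} = L' := by
    refine Set.eq_of_subset_of_ncard_le ?_ ?_ (Set.toFinite _)
    · rintro _ ⟨t, ht, rfl⟩; exact hinto t (by simpa using ht)
    · rw [Set.InjOn.ncard_image, h3]
      · exact hL'
      · intro s hs t ht h
        exact M.inj s (hmem s (hLcom s (by simpa using hs))).1 t (hmem t (hLcom t (by simpa using ht))).1 h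
  rw [← himg] at hxL'
  obtain ⟨t, ht, h⟩ := hxL'
  exact M.inj t (hmem t (hLcom t (by simpa using ht))).1 x (hmem x hx).1 h ▸ ht

section counting

open scoped Classical in
/-- the cliques of a given size -/
noncomputable def cliques [Fintype G] (D : Set G) (k : ℕ) : Finset (Finset G) :=
  (univ.powersetCard k).filter (IsClique D)

variable [Fintype G]

theorem mem_cliques {k : ℕ} {A : Finset G} : A ∈ cliques D k ↔ A.card = k ∧ IsClique D A := by
  classical
  simp [cliques, mem_powersetCard]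

theorem tuple_toList {A : Finset G} (h : IsClique D A) : Tuple D A.toList :=
  ⟨A.nodup_toList, fun a ha => h.1 (Finset.mem_toList.mp ha),
    fun a ha b hb => h.2 a (Finset.mem_toList.mp ha) b (Finset.mem_toList.mp hb)⟩

theorem card_cliques_succ (k : ℕ) {v : ℕ} (hv : ∀ A ∈ cliques D k, (com D A.toList).ncard = v) :
    (k + 1) * (cliques D (k + 1)).card = v * (cliques D k).card := by
  classical
  have h1 : ∀ B ∈ cliques D (k + 1), ((cliques D k).filter (· ⊆ B)).card = k + 1 := by
    intro B hB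
    obtain ⟨hBc, hBD, hBcl⟩ := mem_cliques.mp hB
    rw [show (cliques D k).filter (· ⊆ B) = B.powersetCard k from ?_, card_powersetCard, hBc,
      Nat.choose_succ_self_right]
    ext A
    simp only [mem_filter, mem_powersetCard, mem_cliques]
    exact ⟨fun h => ⟨h.2, h.1.1⟩, fun h => ⟨⟨h.2, fun x hx => hBD (h.1 hx),
      fun x hx y hy => hBcl x (h.1 hx) y (h.1 hy)⟩, h.1⟩⟩
  have h2 : ∀ A ∈ cliques D k, ((cliques D (k + 1)).filter (A ⊆ ·)).card = v := by
    intro A hA
    obtain ⟨hAc, hAD, hAcl⟩ := mem_cliques.mp hA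
    rw [← hv A hA, Set.ncard_eq_toFinset_card' (com D A.toList)]
    refine (card_bij' (fun y _ => insert y A) (fun B _ => ?_) ?_ ?_ ?_ ?_).symm
    · exact if h : (B \ A).Nonempty then h.choose else 1
    · intro y hy
      obtain ⟨hyD, hy⟩ := Set.mem_toFinset.mp hy
      have hyA : y ∉ A := fun h => (hy y (Finset.mem_toList.mpr h)).1 rfl
      refine mem_filter.mpr ⟨mem_cliques.mpr ⟨by rw [card_insert_of_notMem hyA, hAc], ?_, ?_⟩, subset_insert _ _⟩
      · rw [coe_insert]; exact Set.insert_subset hyD hAD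
      · intro p hp q hq
        rcases mem_insert.mp hp with ep | hp <;> rcases mem_insert.mp hq with eq' | hq
        · rw [ep, eq']
        · rw [ep]; exact (hy q (Finset.mem_toList.mpr hq)).2.symm
        · rw [eq']; exact (hy p (Finset.mem_toList.mpr hp)).2
        · exact hAcl p hp q hq
    · intro B hB
      obtain ⟨hB, hAB⟩ := mem_filter.mp hB
      obtain ⟨hBc, hBD, hBcl⟩ := mem_cliques.mp hB
      have hne : (B \ A).Nonempty := by
        rw [← card_pos, card_sdiff_of_subset hAB, hBc, hAc]; omega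
      rw [dif_pos hne, Set.mem_toFinset]
      obtain ⟨h1, h2⟩ := mem_sdiff.mp hne.choose_spec
      exact ⟨hBD h1, fun u hu => ⟨fun e => h2 (e ▸ Finset.mem_toList.mp hu),
        hBcl u (hAB (Finset.mem_toList.mp hu)) _ h1⟩⟩
    · intro y hy
      have hyA : y ∉ A := fun h => ((Set.mem_toFinset.mp hy).2 y (Finset.mem_toList.mpr h)).1 rfl
      have hne : (insert y A \ A).Nonempty := ⟨y, mem_sdiff.mpr ⟨mem_insert_self _ _, hyA⟩⟩
      rw [dif_pos hne]
      have := mem_sdiff.mp hne.choose_spec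
      exact (mem_insert.mp this.1).resolve_right this.2
    · intro B hB
      obtain ⟨hB, hAB⟩ := mem_filter.mp hB
      have hne : (B \ A).Nonempty := by
        rw [← card_pos, card_sdiff_of_subset hAB, (mem_cliques.mp hB).1, hAc]; omega
      rw [dif_pos hne]
      obtain ⟨h1, h2⟩ := mem_sdiff.mp hne.choose_spec
      refine eq_of_subset_of_card_le (insert_subset h1 hAB) ?_
      rw [card_insert_of_notMem h2, hAc, (mem_cliques.mp hB).1]
  have := sum_card_bipartiteAbove_eq_sum_card_bipartiteBelow (fun A B : Finset G => A ⊆ B)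
    (s := cliques D k) (t := cliques D (k + 1))
  simp only [bipartiteAbove, bipartiteBelow] at this
  rw [sum_congr rfl h1, sum_congr rfl h2, sum_const, sum_const, smul_eq_mul, smul_eq_mul] at this
  rw [mul_comm, ← this, mul_comm]

open scoped Classical in
include S22 S23 S in
/-- exactly three bases through five commuting transpositions -/
theorem bases_through_five (hM : Cfsg.IsOfTypeM23 Q E) (hN : D.ncard = 306936) {A : Finset G}
    (hA : A ∈ cliques D 5) : ((cliques D 24).filter (A ⊆ ·)).card = 3 := by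
  classical
  obtain ⟨hA5, hAD, hAcl⟩ := mem_cliques.mp hA
  obtain ⟨a, b, c, d, e, hl5⟩ : ∃ a b c d e, A.toList = [a, b, c, d, e] := by
    have h : A.toList.length = 5 := by rw [Finset.length_toList, hA5]
    match A.toList, h with
    | [a, b, c, d, e], _ => exact ⟨a, b, c, d, e, rfl⟩
  have hT : Tuple D [a, b, c, d, e] := hl5 ▸ tuple_toList ⟨hAD, hAcl⟩
  have hA' : ∀ x, x ∈ A ↔ x ∈ [a, b, c, d, e] := fun x => by rw [← hl5, Finset.mem_toList]
  have h51 : (com D [a, b, c, d, e]).ncard = 51 := by simpa using ncard_com S22 S23 S hN hT (by simp)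
  obtain ⟨L, hLsub, hL3, hLall, hplane⟩ := five_split S22 S23 S hM hN hT
  set W : Finset G := (com D [a, b, c, d, e] \ L).toFinset with hW
  have hW48 : W.card = 48 := by
    rw [hW, ← Set.ncard_eq_toFinset_card', Set.ncard_sdiff hLsub (Set.toFinite _), h51, hL3]
  let C : G → Finset G := fun w => {y | y ∈ com D [a, b, c, d, e] ∧ Commute w y}.toFinset
  have memW : ∀ {w}, w ∈ W ↔ w ∈ com D [a, b, c, d, e] ∧ w ∉ L := fun {w} => by simp [hW]
  have memC : ∀ {w y}, y ∈ C w ↔ y ∈ com D [a, b, c, d, e] ∧ Commute w y := fun {w y} => by simp [C]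
  have hC19 : ∀ w ∈ W, (C w).card = 19 := fun w hw => by
    rw [show (C w) = _ from rfl, ← Set.ncard_eq_toFinset_card']
    exact (hplane w (memW.mp hw).1 (memW.mp hw).2).1
  have hdisj : ∀ w, Disjoint A (C w) := fun w => disjoint_left.mpr fun x hx hx' =>
    ((memC.mp hx').1.2 x ((hA' x).mp hx)).1 rfl
  have himg : (cliques D 24).filter (A ⊆ ·) = W.image fun w => A ∪ C w := by
    ext B
    constructor
    · intro hB
      obtain ⟨hB, hAB⟩ := mem_filter.mp hB
      obtain ⟨hBc, hBD, hBcl⟩ := mem_cliques.mp hB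
      have hsub : ∀ y ∈ B \ A, y ∈ com D [a, b, c, d, e] := fun y hy => by
        obtain ⟨hy, hyA⟩ := mem_sdiff.mp hy
        exact ⟨hBD hy, fun x hx => ⟨fun h => hyA ((hA' y).mpr (h ▸ hx)), hBcl x (hAB ((hA' x).mpr hx)) y hy⟩⟩
      have h19 : (B \ A).card = 19 := by rw [card_sdiff_of_subset hAB, hBc, hA5]
      obtain ⟨w, hw, hwL⟩ : ∃ w ∈ B \ A, w ∉ L := by
        by_contra hcon
        push Not at hcon
        have h' : B \ A ⊆ L.toFinset := fun y hy => Set.mem_toFinset.mpr (hcon y hy)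
        have := card_le_card h'
        rw [← Set.ncard_eq_toFinset_card', hL3, h19] at this
        omega
      refine mem_image.mpr ⟨w, memW.mpr ⟨hsub w hw, hwL⟩, ?_⟩
      rw [← eq_of_subset_of_card_le (s := B \ A) (t := C w) (fun y hy => memC.mpr ⟨hsub y hy,
        hBcl w (mem_sdiff.mp hw).1 y (mem_sdiff.mp hy).1⟩) (by rw [hC19 w (memW.mpr ⟨hsub w hw, hwL⟩), h19]),
        union_sdiff_of_subset hAB]
    · intro hB
      obtain ⟨w, hw, rfl⟩ := mem_image.mp hB
      refine mem_filter.mpr ⟨mem_cliques.mpr ⟨?_, ?_, ?_⟩, subset_union_left⟩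
      · rw [card_union_of_disjoint (hdisj w), hA5, hC19 w hw]
      · intro x hx
        rcases mem_union.mp hx with h | h
        · exact hAD h
        · exact (memC.mp h).1.1
      · intro x hx y hy
        rcases mem_union.mp hx with h | h <;> rcases mem_union.mp hy with h' | h'
        · exact hAcl x h y h'
        · exact ((memC.mp h').1.2 x ((hA' x).mp h)).2
        · exact ((memC.mp h).1.2 y ((hA' y).mp h')).2.symm
        · exact (hplane w (memW.mp hw).1 (memW.mp hw).2).2 x (memC.mp h).1 (memC.mp h).2 y (memC.mp h').1 (memC.mp h').2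
  have hfib : ∀ B ∈ W.image (fun w => A ∪ C w), (W.filter fun w => A ∪ C w = B).card = 16 := by
    intro B hB
    obtain ⟨w, hw, rfl⟩ := mem_image.mp hB
    have hLC : L.toFinset ⊆ C w := fun u hu => memC.mpr ⟨hLsub (Set.mem_toFinset.mp hu),
      (hLall u (Set.mem_toFinset.mp hu) w (memW.mp hw).1).symm⟩
    rw [show (W.filter fun v => A ∪ C v = A ∪ C w) = C w \ L.toFinset from ?_, card_sdiff_of_subset hLC,
      hC19 w hw, ← Set.ncard_eq_toFinset_card', hL3]
    ext v
    simp only [mem_filter, mem_sdiff, Set.mem_toFinset]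
    constructor
    · rintro ⟨hv, he⟩
      have : v ∈ A ∪ C w := he ▸ mem_union_right _ (memC.mpr ⟨(memW.mp hv).1, Commute.refl v⟩)
      rcases mem_union.mp this with h | h
      · exact absurd (((memW.mp hv).1.2 v ((hA' v).mp h)).1 rfl) id
      · exact ⟨h, (memW.mp hv).2⟩
    · rintro ⟨hv, hvL⟩
      have hvW : v ∈ W := memW.mpr ⟨(memC.mp hv).1, hvL⟩
      refine ⟨hvW, congrArg (A ∪ ·) (eq_of_subset_of_card_le ?_ (by rw [hC19 w hw, hC19 v hvW])).symm⟩
      exact fun y hy => memC.mpr ⟨(memC.mp hy).1,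
        (hplane w (memW.mp hw).1 (memW.mp hw).2).2 v (memC.mp hv).1 (memC.mp hv).2 y (memC.mp hy).1 (memC.mp hy).2⟩
  have := card_eq_sum_card_image (fun w => A ∪ C w) W
  rw [sum_congr rfl hfib, sum_const, smul_eq_mul, hW48] at this
  rw [himg]
  omega

include S22 S23 S in
/-- the number of bases is odd -/
theorem card_bases_odd (hM : Cfsg.IsOfTypeM23 Q E) (hN : D.ncard = 306936) : Odd (cliques D 24).card := by
  classical
  have hv : ∀ k ≤ 4, ∀ A ∈ cliques D k, (com D A.toList).ncard =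
      if k = 0 then 306936 else if k = 1 then 31671 else if k = 2 then 3510 else if k = 3 then 693 else 180 := by
    intro k hk A hA
    have := ncard_com S22 S23 S hN (tuple_toList (mem_cliques.mp hA).2)
      (by rw [Finset.length_toList, (mem_cliques.mp hA).1]; omega)
    rw [Finset.length_toList, (mem_cliques.mp hA).1] at this
    rw [this]
    interval_cases k <;> simp
  have c0 : (cliques D 0).card = 1 := by
    rw [card_eq_one]
    refine ⟨∅, Finset.ext fun A => ?_⟩
    simp only [mem_cliques, mem_singleton, Finset.card_eq_zero, IsClique]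
    exact ⟨fun h => h.1, fun h => ⟨h, by simp [h], by simp [h]⟩⟩
  have c1 := card_cliques_succ (D := D) 0 (v := 306936) fun A hA => by simpa using hv 0 (by norm_num) A hA
  have c2 := card_cliques_succ (D := D) 1 (v := 31671) fun A hA => by simpa using hv 1 (by norm_num) A hA
  have c3 := card_cliques_succ (D := D) 2 (v := 3510) fun A hA => by simpa using hv 2 (by norm_num) A hA
  have c4 := card_cliques_succ (D := D) 3 (v := 693) fun A hA => by simpa using hv 3 (by norm_num) A hA
  have c5 := card_cliques_succ (D := D) 4 (v := 180) fun A hA => by simpa using hv 4 (by norm_num) A hA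
  have h5 : ∀ B ∈ cliques D 24, ((cliques D 5).filter (· ⊆ B)).card = 42504 := by
    intro B hB
    obtain ⟨hBc, hBD, hBcl⟩ := mem_cliques.mp hB
    rw [show (cliques D 5).filter (· ⊆ B) = B.powersetCard 5 from ?_, card_powersetCard, hBc]
    · norm_num [Nat.choose_eq_descFactorial_div_factorial, Nat.descFactorial_succ, Nat.factorial]
    ext A
    simp only [mem_filter, mem_powersetCard, mem_cliques]
    exact ⟨fun h => ⟨h.2, h.1.1⟩, fun h => ⟨⟨h.2, fun x hx => hBD (h.1 hx),
      fun x hx y hy => hBcl x (h.1 hx) y (h.1 hy)⟩, h.1⟩⟩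
  have := sum_card_bipartiteAbove_eq_sum_card_bipartiteBelow (fun A B : Finset G => A ⊆ B)
    (s := cliques D 5) (t := cliques D 24)
  simp only [bipartiteAbove, bipartiteBelow] at this
  rw [sum_congr rfl h5, sum_congr rfl fun A hA => bases_through_five S22 S23 S hM hN hA, sum_const, sum_const,
    smul_eq_mul, smul_eq_mul] at this
  simp only [Nat.zero_add, Nat.reduceAdd] at c1 c2 c3 c4 c5
  rw [c0] at c1
  have e1 : (cliques D 1).card = 306936 :=
    Nat.eq_of_mul_eq_mul_left (by norm_num : 0 < 1) (c1.trans (by norm_num))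
  rw [e1] at c2
  have e2 : (cliques D 2).card = 4860485028 :=
    Nat.eq_of_mul_eq_mul_left (by norm_num : 0 < 2) (c2.trans (by norm_num))
  rw [e2] at c3
  have e3 : (cliques D 3).card = 5686767482760 :=
    Nat.eq_of_mul_eq_mul_left (by norm_num : 0 < 3) (c3.trans (by norm_num))
  rw [e3] at c4
  have e4 : (cliques D 4).card = 985232466388170 :=
    Nat.eq_of_mul_eq_mul_left (by norm_num : 0 < 4) (c4.trans (by norm_num))
  rw [e4] at c5
  have e5 : (cliques D 5).card = 35468368789974120 :=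
    Nat.eq_of_mul_eq_mul_left (by norm_num : 0 < 5) (c5.trans (by norm_num))
  rw [e5] at this
  have e24 : (cliques D 24).card = 2503413946215 :=
    Nat.eq_of_mul_eq_mul_right (by norm_num : 0 < 42504) (by rw [← this])
  rw [e24, Nat.odd_iff]

end counting

end Cfsg.Agent.Lib.FischerMTypes.Bases
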