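import Mathlib
import Cfsg.Agent.Lib.FischerMTypes.Bases

/-!
Type M(24): the design cut out on a base by the transpositions outside it.  A transposition outside
sees two members or an octad; octads form a Steiner system; two disjoint octads see each other in
sixteen pairs of bases halves.
-/

set_option autoImplicit false
set_option linter.style.haveILetI false
set_option linter.unusedSectionVars false

namespace Cfsg.Agent.Lib.FischerMTypes.BaseDesign

open Cfsg.Agent.Lib.FischerMTypes.Basic Cfsg.Agent.Lib.FischerMTypes.Primitive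
  Cfsg.Agent.Lib.FischerMTypes.Levels Cfsg.Agent.Lib.FischerMTypes.Step
  Cfsg.Agent.Lib.FischerMTypes.Bases Cfsg.Agent.Lib.FischerMTypes.InvolutionFix24
open Cfsg.Agent.Lib.FischerMTypes.TraceCounts (Sys)
open Cfsg.Agent.Lib.FischerMTypes.CliqueMoments (deg sum_deg sum_deg_sq sum_deg_cube sum_split)
open Finset
open scoped Classical

universe u

variable {G : Type u} [Group G] [Fintype G] {D : Set G} {B : Finset G}

/-- what is used about type M(24) around a base -/
structure Facts (D : Set G) (B : Finset G) : Prop where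
  hD : Cfsg.IsThreeTranspositionGroup D
  class_card : D.ncard = 306936
  base : IsBase D B
  com_card : ∀ l : List G, Tuple D l → l.length ≤ 5 → (com D l).ncard =
    if l.length = 0 then 306936 else if l.length = 1 then 31671
      else if l.length = 2 then 3510 else if l.length = 3 then 693 else if l.length = 4 then 180 else 51
  trace : ∀ a ∈ D, ∀ x ∈ D, ¬ Commute a x → (perp₂ D a x).ncard = 3240
  nonedge : ∀ e ∈ D, ∀ u ∈ perp D e, ∀ v ∈ perp D e, ¬ Commute u v →
    {y | y ∈ perp D e ∧ (Commute u y ∧ Commute v y)}.ncard = 351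
  dich : ∀ z ∈ D, z ∉ B → ∀ e ∈ B, ∀ f ∈ B, e ≠ f → Commute e z → Commute f z →
    (B.filter fun c => Commute c z).card = 2 ∨ (B.filter fun c => Commute c z).card = 8
  see : ∀ a p q r s : G, Tuple D [a, p, q, r, s] → ∃ u v w : G, Tuple D [a, p, q, r, s, u, v, w] ∧
    ∀ t ∈ D, Commute t a → Commute t (p * q * r * s) → ∀ e ∈ [u, v, w], Commute t e
  split : ∀ a b c d e : G, Tuple D [a, b, c, d, e] →
    ∃ L : Set G, L ⊆ com D [a, b, c, d, e] ∧ L.ncard = 3 ∧
      (∀ u ∈ L, ∀ y ∈ com D [a, b, c, d, e], Commute u y) ∧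
      ∀ w ∈ com D [a, b, c, d, e], w ∉ L →
        {y | y ∈ com D [a, b, c, d, e] ∧ Commute w y}.ncard = 19 ∧
        ∀ y₁ ∈ com D [a, b, c, d, e], Commute w y₁ → ∀ y₂ ∈ com D [a, b, c, d, e], Commute w y₂ → Commute y₁ y₂

theorem facts_of_step {Q : Type u} [Group Q] [Finite Q] {E : Set Q} {Q₂ : Type u} [Group Q₂] [Finite Q₂]
    {E₂ : Set Q₂} {F : Type} [Field F] [Fintype F] (S22 : Sys E₂ F)
    (S23 : StepData E E₂ 3510 693 180 126 6531840) (S : StepData D E 31671 3510 693 351 4585351680)
    (hM : Cfsg.IsOfTypeM23 Q E) (P : Pinned D 31671 3510 693 351 3240) (hB : IsBase D B) : Facts D B := by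
  have hN : D.ncard = 306936 := (S.ncard_class P (F := 275264) (by norm_num)).trans (by norm_num)
  refine ⟨S.hD, hN, hB, fun l hl h5 => ncard_com S22 S23 S hN hl h5, fun a ha x hx h => S.ncard_trace P ha hx h,
    fun e he u hu v hv h => S.ncard_nonedge he hu hv h, fun z hz hzB e he f hf hne cez cfz => ?_,
    fun a p q r s hl => octad_see S22 S23 S hM hl, fun a b c d e hl => five_split S22 S23 S hM hN hl⟩
  obtain ⟨⟨hBD, hBcl⟩, hB24⟩ := hB
  have hfp : f ∈ perp D e := ⟨hBD hf, hne.symm, hBcl e he f hf⟩
  set V : Finset G := (perp₂ D e f).toFinset with hVdef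
  set C : Finset G := (B.erase e).erase f with hCdef
  have hfe : f ∈ B.erase e := mem_erase.mpr ⟨hne.symm, hf⟩
  have hC : C.card = 22 := by rw [hCdef, card_erase_of_mem hfe, card_erase_of_mem he, hB24]
  have memC : ∀ {c}, c ∈ C ↔ c ≠ f ∧ c ≠ e ∧ c ∈ B := fun {c} => by simp [hCdef]
  have hCV : C ⊆ V := fun c hc => by
    obtain ⟨h1, h2, h3⟩ := memC.mp hc
    exact Set.mem_toFinset.mpr ⟨⟨hBD h3, h2, hBcl e he c h3⟩, hBD h3, h1, hBcl f hf c h3⟩
  obtain ⟨P', -, -⟩ := params S22 S23 S (hBD he) hfp (V := V) (by rw [hVdef, Set.coe_toFinset]) hCV hC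
    fun c hc d hd => hBcl c (memC.mp hc).2.2 d (memC.mp hd).2.2
  have hzU : z ∈ V \ C := mem_sdiff.mpr ⟨Set.mem_toFinset.mpr ⟨⟨hz, fun h => hzB (h ▸ he), cez⟩, hz,
    fun h => hzB (h ▸ hf), cfz⟩, fun h => hzB (memC.mp h).2.2⟩
  have hsplit : (B.filter fun c => Commute c z).card = deg (fun u v : G => Commute u v) C z + 2 := by
    have h : (B.filter fun c => Commute c z) = insert e (insert f (C.filter fun c => Commute c z)) := by
      ext c
      simp only [mem_filter, mem_insert, memC]
      constructor
      · intro h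
        by_cases h1 : c = e
        · exact Or.inl h1
        by_cases h2 : c = f
        · exact Or.inr (Or.inl h2)
        exact Or.inr (Or.inr ⟨⟨h2, h1, h.1⟩, h.2⟩)
      · rintro (rfl | rfl | ⟨⟨-, -, h⟩, h'⟩)
        exacts [⟨he, cez⟩, ⟨hf, cfz⟩, ⟨h, h'⟩]
    rw [h, card_insert_of_notMem (by simp [hne, memC]), card_insert_of_notMem (by simp [memC]), deg]
  rcases P'.dichotomy.1 z hzU with h | h <;> omega

namespace Facts

variable (H : Facts D B)

/-- the transpositions outside the base -/
noncomputable abbrev out (D : Set G) (B : Finset G) : Finset G := D.toFinset \ B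

/-- the members of the base seen by `z` -/
noncomputable abbrev sees (B : Finset G) (z : G) : Finset G := B.filter fun c => Commute c z

theorem mem_out {z : G} : z ∈ out D B ↔ z ∈ D ∧ z ∉ B := by simp [out]

include H in
theorem bD {c : G} (hc : c ∈ B) : c ∈ D := H.base.1.1 hc

include H in
theorem bcl {c d : G} (hc : c ∈ B) (hd : d ∈ B) : Commute c d := H.base.1.2 c hc d hd

include H in
theorem tuple {A : Finset G} (hA : A ⊆ B) : Tuple D A.toList :=
  tuple_toList ⟨fun _ hx => H.bD (hA hx), fun _ hx _ hy => H.bcl (hA hx) (hA hy)⟩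

include H in
/-- the outside transpositions seeing a given part of the base -/
theorem card_seen {A : Finset G} (hA : A ⊆ B) :
    ((out D B).filter fun y => ∀ c ∈ A, Commute c y).card + (24 - A.card) = (com D A.toList).ncard := by
  have h := CliqueMoments.card_outside (R := fun u v : G => Commute u v) (V := D.toFinset) (C := B)
    (fun c hc => Set.mem_toFinset.mpr (H.bD hc)) (fun c hc d hd => H.bcl hc hd) hA
  rw [H.base.2] at h
  rw [Set.ncard_eq_toFinset_card']
  refine (Eq.trans ?_ h).trans (congrArg Finset.card ?_)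
  · congr 2
    ext y
    simp only [mem_filter, out]
  · ext y
    rw [Set.mem_toFinset]
    simp [com, Finset.mem_toList]

include H in
theorem card_one {c : G} (hc : c ∈ B) : ((out D B).filter fun y => Commute c y).card = 31648 := by
  have h := H.card_seen (A := {c}) (by simpa using hc)
  simp only [Finset.mem_singleton, forall_eq, card_singleton, toList_singleton] at h
  rw [H.com_card [c] (by simpa using H.tuple (A := {c}) (by simpa using hc)) (by simp)] at h
  simp at h
  omega

include H in
theorem card_two {c d : G} (hc : c ∈ B) (hd : d ∈ B) (hne : c ≠ d) :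
    ((out D B).filter fun y => Commute c y ∧ Commute d y).card = 3488 := by
  have hA : ({c, d} : Finset G) ⊆ B := by simp [insert_subset_iff, hc, hd]
  have h := H.card_seen hA
  simp only [mem_insert, Finset.mem_singleton, forall_eq_or_imp, forall_eq, card_pair hne] at h
  rw [H.com_card _ (H.tuple hA) (by rw [length_toList, card_pair hne]; norm_num), length_toList,
    card_pair hne] at h
  simp at h
  omega

include H in
/-- an outside transposition sees two members or eight -/
theorem sees_card {z : G} (hz : z ∈ out D B) : (sees B z).card = 2 ∨ (sees B z).card = 8 := by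
  have hcase : ∀ y ∈ out D B, 2 ≤ (sees B y).card → (sees B y).card = 2 ∨ (sees B y).card = 8 := by
    intro y hy h2
    obtain ⟨e, he, f, hf, hne⟩ := one_lt_card.mp h2
    obtain ⟨he, ce⟩ := mem_filter.mp he
    obtain ⟨hf, cf⟩ := mem_filter.mp hf
    exact H.dich y (mem_out.mp hy).1 (mem_out.mp hy).2 e he f hf hne ce cf
  have hU : (out D B).card = 306912 := by
    rw [out, card_sdiff_of_subset (fun c hc => Set.mem_toFinset.mpr (H.bD hc)), ← Set.ncard_eq_toFinset_card',
      H.class_card, H.base.2]
  have h24 : B.card = 23 + 1 := H.base.2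
  have s1 : ∑ y ∈ out D B, (sees B y).card = 759552 := by
    show ∑ y ∈ out D B, deg (fun u v : G => Commute u v) B y = _
    rw [sum_deg, sum_const_nat fun c hc => H.card_one hc, H.base.2]
  have s2 : ∑ y ∈ out D B, (sees B y).card ^ 2 = 2684928 := by
    show ∑ y ∈ out D B, deg (fun u v : G => Commute u v) B y ^ 2 = _
    rw [sum_deg_sq, sum_const_nat (m := 111872) fun c hc => ?_, H.base.2]
    rw [sum_split (v := 3488) hc h24 fun d hd hne => H.card_two hc hd (Ne.symm hne)]
    simp only [and_self, H.card_one hc]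
  have hzero : ∑ y ∈ out D B, (((sees B y).card : ℤ) - 2) * (((sees B y).card : ℤ) - 8) = 0 := by
    have : ∀ m : ℤ, (m - 2) * (m - 8) = m ^ 2 - 10 * m + 16 := fun m => by ring
    simp only [this, sum_add_distrib, sum_sub_distrib, ← mul_sum, sum_const, nsmul_eq_mul, hU]
    rw [show ∑ y ∈ out D B, ((sees B y).card : ℤ) = 759552 by exact_mod_cast s1,
      show ∑ y ∈ out D B, ((sees B y).card : ℤ) ^ 2 = 2684928 by exact_mod_cast s2]
    norm_num
  have hnn : ∀ y ∈ out D B, (0 : ℤ) ≤ (((sees B y).card : ℤ) - 2) * (((sees B y).card : ℤ) - 8) := by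
    intro y hy
    by_cases h2 : 2 ≤ (sees B y).card
    · rcases hcase y hy h2 with h | h <;> rw [h] <;> norm_num
    · exact mul_nonneg_of_nonpos_of_nonpos (by omega) (by omega)
  rcases mul_eq_zero.mp ((sum_eq_zero_iff_of_nonneg hnn).mp hzero z hz) with h | h <;> omega

include H in
/-- five members of the base lie in one octad -/
theorem sees_eq {A : Finset G} (hA : A ⊆ B) (h5 : A.card = 5) {y z : G} (hy : y ∈ out D B) (hz : z ∈ out D B)
    (hAy : A ⊆ sees B y) (hAz : A ⊆ sees B z) : sees B y = sees B z := by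
  obtain ⟨a, b, c, d, e, hl5⟩ : ∃ a b c d e, A.toList = [a, b, c, d, e] := by
    have h : A.toList.length = 5 := by rw [Finset.length_toList, h5]
    match A.toList, h with
    | [a, b, c, d, e], _ => exact ⟨a, b, c, d, e, rfl⟩
  have hA' : ∀ x, x ∈ A ↔ x ∈ [a, b, c, d, e] := fun x => by rw [← hl5, Finset.mem_toList]
  obtain ⟨u, v, w, hT, hsee⟩ := H.see a b c d e (hl5 ▸ H.tuple hA)
  have sees5 : ∀ t ∈ D, (∀ x ∈ A, Commute x t) → ∀ k ∈ [u, v, w], Commute t k := fun t ht h =>
    hsee t ht (h a ((hA' a).mpr (by simp))).symm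
      ((((h b ((hA' b).mpr (by simp))).symm.mul_right (h c ((hA' c).mpr (by simp))).symm).mul_right
        (h d ((hA' d).mpr (by simp))).symm).mul_right (h e ((hA' e).mpr (by simp))).symm)
  have hmT : ∀ t ∈ [u, v, w], t ∈ [a, b, c, d, e, u, v, w] := fun t ht =>
    List.mem_append.mpr (Or.inr ht : t ∈ [a, b, c, d, e] ∨ t ∈ [u, v, w])
  have hkB : ∀ k ∈ [u, v, w], k ∈ B := fun k hk => by
    by_contra hkB
    have hall : sees B k = B := filter_true_of_mem fun c hc => sees5 c (H.bD hc) (fun x hx => H.bcl (hA hx) hc) k hk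
    rcases H.sees_card (mem_out.mpr ⟨hT.2.1 k (hmT k hk), hkB⟩) with h | h <;>
      rw [hall, H.base.2] at h <;> omega
  have key : ∀ t ∈ out D B, A ⊆ sees B t → sees B t = A ∪ [u, v, w].toFinset := by
    intro t ht hAt
    have hc5 := sees5 t (mem_out.mp ht).1 fun x hx => (mem_filter.mp (hAt hx)).2
    have hsub : A ∪ [u, v, w].toFinset ⊆ sees B t := union_subset hAt fun k hk =>
      mem_filter.mpr ⟨hkB k (List.mem_toFinset.mp hk), (hc5 k (List.mem_toFinset.mp hk)).symm⟩
    refine (eq_of_subset_of_card_le hsub ?_).symm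
    have h8 : (A ∪ [u, v, w].toFinset).card = 8 := by
      rw [show A ∪ [u, v, w].toFinset = [a, b, c, d, e, u, v, w].toFinset from ?_,
        List.toFinset_card_of_nodup hT.1]
      · rfl
      · ext x
        rw [mem_union, List.mem_toFinset, List.mem_toFinset, hA',
          show [a, b, c, d, e, u, v, w] = [a, b, c, d, e] ++ [u, v, w] from rfl, List.mem_append]
    rw [h8]
    rcases H.sees_card ht with h | h <;> omega
  rw [key y hy hAy, key z hz hAz]

include H in
/-- thirty-two outside transpositions see five given members -/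
theorem card_five {A : Finset G} (hA : A ⊆ B) (h5 : A.card = 5) :
    ((out D B).filter fun y => ∀ c ∈ A, Commute c y).card = 32 := by
  have h := H.card_seen hA
  rw [H.com_card _ (H.tuple hA) (by rw [length_toList, h5]), length_toList, h5] at h
  simp at h
  omega

/-- the octads -/
noncomputable def octads (D : Set G) (B : Finset G) : Finset (Finset G) :=
  ((out D B).filter fun z => (sees B z).card = 8).image (sees B)

theorem mem_octads {O : Finset G} : O ∈ octads D B ↔ ∃ z ∈ out D B, (sees B z).card = 8 ∧ sees B z = O := by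
  simp only [octads, mem_image, mem_filter, and_assoc]

theorem octad_card {O : Finset G} (h : O ∈ octads D B) : O.card = 8 := by
  obtain ⟨z, -, hz, rfl⟩ := mem_octads.mp h
  exact hz

theorem octad_sub {O : Finset G} (h : O ∈ octads D B) : O ⊆ B := by
  obtain ⟨z, -, -, rfl⟩ := mem_octads.mp h
  exact filter_subset _ _

include H in
theorem existsUnique_octad {A : Finset G} (hA : A ⊆ B) (h5 : A.card = 5) :
    ((octads D B).filter (A ⊆ ·)).card = 1 := by
  obtain ⟨z, hz⟩ := card_pos.mp (show 0 < ((out D B).filter fun y => ∀ c ∈ A, Commute c y).card by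
    rw [H.card_five hA h5]; norm_num)
  obtain ⟨hzU, hzA⟩ := mem_filter.mp hz
  have hAz : A ⊆ sees B z := fun c hc => mem_filter.mpr ⟨hA hc, hzA c hc⟩
  rw [card_eq_one]
  refine ⟨sees B z, Finset.ext fun O => ?_⟩
  simp only [mem_filter, Finset.mem_singleton]
  constructor
  · rintro ⟨hO, hAO⟩
    obtain ⟨y, hy, -, rfl⟩ := mem_octads.mp hO
    exact H.sees_eq hA h5 hy hzU hAO hAz
  · rintro rfl
    refine ⟨mem_octads.mpr ⟨z, hzU, ?_, rfl⟩, hAz⟩
    have := card_le_card hAz
    rcases H.sees_card hzU with h | h <;> omega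

theorem card_between {O P : Finset G} (hP : P ⊆ O) (h : P.card ≤ 5) :
    ((O.powersetCard 5).filter (P ⊆ ·)).card = (O.card - P.card).choose (5 - P.card) := by
  rw [← card_sdiff_of_subset hP, ← card_powersetCard]
  refine card_bij' (fun A _ => A \ P) (fun A _ => A ∪ P) ?_ ?_ ?_ ?_
  · intro A hA
    obtain ⟨hA, hPA⟩ := mem_filter.mp hA
    obtain ⟨hAO, hA5⟩ := mem_powersetCard.mp hA
    exact mem_powersetCard.mpr ⟨sdiff_subset_sdiff hAO (Finset.Subset.refl P), by rw [card_sdiff_of_subset hPA, hA5]⟩
  · intro A hA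
    obtain ⟨hAO, hA5⟩ := mem_powersetCard.mp hA
    have hd : Disjoint A P := disjoint_left.mpr fun x hx => (mem_sdiff.mp (hAO hx)).2
    refine mem_filter.mpr ⟨mem_powersetCard.mpr ⟨union_subset (hAO.trans sdiff_subset) hP, ?_⟩, subset_union_right⟩
    rw [card_union_of_disjoint hd, hA5]
    omega
  · intro A hA
    exact sdiff_union_of_subset (mem_filter.mp hA).2
  · intro A hA
    refine union_sdiff_cancel_right (disjoint_left.mpr fun x hx => ?_)
    exact (mem_sdiff.mp ((mem_powersetCard.mp hA).1 hx)).2

include H in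
/-- the numbers of octads through small sets -/
theorem lam {P : Finset G} (hP : P ⊆ B) (h5 : P.card ≤ 5) :
    ((octads D B).filter (P ⊆ ·)).card * (8 - P.card).choose (5 - P.card) =
      (24 - P.card).choose (5 - P.card) := by
  have h1 : ∀ O ∈ (octads D B).filter (P ⊆ ·),
      (((B.powersetCard 5).filter (P ⊆ ·)).filter (· ⊆ O)).card = (8 - P.card).choose (5 - P.card) := by
    intro O hO
    obtain ⟨hO, hPO⟩ := mem_filter.mp hO
    rw [← octad_card hO, ← card_between hPO h5]
    congr 1
    ext A
    simp only [mem_filter, mem_powersetCard]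
    exact ⟨fun h => ⟨⟨h.2, h.1.1.2⟩, h.1.2⟩, fun h => ⟨⟨⟨h.1.1.trans (octad_sub hO), h.1.2⟩, h.2⟩, h.1.1⟩⟩
  have h2 : ∀ A ∈ (B.powersetCard 5).filter (P ⊆ ·), (((octads D B).filter (P ⊆ ·)).filter (A ⊆ ·)).card = 1 := by
    intro A hA
    obtain ⟨hA, hPA⟩ := mem_filter.mp hA
    obtain ⟨hAB, hA5⟩ := mem_powersetCard.mp hA
    rw [← H.existsUnique_octad hAB hA5, filter_filter]
    congr 1
    exact filter_congr fun O _ => ⟨fun h => h.2, fun h => ⟨hPA.trans h, h⟩⟩
  have := sum_card_bipartiteAbove_eq_sum_card_bipartiteBelow (fun A O : Finset G => A ⊆ O)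
    (s := (B.powersetCard 5).filter (P ⊆ ·)) (t := (octads D B).filter (P ⊆ ·))
  simp only [bipartiteAbove, bipartiteBelow] at this
  rw [sum_congr rfl h2, sum_congr rfl h1, sum_const, sum_const, smul_eq_mul, smul_eq_mul, mul_one,
    card_between hP h5, H.base.2] at this
  exact this.symm

include H in
theorem card_octads : (octads D B).card = 759 := by
  have h := H.lam (P := ∅) (by simp) (by simp)
  simp only [Finset.empty_subset, filter_true, card_empty, Nat.sub_zero] at h
  norm_num [Nat.choose_eq_descFactorial_div_factorial, Nat.descFactorial_succ, Nat.factorial] at h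
  omega

include H in
theorem inter_le {O O' : Finset G} (hO : O ∈ octads D B) (hO' : O' ∈ octads D B) (hne : O ≠ O') :
    (O ∩ O').card ≤ 4 := by
  by_contra h
  obtain ⟨A, hA, h5⟩ := exists_subset_card_eq (show 5 ≤ (O ∩ O').card by omega)
  obtain ⟨W, hW⟩ := card_eq_one.mp (H.existsUnique_octad ((hA.trans inter_subset_left).trans (octad_sub hO)) h5)
  have e1 : O ∈ (octads D B).filter (A ⊆ ·) := mem_filter.mpr ⟨hO, hA.trans inter_subset_left⟩
  have e2 : O' ∈ (octads D B).filter (A ⊆ ·) := mem_filter.mpr ⟨hO', hA.trans inter_subset_right⟩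
  rw [hW, Finset.mem_singleton] at e1 e2
  exact hne (e1.trans e2.symm)

include H in
theorem sum_choose {O : Finset G} (hO : O ∈ octads D B) {k v : ℕ} (hk : k ≤ 4)
    (hv : v * (8 - k).choose (5 - k) = (24 - k).choose (5 - k)) (hpos : 0 < (8 - k).choose (5 - k)) :
    ∑ O' ∈ (octads D B).erase O, (O ∩ O').card.choose k = (8).choose k * (v - 1) := by
  have h : ∀ P ∈ O.powersetCard k, (((octads D B).erase O).filter (P ⊆ ·)).card = v - 1 := by
    intro P hP
    obtain ⟨hPO, hPk⟩ := mem_powersetCard.mp hP
    have := H.lam (P := P) (hPO.trans (octad_sub hO)) (by omega)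
    rw [hPk, ← hv] at this
    rw [filter_erase, card_erase_of_mem (mem_filter.mpr ⟨hO, hPO⟩), Nat.eq_of_mul_eq_mul_right hpos this]
  have := sum_card_bipartiteAbove_eq_sum_card_bipartiteBelow (fun P O' : Finset G => P ⊆ O')
    (s := O.powersetCard k) (t := (octads D B).erase O)
  simp only [bipartiteAbove, bipartiteBelow] at this
  rw [sum_congr rfl h, sum_const, card_powersetCard, octad_card hO, smul_eq_mul] at this
  refine Eq.trans (sum_congr rfl fun O' _ => ?_) this.symm
  rw [← card_powersetCard]
  congr 1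
  ext P
  simp only [mem_powersetCard, mem_filter, subset_inter_iff]
  tauto

include H in
/-- thirty octads are disjoint from a given one, and none meets it in an odd number -/
theorem disjoint_octads {O : Finset G} (hO : O ∈ octads D B) :
    ((octads D B).filter fun O' => Disjoint O O').card = 30 ∧
      ∀ O' ∈ octads D B, O' ≠ O → (O ∩ O').card ≠ 1 ∧ (O ∩ O').card ≠ 3 := by
  have e : ∀ (k v : ℕ) (hk : k ≤ 4), v * (8 - k).choose (5 - k) = (24 - k).choose (5 - k) →
      0 < (8 - k).choose (5 - k) → ∑ O' ∈ (octads D B).erase O, ((O ∩ O').card.choose k : ℤ) =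
        ((8).choose k * (v - 1) : ℕ) := fun k v hk hv hpos => by
    exact_mod_cast H.sum_choose hO hk hv hpos
  have e0 := e 0 759 (by norm_num) (by norm_num [Nat.choose_eq_descFactorial_div_factorial, Nat.descFactorial_succ, Nat.factorial])
    (Nat.choose_pos (by norm_num))
  have e1 := e 1 253 (by norm_num) (by norm_num [Nat.choose_eq_descFactorial_div_factorial, Nat.descFactorial_succ, Nat.factorial])
    (Nat.choose_pos (by norm_num))
  have e2 := e 2 77 (by norm_num) (by norm_num [Nat.choose_eq_descFactorial_div_factorial, Nat.descFactorial_succ, Nat.factorial])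
    (Nat.choose_pos (by norm_num))
  have e3 := e 3 21 (by norm_num) (by norm_num [Nat.choose_eq_descFactorial_div_factorial, Nat.descFactorial_succ, Nat.factorial])
    (Nat.choose_pos (by norm_num))
  have e4 := e 4 5 (by norm_num) (by norm_num [Nat.choose_eq_descFactorial_div_factorial, Nat.descFactorial_succ, Nat.factorial])
    (Nat.choose_pos (by norm_num))
  norm_num [Nat.choose_eq_descFactorial_div_factorial (n := 8), Nat.descFactorial_succ, Nat.factorial]
    at e0 e1 e2 e3 e4
  have hle : ∀ O' ∈ (octads D B).erase O, (O ∩ O').card ≤ 4 := fun O' hO' =>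
    H.inter_le hO (mem_of_mem_erase hO') (ne_of_mem_erase hO').symm
  refine ⟨?_, fun O' hO' hne => ?_⟩
  · have hval : ∀ O' ∈ (octads D B).erase O, (if (O ∩ O').card = 0 then (1 : ℤ) else 0) =
        1 - ((O ∩ O').card.choose 1 : ℤ) + ((O ∩ O').card.choose 2 : ℤ) - ((O ∩ O').card.choose 3 : ℤ) +
          ((O ∩ O').card.choose 4 : ℤ) := fun O' hO' => by
      have := hle O' hO'
      interval_cases h : (O ∩ O').card <;> rfl
    have h := sum_congr rfl hval
    simp only [sum_add_distrib, sum_sub_distrib, sum_boole] at h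
    simp only [sum_const, nsmul_eq_mul, mul_one, Nat.choose_one_right] at h e0 e1
    have hset : ((octads D B).filter fun O' => Disjoint O O') =
        ((octads D B).erase O).filter fun O' => (O ∩ O').card = 0 := by
      ext O'
      simp only [mem_filter, mem_erase, card_eq_zero, disjoint_iff_inter_eq_empty]
      refine ⟨fun h => ⟨⟨fun he => ?_, h.1⟩, h.2⟩, fun h => ⟨h.1.2, h.2⟩⟩
      rw [he, inter_self] at h
      have := octad_card hO
      rw [h.2] at this
      simp at this
    rw [hset]
    refine Int.ofNat_inj.mp (?_ : ((((octads D B).erase O).filter fun O' => (O ∩ O').card = 0).card : ℤ) = 30)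
    omega
  · have hval : ∀ W ∈ (octads D B).erase O, (if (O ∩ W).card = 1 ∨ (O ∩ W).card = 3 then (1 : ℤ) else 0) =
        ((O ∩ W).card.choose 1 : ℤ) - 2 * ((O ∩ W).card.choose 2 : ℤ) + 4 * ((O ∩ W).card.choose 3 : ℤ) -
          8 * ((O ∩ W).card.choose 4 : ℤ) := fun W hW => by
      have := hle W hW
      interval_cases h : (O ∩ W).card <;> rfl
    have h := sum_congr rfl hval
    simp only [sum_add_distrib, sum_sub_distrib, ← mul_sum, sum_boole] at h
    simp only [Nat.choose_one_right] at h e1
    have hz : ((((octads D B).erase O).filter fun W => (O ∩ W).card = 1 ∨ (O ∩ W).card = 3).card : ℤ) = 0 := by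
      omega
    rw [Int.natCast_eq_zero, card_eq_zero, filter_eq_empty_iff] at hz
    have := hz (mem_erase.mpr ⟨hne, hO'⟩)
    push Not at this
    exact this

end Facts

end Cfsg.Agent.Lib.FischerMTypes.BaseDesign
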