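import Mathlib
import Cfsg.Agent.Lib.FischerMTypes.BaseDesign

/-!
Type M(24): the 32 outside transpositions seeing an octad form two cliques swapped by the other
members of the base; for disjoint octads each sees sixteen of the other 32.
-/

set_option autoImplicit false
set_option linter.style.haveILetI false
set_option linter.unusedSectionVars false
set_option maxHeartbeats 1000000

namespace Cfsg.Agent.Lib.FischerMTypes.BaseDesign.Facts

open Cfsg.Agent.Lib.FischerMTypes.Basic Cfsg.Agent.Lib.FischerMTypes.Primitive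
  Cfsg.Agent.Lib.FischerMTypes.Levels Cfsg.Agent.Lib.FischerMTypes.Step
  Cfsg.Agent.Lib.FischerMTypes.Bases
open Cfsg.Agent.Lib.FischerMTypes.CliqueMoments (deg sum_deg sum_deg_sq sum_deg_cube sum_split)
open Finset
open scoped Classical

universe u

variable {G : Type u} [Group G] [Fintype G] {D : Set G} {B : Finset G} (H : Facts D B)

/-- the outside transpositions seeing exactly the octad `O` -/
noncomputable abbrev fib (D : Set G) (B O : Finset G) : Finset G := (out D B).filter fun z => sees B z = O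

theorem mem_over {O : Finset G} {z : G} : z ∈ fib D B O ↔ z ∈ out D B ∧ sees B z = O := mem_filter

theorem mem_sees {z c : G} : c ∈ sees B z ↔ c ∈ B ∧ Commute c z := mem_filter

include H in
theorem over_eq {O A : Finset G} (hO : O ∈ octads D B) (hA : A ⊆ O) (h5 : A.card = 5) :
    fib D B O = (out D B).filter fun y => ∀ c ∈ A, Commute c y := by
  refine filter_congr fun y hy => ⟨fun h c hc => (mem_sees.mp (h.symm ▸ hA hc : c ∈ sees B y)).2, fun h => ?_⟩
  obtain ⟨z, hz, -, rfl⟩ := mem_octads.mp hO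
  exact H.sees_eq (hA.trans (filter_subset _ _)) h5 hy hz
    (fun c hc => mem_sees.mpr ⟨mem_of_mem_filter c (hA hc), h c hc⟩) hA

include H in
theorem card_over {O : Finset G} (hO : O ∈ octads D B) : (fib D B O).card = 32 := by
  obtain ⟨A, hA, h5⟩ := exists_subset_card_eq (show 5 ≤ O.card by rw [octad_card hO]; norm_num)
  rw [H.over_eq hO hA h5, H.card_five (hA.trans (octad_sub hO)) h5]

include H in
/-- the clique of sixteen of a member of `fib` -/
theorem class_over {O : Finset G} (hO : O ∈ octads D B) {z : G} (hz : z ∈ fib D B O) :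
    ((fib D B O).filter fun u => Commute z u).card = 16 ∧
      ∀ u ∈ fib D B O, Commute z u → ∀ v ∈ fib D B O, Commute z v → Commute u v := by
  obtain ⟨A, hA, h5⟩ := exists_subset_card_eq (show 5 ≤ O.card by rw [octad_card hO]; norm_num)
  have hAB := hA.trans (octad_sub hO)
  obtain ⟨a, b, c, d, e, hl5⟩ : ∃ a b c d e, A.toList = [a, b, c, d, e] := by
    have h : A.toList.length = 5 := by rw [Finset.length_toList, h5]
    match A.toList, h with
    | [a, b, c, d, e], _ => exact ⟨a, b, c, d, e, rfl⟩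
  have hA' : ∀ x, x ∈ A ↔ x ∈ [a, b, c, d, e] := fun x => by rw [← hl5, Finset.mem_toList]
  obtain ⟨L, hLsub, -, hLall, hplane⟩ := H.split a b c d e (hl5 ▸ H.tuple hAB)
  obtain ⟨hzU, hzO⟩ := mem_over.mp hz
  have memcom : ∀ y, y ∈ com D [a, b, c, d, e] ↔
      y ∈ fib D B O ∨ y ∈ B \ A := by
    intro y
    simp only [H.over_eq hO hA h5, mem_filter, mem_sdiff, Set.mem_toFinset, hA']
    constructor
    · rintro ⟨hy, h⟩
      by_cases hyB : y ∈ B
      · exact Or.inr ⟨hyB, fun hm => (h y hm).1 rfl⟩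
      · exact Or.inl ⟨⟨hy, hyB⟩, fun x hx => (h x hx).2⟩
    · rintro (⟨⟨hy, hyB⟩, h⟩ | ⟨hyB, hyA⟩)
      · exact ⟨hy, fun x hx => ⟨fun he => hyB (he ▸ hAB ((hA' x).mpr hx)), h x hx⟩⟩
      · exact ⟨H.bD hyB, fun x hx => ⟨fun he => hyA (he ▸ hx), H.bcl (hAB ((hA' x).mpr hx)) hyB⟩⟩
  have hzcom : z ∈ com D [a, b, c, d, e] := (memcom z).mpr (Or.inl hz)
  have hzL : z ∉ L := by
    intro hzL
    obtain ⟨x, hx⟩ : (B \ O).Nonempty := by
      rw [← card_pos, card_sdiff_of_subset (octad_sub hO), H.base.2, octad_card hO]; norm_num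
    obtain ⟨hxB, hxO⟩ := mem_sdiff.mp hx
    exact hxO (hzO ▸ mem_sees.mpr ⟨hxB, (hLall z hzL x ((memcom x).mpr
      (Or.inr (mem_sdiff.mpr ⟨hxB, fun h => hxO (hA h)⟩)))).symm⟩)
  obtain ⟨h19, hcl⟩ := hplane z hzcom hzL
  refine ⟨?_, fun u hu cu v hv cv => hcl u ((memcom u).mpr (Or.inl hu)) cu v ((memcom v).mpr (Or.inl hv)) cv⟩
  have hset : {y | y ∈ com D [a, b, c, d, e] ∧ Commute z y} =
      ((((fib D B O).filter fun u => Commute z u) ∪ (O \ A) : Finset G) : Set G) := by
    ext y
    simp only [coe_union, Set.mem_union, mem_coe, mem_filter, Set.mem_ofPred_eq, memcom, mem_sdiff]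
    constructor
    · rintro ⟨h | ⟨hyB, hyA⟩, hc⟩
      · exact Or.inl ⟨h, hc⟩
      · exact Or.inr ⟨hzO ▸ mem_sees.mpr ⟨hyB, hc.symm⟩, hyA⟩
    · rintro (⟨h, hc⟩ | ⟨hyO, hyA⟩)
      · exact ⟨Or.inl h, hc⟩
      · exact ⟨Or.inr ⟨octad_sub hO hyO, hyA⟩, (mem_sees.mp (hzO.symm ▸ hyO : y ∈ sees B z)).2.symm⟩
  rw [hset, Set.ncard_coe_finset, card_union_of_disjoint, card_sdiff_of_subset hA, octad_card hO, h5] at h19
  · omega
  · exact disjoint_left.mpr fun y hy hy' =>
      (mem_out.mp (mem_over.mp (mem_filter.mp hy).1).1).2 (octad_sub hO (mem_sdiff.mp hy').1)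

/-- what conjugation preserving the base does -/
theorem sees_conj (hD : Cfsg.IsThreeTranspositionGroup D) {g z : G} (hg : B.image (fun c => g * c * g⁻¹) = B)
    (hz : z ∈ out D B) :
    g * z * g⁻¹ ∈ out D B ∧ sees B (g * z * g⁻¹) = (sees B z).image fun c => g * c * g⁻¹ := by
  obtain ⟨hzD, hzB⟩ := mem_out.mp hz
  refine ⟨mem_out.mpr ⟨hD.2.1 g z hzD, fun h => ?_⟩, ?_⟩
  · rw [← hg] at h
    obtain ⟨c, hc, he⟩ := mem_image.mp h
    exact hzB (by rwa [show z = c by simpa using he.symm])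
  · conv_lhs => rw [sees, ← hg]
    rw [sees, filter_image]
    congr 1
    exact filter_congr fun c _ => commute_conj_iff g c z

include H in
theorem image_fix {g : G} (hg : g ∈ Subgroup.closure (B : Set G)) :
    (∀ c ∈ B, g * c * g⁻¹ = c) ∧ B.image (fun c => g * c * g⁻¹) = B := by
  have h : ∀ c ∈ B, g * c * g⁻¹ = c := fun c hc => by
    rw [← (commute_closure (u := c) (fun s hs => H.bcl hc hs) g hg).eq, mul_inv_cancel_right]
  refine ⟨h, ?_⟩
  conv_rhs => rw [← image_id (s := B)]
  exact image_congr fun c hc => h c hc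

include H in
theorem conj_out {g z : G} (hg : g ∈ Subgroup.closure (B : Set G)) (hz : z ∈ out D B) :
    g * z * g⁻¹ ∈ out D B ∧ sees B (g * z * g⁻¹) = sees B z := by
  obtain ⟨hfix, himg⟩ := H.image_fix hg
  obtain ⟨h1, h2⟩ := sees_conj H.hD himg hz
  refine ⟨h1, h2.trans ?_⟩
  conv_rhs => rw [← image_id (s := sees B z)]
  exact image_congr fun c hc => hfix c (mem_of_mem_filter c hc)

include H in
theorem conj_over {g z : G} {O : Finset G} (hg : g ∈ Subgroup.closure (B : Set G)) (hz : z ∈ fib D B O) :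
    g * z * g⁻¹ ∈ fib D B O :=
  mem_over.mpr ⟨(H.conj_out hg (mem_over.mp hz).1).1, (H.conj_out hg (mem_over.mp hz).1).2.trans (mem_over.mp hz).2⟩

include H in
theorem self_conj {O : Finset G} {e z : G} (he : e ∈ O) (hz : z ∈ fib D B O) : e * z * e⁻¹ = z := by
  rw [(mem_sees.mp ((mem_over.mp hz).2.symm ▸ he : e ∈ sees B z)).2.eq, mul_inv_cancel_right]

theorem not_seen {O : Finset G} {e z : G} (he : e ∈ B) (heO : e ∉ O) (hz : z ∈ fib D B O) :
    ¬ Commute e z := fun h => heO ((mem_over.mp hz).2 ▸ mem_sees.mpr ⟨he, h⟩)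

include H in
theorem commute_conjugate {e z : G} (he : e ∈ D) (hz : z ∈ D) (h : ¬ Commute e z) :
    ¬ Commute z (e * z * e⁻¹) := by
  rw [inv_eq H.hD.1 he, braid H.hD.1 he hz h]
  intro hc
  have h2 := (conj_comm_iff H.hD.1 hz).mpr hc
  rw [conj_self_inv H.hD.1 hz e, mul_self H.hD.1 hz, one_mul] at h2
  exact h h2.symm

include H in
/-- a member of the base outside `O` swaps the two cliques -/
theorem flip_over {O : Finset G} (hO : O ∈ octads D B) {e z u : G} (he : e ∈ B) (heO : e ∉ O)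
    (hz : z ∈ fib D B O) (hu : u ∈ fib D B O) : Commute z (e * u * e⁻¹) ↔ ¬ Commute z u := by
  have heB : e ∈ Subgroup.closure (B : Set G) := Subgroup.subset_closure he
  have hu' := H.conj_over heB hu
  have hne : ¬ Commute u (e * u * e⁻¹) := H.commute_conjugate (H.bD he)
    (mem_out.mp (mem_over.mp hu).1).1 (not_seen he heO hu)
  obtain ⟨h16, hcl⟩ := H.class_over hO hz
  refine ⟨fun h h' => hne (hcl u hu h' _ hu' h), fun h => ?_⟩
  have he' : ∀ v, e * (e * v * e⁻¹) * e⁻¹ = v := fun v => by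
    rw [inv_eq H.hD.1 (H.bD he)]; exact conj_self_inv H.hD.1 (H.bD he) v
  set X := (fib D B O).filter fun v => Commute z v
  have hsub : X.image (fun v => e * v * e⁻¹) ⊆ (fib D B O).filter fun v => ¬ Commute z v := by
    intro w hw
    obtain ⟨v, hv, rfl⟩ := mem_image.mp hw
    obtain ⟨hv, cv⟩ := mem_filter.mp hv
    refine mem_filter.mpr ⟨H.conj_over heB hv, fun hc => ?_⟩
    exact H.commute_conjugate (H.bD he) (mem_out.mp (mem_over.mp hv).1).1 (not_seen he heO hv)
      (hcl v hv cv _ (H.conj_over heB hv) hc)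
  have hsum := card_filter_add_card_filter_not (s := fib D B O) fun v => Commute z v
  rw [H.card_over hO, h16] at hsum
  have heq := eq_of_subset_of_card_le hsub (by
    rw [card_image_of_injective _ (fun p q hpq => by simpa using hpq), h16]; omega)
  obtain ⟨v, hv, rfl⟩ := mem_image.mp (heq ▸ mem_filter.mpr ⟨hu, h⟩ : u ∈ X.image fun v => e * v * e⁻¹)
  rw [he']
  exact (mem_filter.mp hv).2

include H in
theorem pair_moves {O : Finset G} {e f z : G} (he : e ∈ B) (heO : e ∉ O) (hf : f ∈ B) (hne : e ≠ f)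
    (hz : z ∈ fib D B O) : ¬ Commute (e * f) z := fun h =>
  not_seen he heO hz (comm_of_comm_mul H.hD.1 (H.bD he) (H.bD hf) (mem_out.mp (mem_over.mp hz).1).1
    (H.bcl he hf) hne h.symm).1.symm

include H in
theorem translate_inj {O : Finset G} {e f z : G} (he : e ∈ B) (heO : e ∉ O) (hf : f ∈ B)
    (hz : z ∈ fib D B O) (h : e * z * e⁻¹ = f * z * f⁻¹) : e = f := by
  by_contra hne
  refine H.pair_moves he heO hf hne hz ?_
  rw [inv_eq H.hD.1 (H.bD he), inv_eq H.hD.1 (H.bD hf)] at h
  show e * f * z = z * (e * f)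
  calc e * f * z = e * (f * z * f) * f := by
        rw [mul_assoc e (f * z * f), mul_assoc (f * z) f f, mul_self H.hD.1 (H.bD hf)]; group
    _ = e * (e * z * e) * f := by rw [h]
    _ = z * (e * f) := by
        rw [show e * (e * z * e) * f = (e * e) * (z * (e * f)) by group, mul_self H.hD.1 (H.bD he), one_mul]

include H in
/-- translates by pairs outside `O` -/
theorem card_translates {O R : Finset G} (hR : ∀ e ∈ R, e ∈ B ∧ e ∉ O) (hO : O ∈ octads D B) {z : G}
    (hz : z ∈ fib D B O) :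
    R.offDiag.image (fun p => p.1 * p.2 * z * (p.1 * p.2)⁻¹) ⊆
      ((fib D B O).filter fun u => Commute z u).erase z ∧
    R.card - 1 ≤ (R.offDiag.image fun p => p.1 * p.2 * z * (p.1 * p.2)⁻¹).card := by
  refine ⟨fun u hu => ?_, ?_⟩
  · obtain ⟨⟨e, f⟩, hp, rfl⟩ := mem_image.mp hu
    obtain ⟨he, hf, hne⟩ := mem_offDiag.mp hp
    have hg : e * f ∈ Subgroup.closure (B : Set G) :=
      mul_mem (Subgroup.subset_closure (hR e he).1) (Subgroup.subset_closure (hR f hf).1)
    refine mem_erase.mpr ⟨fun h => H.pair_moves (hR e he).1 (hR e he).2 (hR f hf).1 hne hz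
      (mul_inv_eq_iff_eq_mul.mp h), mem_filter.mpr ⟨H.conj_over hg hz, ?_⟩⟩
    show Commute z (e * f * z * (e * f)⁻¹)
    rw [show e * f * z * (e * f)⁻¹ = e * (f * z * f⁻¹) * e⁻¹ by group,
      H.flip_over hO (hR e he).1 (hR e he).2 hz (H.conj_over (Subgroup.subset_closure (hR f hf).1) hz),
      H.flip_over hO (hR f hf).1 (hR f hf).2 hz hz, not_not]
  · have h : ∀ t ∈ R.offDiag.image (fun p => p.1 * p.2 * z * (p.1 * p.2)⁻¹),
        (R.offDiag.filter fun p => p.1 * p.2 * z * (p.1 * p.2)⁻¹ = t).card ≤ R.card := by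
      intro t ht
      refine card_le_card_of_injOn Prod.fst (fun p hp => (mem_offDiag.mp (mem_filter.mp hp).1).1) ?_
      rintro ⟨e, f⟩ hp ⟨e', f'⟩ hp' (rfl : e = e')
      obtain ⟨hp, h1⟩ := mem_filter.mp hp
      obtain ⟨hp', h2⟩ := mem_filter.mp hp'
      have h3 : f * z * f⁻¹ = f' * z * f'⁻¹ := by
        have h4 : e * (f * z * f⁻¹) * e⁻¹ = e * (f' * z * f'⁻¹) * e⁻¹ := by
          calc e * (f * z * f⁻¹) * e⁻¹ = e * f * z * (e * f)⁻¹ := by group
            _ = e * f' * z * (e * f')⁻¹ := h1.trans h2.symm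
            _ = _ := by group
        exact mul_left_cancel (mul_right_cancel h4)
      rw [H.translate_inj (hR f (mem_offDiag.mp hp).2.1).1 (hR f (mem_offDiag.mp hp).2.1).2
        (hR f' (mem_offDiag.mp hp').2.1).1 hz h3]
    have h1 := card_le_mul_card_image (s := R.offDiag) (f := fun p => p.1 * p.2 * z * (p.1 * p.2)⁻¹) R.card h
    rw [offDiag_card, ← Nat.mul_sub_one] at h1
    rcases Nat.eq_zero_or_pos R.card with h0 | h0
    · omega
    · exact Nat.le_of_mul_le_mul_left h1 h0

include H in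
/-- two members of a clique differ by a pair outside the octad -/
theorem exists_pair {O : Finset G} (hO : O ∈ octads D B) {z u : G} (hz : z ∈ fib D B O)
    (hu : u ∈ fib D B O) (hc : Commute z u) (hne : u ≠ z) :
    ∃ e ∈ B, ∃ f ∈ B, u = e * f * z * (e * f)⁻¹ := by
  obtain ⟨hsub, hle⟩ := H.card_translates (R := B \ O) (fun e he => mem_sdiff.mp he) hO hz
  rw [card_sdiff_of_subset (octad_sub hO), H.base.2, octad_card hO] at hle
  have heq := eq_of_subset_of_card_le hsub (by
    rw [card_erase_of_mem (mem_filter.mpr ⟨hz, Commute.refl z⟩), (H.class_over hO hz).1]; omega)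
  obtain ⟨⟨e, f⟩, hp, he⟩ := mem_image.mp (heq ▸ mem_erase.mpr ⟨hne, mem_filter.mpr ⟨hu, hc⟩⟩ :
    u ∈ (B \ O).offDiag.image fun p => p.1 * p.2 * z * (p.1 * p.2)⁻¹)
  exact ⟨e, (mem_sdiff.mp (mem_offDiag.mp hp).1).1, f, (mem_sdiff.mp (mem_offDiag.mp hp).2.1).1, he.symm⟩

include H in
/-- the numbers of neighbours seeing given members -/
theorem card_nbr_com {O : Finset G} {z : G} (hz : z ∈ fib D B O) {A : Finset G} (hA : A ⊆ O) (h3 : A.card ≤ 3) :
    (((out D B).filter fun w => w ≠ z ∧ Commute z w).filter fun w => ∀ c ∈ A, Commute c w).card +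
      (O.card - A.card) =
      if A.card = 0 then 31671 else if A.card = 1 then 3510 else if A.card = 2 then 693 else 180 := by
  obtain ⟨hzU, hzO⟩ := mem_over.mp hz
  obtain ⟨hzD, hzB⟩ := mem_out.mp hzU
  have hOB : O ⊆ B := hzO ▸ filter_subset _ _
  have hsee : ∀ c ∈ O, Commute c z := fun c hc => (mem_sees.mp (hzO.symm ▸ hc : c ∈ sees B z)).2
  have hl : Tuple D (z :: A.toList) := tuple_cons hzD (H.tuple (hA.trans hOB)) fun y hy => by
    have hy' := hA (Finset.mem_toList.mp hy)
    exact ⟨H.bD (hOB hy'), fun h => hzB (h ▸ hOB hy'), (hsee y hy').symm⟩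
  have h := H.com_card _ hl (by simp; omega)
  rw [show (z :: A.toList).length = A.card + 1 by simp, Set.ncard_eq_toFinset_card'] at h
  simp only [Nat.add_one_ne_zero, if_false, Nat.add_eq_right, Nat.succ_inj, Nat.reduceEqDiff] at h
  rw [← card_sdiff_of_subset hA, ← card_union_of_disjoint (disjoint_left.mpr fun y hy hy' =>
    (mem_out.mp (mem_filter.mp (mem_filter.mp hy).1).1).2 (hOB (mem_sdiff.mp hy').1))]
  refine Eq.trans (congrArg Finset.card ?_) (h.trans ?_)
  · ext y
    rw [Set.mem_toFinset]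
    simp only [mem_union, mem_filter, mem_sdiff, mem_out, com, List.forall_mem_cons,
      Finset.mem_toList, Set.mem_ofPred_eq]
    constructor
    · rintro (⟨⟨⟨hy, hyB⟩, hyz, hzy⟩, hc⟩ | ⟨hyO, hyA⟩)
      · exact ⟨Set.mem_toFinset.mp hy, ⟨hyz, hzy⟩,
          fun c hc' => ⟨fun e => hyB (e ▸ hOB (hA hc')), hc c hc'⟩⟩
      · exact ⟨H.bD (hOB hyO), ⟨fun e => hzB (e ▸ hOB hyO), (hsee y hyO).symm⟩,
          fun c hc => ⟨fun e => hyA (e ▸ hc), H.bcl (hOB (hA hc)) (hOB hyO)⟩⟩
    · rintro ⟨hy, ⟨hyz, hzy⟩, hc⟩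
      by_cases hyB : y ∈ B
      · exact Or.inr ⟨hzO ▸ mem_sees.mpr ⟨hyB, hzy.symm⟩, fun hyA => (hc y hyA).1 rfl⟩
      · exact Or.inl ⟨⟨⟨Set.mem_toFinset.mpr hy, hyB⟩, hyz, hzy⟩, fun c hc' => (hc c hc').2⟩
  · interval_cases hc : A.card <;> simp

include H in
/-- each member of `fib O` sees sixteen fib any disjoint octad -/
theorem card_cross {O₁ O₂ : Finset G} (h₁ : O₁ ∈ octads D B) (h₂ : O₂ ∈ octads D B) (hd : Disjoint O₁ O₂)
    {z : G} (hz : z ∈ fib D B O₁) : ((fib D B O₂).filter fun w => Commute z w).card = 16 := by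
  obtain ⟨hzU, hzO⟩ := mem_over.mp hz
  obtain ⟨hzD, hzB⟩ := mem_out.mp hzU
  have hOB := octad_sub h₁
  have hO8 := octad_card h₁
  have hsee : ∀ c ∈ O₁, Commute c z := fun c hc => (mem_sees.mp (hzO.symm ▸ hc : c ∈ sees B z)).2
  set W := (out D B).filter fun w => w ≠ z ∧ Commute z w with hW
  set R : G → G → Prop := fun u v => Commute u v
  have w0 : W.card = 31663 := by
    have := H.card_nbr_com hz (A := ∅) (by simp) (by simp)
    simp only [Finset.notMem_empty, IsEmpty.forall_iff, implies_true, filter_true, card_empty, hO8, if_true,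
      ← hW] at this
    omega
  have w1 : ∀ c ∈ O₁, (W.filter fun y => R c y).card = 3503 := fun c hc => by
    have := H.card_nbr_com hz (A := {c}) (by simpa using hc) (by simp)
    simp only [Finset.mem_singleton, forall_eq, card_singleton, hO8, one_ne_zero, if_false, if_true, ← hW] at this
    show (W.filter fun y => Commute c y).card = _
    omega
  have w2 : ∀ c ∈ O₁, ∀ d ∈ O₁, c ≠ d → (W.filter fun y => R c y ∧ R d y).card = 687 := fun c hc d hd h => by
    have := H.card_nbr_com hz (A := {c, d}) (by simp [insert_subset_iff, hc, hd]) (by rw [card_pair h]; norm_num)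
    simp only [mem_insert, Finset.mem_singleton, forall_eq_or_imp, forall_eq, card_pair h, hO8, ← hW] at this
    show (W.filter fun y => Commute c y ∧ Commute d y).card = _
    norm_num at this
    omega
  have w3 : ∀ c ∈ O₁, ∀ d ∈ O₁, ∀ e ∈ O₁, c ≠ d → c ≠ e → d ≠ e →
      (W.filter fun y => R c y ∧ R d y ∧ R e y).card = 175 := fun c hc d hd e he h h' h'' => by
    have h3 : ({c, d, e} : Finset G).card = 3 := by
      rw [card_insert_of_notMem (by simp [h, h']), card_pair h'']
    have := H.card_nbr_com hz (A := {c, d, e}) (by simp [insert_subset_iff, hc, hd, he]) (by rw [h3])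
    simp only [mem_insert, Finset.mem_singleton, forall_eq_or_imp, forall_eq, h3, hO8, ← hW] at this
    show (W.filter fun y => Commute c y ∧ Commute d y ∧ Commute e y).card = _
    norm_num at this
    omega
  have v1 : ∀ e ∈ B \ O₁, (W.filter fun y => R e y).card = 3232 := fun e he => by
    obtain ⟨heB, heO⟩ := mem_sdiff.mp he
    have h := H.trace e (H.bD heB) z hzD (not_seen heB heO hz)
    rw [Set.ncard_eq_toFinset_card'] at h
    have hu : (perp₂ D e z).toFinset = (W.filter fun y => R e y) ∪ O₁ := by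
      ext y
      simp only [Set.mem_toFinset, mem_union, mem_filter, hW, mem_out]
      constructor
      · intro hy
        by_cases hyB : y ∈ B
        · exact Or.inr (hzO ▸ mem_sees.mpr ⟨hyB, hy.2.2.2.symm⟩)
        · exact Or.inl ⟨⟨⟨hy.1.1, hyB⟩, hy.2.2.1, hy.2.2.2⟩, hy.1.2.2⟩
      · rintro (⟨⟨⟨hy, hyB⟩, hyz, hzy⟩, hey⟩ | hyO)
        · exact ⟨⟨hy, fun h => hyB (h ▸ heB), hey⟩, hy, hyz, hzy⟩
        · exact ⟨⟨H.bD (hOB hyO), fun h => heO (h ▸ hyO), H.bcl heB (hOB hyO)⟩, H.bD (hOB hyO),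
            fun h => hzB (h ▸ hOB hyO), (hsee y hyO).symm⟩
    rw [hu, card_union_of_disjoint (disjoint_left.mpr fun y hy hy' =>
      (mem_out.mp (mem_filter.mp (mem_filter.mp hy).1).1).2 (hOB hy')), hO8] at h
    convert Nat.add_right_cancel (h.trans (show 3240 = 3232 + 8 by norm_num)) using 3
  have v11 : ∀ e ∈ O₁, ∀ f ∈ B \ O₁, (W.filter fun y => R e y ∧ R f y).card = 344 := fun e he f hf => by
    obtain ⟨hfB, hfO⟩ := mem_sdiff.mp hf
    have hze : z ∈ perp D e := ⟨hzD, fun h => hzB (h ▸ hOB he), hsee e he⟩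
    have hfe : f ∈ perp D e := ⟨H.bD hfB, fun h => hfO (h ▸ he), H.bcl (hOB he) hfB⟩
    have h := H.nonedge e (H.bD (hOB he)) z hze f hfe fun hc => not_seen hfB hfO hz hc.symm
    rw [Set.ncard_eq_toFinset_card'] at h
    have hu : {y | y ∈ perp D e ∧ (Commute z y ∧ Commute f y)}.toFinset =
        (W.filter fun y => R e y ∧ R f y) ∪ O₁.erase e := by
      ext y
      simp only [Set.mem_toFinset, mem_union, mem_filter, hW, mem_out, mem_erase, Set.mem_ofPred_eq]
      constructor
      · rintro ⟨hy, hzy, hfy⟩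
        by_cases hyB : y ∈ B
        · exact Or.inr ⟨hy.2.1, hzO ▸ mem_sees.mpr ⟨hyB, hzy.symm⟩⟩
        · exact Or.inl ⟨⟨⟨hy.1, hyB⟩, fun h => not_seen hfB hfO hz (h ▸ hfy), hzy⟩, hy.2.2, hfy⟩
      · rintro (⟨⟨⟨hy, hyB⟩, -, hzy⟩, hey, hfy⟩ | ⟨hye, hyO⟩)
        · exact ⟨⟨hy, fun h => hyB (h ▸ hOB he), hey⟩, hzy, hfy⟩
        · exact ⟨⟨H.bD (hOB hyO), hye, H.bcl (hOB he) (hOB hyO)⟩, (hsee y hyO).symm, H.bcl hfB (hOB hyO)⟩
    rw [hu, card_union_of_disjoint (disjoint_left.mpr fun y hy hy' =>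
      (mem_out.mp (mem_filter.mp (mem_filter.mp hy).1).1).2 (hOB (mem_of_mem_erase hy'))),
      card_erase_of_mem he, hO8] at h
    convert Nat.add_right_cancel (h.trans (show 351 = 344 + (8 - 1) by norm_num)) using 3
  set i : G → ℕ := fun w => deg R O₁ w
  set o : G → ℕ := fun w => deg R (B \ O₁) w
  have h7 : O₁.card = 7 + 1 := hO8
  have s1 : ∑ w ∈ W, i w = 28024 := by
    simp only [i]; rw [sum_deg, sum_const_nat w1, hO8]
  have s2 : ∑ w ∈ W, i w ^ 2 = 66496 := by
    simp only [i]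
    rw [sum_deg_sq, sum_const_nat (m := 8312) fun c hc => ?_, hO8]
    rw [sum_split (v := 687) hc h7 fun d hd hne => w2 c hc d hd (Ne.symm hne)]
    simp only [and_self, w1 c hc]
  have s3 : ∑ w ∈ W, i w ^ 3 = 202240 := by
    simp only [i]
    rw [sum_deg_cube, sum_const_nat (m := 25280) fun c hc => ?_, hO8]
    rw [sum_split (v := 2424) hc h7 fun d hd hne => ?_]
    · have e1 : ∀ e ∈ O₁, (W.filter fun y => R c y ∧ R c y ∧ R e y).card =
          (W.filter fun y => R c y ∧ R e y).card := fun e _ => by simp only [and_self_left]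
      rw [sum_congr rfl e1, sum_split (v := 687) hc h7 fun d hd hne => w2 c hc d hd (Ne.symm hne)]
      simp only [and_self, w1 c hc]
    · have hcd : c ∈ O₁.erase d := mem_erase.mpr ⟨Ne.symm hne, hc⟩
      rw [← add_sum_erase O₁ _ hd, sum_split (v := 175) hcd (n := 6) (by rw [card_erase_of_mem hd, hO8])
        fun e he hec => w3 c hc d hd e (mem_of_mem_erase he) (Ne.symm hne) (Ne.symm hec)
          (Ne.symm (ne_of_mem_erase he))]
      have h2 := w2 c hc d hd (Ne.symm hne)
      have ea : (W.filter fun y => R c y ∧ R d y ∧ R d y) = W.filter fun y => R c y ∧ R d y := by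
        simp only [and_self]
      have eb : (W.filter fun y => R c y ∧ R d y ∧ R c y) = W.filter fun y => R c y ∧ R d y := by
        ext y; simp only [mem_filter]; tauto
      rw [ea, eb, h2]
  have so : ∑ w ∈ W, o w = 51712 := by
    simp only [o]; rw [sum_deg, sum_const_nat v1, card_sdiff_of_subset hOB, H.base.2, hO8]
  have sio : ∑ w ∈ W, i w * o w = 44032 := by
    have e : ∀ w, i w * o w = ((O₁ ×ˢ (B \ O₁)).filter fun p => R p.1 w ∧ R p.2 w).card := fun w => by
      simp only [i, o, deg]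
      rw [← card_product]
      congr 1
      ext ⟨c, d⟩
      simp only [mem_product, mem_filter]
      tauto
    rw [sum_congr rfl fun w _ => e w]
    have := sum_card_bipartiteAbove_eq_sum_card_bipartiteBelow (fun (w : G) (p : G × G) => R p.1 w ∧ R p.2 w)
      (s := W) (t := O₁ ×ˢ (B \ O₁))
    simp only [bipartiteAbove, bipartiteBelow] at this
    rw [this, sum_const_nat (m := 344) fun p hp => v11 p.1 (mem_product.mp hp).1 p.2 (mem_product.mp hp).2,
      card_product, card_sdiff_of_subset hOB, H.base.2, hO8]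
  have hio : ∀ w ∈ W, i w + o w = (sees B w).card := fun w _ => by
    rw [sees, ← union_sdiff_of_subset hOB, filter_union, card_union_of_disjoint
      (disjoint_filter_filter disjoint_sdiff)]
    simp only [i, o, deg, R, union_sdiff_of_subset hOB]
  set f : G → ℤ := fun w => (i w : ℤ) ^ 3 - 5 * (i w : ℤ) ^ 2 + 10 * i w + 4 * o w - 2 * ((i w * o w : ℕ) : ℤ) - 8
  have hf : ∀ w ∈ W, f w = (if sees B w = O₁ then 264 else 0) +
      (if (sees B w).card = 8 ∧ Disjoint O₁ (sees B w) then 24 else 0) := by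
    intro w hw
    have hwU := (mem_filter.mp hw).1
    have hsum := hio w hw
    have hi : i w = (O₁ ∩ sees B w).card := by
      simp only [i, deg, R]
      congr 1
      ext c
      simp only [mem_filter, mem_inter, sees]
      exact ⟨fun h => ⟨h.1, hOB h.1, h.2⟩, fun h => ⟨h.1, h.2.2⟩⟩
    rcases H.sees_card hwU with h | h
    · rw [if_neg (fun e => by rw [e, hO8] at h; omega), if_neg (fun e => by omega)]
      have : o w = 2 - i w := by omega
      have : i w ≤ 2 := by omega
      simp only [f]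
      rw [‹o w = _›]
      interval_cases i w <;> norm_num
    · have ho : o w = 8 - i w := by omega
      simp only [f]
      rw [ho]
      by_cases heq : sees B w = O₁
      · rw [if_pos heq, if_neg (fun e => ?_)]
        · rw [hi, heq, inter_self, hO8]; norm_num
        · have hd' := e.2
          rw [heq, disjoint_self] at hd'
          simp [hd'] at hO8
      rw [if_neg heq]
      have hoct : sees B w ∈ octads D B := mem_octads.mpr ⟨w, hwU, h, rfl⟩
      obtain ⟨n1, n3⟩ := (H.disjoint_octads h₁).2 _ hoct heq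
      have hle := H.inter_le h₁ hoct (Ne.symm heq)
      by_cases hdd : Disjoint O₁ (sees B w)
      · rw [if_pos ⟨h, hdd⟩, hi, disjoint_iff_inter_eq_empty.mp hdd]; norm_num
      · rw [if_neg (fun e => hdd e.2)]
        have h0 : i w ≠ 0 := fun e => hdd (disjoint_iff_inter_eq_empty.mpr (card_eq_zero.mp (hi ▸ e)))
        rw [← hi] at n1 n3 hle
        interval_cases i w
        all_goals first | omega | norm_num
  have hsame : (W.filter fun w => sees B w = O₁).card = 15 := by
    rw [show (W.filter fun w => sees B w = O₁) = ((fib D B O₁).filter fun u => Commute z u).erase z from ?_,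
      card_erase_of_mem (mem_filter.mpr ⟨hz, Commute.refl z⟩), (H.class_over h₁ hz).1]
    ext w
    simp only [hW, mem_filter, mem_erase]
    tauto
  set Dis := W.filter fun w => (sees B w).card = 8 ∧ Disjoint O₁ (sees B w) with hDis
  have h480 : Dis.card = 480 := by
    have hs := sum_congr rfl hf
    simp only [f, sum_add_distrib, sum_sub_distrib, ← mul_sum, sum_const, nsmul_eq_mul, w0,
      sum_ite, sum_const_zero, add_zero, hsame, ← hDis] at hs
    rw [show ∑ w ∈ W, (i w : ℤ) ^ 3 = 202240 by exact_mod_cast s3,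
      show ∑ w ∈ W, (i w : ℤ) ^ 2 = 66496 by exact_mod_cast s2,
      show ∑ w ∈ W, (i w : ℤ) = 28024 by exact_mod_cast s1,
      show ∑ w ∈ W, (o w : ℤ) = 51712 by exact_mod_cast so,
      show ∑ w ∈ W, ((i w * o w : ℕ) : ℤ) = 44032 by exact_mod_cast sio] at hs
    omega
  set Λ := (octads D B).filter fun O => Disjoint O₁ O with hΛ
  set X : Finset G → Finset G := fun O => (fib D B O).filter fun w => Commute z w
  have hmaps : ∀ w ∈ Dis, sees B w ∈ Λ := fun w hw => by
    obtain ⟨hwW, h8, hdj⟩ := mem_filter.mp hw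
    exact mem_filter.mpr ⟨mem_octads.mpr ⟨w, (mem_filter.mp hwW).1, h8, rfl⟩, hdj⟩
  have hfib : ∀ O ∈ Λ, (Dis.filter fun w => sees B w = O) = X O := by
    intro O hO
    obtain ⟨hO, hdj⟩ := mem_filter.mp hO
    ext w
    simp only [hDis, hW, X, mem_filter]
    constructor
    · rintro ⟨⟨⟨hw, -, hc⟩, -⟩, h⟩; exact ⟨⟨hw, h⟩, hc⟩
    · rintro ⟨⟨hw, h⟩, hc⟩
      refine ⟨⟨⟨hw, fun e => ?_, hc⟩, h ▸ ⟨octad_card hO, hdj⟩⟩, h⟩
      rw [e, hzO] at h
      rw [← h, disjoint_self] at hdj
      simp [hdj] at hO8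
  have htot : ∑ O ∈ Λ, (X O).card = 480 := by
    rw [← h480, card_eq_sum_card_fiberwise hmaps]
    exact sum_congr rfl fun O hO => by rw [hfib O hO]
  have hbound : ∀ O ∈ Λ, (X O).card ≤ 16 := by
    intro O hO
    obtain ⟨hO, hdj⟩ := mem_filter.mp hO
    obtain ⟨f, hf⟩ : (B \ (O₁ ∪ O)).Nonempty := by
      rw [← card_pos, card_sdiff_of_subset (union_subset hOB (octad_sub hO)), card_union_of_disjoint hdj,
        H.base.2, hO8, octad_card hO]
      norm_num
    obtain ⟨hfB, hfn⟩ := mem_sdiff.mp hf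
    rw [mem_union, not_or] at hfn
    have hfc : f ∈ Subgroup.closure (B : Set G) := Subgroup.subset_closure hfB
    have hsub : (X O).image (fun w => f * w * f⁻¹) ⊆ (fib D B O).filter fun w => ¬ Commute z w := by
      intro w' hw'
      obtain ⟨w, hw, rfl⟩ := mem_image.mp hw'
      obtain ⟨hw, hc⟩ := mem_filter.mp hw
      refine mem_filter.mpr ⟨H.conj_over hfc hw, fun hc' => ?_⟩
      have hwD := (mem_out.mp (mem_over.mp hw).1).1
      rw [inv_eq H.hD.1 (H.bD hfB), braid H.hD.1 (H.bD hfB) hwD (not_seen hfB hfn.2 hw)] at hc'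
      have := (conj_comm_iff H.hD.1 hwD).mpr hc'
      rw [conj_self_inv H.hD.1 hwD f, show w * z * w = z by
        rw [← hc.eq, mul_assoc, mul_self H.hD.1 hwD, mul_one]] at this
      exact not_seen hfB hfn.1 hz this.symm
    have h1 := card_le_card hsub
    rw [card_image_of_injective _ (fun p q hpq => by simpa using hpq)] at h1
    have h2 := card_filter_add_card_filter_not (s := fib D B O) fun w => Commute z w
    rw [H.card_over hO] at h2
    simp only [X] at h1 ⊢
    omega
  have h30 : Λ.card = 30 := (H.disjoint_octads h₁).1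
  have := (sum_eq_sum_iff_of_le hbound).mp (by rw [htot, sum_const, h30]; rfl) O₂ (mem_filter.mpr ⟨h₂, hd⟩)
  exact this

include H in
/-- a member of the third octad flips commuting, the others do not -/
theorem flip_cross {O₁ O₂ : Finset G} (h₁ : O₁ ∈ octads D B) (h₂ : O₂ ∈ octads D B) (hd : Disjoint O₁ O₂)
    {e z w : G} (he : e ∈ B) (hz : z ∈ fib D B O₁) (hw : w ∈ fib D B O₂) :
    Commute z (e * w * e⁻¹) ↔ (Commute z w ↔ e ∈ O₁ ∪ O₂) := by
  by_cases h2 : e ∈ O₂
  · rw [H.self_conj h2 hw]; simp [h2]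
  by_cases h1 : e ∈ O₁
  · have hz' := H.self_conj h1 hz
    have := commute_conj_iff e z w
    simp only [MulAut.conj_apply, hz'] at this
    simp [h1, this]
  simp only [mem_union, h1, h2, or_self, iff_false]
  have heB : e ∈ Subgroup.closure (B : Set G) := Subgroup.subset_closure he
  have he' : ∀ v, e * (e * v * e⁻¹) * e⁻¹ = v := fun v => by
    rw [inv_eq H.hD.1 (H.bD he)]; exact conj_self_inv H.hD.1 (H.bD he) v
  have key : ∀ v ∈ fib D B O₂, Commute z v → ¬ Commute z (e * v * e⁻¹) := by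
    intro v hv hc hc'
    have hvD := (mem_out.mp (mem_over.mp hv).1).1
    rw [inv_eq H.hD.1 (H.bD he), braid H.hD.1 (H.bD he) hvD (not_seen he h2 hv)] at hc'
    have := (conj_comm_iff H.hD.1 hvD).mpr hc'
    rw [conj_self_inv H.hD.1 hvD e, show v * z * v = z by
      rw [← hc.eq, mul_assoc, mul_self H.hD.1 hvD, mul_one]] at this
    exact not_seen he h1 hz this.symm
  refine ⟨fun h h' => key w hw h' h, fun h => ?_⟩
  set X := (fib D B O₂).filter fun v => Commute z v
  have hsub : X.image (fun v => e * v * e⁻¹) ⊆ (fib D B O₂).filter fun v => ¬ Commute z v := fun u hu => by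
    obtain ⟨v, hv, rfl⟩ := mem_image.mp hu
    exact mem_filter.mpr ⟨H.conj_over heB (mem_filter.mp hv).1, key v (mem_filter.mp hv).1 (mem_filter.mp hv).2⟩
  have hsum := card_filter_add_card_filter_not (s := fib D B O₂) fun v => Commute z v
  rw [H.card_over h₂, H.card_cross h₁ h₂ hd hz] at hsum
  have heq := eq_of_subset_of_card_le hsub (by
    rw [card_image_of_injective _ (fun p q hpq => by simpa using hpq), H.card_cross h₁ h₂ hd hz]; omega)
  obtain ⟨v, hv, rfl⟩ := mem_image.mp (heq ▸ mem_filter.mpr ⟨hw, h⟩ : w ∈ X.image fun v => e * v * e⁻¹)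
  rw [he']
  exact (mem_filter.mp hv).2

include H in
/-- the group of the first octad is transitive on the members of `fib O₂` seen by `z` -/
theorem cross_trans {O₁ O₂ : Finset G} (h₁ : O₁ ∈ octads D B) (h₂ : O₂ ∈ octads D B) (hd : Disjoint O₁ O₂)
    {z w w' : G} (hz : z ∈ fib D B O₁) (hw : w ∈ fib D B O₂) (hc : Commute z w)
    (hw' : w' ∈ fib D B O₂) (hc' : Commute z w') :
    w' = w ∨ (∃ e ∈ O₁, w' = e * w * e⁻¹) ∨ ∃ e ∈ O₁, ∃ f ∈ O₁, w' = e * f * w * (e * f)⁻¹ := by
  have hO1 : ∀ e ∈ O₁, e ∈ B ∧ e ∉ O₂ := fun e he => ⟨octad_sub h₁ he, disjoint_left.mp hd he⟩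
  have keep : ∀ {g}, g ∈ Subgroup.closure (O₁ : Set G) → ∀ {v}, v ∈ fib D B O₂ → Commute z v →
      g * v * g⁻¹ ∈ (fib D B O₂).filter fun u => Commute z u := by
    intro g hg v hv hcv
    have hgB : g ∈ Subgroup.closure (B : Set G) := Subgroup.closure_mono (coe_subset.mpr (octad_sub h₁)) hg
    refine mem_filter.mpr ⟨H.conj_over hgB hv, ?_⟩
    have hgz : g * z * g⁻¹ = z := by
      rw [← (commute_closure (u := z) (fun s hs =>
        (mem_sees.mp ((mem_over.mp hz).2.symm ▸ hs : s ∈ sees B z)).2.symm) g hg).eq, mul_inv_cancel_right]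
    have := (commute_conj_iff g z v).mpr hcv
    simp only [MulAut.conj_apply, hgz] at this
    exact this
  set A₁ := O₁.offDiag.image fun p => p.1 * p.2 * w * (p.1 * p.2)⁻¹ with hA1
  set A₂ := O₁.image fun e => e * w * e⁻¹ with hA2
  obtain ⟨hsub, hle⟩ := H.card_translates (R := O₁) hO1 h₂ hw
  have hA2c : A₂.card = 8 := by
    rw [hA2, card_image_of_injOn, octad_card h₁]
    exact fun e he f hf h => H.translate_inj (hO1 e he).1 (hO1 e he).2 (hO1 f hf).1 hw h
  have hd1 : Disjoint (insert w A₁) A₂ := by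
    refine disjoint_left.mpr fun u hu hu' => ?_
    obtain ⟨e, he, rfl⟩ := mem_image.mp hu'
    have hne := (H.flip_over h₂ (hO1 e he).1 (hO1 e he).2 hw hw).mp.mt (not_not.mpr (Commute.refl w))
    rcases mem_insert.mp hu with h | h
    · exact hne (by rw [h])
    · exact hne (mem_filter.mp (mem_of_mem_erase (hsub h))).2
  have hall : insert w A₁ ∪ A₂ = (fib D B O₂).filter fun u => Commute z u := by
    refine eq_of_subset_of_card_le (union_subset (insert_subset (mem_filter.mpr ⟨hw, hc⟩) fun u hu => ?_) ?_) ?_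
    · obtain ⟨⟨e, f⟩, hp, rfl⟩ := mem_image.mp hu
      exact keep (mul_mem (Subgroup.subset_closure (mem_offDiag.mp hp).1)
        (Subgroup.subset_closure (mem_offDiag.mp hp).2.1)) hw hc
    · intro u hu
      obtain ⟨e, he, rfl⟩ := mem_image.mp hu
      exact keep (Subgroup.subset_closure he) hw hc
    · rw [card_union_of_disjoint hd1, card_insert_of_notMem (fun h => (mem_erase.mp (hsub h)).1 rfl), hA2c,
        H.card_cross h₁ h₂ hd hz]
      rw [octad_card h₁] at hle
      replace hle : 8 - 1 ≤ A₁.card := by convert hle using 3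
      convert (show 16 ≤ A₁.card + 1 + 8 by omega) using 4
  rcases mem_union.mp (hall.symm ▸ mem_filter.mpr ⟨hw', hc'⟩ : w' ∈ insert w A₁ ∪ A₂) with h | h
  · rcases mem_insert.mp h with h | h
    · exact Or.inl h
    · obtain ⟨⟨e, f⟩, hp, he⟩ := mem_image.mp h
      exact Or.inr (Or.inr ⟨e, (mem_offDiag.mp hp).1, f, (mem_offDiag.mp hp).2.1, he.symm⟩)
  · obtain ⟨e, he, he'⟩ := mem_image.mp h
    exact Or.inr (Or.inl ⟨e, he, he'.symm⟩)

end Cfsg.Agent.Lib.FischerMTypes.BaseDesign.Facts
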