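import Mathlib
import Cfsg.Agent.Lib.FischerMTypes.BaseHalves

/-!
Type M(24): no transposition is in the derived subgroup.  A Sylow 2-subgroup fixes a base; on the
orbits of the even part of the base on commuting pairs over disjoint octads its transpositions act
oddly, and the transfer of that sign is nontrivial.
-/

set_option autoImplicit false
set_option linter.style.haveILetI false
set_option linter.unusedSectionVars false

namespace Cfsg.Agent.Lib.FischerMTypes.ParityM24

open Cfsg.Agent.Lib.FischerMTypes.Basic Cfsg.Agent.Lib.FischerMTypes.Bases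
  Cfsg.Agent.Lib.FischerMTypes.Primitive Cfsg.Agent.Lib.FischerMTypes.Levels
  Cfsg.Agent.Lib.FischerMTypes.BaseDesign Cfsg.Agent.Lib.FischerMTypes.BaseDesign.Facts
open Finset
open scoped Classical

universe u

section transfer

variable {G : Type u} [Group G] [Finite G]

/-- a sign on a subgroup of odd index, odd on an involution's conjugates, survives the transfer -/
theorem not_mem_commutator {H : Subgroup G} (hodd : Odd H.index) (χ : ↥H →* ℤˣ) {a : G} (ha : a * a = 1)
    (hχ : ∀ (g : G) (h : g⁻¹ * a * g ∈ H), χ ⟨_, h⟩ = -1) : a ∉ commutator G := by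
  classical
  haveI : Fintype G := Fintype.ofFinite G
  haveI : H.FiniteIndex := ⟨fun h => by rw [h] at hodd; exact absurd hodd (by decide)⟩
  intro hmem
  have h1 : MonoidHom.transfer χ a = 1 := Abelianization.commutator_subset_ker _ hmem
  set k := fun q : Quotient (MulAction.orbitRel (Subgroup.zpowers a) (G ⧸ H)) =>
    Function.minimalPeriod (a • ·) q.out with hk
  rw [MonoidHom.transfer_eq_prod_quotient_orbitRel_zpowers_quot] at h1
  have hper : ∀ q, k q = 1 ∨ k q = 2 := fun q => by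
    have hp : Function.IsPeriodicPt (a • ·) 2 q.out := by
      show a • a • q.out = q.out
      rw [← mul_smul, ha, one_smul]
    exact (Nat.dvd_prime Nat.prime_two).mp hp.minimalPeriod_dvd
  have hterm : ∀ q, χ ⟨q.out.out⁻¹ * a ^ k q * q.out.out,
      QuotientGroup.out_conj_pow_minimalPeriod_mem H a q.out⟩ = (-1) ^ k q := by
    intro q
    have hmemH : q.out.out⁻¹ * a ^ k q * q.out.out ∈ H := QuotientGroup.out_conj_pow_minimalPeriod_mem H a q.out
    rcases hper q with h | h
    · refine Eq.trans ?_ (show (-1 : ℤˣ) = (-1) ^ k q by rw [h, pow_one])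
      have e : (⟨q.out.out⁻¹ * a ^ k q * q.out.out, hmemH⟩ : ↥H) =
          ⟨q.out.out⁻¹ * a * q.out.out, by simpa [h] using hmemH⟩ := Subtype.ext (by simp [h])
      exact (congrArg χ e).trans (hχ _ _)
    · refine Eq.trans ?_ (show (1 : ℤˣ) = (-1) ^ k q by rw [h]; rfl)
      have e : (⟨q.out.out⁻¹ * a ^ k q * q.out.out, hmemH⟩ : ↥H) = 1 := Subtype.ext (by simp [h, sq, ha])
      exact (congrArg χ e).trans (map_one χ)
  rw [prod_congr rfl fun q _ => hterm q, prod_pow_eq_pow_sum] at h1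
  have hsum : ∑ q, k q = H.index := by
    rw [Subgroup.index, Nat.card_congr (Subgroup.quotientEquivSigmaZMod H a), Nat.card_sigma]
    exact sum_congr rfl fun q _ => (Nat.card_zmod _).symm
  rw [hsum, hodd.neg_one_pow] at h1
  exact absurd h1 (by decide)

end transfer

variable {G : Type u} [Group G] [Fintype G] {D : Set G} {B : Finset G} (H : Facts D B)

/-- the even part of the group of a base -/
def even (B : Finset G) : Subgroup G := Subgroup.closure {g | ∃ p ∈ B, ∃ q ∈ B, g = p * q}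

theorem even_le : even B ≤ Subgroup.closure (B : Set G) := by
  rw [even, Subgroup.closure_le]
  rintro _ ⟨p, hp, q, hq, rfl⟩
  exact mul_mem (Subgroup.subset_closure hp) (Subgroup.subset_closure hq)

include H in
theorem even_list {g : G} (hg : g ∈ even B) :
    ∃ l : List G, (∀ e ∈ l, e ∈ B) ∧ Even l.length ∧ l.prod = g := by
  induction hg using Subgroup.closure_induction with
  | mem x hx =>
    obtain ⟨p, hp, q, hq, rfl⟩ := hx
    exact ⟨[p, q], by simp [hp, hq], by simp, by simp⟩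
  | one => exact ⟨[], by simp, by simp, by simp⟩
  | mul x y _ _ hx hy =>
    obtain ⟨l, hl, hn, rfl⟩ := hx
    obtain ⟨m, hm, hn', rfl⟩ := hy
    exact ⟨l ++ m, fun e he => (List.mem_append.mp he).elim (hl e) (hm e), by simpa using hn.add hn', by simp⟩
  | inv x _ hx =>
    obtain ⟨l, hl, hn, rfl⟩ := hx
    refine ⟨l.reverse, fun e he => hl e (List.mem_reverse.mp he), by simpa using hn, ?_⟩
    rw [List.prod_inv_reverse, List.map_congr_left (f := fun x : G => x⁻¹) (g := id)
      fun e he => inv_eq H.hD.1 (H.bD (hl e he)), List.map_id]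

include H in
/-- the group of a base is its even part and one coset -/
theorem even_or {g e : G} (hg : g ∈ Subgroup.closure (B : Set G)) (he : e ∈ B) :
    g ∈ even B ∨ g * e ∈ even B := by
  have key : ∀ l : List G, (∀ x ∈ l, x ∈ B) → l.prod ∈ even B ∨ l.prod * e ∈ even B := by
    intro l
    induction l with
    | nil => intro; exact Or.inl (by simp)
    | cons x l ih =>
      intro hl
      have hx : x ∈ B := hl x (by simp)
      have hlc : l.prod ∈ Subgroup.closure (B : Set G) :=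
        Subgroup.list_prod_mem _ fun y hy => Subgroup.subset_closure (hl y (List.mem_cons_of_mem _ hy))
      have hce : Commute l.prod e := (commute_closure (u := e) (fun s hs => H.bcl he hs) _ hlc).symm
      rw [List.prod_cons]
      rcases ih (fun y hy => hl y (List.mem_cons_of_mem _ hy)) with h | h
      · right
        rw [mul_assoc, hce.eq, ← mul_assoc]
        exact mul_mem (Subgroup.subset_closure ⟨x, hx, e, he, rfl⟩) h
      · left
        rw [show x * l.prod = x * (e * e) * l.prod by rw [mul_self H.hD.1 (H.bD he), mul_one],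
          show x * (e * e) * l.prod = x * e * (e * l.prod) by group, ← hce.eq]
        exact mul_mem (Subgroup.subset_closure ⟨x, hx, e, he, rfl⟩) h
  have hl : ∃ l : List G, (∀ x ∈ l, x ∈ B) ∧ l.prod = g := by
    induction hg using Subgroup.closure_induction with
    | mem x hx => exact ⟨[x], by simpa using hx, by simp⟩
    | one => exact ⟨[], by simp, by simp⟩
    | mul x y _ _ hx hy =>
      obtain ⟨l, hl, rfl⟩ := hx
      obtain ⟨m, hm, rfl⟩ := hy
      exact ⟨l ++ m, fun e he => (List.mem_append.mp he).elim (hl e) (hm e), by simp⟩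
    | inv x _ hx =>
      obtain ⟨l, hl, rfl⟩ := hx
      refine ⟨l.reverse, fun e he => hl e (List.mem_reverse.mp he), ?_⟩
      rw [List.prod_inv_reverse, List.map_congr_left (f := fun x : G => x⁻¹) (g := id)
        fun e he => inv_eq H.hD.1 (H.bD (hl e he)), List.map_id]
  obtain ⟨l, hl, rfl⟩ := hl
  exact key l hl

/-- the three ways in which a member of the base moves the bit -/
theorem bit {A P C W : Prop} : (¬((A ↔ P) ↔ (C ↔ W)) ↔ ((A ↔ ¬ P) ↔ (C ↔ W))) ∧
    (¬((A ↔ P) ↔ (C ↔ W)) ↔ ((¬ A ↔ P) ↔ (C ↔ W))) ∧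
    (¬((A ↔ P) ↔ (C ↔ W)) ↔ ((¬ A ↔ ¬ P) ↔ (¬ C ↔ W))) := by
  by_cases hA : A <;> by_cases hP : P <;> by_cases hC : C <;> by_cases hW : W <;> simp [hA, hP, hC, hW]

include H in
/-- the bit moved by every member of the base: a product fixing both of a commuting pair is even -/
theorem even_of_fix {O₁ O₂ : Finset G} (h₁ : O₁ ∈ Facts.octads D B) (h₂ : O₂ ∈ Facts.octads D B) (hd : Disjoint O₁ O₂)
    {z w : G} (hz : z ∈ fib D B O₁) (hw : w ∈ fib D B O₂) :
    ∀ l : List G, (∀ e ∈ l, e ∈ B) →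
      (Even l.length ↔ ((Commute z (l.prod * z * l.prod⁻¹) ↔ Commute w (l.prod * w * l.prod⁻¹)) ↔
        (Commute z (l.prod * w * l.prod⁻¹) ↔ Commute z w))) := by
  intro l
  induction l with
  | nil => intro; simp
  | cons e l ih =>
    intro hl
    have he : e ∈ B := hl e (by simp)
    have hl' : ∀ x ∈ l, x ∈ B := fun x hx => hl x (List.mem_cons_of_mem _ hx)
    have hlc : l.prod ∈ Subgroup.closure (B : Set G) :=
      Subgroup.list_prod_mem _ fun y hy => Subgroup.subset_closure (hl' y hy)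
    have hzu := H.conj_over hlc hz
    have hwu := H.conj_over hlc hw
    have e1 : ∀ t : G, e * (l.prod * t * l.prod⁻¹) * e⁻¹ = (e :: l).prod * t * ((e :: l).prod)⁻¹ := fun t => by
      rw [List.prod_cons]; group
    rw [List.length_cons, Nat.even_add_one, ← e1, ← e1, ih hl', H.flip_cross h₁ h₂ hd he hz hwu, mem_union]
    by_cases c1 : e ∈ O₁
    · rw [H.self_conj c1 hzu, H.flip_over h₂ he (Finset.disjoint_left.mp hd c1) hw hwu]
      simp only [c1, true_or, iff_true]
      exact bit.1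
    by_cases c2 : e ∈ O₂
    · rw [H.self_conj c2 hwu, H.flip_over h₁ he c1 hz hzu]
      simp only [c2, or_true, iff_true]
      exact bit.2.1
    · rw [H.flip_over h₁ he c1 hz hzu, H.flip_over h₂ he c2 hw hwu]
      simp only [c1, c2, or_self, iff_false]
      exact bit.2.2

/-- the orbit of the even part on an unordered pair -/
def orb (B : Finset G) (z w : G) : Set (Sym2 G) := {s | ∃ g ∈ even B, s = s(g * z * g⁻¹, g * w * g⁻¹)}

theorem orb_self (z w : G) : s(z, w) ∈ orb B z w := ⟨1, one_mem _, by simp⟩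

theorem orb_swap (z w : G) : orb B z w = orb B w z := by
  ext s
  constructor <;> rintro ⟨g, hg, rfl⟩ <;> exact ⟨g, hg, Sym2.eq_swap⟩

theorem orb_even {g : G} (hg : g ∈ even B) (z w : G) : orb B (g * z * g⁻¹) (g * w * g⁻¹) = orb B z w := by
  ext s
  constructor
  · rintro ⟨k, hk, rfl⟩
    exact ⟨k * g, mul_mem hk hg, by simp [mul_assoc]⟩
  · rintro ⟨k, hk, rfl⟩
    exact ⟨k * g⁻¹, mul_mem hk (inv_mem hg), by simp [mul_assoc]⟩

theorem orb_eq_of_mem {z w z' w' : G} (h : s(z', w') ∈ orb B z w) : orb B z' w' = orb B z w := by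
  obtain ⟨g, hg, he⟩ := h
  rcases Sym2.eq_iff.mp he with ⟨rfl, rfl⟩ | ⟨rfl, rfl⟩
  · exact orb_even hg z w
  · rw [orb_swap, orb_even hg z w]

/-- the pairs used -/
def Good (D : Set G) (B : Finset G) (z w : G) : Prop :=
  z ∈ out D B ∧ w ∈ out D B ∧ (sees B z).card = 8 ∧ (sees B w).card = 8 ∧
    Disjoint (sees B z) (sees B w) ∧ Commute z w

/-- the half-orbits -/
noncomputable def halves (D : Set G) (B : Finset G) : Finset (Set (Sym2 G)) :=
  (univ.filter fun p : G × G => Good D B p.1 p.2).image fun p => orb B p.1 p.2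

theorem mem_halves {ω : Set (Sym2 G)} : ω ∈ halves D B ↔ ∃ z w, Good D B z w ∧ orb B z w = ω := by
  simp [halves]

theorem good_octads {z w : G} (h : Good D B z w) :
    sees B z ∈ Facts.octads D B ∧ sees B w ∈ Facts.octads D B ∧ z ∈ fib D B (sees B z) ∧ w ∈ fib D B (sees B w) :=
  ⟨mem_octads.mpr ⟨z, h.1, h.2.2.1, rfl⟩, mem_octads.mpr ⟨w, h.2.1, h.2.2.2.1, rfl⟩,
    mem_over.mpr ⟨h.1, rfl⟩, mem_over.mpr ⟨h.2.1, rfl⟩⟩

theorem good_of_fib {O₁ O₂ : Finset G} (h₁ : O₁ ∈ Facts.octads D B) (h₂ : O₂ ∈ Facts.octads D B) (hd : Disjoint O₁ O₂)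
    {z w : G} (hz : z ∈ fib D B O₁) (hw : w ∈ fib D B O₂) (hc : Commute z w) : Good D B z w := by
  obtain ⟨hzU, rfl⟩ := mem_over.mp hz
  obtain ⟨hwU, rfl⟩ := mem_over.mp hw
  exact ⟨hzU, hwU, octad_card h₁, octad_card h₂, hd, hc⟩

include H in
theorem orb_ne {z w e : G} (h : Good D B z w) (he : e ∈ B) :
    orb B (e * z * e⁻¹) (e * w * e⁻¹) ≠ orb B z w := by
  intro heq
  obtain ⟨h1, h2, hz, hw⟩ := good_octads h
  obtain ⟨g, hg, hs⟩ := (heq ▸ orb_self (e * z * e⁻¹) (e * w * e⁻¹) :
    s(e * z * e⁻¹, e * w * e⁻¹) ∈ orb B z w)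
  have hgc := even_le hg
  rcases Sym2.eq_iff.mp hs with ⟨ez, ew⟩ | ⟨ez, -⟩
  · obtain ⟨l, hl, hn, rfl⟩ := even_list H hg
    have hfix : ∀ t : G, e * t * e⁻¹ = l.prod * t * l.prod⁻¹ →
        (e :: l).prod * t * ((e :: l).prod)⁻¹ = t := fun t ht => by
      rw [List.prod_cons, show e * l.prod * t * (e * l.prod)⁻¹ = e * (l.prod * t * l.prod⁻¹) * e⁻¹ by group, ← ht,
        inv_eq H.hD.1 (H.bD he)]
      exact conj_self_inv H.hD.1 (H.bD he) t
    have := even_of_fix H h1 h2 h.2.2.2.2.1 hz hw (e :: l) fun x hx => by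
      rcases List.mem_cons.mp hx with rfl | hx
      exacts [he, hl x hx]
    rw [hfix z ez, hfix w ew, List.length_cons, Nat.even_add_one] at this
    simp only [Commute.refl, iff_true] at this
    exact this hn
  · have e1 := (H.conj_out (Subgroup.subset_closure he) h.1).2
    have e2 := (H.conj_out hgc h.2.1).2
    rw [ez, e2] at e1
    have hdis := h.2.2.2.2.1
    rw [e1, disjoint_self] at hdis
    have := h.2.2.1
    simp [hdis] at this

include H in
theorem orb_two {O₁ O₂ : Finset G} (h₁ : O₁ ∈ Facts.octads D B) (h₂ : O₂ ∈ Facts.octads D B) (hd : Disjoint O₁ O₂)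
    {z w z' w' e : G} (he : e ∈ B) (hz : z ∈ fib D B O₁) (hw : w ∈ fib D B O₂) (hc : Commute z w)
    (hz' : z' ∈ fib D B O₁) (hw' : w' ∈ fib D B O₂) (hc' : Commute z' w') :
    orb B z' w' = orb B z w ∨ orb B z' w' = orb B (e * z * e⁻¹) (e * w * e⁻¹) := by
  obtain ⟨g₁, hg₁, rfl⟩ : ∃ g ∈ Subgroup.closure (B : Set G), g * z * g⁻¹ = z' := by
    by_cases hzz : z' = z
    · exact ⟨1, one_mem _, by simp [hzz]⟩
    by_cases hcz : Commute z z'
    · obtain ⟨p, hp, q, hq, e1⟩ := H.exists_pair h₁ hz hz' hcz hzz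
      exact ⟨p * q, mul_mem (Subgroup.subset_closure hp) (Subgroup.subset_closure hq), e1.symm⟩
    · obtain ⟨r, hr⟩ : (B \ O₁).Nonempty := by
        rw [← card_pos, card_sdiff_of_subset (octad_sub h₁), H.base.2, octad_card h₁]; norm_num
      obtain ⟨hrB, hrO⟩ := mem_sdiff.mp hr
      have hrc : r ∈ Subgroup.closure (B : Set G) := Subgroup.subset_closure hrB
      have hu := H.conj_over hrc hz'
      have hback : r * (r * z' * r⁻¹) * r⁻¹ = z' := by
        rw [inv_eq H.hD.1 (H.bD hrB)]; exact conj_self_inv H.hD.1 (H.bD hrB) z'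
      by_cases huz : r * z' * r⁻¹ = z
      · exact ⟨r, hrc, by rw [← huz, hback]⟩
      obtain ⟨p, hp, q, hq, e1⟩ := H.exists_pair h₁ hz hu ((H.flip_over h₁ hrB hrO hz hz').mpr hcz) huz
      refine ⟨r * (p * q), mul_mem hrc (mul_mem (Subgroup.subset_closure hp) (Subgroup.subset_closure hq)), ?_⟩
      rw [show r * (p * q) * z * (r * (p * q))⁻¹ = r * (p * q * z * (p * q)⁻¹) * r⁻¹ by group, ← e1, hback]
  obtain ⟨g₂, hg₂, hgz, rfl⟩ : ∃ g ∈ Subgroup.closure (B : Set G),
      g * (g₁ * z * g₁⁻¹) * g⁻¹ = g₁ * z * g₁⁻¹ ∧ g * (g₁ * w * g₁⁻¹) * g⁻¹ = w' := by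
    have hcw : Commute (g₁ * z * g₁⁻¹) (g₁ * w * g₁⁻¹) := (commute_conj_iff g₁ z w).mpr hc
    rcases H.cross_trans h₁ h₂ hd hz' (H.conj_over hg₁ hw) hcw hw' hc' with h | ⟨p, hp, h⟩ | ⟨p, hp, q, hq, h⟩
    · exact ⟨1, one_mem _, by simp, by simp [h]⟩
    · exact ⟨p, Subgroup.subset_closure (octad_sub h₁ hp), H.self_conj hp hz', h.symm⟩
    · refine ⟨p * q, mul_mem (Subgroup.subset_closure (octad_sub h₁ hp))
        (Subgroup.subset_closure (octad_sub h₁ hq)), ?_, h.symm⟩
      rw [show p * q * (g₁ * z * g₁⁻¹) * (p * q)⁻¹ = p * (q * (g₁ * z * g₁⁻¹) * q⁻¹) * p⁻¹ by group,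
        H.self_conj hq hz', H.self_conj hp hz']
  have hg : g₂ * g₁ ∈ Subgroup.closure (B : Set G) := mul_mem hg₂ hg₁
  have e2 : ∀ t : G, g₂ * (g₁ * t * g₁⁻¹) * g₂⁻¹ = g₂ * g₁ * t * (g₂ * g₁)⁻¹ := fun t => by group
  rw [← hgz, e2, e2]
  rcases even_or H hg he with h | h
  · exact Or.inl (orb_even h z w)
  · right
    rw [← orb_even h (e * z * e⁻¹) (e * w * e⁻¹)]
    simp [mul_assoc, mul_inv_rev, inv_eq H.hD.1 (H.bD he), ← mul_assoc e e, mul_self H.hD.1 (H.bD he)]

include H in
theorem card_halves : (halves D B).card = 22770 := by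
  obtain ⟨e, he⟩ : B.Nonempty := card_pos.mp (by rw [H.base.2]; norm_num)
  set Λ := ((Facts.octads D B) ×ˢ (Facts.octads D B)).filter fun p => Disjoint p.1 p.2 with hΛ
  have hΛc : Λ.card = 22770 := by
    have : Λ.card = ∑ O ∈ Facts.octads D B, ((Facts.octads D B).filter fun O' => Disjoint O O').card := by
      simp only [hΛ, card_filter]
      exact sum_product _ _ _
    rw [this, sum_const_nat fun O hO => (H.disjoint_octads hO).1, H.card_octads]
  let R : Finset G × Finset G → Set (Sym2 G) → Prop := fun p ω =>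
    ∃ z w, z ∈ fib D B p.1 ∧ w ∈ fib D B p.2 ∧ Commute z w ∧ orb B z w = ω
  have h1 : ∀ p ∈ Λ, ((halves D B).filter (R p)).card = 2 := by
    rintro ⟨O₁, O₂⟩ hp
    obtain ⟨hO, hd⟩ := mem_filter.mp hp
    obtain ⟨h₁, h₂⟩ := mem_product.mp hO
    obtain ⟨z, hz⟩ : (fib D B O₁).Nonempty := card_pos.mp (by rw [H.card_over h₁]; norm_num)
    obtain ⟨w, hw'⟩ : ((fib D B O₂).filter fun w => Commute z w).Nonempty :=
      card_pos.mp (by rw [H.card_cross h₁ h₂ hd hz]; norm_num)
    obtain ⟨hw, hc⟩ := mem_filter.mp hw'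
    have hec : e ∈ Subgroup.closure (B : Set G) := Subgroup.subset_closure he
    have hz2 := H.conj_over hec hz
    have hw2 := H.conj_over hec hw
    have hc2 : Commute (e * z * e⁻¹) (e * w * e⁻¹) := (commute_conj_iff e z w).mpr hc
    rw [show (halves D B).filter (R (O₁, O₂)) = {orb B z w, orb B (e * z * e⁻¹) (e * w * e⁻¹)} from ?_,
      card_pair (orb_ne H (good_of_fib h₁ h₂ hd hz hw hc) he).symm]
    ext ω
    simp only [mem_filter, mem_insert, Finset.mem_singleton]
    constructor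
    · rintro ⟨-, z', w', hz', hw', hc', rfl⟩
      exact orb_two H h₁ h₂ hd he hz hw hc hz' hw' hc'
    · rintro (rfl | rfl)
      · exact ⟨mem_halves.mpr ⟨z, w, good_of_fib h₁ h₂ hd hz hw hc, rfl⟩, z, w, hz, hw, hc, rfl⟩
      · exact ⟨mem_halves.mpr ⟨_, _, good_of_fib h₁ h₂ hd hz2 hw2 hc2, rfl⟩, _, _, hz2, hw2, hc2, rfl⟩
  have h2 : ∀ ω ∈ halves D B, (Λ.filter (R · ω)).card = 2 := by
    intro ω hω
    obtain ⟨z, w, hg, rfl⟩ := mem_halves.mp hω
    obtain ⟨h₁, h₂, hz, hw⟩ := good_octads hg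
    rw [show Λ.filter (R · (orb B z w)) = {(sees B z, sees B w), (sees B w, sees B z)} from ?_, card_pair ?_]
    · intro he'
      have hd := hg.2.2.2.2.1
      rw [(Prod.mk.injEq .. ▸ he' : sees B z = sees B w ∧ _).1, disjoint_self] at hd
      have := hg.2.2.2.1
      simp [hd] at this
    ext ⟨O₁, O₂⟩
    simp only [mem_filter, mem_insert, Finset.mem_singleton, Prod.mk.injEq]
    constructor
    · rintro ⟨-, z', w', hz', hw', -, he'⟩
      obtain ⟨g, hg', hs⟩ := (he' ▸ orb_self z' w' : s(z', w') ∈ orb B z w)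
      obtain ⟨-, rfl⟩ := mem_over.mp hz'
      obtain ⟨-, rfl⟩ := mem_over.mp hw'
      have e1 := (H.conj_out (even_le hg') hg.1).2
      have e2 := (H.conj_out (even_le hg') hg.2.1).2
      rcases Sym2.eq_iff.mp hs with ⟨rfl, rfl⟩ | ⟨rfl, rfl⟩
      · exact Or.inl ⟨e1, e2⟩
      · exact Or.inr ⟨e2, e1⟩
    · rintro (⟨rfl, rfl⟩ | ⟨rfl, rfl⟩)
      · exact ⟨mem_filter.mpr ⟨mem_product.mpr ⟨h₁, h₂⟩, hg.2.2.2.2.1⟩, z, w, hz, hw, hg.2.2.2.2.2, rfl⟩
      · exact ⟨mem_filter.mpr ⟨mem_product.mpr ⟨h₂, h₁⟩, hg.2.2.2.2.1.symm⟩, w, z, hw, hz,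
          hg.2.2.2.2.2.symm, orb_swap w z⟩
  have := sum_card_bipartiteAbove_eq_sum_card_bipartiteBelow R (s := Λ) (t := halves D B)
  simp only [bipartiteAbove, bipartiteBelow] at this
  rw [sum_const_nat h1, sum_const_nat h2, hΛc] at this
  omega

/-- the elements preserving the base -/
def stab (B : Finset G) : Subgroup G where
  carrier := {g | B.image (fun c => g * c * g⁻¹) = B}
  one_mem' := by simp
  mul_mem' := by
    intro g h hg hh
    show B.image (fun c => g * h * c * (g * h)⁻¹) = B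
    rw [show (fun c => g * h * c * (g * h)⁻¹) = (fun c => g * c * g⁻¹) ∘ fun c => h * c * h⁻¹ from
      funext fun c => by simp [mul_assoc], ← image_image, hh, hg]
  inv_mem' := by
    intro g hg
    show B.image (fun c => g⁻¹ * c * g⁻¹⁻¹) = B
    nth_rw 1 [← hg]
    rw [image_image]
    conv_rhs => rw [← image_id (s := B)]
    exact image_congr fun c _ => by simp [mul_assoc]

theorem stab_mem {g c : G} (hg : g ∈ stab B) (hc : c ∈ B) : g * c * g⁻¹ ∈ B := by
  have := mem_image_of_mem (fun c => g * c * g⁻¹) hc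
  rwa [show B.image (fun c => g * c * g⁻¹) = B from hg] at this

/-- conjugation of unordered pairs -/
def move (g : G) (ω : Set (Sym2 G)) : Set (Sym2 G) := Sym2.map (fun y => g * y * g⁻¹) '' ω

theorem even_conj {g h : G} (hg : g ∈ stab B) (hh : h ∈ even B) : g * h * g⁻¹ ∈ even B := by
  induction hh using Subgroup.closure_induction with
  | mem x hx =>
    obtain ⟨p, hp, q, hq, rfl⟩ := hx
    exact Subgroup.subset_closure ⟨_, stab_mem hg hp, _, stab_mem hg hq, by group⟩
  | one => simp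
  | mul x y _ _ hx hy =>
    rw [show g * (x * y) * g⁻¹ = g * x * g⁻¹ * (g * y * g⁻¹) by group]
    exact mul_mem hx hy
  | inv x _ hx =>
    rw [show g * x⁻¹ * g⁻¹ = (g * x * g⁻¹)⁻¹ by group]
    exact inv_mem hx

theorem move_orb {g : G} (hg : g ∈ stab B) (z w : G) :
    move g (orb B z w) = orb B (g * z * g⁻¹) (g * w * g⁻¹) := by
  ext s
  constructor
  · rintro ⟨_, ⟨k, hk, rfl⟩, rfl⟩
    exact ⟨g * k * g⁻¹, even_conj hg hk, by simp [Sym2.map_mk, mul_assoc]⟩
  · rintro ⟨k, hk, rfl⟩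
    refine ⟨_, ⟨g⁻¹ * k * g, ?_, rfl⟩, by simp [Sym2.map_mk, mul_assoc]⟩
    simpa using even_conj (inv_mem hg) hk

include H in
theorem good_move {g z w : G} (hg : g ∈ stab B) (h : Good D B z w) : Good D B (g * z * g⁻¹) (g * w * g⁻¹) := by
  obtain ⟨hzU, hzs⟩ := sees_conj H.hD hg h.1
  obtain ⟨hwU, hws⟩ := sees_conj H.hD hg h.2.1
  have hinj : Function.Injective fun c : G => g * c * g⁻¹ := fun a b hab => by simpa using hab
  refine ⟨hzU, hwU, ?_, ?_, ?_, (commute_conj_iff g z w).mpr h.2.2.2.2.2⟩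
  · rw [hzs, card_image_of_injective _ hinj, h.2.2.1]
  · rw [hws, card_image_of_injective _ hinj, h.2.2.2.1]
  · rw [hzs, hws, disjoint_image hinj]; exact h.2.2.2.2.1

include H in
theorem move_mem {g : G} (hg : g ∈ stab B) {ω : Set (Sym2 G)} (hω : ω ∈ halves D B) :
    move g ω ∈ halves D B := by
  obtain ⟨z, w, h, rfl⟩ := mem_halves.mp hω
  exact mem_halves.mpr ⟨_, _, good_move H hg h, (move_orb hg z w).symm⟩

theorem move_mul (g h : G) (ω : Set (Sym2 G)) : move (g * h) ω = move g (move h ω) := by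
  simp only [move, Set.image_image]
  refine Set.image_congr fun s _ => ?_
  rw [Sym2.map_map]
  exact congrArg (fun f => Sym2.map f s) (funext fun y => by simp [mul_assoc])

theorem move_one (ω : Set (Sym2 G)) : move 1 ω = ω := by
  simp [move]

/-- the action of the stabiliser on the half-orbits -/
def perm (H : Facts D B) : ↥(stab B) →* Equiv.Perm ↥(halves D B) where
  toFun g := {
    toFun := fun ω => ⟨move (g : G) ω, move_mem H g.2 ω.2⟩
    invFun := fun ω => ⟨move (g : G)⁻¹ ω, move_mem H (inv_mem g.2) ω.2⟩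
    left_inv := fun ω => Subtype.ext (by simp [← move_mul, move_one])
    right_inv := fun ω => Subtype.ext (by simp [← move_mul, move_one]) }
  map_one' := Equiv.ext fun ω => Subtype.ext (move_one _)
  map_mul' g h := Equiv.ext fun ω => Subtype.ext (move_mul _ _ _)

include H in
theorem mem_stab {e : G} (he : e ∈ B) : e ∈ stab B := (H.image_fix (Subgroup.subset_closure he)).2

include H in
theorem sign_perm {e : ↥(stab B)} (he : (e : G) ∈ B) : Equiv.Perm.sign (perm H e) = -1 := by
  have hsq : perm H e ^ 2 = 1 := by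
    rw [← map_pow, show e ^ 2 = 1 from Subtype.ext (by simp [sq, mul_self H.hD.1 (H.bD he)]), map_one]
  rw [Equiv.Perm.sign_of_pow_two_eq_one hsq]
  have hfix : Fintype.card (Function.fixedPoints (perm H e)) = 0 := by
    rw [Fintype.card_eq_zero_iff]
    refine ⟨fun ⟨⟨ω, hω⟩, hp⟩ => ?_⟩
    obtain ⟨z, w, hg, rfl⟩ := mem_halves.mp hω
    exact orb_ne H hg he ((move_orb e.2 z w).symm.trans (congrArg Subtype.val hp))
  rw [hfix, Fintype.card_coe, card_halves H]
  exact Odd.neg_one_pow ⟨5692, by norm_num⟩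

include H in
/-- transpositions preserving the base lie in it -/
theorem mem_base {a : G} (ha : a ∈ D) (hs : a ∈ stab B) : a ∈ B := by
  have hall : ∀ c ∈ B, Commute c a := fun c hc => by
    by_contra h
    have h1 := stab_mem hs hc
    rw [inv_eq H.hD.1 ha, braid H.hD.1 ha (H.bD hc) (fun h' => h h'.symm)] at h1
    have h2 := (conj_comm_iff H.hD.1 (H.bD hc)).mpr (H.bcl hc h1)
    rw [conj_self_inv H.hD.1 (H.bD hc) a, show c * c * c = c by rw [mul_self H.hD.1 (H.bD hc), one_mul]] at h2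
    exact h h2
  by_contra haB
  have : sees B a = B := filter_true_of_mem hall
  rcases H.sees_card (mem_out.mpr ⟨ha, haB⟩) with h | h <;> rw [this, H.base.2] at h <;> omega

section

open Cfsg.Agent.Lib.FischerMTypes.Step
open Cfsg.Agent.Lib.FischerMTypes.TraceCounts (Sys)

/-- no transposition of type M(24) lies in the derived subgroup -/
theorem parity {G : Type u} [Group G] [Finite G] {D : Set G} {Q : Type u} [Group Q] [Finite Q] {E : Set Q}
    {Q₂ : Type u} [Group Q₂] [Finite Q₂] {E₂ : Set Q₂} {F : Type} [Field F] [Fintype F] (S22 : Sys E₂ F)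
    (S23 : StepData E E₂ 3510 693 180 126 6531840) (S : StepData D E 31671 3510 693 351 4585351680)
    (hM : Cfsg.IsOfTypeM23 Q E) (P : Pinned D 31671 3510 693 351 3240) {a : G} (ha : a ∈ D) :
    a ∉ commutator G := by
  haveI : Fintype G := Fintype.ofFinite G
  have hN : D.ncard = 306936 := (S.ncard_class P (F := 275264) (by norm_num)).trans (by norm_num)
  haveI : Fact (Nat.Prime 2) := ⟨Nat.prime_two⟩
  obtain ⟨T⟩ : Nonempty (Sylow 2 G) := inferInstance
  have hconj : ∀ (g : G) (B : Finset G), B ∈ cliques D 24 → B.image (fun c => g * c * g⁻¹) ∈ cliques D 24 := by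
    intro g B hB
    obtain ⟨hc, hBD, hcl⟩ := mem_cliques.mp hB
    refine mem_cliques.mpr ⟨(card_image_of_injective _ fun p q hpq => by simpa using hpq).trans hc, ?_, ?_⟩
    · intro x hx
      obtain ⟨c, hc', rfl⟩ := mem_image.mp hx
      exact S.hD.2.1 g c (hBD hc')
    · intro x hx y hy
      obtain ⟨c, hc', rfl⟩ := mem_image.mp hx
      obtain ⟨d, hd', rfl⟩ := mem_image.mp hy
      exact (commute_conj_iff g c d).mpr (hcl c hc' d hd')
  letI : MulAction ↥(T : Subgroup G) ↥(cliques D 24) :=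
    { smul := fun t B => ⟨B.1.image fun c => (t : G) * c * (t : G)⁻¹, hconj t B.1 B.2⟩
      one_smul := fun B => Subtype.ext (show B.1.image (fun c => (1 : G) * c * (1 : G)⁻¹) = B.1 by simp)
      mul_smul := fun s t B => Subtype.ext (show B.1.image (fun c => (s : G) * t * c * ((s : G) * t)⁻¹) =
        (B.1.image fun c => (t : G) * c * (t : G)⁻¹).image fun c => (s : G) * c * (s : G)⁻¹ by
          rw [image_image]
          exact image_congr fun c _ => by simp [mul_assoc]) }
  obtain ⟨⟨B, hB⟩, hfix⟩ := T.isPGroup'.nonempty_fixed_point_of_prime_not_dvd_card ↥(cliques D 24) (by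
    rw [Nat.card_eq_fintype_card, Fintype.card_coe]
    intro h
    exact (Nat.not_even_iff_odd.mpr (card_bases_odd S22 S23 S hM hN)) (even_iff_two_dvd.mpr h))
  obtain ⟨hBc, hBcl⟩ := mem_cliques.mp hB
  have H : Facts D B := facts_of_step S22 S23 S hM P ⟨hBcl, hBc⟩
  have hTle : (T : Subgroup G) ≤ stab B := fun t ht => congrArg Subtype.val (hfix ⟨t, ht⟩)
  have hodd : Odd (T : Subgroup G).index := Nat.not_even_iff_odd.mp fun h =>
    T.not_dvd_index (even_iff_two_dvd.mp h)
  refine not_mem_commutator hodd (Equiv.Perm.sign.comp ((perm H).comp (Subgroup.inclusion hTle)))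
    (mul_self S.hD.1 ha) fun g h => ?_
  refine sign_perm H (e := Subgroup.inclusion hTle ⟨_, h⟩) (mem_base H ?_ (hTle h))
  simpa using S.hD.2.1 g⁻¹ a ha

end

end Cfsg.Agent.Lib.FischerMTypes.ParityM24
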