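import Mathlib
import Cfsg.Agent.Lib.FischerMTypes.StepStab
import Cfsg.Agent.Lib.FischerMTypes.OrderWidth
import Cfsg.Prelude.Def_CaseTheorems

/-!
One step up: orders, width, quasisimplicity of the perp groups, simplicity.
-/

set_option autoImplicit false
set_option linter.style.haveILetI false
set_option linter.unusedSectionVars false

namespace Cfsg.Agent.Lib.FischerMTypes.Step

open Cfsg.Agent.Lib.FischerMTypes.Basic Cfsg.Agent.Lib.FischerMTypes.Primitive
  Cfsg.Agent.Lib.FischerMTypes.Levels Cfsg.Agent.Lib.FischerMTypes.Rank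
open scoped commutatorElement

variable {G : Type*} [Group G] [Finite G] {D : Set G}
variable {Q : Type*} [Group Q] [Finite Q] {E : Set Q} {N A k n T n₁ : ℕ}

namespace StepData

variable (S : StepData D E N A k n T)

/-- the perp group modulo its centre is the group one level down -/
noncomputable def quotEquiv {a : G} (ha : a ∈ D) :
    ↥(Subgroup.closure (perp D a)) ⧸ Subgroup.center ↥(Subgroup.closure (perp D a)) ≃* Q :=
  (QuotientGroup.quotientMulEquivOfEq (S.loc a ha).ker.symm).trans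
    (QuotientGroup.quotientKerEquivOfSurjective _ (S.loc a ha).surj)

include S in
theorem card_center_perp (hs : Small N A k n) {a : G} (ha : a ∈ D)
    (hself : a ∈ Subgroup.closure (perp D a)) :
    Nat.card (Subgroup.center ↥(Subgroup.closure (perp D a))) = 2 := by
  rw [S.center_eq hs ha, Nat.card_congr (Subgroup.subgroupOfEquivOfLe
    (Subgroup.zpowers_le.mpr hself)).toEquiv, Nat.card_zpowers, S.hD.1.1 a ha]

include S in
theorem card_centralizer (P : Pinned D N A k n n₁) {a : G} (ha : a ∈ D) :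
    Nat.card ↥(Subgroup.centralizer ({a} : Set G)) = 2 * Nat.card Q := by
  rw [← centralizer_eq S P ha,
    Subgroup.card_eq_card_quotient_mul_card_subgroup (Subgroup.center ↥(Subgroup.closure (perp D a))),
    S.card_center_perp P.small ha (P.self a ha), Nat.card_congr (S.quotEquiv ha).toEquiv, mul_comm]

include S in
theorem card_group (P : Pinned D N A k n n₁) : Nat.card G = D.ncard * (2 * Nat.card Q) := by
  obtain ⟨a, ha, -⟩ := S.hprim.2.1
  rw [OrderWidth.card_eq_class_mul S.hD S.hprim.1 ha, S.card_centralizer P ha]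

include S in
/-- one more than the width one level down -/
theorem width {w : ℕ} (hw : Cfsg.commutingWidth E = w) : Cfsg.commutingWidth D = w + 1 := by
  subst hw
  set W := {m : ℕ | ∃ K : Set Q, K ⊆ E ∧ K.Finite ∧ (∀ a ∈ K, ∀ b ∈ K, Commute a b) ∧ K.ncard = m}
  have hWb : BddAbove W := ⟨E.ncard, by
    rintro _ ⟨K, hK, -, -, rfl⟩
    exact Set.ncard_le_ncard hK (Set.toFinite _)⟩
  have hle : ∀ m ∈ {m : ℕ | ∃ K : Set G, K ⊆ D ∧ K.Finite ∧ (∀ a ∈ K, ∀ b ∈ K, Commute a b) ∧ K.ncard = m},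
      m ≤ Cfsg.commutingWidth E + 1 := by
    rintro _ ⟨K, hK, -, hc, rfl⟩
    rcases K.eq_empty_or_nonempty with rfl | ⟨a, ha⟩
    · simp
    have hsub : K \ {a} ⊆ perp D a := fun y hy => ⟨hK hy.1, hy.2, hc a ha y hy.1⟩
    have hmem : (K \ {a}).ncard ∈ W := by
      refine ⟨S.f (hK ha) '' (K \ {a}), ?_, Set.toFinite _, ?_, ?_⟩
      · rintro _ ⟨y, hy, rfl⟩; exact S.f_mem _ (hsub hy)
      · rintro _ ⟨y, hy, rfl⟩ _ ⟨z, hz, rfl⟩
        exact (S.commute_iff _ (hsub hy) (hsub hz)).mpr (hc y hy.1 z hz.1)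
      · exact Set.InjOn.ncard_image fun y hy z hz h => S.f_inj _ (hsub hy) (hsub hz) h
    have h := le_csSup hWb hmem
    rw [Set.ncard_sdiff_singleton_of_mem ha] at h
    have : sSup W = Cfsg.commutingWidth E := rfl
    omega
  have hmem : Cfsg.commutingWidth E + 1 ∈
      {m : ℕ | ∃ K : Set G, K ⊆ D ∧ K.Finite ∧ (∀ a ∈ K, ∀ b ∈ K, Commute a b) ∧ K.ncard = m} := by
    obtain ⟨a, ha, -⟩ := S.hprim.2.1
    have h0 : W.Nonempty := ⟨0, ∅, Set.empty_subset _, Set.finite_empty, by simp, by simp⟩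
    obtain ⟨K, hK, -, hc, hcard⟩ := Nat.sSup_mem h0 hWb
    set K' := {y | y ∈ perp D a ∧ S.f ha y ∈ K} with hK'
    have hn : K'.ncard = K.ncard := by
      rw [hK', S.ncard_local ha _ (fun q => q ∈ K) fun _ _ => Iff.rfl]
      congr 1
      exact Set.ext fun q => ⟨fun h => h.2, fun h => ⟨hK h, h⟩⟩
    refine ⟨insert a K', Set.insert_subset ha fun y hy => hy.1.1, Set.toFinite _, ?_, ?_⟩
    · rintro x (rfl | hx) y (rfl | hy)
      · exact Commute.refl _
      · exact hy.1.2.2
      · exact hx.1.2.2.symm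
      · exact (S.commute_iff ha hx.1 hy.1).mp (hc _ hx.2 _ hy.2)
    · rw [Set.ncard_insert_of_notMem (fun h => h.1.2.1 rfl), hn, hcard]
      rfl
  exact le_antisymm (csSup_le ⟨_, hmem⟩ hle) (le_csSup ⟨_, hle⟩ hmem)

include S in
/-- a product of six neighbours lies in the derived group -/
theorem six_mem_commutator {a x0 x1 x2 x3 x4 x5 : G} (ha : a ∈ D) (h0 : x0 ∈ perp D a) (h1 : x1 ∈ perp D a)
    (h2 : x2 ∈ perp D a) (h3 : x3 ∈ perp D a) (h4 : x4 ∈ perp D a) (h5 : x5 ∈ perp D a)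
    (he : a = x0 * (x1 * x2 * (x3 * x4 * x5))) (hself : a ∈ Subgroup.closure (perp D a)) :
    (⟨a, hself⟩ : ↥(Subgroup.closure (perp D a))) ∈ commutator ↥(Subgroup.closure (perp D a)) := by
  set H := Subgroup.closure (perp D a)
  have hcl : ∀ {x : G} (hx : x ∈ perp D a), Abelianization.of (⟨x, Subgroup.subset_closure hx⟩ : ↥H) =
      Abelianization.of (⟨x0, Subgroup.subset_closure h0⟩ : ↥H) := by
    intro x hx
    obtain ⟨g, hg, hgx⟩ := S.trans_perp ha hx h0
    rw [show (⟨x0, Subgroup.subset_closure h0⟩ : ↥H) =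
      ⟨g, hg⟩ * ⟨x, Subgroup.subset_closure hx⟩ * ⟨g, hg⟩⁻¹ from Subtype.ext hgx.symm, map_mul, map_mul,
      map_inv, mul_comm (Abelianization.of (⟨g, hg⟩ : ↥H)), mul_inv_cancel_right]
  have hsq : Abelianization.of (⟨x0, Subgroup.subset_closure h0⟩ : ↥H) *
      Abelianization.of (⟨x0, Subgroup.subset_closure h0⟩ : ↥H) = 1 := by
    rw [← map_mul, show (⟨x0, Subgroup.subset_closure h0⟩ : ↥H) * ⟨x0, Subgroup.subset_closure h0⟩ = 1 from
      Subtype.ext (mul_self S.hD.1 h0.1), map_one]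
  rw [← Abelianization.ker_of, MonoidHom.mem_ker,
    show (⟨a, hself⟩ : ↥H) = ⟨x0, Subgroup.subset_closure h0⟩ * (⟨x1, Subgroup.subset_closure h1⟩ *
      ⟨x2, Subgroup.subset_closure h2⟩ * (⟨x3, Subgroup.subset_closure h3⟩ *
        ⟨x4, Subgroup.subset_closure h4⟩ * ⟨x5, Subgroup.subset_closure h5⟩)) from Subtype.ext he]
  simp only [map_mul]
  rw [hcl h1, hcl h2, hcl h3, hcl h4, hcl h5, hsq]
  simp only [one_mul]
  exact hsq

include S in
theorem exists_perp_noncomm (hs : Small N A k n) {a : G} (ha : a ∈ D) :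
    ∃ b ∈ perp D a, ∃ c ∈ perp D a, ¬ Commute b c := by
  obtain ⟨b, hb⟩ := S.perp_nonempty hs ha
  exact ⟨b, hb, S.exists_off hs ha hb⟩

include S in
theorem simple_quot (hQ : IsSimpleGroup Q) {a : G} (ha : a ∈ D) :
    IsSimpleGroup (↥(Subgroup.closure (perp D a)) ⧸ Subgroup.center ↥(Subgroup.closure (perp D a))) := by
  haveI := hQ
  exact (S.quotEquiv ha).isSimpleGroup

include S in
/-- the group generated by a perp set is perfect -/
theorem perfect (hs : Small N A k n) (hQ : IsSimpleGroup Q) {a : G} (ha : a ∈ D)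
    (hself : a ∈ Subgroup.closure (perp D a))
    (hder : (⟨a, hself⟩ : ↥(Subgroup.closure (perp D a))) ∈ commutator ↥(Subgroup.closure (perp D a))) :
    commutator ↥(Subgroup.closure (perp D a)) = ⊤ := by
  haveI := S.simple_quot hQ ha
  set H := Subgroup.closure (perp D a)
  set π := QuotientGroup.mk' (Subgroup.center ↥H)
  have hmap : (commutator ↥H).map π = ⊤ := by
    have hn : ((commutator ↥H).map π).Normal :=
      Subgroup.Normal.map inferInstance π (QuotientGroup.mk'_surjective _)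
    rcases hn.eq_bot_or_eq_top with h | h
    swap
    · exact h
    exfalso
    obtain ⟨b, hb, c, hc, hbc⟩ := S.exists_perp_noncomm hs ha
    set b' : ↥H := ⟨b, Subgroup.subset_closure hb⟩
    set c' : ↥H := ⟨c, Subgroup.subset_closure hc⟩
    have hm : π ⁅b', c'⁆ ∈ (commutator ↥H).map π :=
      Subgroup.mem_map_of_mem _ (Subgroup.commutator_mem_commutator (Subgroup.mem_top b') (Subgroup.mem_top c'))
    rw [h, Subgroup.mem_bot, map_commutatorElement] at hm
    exact hbc ((commute_mk_iff (D := {u : ↥H | (u : G) ∈ D})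
      ⟨fun u hu => by rw [← Subgroup.orderOf_coe]; exact S.hD.1.1 _ hu, fun u hu v hv => by
        rcases S.hD.1.2 _ hu _ hv with h | h
        · exact Or.inl (Subtype.ext (by simpa using h))
        · exact Or.inr (Subtype.ext (by simpa using h))⟩ (x := b') (e := c') hb.1 hc.1).mp
      (commutatorElement_eq_one_iff_mul_comm.mp hm) |>.map H.subtype)
  rw [eq_top_iff]
  intro x _
  obtain ⟨y, hy, hxy⟩ := ((Subgroup.eq_top_iff' _).mp hmap (π x))
  rw [show x = y * (y⁻¹ * x) by group]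
  refine mul_mem hy ?_
  have hz : y⁻¹ * x ∈ Subgroup.center ↥H := QuotientGroup.eq.mp hxy
  rw [S.center_eq hs ha, Subgroup.mem_subgroupOf] at hz
  obtain ⟨m, hm⟩ := Subgroup.mem_zpowers_iff.mp hz
  rw [show y⁻¹ * x = (⟨a, hself⟩ : ↥H) ^ m from Subtype.ext (by rw [Subgroup.coe_zpow]; exact hm.symm)]
  exact zpow_mem hder m

include S in
theorem quasisimple (hs : Small N A k n) (hQ : IsSimpleGroup Q) {a : G} (ha : a ∈ D)
    (hself : a ∈ Subgroup.closure (perp D a))
    (hder : (⟨a, hself⟩ : ↥(Subgroup.closure (perp D a))) ∈ commutator ↥(Subgroup.closure (perp D a))) :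
    Cfsg.IsQuasisimple ↥(Subgroup.closure (perp D a)) :=
  ⟨⟨S.perfect hs hQ ha hself hder⟩, S.simple_quot hQ ha⟩

include S in
/-- with perfect perp groups the group is simple -/
theorem simple (P : Pinned D N A k n n₁) (hQ : IsSimpleGroup Q)
    (hperf : ∀ a ∈ D, commutator ↥(Subgroup.closure (perp D a)) = ⊤) : IsSimpleGroup G := by
  obtain ⟨a, ha, a', ha', hne⟩ := S.hprim.2.1
  haveI : Nontrivial G := ⟨⟨a, a', hne⟩⟩
  refine ⟨fun M hM => ?_⟩
  by_cases hbot : M = ⊥
  · exact Or.inl hbot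
  right
  -- the orbit of `a` under `M`
  have htrans : ∀ b ∈ D, ∃ m ∈ M, m * a * m⁻¹ = b := by
    set O : Set G := {b | ∃ m ∈ M, m * a * m⁻¹ = b}
    have hblock : ∀ g : G, (fun x => g * x * g⁻¹) '' O = O ∨ Disjoint ((fun x => g * x * g⁻¹) '' O) O := by
      intro g
      by_cases hd : Disjoint ((fun x => g * x * g⁻¹) '' O) O
      · exact Or.inr hd
      left
      obtain ⟨z, ⟨u, ⟨j, hj, rfl⟩, rfl⟩, m, hm, hmz⟩ := Set.not_disjoint_iff.mp hd
      have hga : g * a * g⁻¹ ∈ O := by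
        refine ⟨(g * j * g⁻¹)⁻¹ * m, mul_mem (inv_mem (hM.conj_mem j hj g)) hm, ?_⟩
        calc (g * j * g⁻¹)⁻¹ * m * a * ((g * j * g⁻¹)⁻¹ * m)⁻¹
            = (g * j * g⁻¹)⁻¹ * (m * a * m⁻¹) * (g * j * g⁻¹) := by group
          _ = g * a * g⁻¹ := by rw [hmz]; group
      obtain ⟨i, hi, hia⟩ := hga
      ext z
      constructor
      · rintro ⟨_, ⟨l, hl, rfl⟩, rfl⟩
        refine ⟨g * l * g⁻¹ * i, mul_mem (hM.conj_mem l hl g) hi, ?_⟩
        calc g * l * g⁻¹ * i * a * (g * l * g⁻¹ * i)⁻¹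
            = g * l * g⁻¹ * (i * a * i⁻¹) * (g * l * g⁻¹)⁻¹ := by group
          _ = g * (l * a * l⁻¹) * g⁻¹ := by rw [hia]; group
      · rintro ⟨l, hl, rfl⟩
        refine ⟨g⁻¹ * (l * i⁻¹) * g * a * (g⁻¹ * (l * i⁻¹) * g)⁻¹, ⟨_, ?_, rfl⟩, ?_⟩
        · simpa using hM.conj_mem _ (mul_mem hl (inv_mem hi)) g⁻¹
        · calc g * (g⁻¹ * (l * i⁻¹) * g * a * (g⁻¹ * (l * i⁻¹) * g)⁻¹) * g⁻¹
              = l * i⁻¹ * (g * a * g⁻¹) * (l * i⁻¹)⁻¹ := by group
            _ = l * a * l⁻¹ := by rw [← hia]; group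
    rcases S.hprim.2.2 O (by rintro _ ⟨j, -, rfl⟩; exact S.hD.2.1 j a ha) hblock with h | h
    · exfalso
      apply hbot
      rw [eq_bot_iff, ← S.hZ]
      intro j hj
      refine center_of_commute_all S.hD.2.2 fun e he => ?_
      obtain ⟨g, rfl⟩ := S.hprim.1 a ha e he
      have hfix : g⁻¹ * j * g * a * (g⁻¹ * j * g)⁻¹ = a :=
        h ⟨g⁻¹ * j * g, by simpa using hM.conj_mem j hj g⁻¹, rfl⟩ ⟨1, one_mem _, by group⟩
      show g * a * g⁻¹ * j = j * (g * a * g⁻¹)
      calc g * a * g⁻¹ * j = g * (g⁻¹ * j * g * a * (g⁻¹ * j * g)⁻¹) * g⁻¹ * j := by rw [hfix]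
        _ = j * (g * a * g⁻¹) := by group
    · intro b hb
      rw [← h] at hb
      exact hb
  set H := Subgroup.closure (perp D a)
  haveI : (M.subgroupOf H).Normal := hM.subgroupOf H
  set π := QuotientGroup.mk' (Subgroup.center ↥H)
  haveI := S.simple_quot hQ ha
  -- a product of two non-commuting members of the perp set lies in `M`
  obtain ⟨b, hb, c, hc, hbc⟩ := S.exists_perp_noncomm P.small ha
  have hbcM : b * c ∈ M := by
    obtain ⟨g, hg⟩ := S.hprim.1 a ha b hb.1
    obtain ⟨m, hm, hma⟩ := htrans (g⁻¹ * c * g) (by simpa using S.hD.2.1 g⁻¹ c hc.1)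
    have hac : a * (g⁻¹ * c * g) ∈ M := by
      rw [← hma, show a * (m * a * m⁻¹) = a * m * a⁻¹ * m⁻¹ * (m * (a * a) * m⁻¹) by group,
        mul_self S.hD.1 ha, mul_one, mul_inv_cancel, mul_one]
      exact mul_mem (hM.conj_mem m hm a) (inv_mem hm)
    have h := hM.conj_mem _ hac g
    rwa [show g * (a * (g⁻¹ * c * g)) * g⁻¹ = g * a * g⁻¹ * c by group, hg] at h
  -- so `M` contains the perfect group `H`
  have hHM : H ≤ M := by
    have hn : ((M.subgroupOf H).map π).Normal :=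
      Subgroup.Normal.map inferInstance π (QuotientGroup.mk'_surjective _)
    rcases hn.eq_bot_or_eq_top with h | h
    · exfalso
      have hm : π (⟨b, Subgroup.subset_closure hb⟩ * ⟨c, Subgroup.subset_closure hc⟩) ∈
          (M.subgroupOf H).map π := Subgroup.mem_map_of_mem _ hbcM
      rw [h, Subgroup.mem_bot, QuotientGroup.mk'_apply, QuotientGroup.eq_one_iff] at hm
      have h1 : b * (b * c) = b * c * b :=
        congrArg Subtype.val (Subgroup.mem_center_iff.mp hm ⟨b, Subgroup.subset_closure hb⟩)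
      exact hbc (by
        show b * c = c * b
        calc b * c = b * c * b * b := by rw [mul_assoc _ b b, mul_self S.hD.1 hb.1, mul_one]
          _ = b * (b * c) * b := by rw [h1]
          _ = c * b := by rw [← mul_assoc, mul_self S.hD.1 hb.1, one_mul])
    · have hle : commutator ↥H ≤ M.subgroupOf H := by
        rw [commutator_def, Subgroup.commutator_le]
        intro x _ y _
        obtain ⟨x', hx', hxe⟩ := (Subgroup.eq_top_iff' _).mp h (π x)
        obtain ⟨y', hy', hye⟩ := (Subgroup.eq_top_iff' _).mp h (π y)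
        have cx : x'⁻¹ * x ∈ Subgroup.center ↥H := QuotientGroup.eq.mp hxe
        have cy : y'⁻¹ * y ∈ Subgroup.center ↥H := QuotientGroup.eq.mp hye
        rw [show x = x' * (x'⁻¹ * x) by group, show y = y' * (y'⁻¹ * y) by group]
        generalize x'⁻¹ * x = u at cx
        generalize y'⁻¹ * y = v at cy
        have hu := Subgroup.mem_center_iff.mp cx
        have hv := Subgroup.mem_center_iff.mp cy
        have e : ⁅x' * u, y' * v⁆ = ⁅x', y'⁆ := by
          simp only [commutatorElement_def, mul_inv_rev]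
          calc x' * u * (y' * v) * (u⁻¹ * x'⁻¹) * (v⁻¹ * y'⁻¹)
              = x' * (u * (y' * v)) * u⁻¹ * x'⁻¹ * v⁻¹ * y'⁻¹ := by group
            _ = x' * y' * (v * x'⁻¹) * v⁻¹ * y'⁻¹ := by rw [← hu (y' * v)]; group
            _ = x' * y' * x'⁻¹ * y'⁻¹ := by rw [← hv x'⁻¹]; group
        rw [e, commutatorElement_def]
        exact mul_mem (mul_mem (mul_mem hx' hy') (inv_mem hx')) (inv_mem hy')
      rw [hperf a ha, top_le_iff, Subgroup.subgroupOf_eq_top] at hle
      exact hle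
  rw [eq_top_iff]
  intro g _
  obtain ⟨m, hm, hma⟩ := htrans _ (S.hD.2.1 g a ha)
  rw [show g = m * (m⁻¹ * g) by group]
  refine mul_mem hm (hHM ?_)
  show m⁻¹ * g ∈ Subgroup.closure (perp D a)
  rw [centralizer_eq S P ha, Subgroup.mem_centralizer_singleton_iff]
  calc m⁻¹ * g * a = m⁻¹ * (g * a * g⁻¹) * g := by group
    _ = a * (m⁻¹ * g) := by rw [← hma]; group

end StepData

end Cfsg.Agent.Lib.FischerMTypes.Step
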