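import Mathlib
import Cfsg.Agent.Lib.FischerMTypes.PointU4

/-!
Type M(22): in a point model the fixer of a non-commuting pair is transitive on the non-commuting
pairs orthogonal to it.
-/

set_option autoImplicit false
set_option linter.style.haveILetI false
set_option linter.unusedSectionVars false

namespace Cfsg.Agent.Lib.FischerMTypes.PointModel

open Cfsg.Agent.Lib.FischerMTypes.Basic Cfsg.Agent.Lib.FischerMTypes.Primitive
  Cfsg.Agent.Lib.FischerMTypes.Levels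
open Cfsg.Agent.Lib.Unitary
open Cfsg.Agent.Lib.UnitaryFour.Transvection Cfsg.Agent.Lib.UnitaryFour.Stabilizer

variable {G : Type*} [Group G] [Finite G] {D : Set G}
variable {F : Type} [Field F] [Fintype F]

local notation "h⟪" u ", " v "⟫" => Cfsg.hermForm 6 F 2 u v

variable {a : G} (C : Ctx D a F)

namespace Ctx

theorem exists_mk_of_tvPerp_pair {e f : Fin 6 → F} (he : h⟪e, e⟫ = 0) (he0 : e ≠ 0) (hf : h⟪f, f⟫ = 0)
    (hf0 : f ≠ 0) {g : Cfsg.SU 6 F 2} (hg : g ∈ tvPerp C.hF {e, f}) :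
    ∃ k : ↥(Subgroup.closure (perp D a)), QuotientGroup.mk k = C.φ g ∧
      (k : G) ∈ Subgroup.closure {u | u ∈ perp D a ∧ Commute (C.pt e) u ∧ Commute (C.pt f) u} := by
  induction hg using Subgroup.closure_induction with
  | mem t ht =>
    obtain ⟨u, hu, hu0, hS, rfl⟩ := ht
    refine ⟨⟨C.pt u, Subgroup.subset_closure (C.pt_mem hu hu0)⟩, C.pt_im hu hu0,
      Subgroup.subset_closure ⟨C.pt_mem hu hu0, ?_, ?_⟩⟩
    · exact (C.pt_comm he he0 hu hu0).mpr (herm_eq_zero_symm C.hF (hS e (by simp)))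
    · exact (C.pt_comm hf hf0 hu hu0).mpr (herm_eq_zero_symm C.hF (hS f (by simp)))
  | one => exact ⟨1, (map_one C.φ).symm, one_mem _⟩
  | mul x y _ _ ihx ihy =>
    obtain ⟨k, hk, hkm⟩ := ihx
    obtain ⟨l, hl, hlm⟩ := ihy
    exact ⟨k * l, by rw [map_mul, ← hk, ← hl]; rfl, mul_mem hkm hlm⟩
  | inv x _ ih =>
    obtain ⟨k, hk, hkm⟩ := ih
    exact ⟨k⁻¹, by rw [map_inv, ← hk]; rfl, inv_mem hkm⟩

include C in
/-- the fixer of a non-commuting pair moves any orthogonal non-commuting pair to any other -/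
theorem exists_move_pair {b c x y x' y' : G} (hb : b ∈ perp D a) (hc : c ∈ perp D a) (hbc : ¬ Commute b c)
    (hx : x ∈ perp D a) (hy : y ∈ perp D a) (hxy : ¬ Commute x y)
    (hbx : Commute b x) (hcx : Commute c x) (hby : Commute b y) (hcy : Commute c y)
    (hx' : x' ∈ perp D a) (hy' : y' ∈ perp D a) (hxy' : ¬ Commute x' y')
    (hbx' : Commute b x') (hcx' : Commute c x') (hby' : Commute b y') (hcy' : Commute c y') :
    ∃ k ∈ Subgroup.closure {u | u ∈ perp D a ∧ Commute b u ∧ Commute c u},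
      k * x * k⁻¹ = x' ∧ k * y * k⁻¹ = y' := by
  obtain ⟨e, f, hef, he0, hf0, rfl, rfl⟩ := C.exists_hyp_pt hb hc hbc
  obtain ⟨g, hfr⟩ := exists_Frame C.hF hef
  have hcoord : ∀ {x y : G}, x ∈ perp D a → y ∈ perp D a → ¬ Commute x y →
      Commute (C.pt e) x → Commute (C.pt f) x → Commute (C.pt e) y → Commute (C.pt f) y →
      ∃ u v : Fin 4 → F, Hyp 2 u v ∧ h⟪lin g u, lin g u⟫ = 0 ∧ lin g u ≠ 0 ∧
        h⟪lin g v, lin g v⟫ = 0 ∧ lin g v ≠ 0 ∧ C.pt (lin g u) = x ∧ C.pt (lin g v) = y := by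
    intro x y hx hy hxy hex hfx hey hfy
    obtain ⟨p, q, hpq, hp0, hq0, rfl, rfl⟩ := C.exists_hyp_pt hx hy hxy
    have hp : p = lin g fun i => h⟪p, g i⟫ := by
      conv_lhs => rw [hfr.expand C.hF p, herm_eq_zero_symm C.hF ((C.pt_comm hef.1 he0 hpq.1 hp0).mp hex),
        herm_eq_zero_symm C.hF ((C.pt_comm hef.2.1 hf0 hpq.1 hp0).mp hfx), zero_smul, zero_smul, zero_add,
        zero_add]
    have hq : q = lin g fun i => h⟪q, g i⟫ := by
      conv_lhs => rw [hfr.expand C.hF q, herm_eq_zero_symm C.hF ((C.pt_comm hef.1 he0 hpq.2.1 hq0).mp hey),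
        herm_eq_zero_symm C.hF ((C.pt_comm hef.2.1 hf0 hpq.2.1 hq0).mp hfy), zero_smul, zero_smul, zero_add,
        zero_add]
    refine ⟨_, _, ⟨?_, ?_, ?_⟩, ?_, ?_, ?_, ?_, congrArg C.pt hp.symm, congrArg C.pt hq.symm⟩
    · rw [← hfr.lin_herm C.hF, ← hp]; exact hpq.1
    · rw [← hfr.lin_herm C.hF, ← hq]; exact hpq.2.1
    · rw [← hfr.lin_herm C.hF, ← hp, ← hq]; exact hpq.2.2
    · rw [← hp]; exact hpq.1
    · rw [← hp]; exact hp0
    · rw [← hq]; exact hpq.2.1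
    · rw [← hq]; exact hq0
  obtain ⟨u, v, huv, hu, hu0, hv, hv0, rfl, rfl⟩ := hcoord hx hy hxy hbx hcx hby hcy
  obtain ⟨u', v', huv', hu', hu0', hv', hv0', rfl, rfl⟩ := hcoord hx' hy' hxy' hbx' hcx' hby' hcy'
  obtain ⟨A, hdet, hAu, hAv⟩ := exists_SU_hyp C.hF (by norm_num) huv huv'
  let A' : Cfsg.SU 4 F 2 := ⟨⟨A.1.1, hdet⟩, A.2⟩
  obtain ⟨s, hs, -, -, hsA⟩ := exists_actsAs C.hF hfr A'
  obtain ⟨k, hk, hkm⟩ := C.exists_mk_of_tvPerp_pair hef.1 he0 hef.2.1 hf0 hs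
  refine ⟨k, hkm, ?_, ?_⟩
  · rw [C.pt_conj hu hu0 s hk, hsA u]
    exact congrArg C.pt (congrArg (lin g) hAu)
  · rw [C.pt_conj hv hv0 s hk, hsA v]
    exact congrArg C.pt (congrArg (lin g) hAv)

end Ctx

end Cfsg.Agent.Lib.FischerMTypes.PointModel
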