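import Mathlib
import Cfsg.Agent.Lib.FischerMTypes.OrderWidth
import Cfsg.Agent.Lib.FischerMTypes.MovePair

/-!
Type M(22): for non-commuting `a`, `d` the trace generates the centraliser of the pair, with trivial
centre; it is transitive on the ordered non-commuting pairs in the trace.
-/

set_option autoImplicit false
set_option linter.style.haveILetI false
set_option linter.unusedSectionVars false

namespace Cfsg.Agent.Lib.FischerMTypes.TracePair

open Cfsg.Agent.Lib.FischerMTypes.Basic Cfsg.Agent.Lib.FischerMTypes.Primitive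
  Cfsg.Agent.Lib.FischerMTypes.Levels Cfsg.Agent.Lib.FischerMTypes.PointModel
  Cfsg.Agent.Lib.FischerMTypes.TraceCounts Cfsg.Agent.Lib.FischerMTypes.TraceSize
  Cfsg.Agent.Lib.FischerMTypes.StabilizerM22 Cfsg.Agent.Lib.FischerMTypes.OrderWidth
open Cfsg.Agent.Lib.UnitaryFour.Transvection Cfsg.Agent.Lib.UnitaryFour.Stabilizer
open Cfsg.Agent.Lib.Unitary

variable {G : Type*} [Group G] [Finite G] {D : Set G}
variable {F : Type} [Field F] [Fintype F]
variable (S : Sys D F)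

theorem mem_centralizer_pair {a d g : G} :
    g ∈ Subgroup.centralizer ({a, d} : Set G) ↔ Commute a g ∧ Commute d g := by
  rw [Subgroup.mem_centralizer_iff]
  constructor
  · exact fun h => ⟨h a (by simp), h d (by simp)⟩
  · rintro ⟨h1, h2⟩ x (rfl | rfl)
    · exact h1
    · exact h2

theorem closure_le_centralizer_pair (a d : G) :
    Subgroup.closure (perp₂ D a d) ≤ Subgroup.centralizer ({a, d} : Set G) :=
  (Subgroup.closure_le _).mpr fun _ hy => mem_centralizer_pair.mpr ⟨hy.1.2.2, hy.2.2.2⟩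

include S in
theorem card_centralizer_pair {a d : G} (ha : a ∈ D) (hd : d ∈ D) (had : ¬ Commute a d) :
    Nat.card ↥(Subgroup.centralizer ({a, d} : Set G)) = 6531840 := by
  set H := Subgroup.centralizer ({a} : Set G) with hHdef
  have hsub : Subgroup.centralizer ({a, d} : Set G) ≤ H :=
    Subgroup.centralizer_le (by simp)
  set St := (Subgroup.centralizer ({a, d} : Set G)).subgroupOf H
  have hst : ∀ g : ↥H, g ∈ St ↔ (g : G) * d * (g : G)⁻¹ = d := fun g => by
    rw [Subgroup.mem_subgroupOf, mem_centralizer_pair, mul_inv_eq_iff_eq_mul]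
    constructor
    · intro h; exact h.2.symm.eq
    · intro h
      exact ⟨(Subgroup.mem_centralizer_singleton_iff.mp g.2).symm, h.symm⟩
  have hfix : ∀ g : ↥H, (g : G) * a * (g : G)⁻¹ = a := fun g => by
    rw [Subgroup.mem_centralizer_singleton_iff.mp g.2, mul_inv_cancel_right]
  have hmem : ∀ g : ↥H, (g : G) * d * (g : G)⁻¹ ∈ {x | x ∈ D ∧ ¬ Commute a x} := fun g =>
    ⟨S.hD.2.1 g d hd, fun h => had ((commute_conj_iff (g : G) a d).mp (by
      show Commute ((g : G) * a * (g : G)⁻¹) ((g : G) * d * (g : G)⁻¹)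
      rwa [hfix g]))⟩
  have hidx : St.index = 2816 := by
    rw [← ncard_far S ha, Subgroup.index_eq_card, ← Nat.card_coe_set_eq]
    refine Nat.card_congr (Equiv.ofBijective (Quotient.lift
      (fun g : ↥H => (⟨(g : G) * d * (g : G)⁻¹, hmem g⟩ : {x | x ∈ D ∧ ¬ Commute a x})) ?_) ⟨?_, ?_⟩)
    · intro g g' h
      have h' := (hst _).mp (QuotientGroup.leftRel_apply.mp h)
      simp only [Subgroup.coe_mul, Subgroup.coe_inv] at h'
      refine Subtype.ext ?_
      show (g : G) * d * (g : G)⁻¹ = (g' : G) * d * (g' : G)⁻¹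
      calc (g : G) * d * (g : G)⁻¹
          = (g : G) * ((g : G)⁻¹ * (g' : G) * d * ((g : G)⁻¹ * (g' : G))⁻¹) * (g : G)⁻¹ := by rw [h']
        _ = (g' : G) * d * (g' : G)⁻¹ := by group
    · intro x y
      induction x using Quotient.inductionOn with | _ g => ?_
      induction y using Quotient.inductionOn with | _ g' => ?_
      intro h
      have h' : (g : G) * d * (g : G)⁻¹ = (g' : G) * d * (g' : G)⁻¹ := congrArg Subtype.val h
      refine Quotient.sound (QuotientGroup.leftRel_apply.mpr ((hst _).mpr ?_))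
      simp only [Subgroup.coe_mul, Subgroup.coe_inv]
      calc (g : G)⁻¹ * (g' : G) * d * ((g : G)⁻¹ * (g' : G))⁻¹
          = (g : G)⁻¹ * ((g' : G) * d * (g' : G)⁻¹) * (g : G) := by group
        _ = (g : G)⁻¹ * ((g : G) * d * (g : G)⁻¹) * (g : G) := by rw [h']
        _ = d := by group
    · rintro ⟨x, hx, hax⟩
      obtain ⟨k, hk, hkx⟩ := S.exists_conj_near ha (mem_near S ha hd had) (mem_near S ha hx hax)
      rw [centralizer_eq S ha] at hk
      exact ⟨Quotient.mk _ ⟨k, hk⟩, Subtype.ext hkx⟩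
  have h := Subgroup.card_mul_index St
  rw [hidx, Nat.card_congr (Subgroup.subgroupOfEquivOfLe hsub).toEquiv, card_centralizer S ha] at h
  omega

include S in
theorem trace_group {a d : G} (ha : a ∈ D) (hd : d ∈ D) (had : ¬ Commute a d) :
    Subgroup.closure (perp₂ D a d) = Subgroup.centralizer ({a, d} : Set G) ∧
      Subgroup.center ↥(Subgroup.closure (perp₂ D a d)) = ⊥ := by
  have hle := closure_le_centralizer_pair (D := D) a d
  have h1 := trace_group_dvd S ha (mem_near S ha hd had)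
  rw [ncard_trace S ha hd had] at h1
  have h2 := Subgroup.card_eq_card_quotient_mul_card_subgroup
    (Subgroup.center ↥(Subgroup.closure (perp₂ D a d)))
  have h3 := card_centralizer_pair S ha hd had
  have h4 := Subgroup.card_dvd_of_le hle
  rw [h3, h2] at h4
  set q := Nat.card (↥(Subgroup.closure (perp₂ D a d)) ⧸
    Subgroup.center ↥(Subgroup.closure (perp₂ D a d)))
  set z := Nat.card (Subgroup.center ↥(Subgroup.closure (perp₂ D a d))) with hz
  have hqz : q * z = 6531840 := by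
    refine Nat.dvd_antisymm h4 ?_
    exact dvd_mul_of_dvd_left (by simpa using h1) _
  have hz1 : z = 1 := by
    obtain ⟨k, hk⟩ := h1
    rw [hk] at hqz
    have : k * z = 1 := by
      have hqz' : 6531840 * (k * z) = 6531840 * 1 := by rw [← mul_assoc, mul_one]; exact hqz
      exact mul_left_cancel₀ (by norm_num) hqz'
    exact (mul_eq_one.mp this).2
  refine ⟨Subgroup.eq_of_le_of_card_ge hle ?_, Subgroup.card_eq_one.mp hz1⟩
  rw [h3, h2, hqz]

include S in
theorem exists_conj_pair {a d a' d' : G} (ha : a ∈ D) (hd : d ∈ D) (had : ¬ Commute a d)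
    (ha' : a' ∈ D) (hd' : d' ∈ D) (had' : ¬ Commute a' d') :
    ∃ g : G, g * a * g⁻¹ = a' ∧ g * d * g⁻¹ = d' := by
  obtain ⟨g, hg⟩ := S.hprim.1 a ha a' ha'
  have hgd : g * d * g⁻¹ ∈ D := S.hD.2.1 g d hd
  have hnc : ¬ Commute a' (g * d * g⁻¹) := fun h => had ((commute_conj_iff g a d).mp (by
    show Commute (g * a * g⁻¹) (g * d * g⁻¹)
    rwa [hg]))
  obtain ⟨k, hk, hkd⟩ := S.exists_conj_near ha' (mem_near S ha' hgd hnc) (mem_near S ha' hd' had')
  refine ⟨k * g, ?_, ?_⟩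
  · calc k * g * a * (k * g)⁻¹ = k * (g * a * g⁻¹) * k⁻¹ := by group
      _ = a' := by rw [hg, Sys.closure_fix hk]
  · rw [← hkd]; group

include S in
/-- the projective reflection structure of any trace group -/
theorem trace_refl {a d : G} (ha : a ∈ D) (hd : d ∈ D) (had : ¬ Commute a d) :
    ∃ c : ZMod 3, c ≠ 0 ∧ Cfsg.IsProjReflectionGroupModThree ↥(Subgroup.closure (perp₂ D a d)) 6 1 c := by
  obtain ⟨d₀, hd₀, c₀, hc₀, hdc, c₃, hc₃, Q, hQ1, hQ2, ⟨iso⟩⟩ := S.refl
  obtain ⟨g, hga, hgd⟩ := exists_conj_pair S hd₀ hc₀ hdc ha hd had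
  have himg : (Subgroup.closure (perp₂ D d₀ c₀)).map (MulAut.conj g).toMonoidHom =
      Subgroup.closure (perp₂ D a d) := by
    rw [MonoidHom.map_closure]
    congr 1
    ext y
    constructor
    · rintro ⟨z, hz, rfl⟩
      show g * z * g⁻¹ ∈ perp₂ D a d
      rw [← hga, ← hgd]
      exact ⟨(conj_mem_perp_iff S.hD g d₀ z).mpr hz.1, (conj_mem_perp_iff S.hD g c₀ z).mpr hz.2⟩
    · intro hy
      refine ⟨g⁻¹ * y * g, ⟨(conj_mem_perp_iff S.hD g d₀ _).mp ?_, (conj_mem_perp_iff S.hD g c₀ _).mp ?_⟩, ?_⟩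
      · rw [hga]; simpa [mul_assoc] using hy.1
      · rw [hgd]; simpa [mul_assoc] using hy.2
      · show g * (g⁻¹ * y * g) * g⁻¹ = y
        group
  have e := ((Subgroup.equivMapOfInjective (Subgroup.closure (perp₂ D d₀ c₀)) (MulAut.conj g).toMonoidHom
    (MulAut.conj g).injective).trans (MulEquiv.subgroupCongr himg))
  have hbot := (trace_group S hd₀ hc₀ hdc).2
  exact ⟨c₃, hc₃, Q, hQ1, hQ2, ⟨(e.symm.trans
    ((QuotientGroup.quotientBot).symm.trans (QuotientGroup.quotientMulEquivOfEq hbot.symm))).trans iso⟩⟩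

theorem conj_mem_trace (hD : Cfsg.IsThreeTranspositionGroup D) {a d g y : G}
    (hg : g ∈ Subgroup.centralizer ({a, d} : Set G)) (hy : y ∈ perp₂ D a d) :
    g * y * g⁻¹ ∈ perp₂ D a d := by
  obtain ⟨h1, h2⟩ := mem_centralizer_pair.mp hg
  have ha : g * a * g⁻¹ = a := by rw [← h1.eq, mul_inv_cancel_right]
  have hd : g * d * g⁻¹ = d := by rw [← h2.eq, mul_inv_cancel_right]
  exact ⟨ha ▸ (conj_mem_perp_iff hD g a y).mpr hy.1, hd ▸ (conj_mem_perp_iff hD g d y).mpr hy.2⟩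

include S in
/-- one orbit on the trace -/
theorem trace_trans {a d y z : G} (ha : a ∈ D) (hd : d ∈ D) (had : ¬ Commute a d) (hy : y ∈ perp₂ D a d)
    (hz : z ∈ perp₂ D a d) : ∃ k ∈ Subgroup.closure (perp₂ D a d), k * y * k⁻¹ = z := by
  have hstep : ∀ {u v : G}, u ∈ perp₂ D a d → v ∈ perp₂ D a d → ¬ Commute u v →
      ∃ k ∈ Subgroup.closure (perp₂ D a d), k * u * k⁻¹ = v := fun {u v} hu hv huv =>
    ⟨u * v, mul_mem (Subgroup.subset_closure hu) (Subgroup.subset_closure hv),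
      mul_conj_eq S.hD.1 hu.1.1 hv.1.1 huv⟩
  by_cases hyz : Commute y z
  swap
  · exact hstep hy hz hyz
  obtain ⟨u, hu, hu1, hu2⟩ : ∃ u ∈ perp₂ D a d, ¬ Commute y u ∧ ¬ Commute u z := by
    by_contra hcon
    push Not at hcon
    have hsub : perp₂ D a d ⊆ insert y {u | u ∈ perp₂ D a d ∧ (u ≠ y ∧ Commute y u)} ∪
        insert z {u | u ∈ perp₂ D a d ∧ (u ≠ z ∧ Commute z u)} := by
      intro u hu
      by_cases hc : Commute y u
      · by_cases h1 : u = y
        · exact Or.inl (Or.inl h1)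
        · exact Or.inl (Or.inr ⟨hu, h1, hc⟩)
      · by_cases h1 : u = z
        · exact Or.inr (Or.inl h1)
        · exact Or.inr (Or.inr ⟨hu, h1, (hcon u hu hc).symm⟩)
    have hle := (Set.ncard_le_ncard hsub (Set.toFinite _)).trans ((Set.ncard_union_le _ _).trans
      (Nat.add_le_add (Set.ncard_insert_le _ _) (Set.ncard_insert_le _ _)))
    rw [ncard_trace S ha hd had, S.ncard_trace_nbr ha hd had hy, S.ncard_trace_nbr ha hd had hz] at hle
    omega
  obtain ⟨g, hg, hgy⟩ := hstep hy hu hu1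
  obtain ⟨k, hk, hku⟩ := hstep hu hz hu2
  exact ⟨k * g, mul_mem hk hg, by rw [← hku, ← hgy]; group⟩

include S in
/-- two non-commuting members of a trace have a common neighbour in it -/
theorem exists_common {a d u v : G} (ha : a ∈ D) (hd : d ∈ D) (had : ¬ Commute a d)
    (hu : u ∈ perp₂ D a d) (hv : v ∈ perp₂ D a d) (huv : ¬ Commute u v) :
    ∃ w ∈ perp₂ D a d, w ∈ perp₂ D u v := by
  by_contra hcon
  push Not at hcon
  have haM : a ∈ perp₂ D u v :=
    ⟨⟨ha, Ne.symm hu.1.2.1, hu.1.2.2.symm⟩, ha, Ne.symm hv.1.2.1, hv.1.2.2.symm⟩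
  have hdM : d ∈ perp₂ D u v :=
    ⟨⟨hd, Ne.symm hu.2.2.1, hu.2.2.2.symm⟩, hd, Ne.symm hv.2.2.1, hv.2.2.2.symm⟩
  have hzM : a * d * a ∈ perp₂ D u v := (perp₂_closed S.hD u v).2 a haM d hdM
  set z := a * d * a
  set nb := fun p : G => {y | y ∈ perp₂ D u v ∧ (y ≠ p ∧ Commute p y)}
  -- no member of the trace of `u`, `v` commutes with two of `a`, `d`, `z`
  have h2 : ∀ y ∈ perp₂ D u v, Commute a y → ¬ Commute d y := by
    intro y hy hay hdy
    exact hcon y ⟨⟨hy.1.1, fun h => had (by rw [h] at hdy; exact hdy.symm), hay⟩, hy.1.1,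
      fun h => had (by rw [h] at hay; exact hay), hdy⟩ hy
  have h2z : ∀ y ∈ perp₂ D u v, Commute z y → ¬ Commute a y ∧ ¬ Commute d y := by
    intro y hy hzy
    have key : Commute a y → Commute d y := fun hay => by
      have h := (conj_comm_iff S.hD.1 ha).mpr hzy
      rwa [conj_self_inv S.hD.1 ha, conj_fix_of_commute S.hD.1 ha hay] at h
    have key' : Commute d y → Commute a y := fun hdy => by
      have h := (conj_comm_iff S.hD.1 hd).mpr hzy
      have hz2 : z = d * a * d := braid S.hD.1 ha hd had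
      rwa [hz2, conj_self_inv S.hD.1 hd, conj_fix_of_commute S.hD.1 hd hdy] at h
    exact ⟨fun h => h2 y hy h (key h), fun h => h2 y hy (key' h) h⟩
  have hdis1 : Disjoint (nb a) (nb d) := Set.disjoint_left.mpr fun y h h' => h2 y h.1 h.2.2 h'.2.2
  have hdis2 : Disjoint (nb a ∪ nb d) (nb z) := Set.disjoint_left.mpr fun y h h' => by
    obtain ⟨n1, n2⟩ := h2z y h'.1 h'.2.2
    rcases h with h | h
    · exact n1 h.2.2
    · exact n2 h.2.2
  have hle : (nb a ∪ nb d ∪ nb z).ncard ≤ (perp₂ D u v).ncard :=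
    Set.ncard_le_ncard (by rintro y ((h | h) | h) <;> exact h.1) (Set.toFinite _)
  rw [Set.ncard_union_eq hdis2, Set.ncard_union_eq hdis1,
    S.ncard_trace_nbr hu.1.1 hv.1.1 huv haM, S.ncard_trace_nbr hu.1.1 hv.1.1 huv hdM,
    S.ncard_trace_nbr hu.1.1 hv.1.1 huv hzM, ncard_trace S hu.1.1 hv.1.1 huv] at hle
  omega

include S in
/-- one orbit on the ordered non-commuting pairs of a trace -/
theorem pair_trans {a d u v u' v' : G} (ha : a ∈ D) (hd : d ∈ D) (had : ¬ Commute a d)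
    (hu : u ∈ perp₂ D a d) (hv : v ∈ perp₂ D a d) (huv : ¬ Commute u v)
    (hu' : u' ∈ perp₂ D a d) (hv' : v' ∈ perp₂ D a d) (huv' : ¬ Commute u' v') :
    ∃ k ∈ Subgroup.closure (perp₂ D a d), k * u * k⁻¹ = u' ∧ k * v * k⁻¹ = v' := by
  obtain ⟨w, hw, hw2⟩ := exists_common S ha hd had hu hv huv
  obtain ⟨w', hw', hw2'⟩ := exists_common S ha hd had hu' hv' huv'
  obtain ⟨k, hk, hkw⟩ := trace_trans S ha hd had hw hw'
  have hkC := closure_le_centralizer_pair (D := D) a d hk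
  have hku := conj_mem_trace S.hD hkC hu
  have hkv := conj_mem_trace S.hD hkC hv
  have flip : ∀ {p q : G}, p ∈ D → q ∈ perp D p → p ∈ perp D q := fun hp hq =>
    ⟨hp, Ne.symm hq.2.1, hq.2.2.symm⟩
  have hku' : k * u * k⁻¹ ∈ perp D w' := hkw ▸ (conj_mem_perp_iff S.hD k w u).mpr (flip hu.1.1 hw2.1)
  have hkv' : k * v * k⁻¹ ∈ perp D w' := hkw ▸ (conj_mem_perp_iff S.hD k w v).mpr (flip hv.1.1 hw2.2)
  obtain ⟨l, hl, hlu, hlv⟩ := (S.ctx w' hw'.1.1).exists_move_pair (flip ha hw'.1) (flip hd hw'.2) had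
    hku' hkv' (fun h => huv ((commute_conj_iff k u v).mp h)) hku.1.2.2 hku.2.2.2 hkv.1.2.2 hkv.2.2.2
    (flip hu'.1.1 hw2'.1) (flip hv'.1.1 hw2'.2) huv' hu'.1.2.2 hu'.2.2.2 hv'.1.2.2 hv'.2.2.2
  refine ⟨l * k, mul_mem (Subgroup.closure_mono ?_ hl) hk, ?_, ?_⟩
  · rintro y ⟨hy, hay, hdy⟩
    exact ⟨⟨hy.1, fun h => had (by rw [h] at hdy; exact hdy.symm), hay⟩,
      hy.1, fun h => had (by rw [h] at hay; exact hay), hdy⟩
  · rw [← hlu]; group
  · rw [← hlv]; group

include S in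
theorem exists_trace_noncomm {a d : G} (ha : a ∈ D) (hd : d ∈ D) (had : ¬ Commute a d) :
    ∃ u ∈ perp₂ D a d, ∃ v ∈ perp₂ D a d, ¬ Commute u v := by
  obtain ⟨u, hu⟩ : (perp₂ D a d).Nonempty :=
    Set.nonempty_of_ncard_ne_zero (by rw [ncard_trace S ha hd had]; norm_num)
  by_contra hcon
  push Not at hcon
  have hsub : perp₂ D a d ⊆ insert u {y | y ∈ perp₂ D a d ∧ (y ≠ u ∧ Commute u y)} := fun y hy => by
    by_cases h : y = u
    · exact Or.inl h
    · exact Or.inr ⟨hy, h, hcon u hu y hy⟩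
  have hle := (Set.ncard_le_ncard hsub (Set.toFinite _)).trans (Set.ncard_insert_le _ _)
  rw [ncard_trace S ha hd had, S.ncard_trace_nbr ha hd had hu] at hle
  omega

include S in
/-- at most six pairwise commuting members in a trace -/
theorem trace_clique_le {a d : G} (ha : a ∈ D) (hd : d ∈ D) (had : ¬ Commute a d) {E : Set G}
    (hE : E ⊆ perp₂ D a d) (hc : ∀ x ∈ E, ∀ y ∈ E, Commute x y) : E.ncard ≤ 6 := by
  rcases E.eq_empty_or_nonempty with rfl | ⟨q, hq⟩
  · simp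
  set C := S.ctx q (hE hq).1.1
  have haq : a ∈ perp D q := ⟨ha, Ne.symm (hE hq).1.2.1, (hE hq).1.2.2.symm⟩
  have hdq : d ∈ perp D q := ⟨hd, Ne.symm (hE hq).2.2.1, (hE hq).2.2.2.symm⟩
  obtain ⟨e, f, hef, he0, hf0, hea, hfd⟩ := C.exists_hyp_pt haq hdq had
  set E' := E \ {q}
  have hE' : E' ⊆ perp D q := fun y hy => ⟨(hE hy.1).1.1, hy.2, hc q hq y hy.1⟩
  set s := {v : Fin 6 → F | Cfsg.hermForm 6 F 2 v v = 0 ∧ v ≠ 0 ∧ C.pt v ∈ E'}
  set W := Submodule.span F s
  have hWa : ∀ v ∈ W, Cfsg.hermForm 6 F 2 v e = 0 ∧ Cfsg.hermForm 6 F 2 v f = 0 := by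
    intro v hv
    induction hv using Submodule.span_induction with
    | mem u hu =>
      exact ⟨(C.pt_comm hu.1 hu.2.1 hef.1 he0).mp (hea ▸ (hE hu.2.2.1).1.2.2.symm),
        (C.pt_comm hu.1 hu.2.1 hef.2.1 hf0).mp (hfd ▸ (hE hu.2.2.1).2.2.2.symm)⟩
    | zero => exact ⟨herm_zero_left _, herm_zero_left _⟩
    | add x y _ _ hx hy => exact ⟨by rw [herm_add_left, hx.1, hy.1, add_zero], by rw [herm_add_left, hx.2, hy.2, add_zero]⟩
    | smul k x _ hx => exact ⟨by rw [herm_smul_left, hx.1, mul_zero], by rw [herm_smul_left, hx.2, mul_zero]⟩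
  set W' := W ⊔ Submodule.span F {e}
  have hW' : W' ≤ Cfsg.Agent.Lib.Unitary.perp 2 W' := by
    have e1 : W' = Submodule.span F (s ∪ {e}) := (Submodule.span_union _ _).symm
    rw [e1]
    refine Submodule.span_le.mpr fun v hv => ?_
    rw [SetLike.mem_coe, mem_perp_span C.hF]
    intro w hw
    rcases hv with hv | rfl <;> rcases hw with hw | rfl
    · exact (C.pt_comm hv.1 hv.2.1 hw.1 hw.2.1).mp (hc _ hv.2.2.1 _ hw.2.2.1)
    · exact (hWa v (Submodule.subset_span hv)).1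
    · exact herm_eq_zero_symm C.hF (hWa w (Submodule.subset_span hw)).1
    · exact hef.1
  have h3 : Module.finrank F W' ≤ 3 := by
    have h1 := finrank_perp (q := 2) C.hF W'
    have h2 := Submodule.finrank_mono hW'
    omega
  have hlt : W < W' := by
    refine lt_of_le_of_ne le_sup_left fun h => ?_
    have : e ∈ W := h ▸ le_sup_right (a := W) (Submodule.mem_span_singleton_self e)
    exact one_ne_zero (hef.2.2.symm.trans (hWa e this).2)
  have h2 : Module.finrank F W ≤ 2 := by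
    have := Submodule.finrank_lt_finrank_of_lt hlt
    omega
  have hcard : Nat.card W ≤ 16 := by
    rw [Module.natCard_eq_pow_finrank (K := F), Nat.card_eq_fintype_card, C.hF]
    calc (2 ^ 2 : ℕ) ^ Module.finrank F W ≤ (2 ^ 2) ^ 2 := Nat.pow_le_pow_right (by norm_num) h2
      _ = 16 := by norm_num
  have h := C.three_mul_ncard (fun y => y ∈ E')
  rw [show {y | y ∈ perp D q ∧ y ∈ E'} = E' from Set.ext fun y => ⟨fun h => h.2, fun h => ⟨hE' h, h⟩⟩] at h
  have hsub : s ⊆ (W : Set (Fin 6 → F)) \ {0} := fun v hv => ⟨Submodule.subset_span hv, hv.2.1⟩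
  have hle := Set.ncard_le_ncard hsub (Set.toFinite _)
  rw [Set.ncard_sdiff_singleton_of_mem (show (0 : Fin 6 → F) ∈ (W : Set (Fin 6 → F)) from W.zero_mem),
    ← Nat.card_coe_set_eq (W : Set (Fin 6 → F))] at hle
  have e2 : Nat.card ((W : Set (Fin 6 → F)) : Type) = Nat.card W := rfl
  change 3 * E'.ncard = s.ncard at h
  have e3 : E'.ncard + 1 = E.ncard := Set.ncard_diff_singleton_add_one hq
  omega

include S in
/-- six pairwise commuting members of a trace -/
theorem exists_trace_clique {a d : G} (ha : a ∈ D) (hd : d ∈ D) (had : ¬ Commute a d) :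
    ∃ E ⊆ perp₂ D a d, E.ncard = 6 ∧ ∀ x ∈ E, ∀ y ∈ E, Commute x y := by
  obtain ⟨q, hq⟩ : (perp₂ D a d).Nonempty :=
    Set.nonempty_of_ncard_ne_zero (by rw [ncard_trace S ha hd had]; norm_num)
  set C := S.ctx q hq.1.1
  have haq : a ∈ perp D q := ⟨ha, Ne.symm hq.1.2.1, hq.1.2.2.symm⟩
  have hdq : d ∈ perp D q := ⟨hd, Ne.symm hq.2.2.1, hq.2.2.2.symm⟩
  obtain ⟨e, f, hef, he0, hf0, hea, hfd⟩ := C.exists_hyp_pt haq hdq had
  obtain ⟨g, hg⟩ := exists_Frame C.hF hef
  set W : Set (Fin 6 → F) := Set.range fun c : Fin 2 → F => lin g ![c 0, c 0, c 1, c 1]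
  have horth : ∀ v ∈ W, ∀ w ∈ W, Cfsg.hermForm 6 F 2 v w = 0 := by
    rintro _ ⟨c, rfl⟩ _ ⟨c', rfl⟩
    rw [hg.lin_herm C.hF]
    simp only [Cfsg.hermForm, Fin.sum_univ_four, Matrix.cons_val]
    linear_combination (c 0 * c' 0 ^ 2 + c 1 * c' 1 ^ 2) * two_eq_zero C.hF
  have hsmul : ∀ k : F, ∀ v ∈ W, k • v ∈ W := by
    rintro k _ ⟨c, rfl⟩
    refine ⟨k • c, ?_⟩
    show lin g _ = k • lin g _
    rw [← lin_smul]; congr 1; ext i; fin_cases i <;> simp
  have hW : W.ncard = 16 := by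
    rw [Set.ncard_range_of_injective ?_, Nat.card_eq_fintype_card, Fintype.card_fun, Fintype.card_fin, C.hF]
    · norm_num
    intro c c' h
    have h' := congrArg (fun v => fun i => Cfsg.hermForm 6 F 2 v (g i)) h
    simp only [lin, Cfsg.Agent.Lib.Unitary.orthonormal_coeff hg.on] at h'
    ext i
    fin_cases i
    · simpa using congrFun h' 0
    · simpa using congrFun h' 2
  set E' := {y | y ∈ perp D q ∧ ∃ v ∈ W, v ≠ 0 ∧ C.pt v = y}
  have hmem : ∀ y ∈ E', y ∈ perp₂ D a d := by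
    rintro _ ⟨hy, v, ⟨c, rfl⟩, hv0, rfl⟩
    have hv := horth _ ⟨c, rfl⟩ _ ⟨c, rfl⟩
    have h1 := (C.pt_comm hef.1 he0 hv hv0).mpr (herm_eq_zero_symm C.hF (hg.lin_orth _).1)
    have h2 := (C.pt_comm hef.2.1 hf0 hv hv0).mpr (herm_eq_zero_symm C.hF (hg.lin_orth _).2)
    rw [hea] at h1
    rw [hfd] at h2
    exact ⟨⟨hy.1, fun h => had (by rw [h] at h2; exact h2.symm), h1⟩,
      hy.1, fun h => had (by rw [h] at h1; exact h1), h2⟩
  refine ⟨insert q E', Set.insert_subset hq hmem, ?_, ?_⟩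
  · rw [Set.ncard_insert_of_notMem (fun h => h.1.2.1 rfl)]
    have h := C.three_mul_ncard (fun y => ∃ v ∈ W, v ≠ 0 ∧ C.pt v = y)
    have hset : {v : Fin 6 → F | Cfsg.hermForm 6 F 2 v v = 0 ∧ v ≠ 0 ∧ ∃ w ∈ W, w ≠ 0 ∧ C.pt w = C.pt v}
        = W \ {0} := by
      ext v
      constructor
      · rintro ⟨hv, hv0, w, hw, hw0, he⟩
        obtain ⟨k, -, rfl⟩ := (C.pt_eq (horth w hw w hw) hw0 hv hv0).mp he
        exact ⟨hsmul k w hw, hv0⟩
      · rintro ⟨hv, hv0⟩
        exact ⟨horth v hv v hv, hv0, v, hv, hv0, rfl⟩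
    rw [hset, Set.ncard_sdiff_singleton_of_mem (show (0 : Fin 6 → F) ∈ W from ⟨0, by simp [lin, Fin.sum_univ_four]⟩),
      hW] at h
    change E'.ncard + 1 = 6
    have : 3 * E'.ncard = 16 - 1 := h
    omega
  · rintro x (rfl | hx) y (rfl | hy)
    · exact Commute.refl _
    · exact hy.1.2.2
    · exact hx.1.2.2.symm
    · obtain ⟨-, v, hv, hv0, rfl⟩ := hx
      obtain ⟨-, w, hw, hw0, rfl⟩ := hy
      exact (C.pt_comm (horth v hv v hv) hv0 (horth w hw w hw) hw0).mpr (horth v hv w hw)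

end Cfsg.Agent.Lib.FischerMTypes.TracePair
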