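import Mathlib
import Cfsg.Agent.Lib.FischerMTypes.TracePair

/-!
Type M(22): the normaliser of the subgroup of order three generated by a product `a * d` of two
non-commuting transpositions, and its conjugates inside the trace group.
-/

set_option autoImplicit false
set_option linter.style.haveILetI false
set_option linter.unusedSectionVars false

namespace Cfsg.Agent.Lib.FischerMTypes.NormalizerPair

open Cfsg.Agent.Lib.FischerMTypes.Basic Cfsg.Agent.Lib.FischerMTypes.Primitive
  Cfsg.Agent.Lib.FischerMTypes.Levels Cfsg.Agent.Lib.FischerMTypes.PointModel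
  Cfsg.Agent.Lib.FischerMTypes.TraceCounts Cfsg.Agent.Lib.FischerMTypes.TraceSize
  Cfsg.Agent.Lib.FischerMTypes.StabilizerM22 Cfsg.Agent.Lib.FischerMTypes.TracePair

variable {G : Type*} [Group G] [Finite G] {D : Set G}
variable {F : Type} [Field F] [Fintype F]

section

variable (hD : Cfsg.IsThreeTranspositionGroup D) {a d : G} (ha : a ∈ D) (hd : d ∈ D) (had : ¬ Commute a d)

include hD ha hd had in
/-- a transposition commutes with `a * d` exactly when it is in the trace -/
theorem commute_mul_iff_trace {y : G} (hy : y ∈ D) : Commute y (a * d) ↔ y ∈ perp₂ D a d := by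
  constructor
  swap
  · exact fun h => h.1.2.2.symm.mul_right h.2.2.2.symm
  intro h
  have hy2 : y * (a * d) * y = a * d := conj_fix_of_commute hD.1 hy h
  have e : y * (a * d) * y = y * a * y * (y * d * y) := by
    calc y * (a * d) * y = y * a * (y * y) * d * y := by rw [mul_self hD.1 hy]; group
      _ = y * a * y * (y * d * y) := by group
  rw [e] at hy2
  have main : Commute y a := by
    by_contra hya
    by_cases hyd : Commute y d
    · rw [conj_fix_of_commute hD.1 hy hyd] at hy2
      have hh : y * a * y = a := mul_right_cancel hy2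
      exact hya (show y * a = a * y by
        calc y * a = y * a * y * y := by rw [mul_assoc _ y y, mul_self hD.1 hy, mul_one]
          _ = a * y := by rw [hh])
    · rw [braid hD.1 hy ha hya, braid hD.1 hy hd hyd] at hy2
      have h3 : y * (a * d) * y * d = d := by
        have := congrArg (fun z => a⁻¹ * z) hy2
        simpa [mul_assoc] using this
      have h4 : y * (a * d) * y = 1 := by
        calc y * (a * d) * y = y * (a * d) * y * d * d := by rw [mul_assoc _ d d, mul_self hD.1 hd, mul_one]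
          _ = d * d := by rw [h3]
          _ = 1 := mul_self hD.1 hd
      have h5 : a * d = 1 := by
        calc a * d = y * (y * (a * d) * y) * y := (conj_self_inv hD.1 hy (a * d)).symm
          _ = 1 := by rw [h4, mul_one, mul_self hD.1 hy]
      exact had (by rw [eq_inv_of_mul_eq_one_left h5, inv_eq hD.1 hd])
  have main2 : Commute y d := by
    rw [conj_fix_of_commute hD.1 hy main] at hy2
    have hh : y * d * y = d := mul_left_cancel hy2
    exact (show y * d = d * y by
      calc y * d = y * d * y * y := by rw [mul_assoc _ y y, mul_self hD.1 hy, mul_one]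
        _ = d * y := by rw [hh])
  exact ⟨⟨hy, fun h' => had (h' ▸ main2), main.symm⟩, hy, fun h' => had (h' ▸ main.symm), main2.symm⟩

include hD ha hd had in
theorem mem_centralizer_zpowers_iff {y : G} (hy : y ∈ D) :
    y ∈ Subgroup.centralizer ((Subgroup.zpowers (a * d) : Subgroup G) : Set G) ↔ y ∈ perp₂ D a d := by
  rw [← commute_mul_iff_trace hD ha hd had hy, Subgroup.mem_centralizer_iff]
  constructor
  · exact fun h => (h (a * d) (Subgroup.mem_zpowers _)).symm
  · rintro h z hz
    obtain ⟨n, rfl⟩ := Subgroup.mem_zpowers_iff.mp hz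
    exact (h.zpow_right n).eq.symm

/-- the conjugation table of the three transpositions of the pair -/
theorem table (hD : Cfsg.IsThreeTranspositionGroup D) {a d : G} (ha : a ∈ D) (hd : d ∈ D) (had : ¬ Commute a d) :
    a * d * a = d * a * d ∧ (a * d * a) * a * (a * d * a)⁻¹ = d ∧ (a * d * a) * d * (a * d * a)⁻¹ = a ∧
    a * d * a⁻¹ = a * d * a ∧ d * a * d⁻¹ = a * d * a ∧
    (a * d) * a * (a * d)⁻¹ = d ∧ (a * d) * d * (a * d)⁻¹ = a * d * a ∧
    (d * a) * a * (d * a)⁻¹ = a * d * a ∧ (d * a) * d * (d * a)⁻¹ = a := by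
  have hb := braid hD.1 ha hd had
  have iz : (a * d * a)⁻¹ = a * d * a := inv_eq hD.1 (((closed hD).2 a ha d hd))
  have e1 := mul_conj_eq hD.1 ha hd had
  have e2 := mul_conj_eq hD.1 hd ha fun h => had h.symm
  refine ⟨hb, ?_, ?_, by rw [inv_eq hD.1 ha], by rw [inv_eq hD.1 hd, hb], e1, ?_, ?_, e2⟩
  · rw [iz]
    calc a * d * a * a * (a * d * a) = a * d * (a * a) * (a * d * a) := by group
      _ = a * (d * a * d) * a := by rw [mul_self hD.1 ha]; group
      _ = d := by rw [← hb]; exact conj_self_inv hD.1 ha d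
  · rw [iz, hb]
    calc d * a * d * d * (d * a * d) = d * a * (d * d) * (d * a * d) := by group
      _ = d * (a * d * a) * d := by rw [mul_self hD.1 hd]; group
      _ = a := by rw [hb]; exact conj_self_inv hD.1 hd a
  · rw [mul_inv_rev, inv_eq hD.1 ha, inv_eq hD.1 hd]
    calc a * d * d * (d * a) = a * (d * d) * (d * a) := by group
      _ = a * d * a := by rw [mul_self hD.1 hd]; group
  · rw [mul_inv_rev, inv_eq hD.1 ha, inv_eq hD.1 hd, hb]
    calc d * a * a * (a * d) = d * (a * a) * (a * d) := by group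
      _ = d * a * d := by rw [mul_self hD.1 ha]; group

include hD ha hd had in
theorem mem_pair_closure {g : G} (hg : g ∈ Subgroup.closure ({a, d} : Set G)) :
    g = 1 ∨ g = a ∨ g = d ∨ g = a * d * a ∨ g = a * d ∨ g = d * a := by
  have ha2 := mul_self hD.1 ha
  have hd2 := mul_self hD.1 hd
  have hb := braid hD.1 ha hd had
  have ma : ∀ g, (g = 1 ∨ g = a ∨ g = d ∨ g = a * d * a ∨ g = a * d ∨ g = d * a) →
      (a * g = 1 ∨ a * g = a ∨ a * g = d ∨ a * g = a * d * a ∨ a * g = a * d ∨ a * g = d * a) := by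
    rintro g (rfl | rfl | rfl | rfl | rfl | rfl)
    · simp
    · exact Or.inl ha2
    · simp
    · right; right; right; right; right
      calc a * (a * d * a) = a * a * (d * a) := by group
        _ = d * a := by rw [ha2, one_mul]
    · right; right; left
      rw [← mul_assoc, ha2, one_mul]
    · right; right; right; left
      group
  have md : ∀ g, (g = 1 ∨ g = a ∨ g = d ∨ g = a * d * a ∨ g = a * d ∨ g = d * a) →
      (d * g = 1 ∨ d * g = a ∨ d * g = d ∨ d * g = a * d * a ∨ d * g = a * d ∨ d * g = d * a) := by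
    rintro g (rfl | rfl | rfl | rfl | rfl | rfl)
    · simp
    · simp
    · exact Or.inl hd2
    · right; right; right; right; left
      rw [hb]
      calc d * (d * a * d) = d * d * (a * d) := by group
        _ = a * d := by rw [hd2, one_mul]
    · right; right; right; left
      rw [hb]; group
    · right; left
      rw [← mul_assoc, hd2, one_mul]
  induction hg using Subgroup.closure_induction_left with
  | one => exact Or.inl rfl
  | mul_left x hx y _ ih =>
    rcases hx with rfl | rfl
    · exact ma y ih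
    · exact md y ih
  | inv_mul_cancel x hx y _ ih =>
    rcases hx with rfl | rfl
    · rw [inv_eq hD.1 ha]; exact ma y ih
    · rw [inv_eq hD.1 hd]; exact md y ih

include hD ha hd had in
theorem eq_one_of_fix {g : G} (hg : g ∈ Subgroup.closure ({a, d} : Set G)) (hga : g * a * g⁻¹ = a)
    (hgd : g * d * g⁻¹ = d) : g = 1 := by
  obtain ⟨hb, z1, z2, ea, ed, x1, x2, y1, y2⟩ := table hD ha hd had
  have n1 : a ≠ d := fun h => had (h ▸ Commute.refl a)
  have n2 : a * d * a ≠ d := fun h => had (show a * d = d * a by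
    calc a * d = a * d * a * a := by rw [mul_assoc _ a a, mul_self hD.1 ha, mul_one]
      _ = d * a := by rw [h])
  have n3 : a * d * a ≠ a := fun h => n1 (by
    conv_rhs => rw [← conj_self_inv hD.1 ha d, h, mul_assoc, mul_self hD.1 ha, mul_one])
  rcases mem_pair_closure hD ha hd had hg with rfl | rfl | rfl | rfl | rfl | rfl
  · rfl
  · rw [ea] at hgd; exact absurd hgd n2
  · rw [ed] at hga; exact absurd hga n3
  · rw [z1] at hga; exact absurd hga n1.symm
  · rw [x1] at hga; exact absurd hga n1.symm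
  · rw [y1] at hga; exact absurd hga n3

end

variable (S : Sys D F) {a d : G} (ha : a ∈ D) (hd : d ∈ D) (had : ¬ Commute a d)

include S ha hd had in
theorem inf_eq_bot : Subgroup.closure ({a, d} : Set G) ⊓ Subgroup.closure (perp₂ D a d) = ⊥ := by
  rw [eq_bot_iff]
  rintro g ⟨hgS, hgK⟩
  obtain ⟨h1, h2⟩ := mem_centralizer_pair.mp (closure_le_centralizer_pair (D := D) a d hgK)
  exact Subgroup.mem_bot.mpr (eq_one_of_fix S.hD ha hd had hgS (by rw [← h1.eq, mul_inv_cancel_right])
    (by rw [← h2.eq, mul_inv_cancel_right]))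

theorem commute_of_mem {a d x y : G} (hx : x ∈ Subgroup.closure ({a, d} : Set G))
    (hy : y ∈ Subgroup.closure (perp₂ D a d)) : x * y = y * x := by
  obtain ⟨h1, h2⟩ := mem_centralizer_pair.mp (closure_le_centralizer_pair (D := D) a d hy)
  exact (commute_closure (u := y) (S := ({a, d} : Set G))
    (by rintro s (rfl | rfl); exacts [h1.symm, h2.symm]) x hx).eq.symm

include S ha hd had in
theorem pair_iso : Nonempty (↥(Subgroup.closure ({a, d} : Set G)) ≃* Equiv.Perm (Fin 3)) := by
  classical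
  set P := Subgroup.closure ({a, d} : Set G)
  obtain ⟨hb, z1, z2, ea, ed, x1, x2, y1, y2⟩ := table S.hD ha hd had
  set T : Set G := {a, d, a * d * a}
  have hT : ∀ g : ↥P, ∀ t ∈ T, (g : G) * t * (g : G)⁻¹ ∈ T := by
    intro g
    induction g using Subtype.rec with | _ g hg => ?_
    induction hg using Subgroup.closure_induction_left with
    | one => intro t ht; simpa using ht
    | mul_left x hx y _ ih =>
      intro t ht
      have h1 := ih t ht
      rw [show x * y * t * (x * y)⁻¹ = x * (y * t * y⁻¹) * x⁻¹ by group]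
      generalize y * t * y⁻¹ = u at h1
      rcases hx with rfl | rfl <;> rcases h1 with rfl | rfl | rfl
      · left; group
      · right; right; exact ea
      · right; left; rw [inv_eq S.hD.1 ha]; exact conj_self_inv S.hD.1 ha d
      · right; right; exact ed
      · right; left; group
      · left; rw [inv_eq S.hD.1 hd, hb]; exact conj_self_inv S.hD.1 hd a
    | inv_mul_cancel x hx y _ ih =>
      intro t ht
      have h1 := ih t ht
      rw [show x⁻¹ * y * t * (x⁻¹ * y)⁻¹ = x⁻¹ * (y * t * y⁻¹) * x by group]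
      generalize y * t * y⁻¹ = u at h1
      rcases hx with rfl | rfl <;> rcases h1 with rfl | rfl | rfl
      · left; group
      · right; right; rw [inv_eq S.hD.1 ha]; exact rfl
      · right; left; rw [inv_eq S.hD.1 ha]; exact conj_self_inv S.hD.1 ha d
      · right; right; rw [inv_eq S.hD.1 hd]; exact hb.symm
      · right; left; group
      · left; rw [inv_eq S.hD.1 hd, hb]; exact conj_self_inv S.hD.1 hd a
  let f : ↥P → (T → T) := fun g t => ⟨(g : G) * t.1 * (g : G)⁻¹, hT g t.1 t.2⟩
  let ψ : ↥P →* Equiv.Perm T :=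
    { toFun := fun g => ⟨f g, f g⁻¹,
        fun t => Subtype.ext (by simp [f]; group), fun t => Subtype.ext (by simp [f]; group)⟩
      map_one' := Equiv.ext fun t => Subtype.ext (by simp [f])
      map_mul' := fun g h => Equiv.ext fun t => Subtype.ext (by simp [f, mul_assoc]) }
  have hinj : Function.Injective ψ := by
    rw [injective_iff_map_eq_one]
    intro g hg
    have h1 := congrArg Subtype.val (Equiv.ext_iff.mp hg ⟨a, by simp [T]⟩)
    have h2 := congrArg Subtype.val (Equiv.ext_iff.mp hg ⟨d, by simp [T]⟩)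
    exact Subtype.ext (eq_one_of_fix S.hD ha hd had g.2 h1 h2)
  have n1 : a ≠ d := fun h => had (h ▸ Commute.refl a)
  have hcT : Nat.card T = 3 := by
    rw [Nat.card_coe_set_eq]
    refine Set.ncard_eq_three.mpr ⟨a, d, a * d * a, n1, fun h => n1 ?_, fun h => had ?_, rfl⟩
    · conv_rhs => rw [← conj_self_inv S.hD.1 ha d, ← h, mul_assoc, mul_self S.hD.1 ha, mul_one]
    · show a * d = d * a
      calc a * d = a * d * a * a := by rw [mul_assoc _ a a, mul_self S.hD.1 ha, mul_one]
        _ = d * a := by rw [← h]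
  have hperm : Nat.card (Equiv.Perm T) = 6 := by rw [Nat.card_perm, hcT]; rfl
  have h2 : 2 ∣ Nat.card ↥P := by
    have := orderOf_dvd_natCard (⟨a, Subgroup.subset_closure (by simp)⟩ : ↥P)
    rwa [← Subgroup.orderOf_coe, S.hD.1.1 a ha] at this
  have h3 : 3 ∣ Nat.card ↥P := by
    have h := orderOf_dvd_natCard (⟨a * d, mul_mem (Subgroup.subset_closure (by simp)) (Subgroup.subset_closure (by simp))⟩ : ↥P)
    haveI : Fact (Nat.Prime 3) := ⟨Nat.prime_three⟩
    have ho : orderOf (a * d) = 3 := orderOf_eq_prime (cube_eq_one S.hD.1 ha hd had) fun h1 => had (by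
      rw [eq_inv_of_mul_eq_one_left h1, inv_eq S.hD.1 hd])
    rwa [← Subgroup.orderOf_coe, ho] at h
  have hle : Nat.card ↥P ≤ 6 := hperm ▸ Nat.card_le_card_of_injective ψ hinj
  have hcP : Nat.card ↥P = 6 := by
    have hpos : 0 < Nat.card ↥P := Nat.card_pos
    omega
  have hbij : Function.Bijective ψ :=
    (Nat.bijective_iff_injective_and_card ψ).mpr ⟨hinj, hcP.trans hperm.symm⟩
  exact ⟨(MulEquiv.ofBijective ψ hbij).trans (Finite.equivFinOfCardEq hcT).permCongrHom⟩

include S ha hd had in
/-- a transposition inverting or fixing nothing: conjugates of `a` under the normaliser stay in the line -/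
theorem line_of_commute_trace {t : G} (ht : t ∈ D) (htx : ¬ Commute t (a * d))
    (hall : ∀ w ∈ perp₂ D a d, Commute t w) : t = a ∨ t = d ∨ t = a * d * a := by
  obtain ⟨p, hp⟩ : (perp₂ D a d).Nonempty :=
    Set.nonempty_of_ncard_ne_zero (by rw [ncard_trace S ha hd had]; norm_num)
  have hap : a ∈ perp D p := ⟨ha, Ne.symm hp.1.2.1, hp.1.2.2.symm⟩
  have hdp : d ∈ perp D p := ⟨hd, Ne.symm hp.2.2.1, hp.2.2.2.symm⟩
  have htp : t ∈ perp D p := ⟨ht, fun h => htx (h ▸ (commute_mul_iff_trace S.hD ha hd had hp.1.1).mpr hp),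
    (hall p hp).symm⟩
  refine (S.ctx p hp.1.1).line_points hap hdp htp had fun w hw haw hdw => hall w ?_
  exact ⟨⟨hw.1, fun h => had (by rw [h] at hdw; exact hdw.symm), haw⟩,
    hw.1, fun h => had (by rw [h] at haw; exact haw), hdw⟩

include S ha hd had in
theorem sup_eq_normalizer : Subgroup.closure ({a, d} : Set G) ⊔ Subgroup.closure (perp₂ D a d) =
    Subgroup.normalizer ((Subgroup.zpowers (a * d) : Subgroup G) : Set G) := by
  set X := Subgroup.zpowers (a * d)
  obtain ⟨hb, z1, z2, ea, ed, x1, x2, y1, y2⟩ := table S.hD ha hd had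
  have hXfix : ∀ g : G, g * (a * d) * g⁻¹ ∈ X → g⁻¹ * (a * d) * g ∈ X →
      g ∈ Subgroup.normalizer (X : Set G) := by
    intro g h1 h2
    rw [Subgroup.mem_normalizer_iff]
    intro z
    constructor
    · intro hz
      obtain ⟨n, rfl⟩ := Subgroup.mem_zpowers_iff.mp hz
      rw [← conj_zpow]; exact zpow_mem h1 n
    · intro hz
      obtain ⟨n, hn⟩ := Subgroup.mem_zpowers_iff.mp hz
      have : z = (g⁻¹ * (a * d) * g⁻¹⁻¹) ^ n := by rw [conj_zpow, hn]; group
      rw [this, inv_inv]; exact zpow_mem h2 n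
  refine le_antisymm (sup_le ((Subgroup.closure_le _).mpr ?_) ((Subgroup.closure_le _).mpr fun y hy => ?_)) ?_
  · have hinvX : (a * d)⁻¹ ∈ X := inv_mem (Subgroup.mem_zpowers _)
    rintro g (rfl | rfl)
    · have e : g * (g * d) * g = (g * d)⁻¹ := by
        rw [mul_inv_rev, inv_eq S.hD.1 ha, inv_eq S.hD.1 hd]
        calc g * (g * d) * g = g * g * (d * g) := by group
          _ = d * g := by rw [mul_self S.hD.1 ha, one_mul]
      refine hXfix g ?_ ?_ <;> rw [inv_eq S.hD.1 ha, e] <;> exact hinvX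
    · have e : g * (a * g) * g = (a * g)⁻¹ := by
        rw [mul_inv_rev, inv_eq S.hD.1 ha, inv_eq S.hD.1 hd]
        calc g * (a * g) * g = g * a * (g * g) := by group
          _ = g * a := by rw [mul_self S.hD.1 hd, mul_one]
      refine hXfix g ?_ ?_ <;> rw [inv_eq S.hD.1 hd, e] <;> exact hinvX
  · have e : y * (a * d) * y = a * d :=
      conj_fix_of_commute S.hD.1 hy.1.1 ((commute_mul_iff_trace S.hD ha hd had hy.1.1).mpr hy)
    refine hXfix y ?_ ?_ <;> rw [inv_eq S.hD.1 hy.1.1, e] <;> exact Subgroup.mem_zpowers _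
  intro g hg
  -- the trace is invariant
  have hL : ∀ w ∈ perp₂ D a d, g⁻¹ * w * g ∈ perp₂ D a d := by
    intro w hw
    have hwD : g⁻¹ * w * g ∈ D := by simpa using S.hD.2.1 g⁻¹ w hw.1.1
    refine (mem_centralizer_zpowers_iff S.hD ha hd had hwD).mp (Subgroup.mem_centralizer_iff.mpr fun z hz => ?_)
    have hz' : g * z * g⁻¹ ∈ X := (Subgroup.mem_normalizer_iff.mp hg z).mp hz
    have hc : g * z * g⁻¹ * w = w * (g * z * g⁻¹) :=
      (Subgroup.mem_centralizer_iff.mp ((mem_centralizer_zpowers_iff S.hD ha hd had hw.1.1).mpr hw)) _ hz'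
    calc z * (g⁻¹ * w * g) = g⁻¹ * (g * z * g⁻¹ * w) * g := by group
      _ = g⁻¹ * (w * (g * z * g⁻¹)) * g := by rw [hc]
      _ = g⁻¹ * w * g * z := by group
  have hmove : ∀ t, (t = a ∨ t = d) → g * t * g⁻¹ = a ∨ g * t * g⁻¹ = d ∨ g * t * g⁻¹ = a * d * a := by
    intro t ht
    have htD : t ∈ D := by rcases ht with rfl | rfl <;> assumption
    have hncx : ¬ Commute t (a * d) := by
      intro h
      have h' := (commute_mul_iff_trace S.hD ha hd had htD).mp h
      rcases ht with rfl | rfl
      · exact h'.1.2.1 rfl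
      · exact h'.2.2.1 rfl
    have hcw : ∀ w ∈ perp₂ D a d, Commute (g * t * g⁻¹) w := by
      intro w hw
      have hw' := hL w hw
      have : Commute t (g⁻¹ * w * g) := by
        rcases ht with rfl | rfl
        · exact hw'.1.2.2
        · exact hw'.2.2.2
      have h := conj_commute (g := g) this
      rwa [show g * (g⁻¹ * w * g) * g⁻¹ = w by group] at h
    refine line_of_commute_trace S ha hd had (S.hD.2.1 g t htD) (fun h => hncx ?_) hcw
    have hz : g⁻¹ * (a * d) * g ∈ X := by
      have := (Subgroup.mem_normalizer_iff.mp (inv_mem hg) (a * d)).mp (Subgroup.mem_zpowers _)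
      simpa using this
    have hcz : ∀ z ∈ X, Commute (g * t * g⁻¹) z := fun z hz => by
      obtain ⟨n, rfl⟩ := Subgroup.mem_zpowers_iff.mp hz
      exact h.zpow_right n
    have hz' : g * (a * d) * g⁻¹ ∈ X := (Subgroup.mem_normalizer_iff.mp hg _).mp (Subgroup.mem_zpowers _)
    exact (commute_conj_iff g t (a * d)).mp (hcz _ hz')
  have hpick : ∃ s ∈ Subgroup.closure ({a, d} : Set G),
      s * a * s⁻¹ = g * a * g⁻¹ ∧ s * d * s⁻¹ = g * d * g⁻¹ := by
    have hA : a ∈ Subgroup.closure ({a, d} : Set G) := Subgroup.subset_closure (by simp)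
    have hB : d ∈ Subgroup.closure ({a, d} : Set G) := Subgroup.subset_closure (by simp)
    have hne : g * a * g⁻¹ ≠ g * d * g⁻¹ := fun h => had (by
      have : a = d := by simpa using h
      rw [this])
    rcases hmove a (Or.inl rfl) with h1 | h1 | h1 <;> rcases hmove d (Or.inr rfl) with h2 | h2 | h2
    · exact absurd (h1.trans h2.symm) hne
    · exact ⟨1, one_mem _, by rw [h1]; group, by rw [h2]; group⟩
    · exact ⟨a, hA, by rw [h1]; group, by rw [h2, ea]⟩
    · exact ⟨a * d * a, mul_mem (mul_mem hA hB) hA, by rw [h1, z1], by rw [h2, z2]⟩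
    · exact absurd (h1.trans h2.symm) hne
    · exact ⟨a * d, mul_mem hA hB, by rw [h1, x1], by rw [h2, x2]⟩
    · exact ⟨d * a, mul_mem hB hA, by rw [h1, y1], by rw [h2, y2]⟩
    · exact ⟨d, hB, by rw [h1, ed], by rw [h2]; group⟩
    · exact absurd (h1.trans h2.symm) hne
  obtain ⟨s, hs, hsa, hsd⟩ := hpick
  rw [show g = s * (s⁻¹ * g) by group]
  refine Subgroup.mul_mem_sup hs ?_
  rw [(trace_group S ha hd had).1, mem_centralizer_pair]
  constructor
  · show a * (s⁻¹ * g) = s⁻¹ * g * a
    calc a * (s⁻¹ * g) = s⁻¹ * (s * a * s⁻¹) * g := by group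
      _ = s⁻¹ * g * a := by rw [hsa]; group
  · show d * (s⁻¹ * g) = s⁻¹ * g * d
    calc d * (s⁻¹ * g) = s⁻¹ * (s * d * s⁻¹) * g := by group
      _ = s⁻¹ * g * d := by rw [hsd]; group

include S ha hd had in
theorem width_six : Cfsg.commutingWidth (D ∩ (Subgroup.centralizer
    ((Subgroup.zpowers (a * d) : Subgroup G) : Set G) : Set G)) = 6 := by
  have hiff : ∀ y, y ∈ D ∩ (Subgroup.centralizer ((Subgroup.zpowers (a * d) : Subgroup G) : Set G) : Set G) ↔
      y ∈ perp₂ D a d := fun y =>
    ⟨fun h => (mem_centralizer_zpowers_iff S.hD ha hd had h.1).mp h.2,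
      fun h => ⟨h.1.1, (mem_centralizer_zpowers_iff S.hD ha hd had h.1.1).mpr h⟩⟩
  have hle : ∀ n ∈ {n : ℕ | ∃ E : Set G, E ⊆ D ∩ (Subgroup.centralizer
      ((Subgroup.zpowers (a * d) : Subgroup G) : Set G) : Set G) ∧ E.Finite ∧
      (∀ a ∈ E, ∀ b ∈ E, Commute a b) ∧ E.ncard = n}, n ≤ 6 := by
    rintro _ ⟨E, hE, -, hc, rfl⟩
    exact trace_clique_le S ha hd had (fun y hy => (hiff y).mp (hE hy)) hc
  obtain ⟨E, hE, h6, hc⟩ := exists_trace_clique S ha hd had
  have hmem : 6 ∈ {n : ℕ | ∃ E : Set G, E ⊆ D ∩ (Subgroup.centralizer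
      ((Subgroup.zpowers (a * d) : Subgroup G) : Set G) : Set G) ∧ E.Finite ∧
      (∀ a ∈ E, ∀ b ∈ E, Commute a b) ∧ E.ncard = n} :=
    ⟨E, fun y hy => (hiff y).mpr (hE hy), Set.toFinite _, hc, h6⟩
  exact le_antisymm (csSup_le ⟨6, hmem⟩ hle) (le_csSup ⟨6, hle⟩ hmem)

include S ha hd had in
theorem conj_classes :
    (∃ g : G, (Subgroup.zpowers (a * d)).map (MulAut.conj g).toMonoidHom ≤ Subgroup.closure (perp₂ D a d)) ∧
      ∀ g h : G, (Subgroup.zpowers (a * d)).map (MulAut.conj g).toMonoidHom ≤ Subgroup.closure (perp₂ D a d) →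
        (Subgroup.zpowers (a * d)).map (MulAut.conj h).toMonoidHom ≤ Subgroup.closure (perp₂ D a d) →
        ∃ k ∈ Subgroup.closure (perp₂ D a d),
          ((Subgroup.zpowers (a * d)).map (MulAut.conj g).toMonoidHom).map (MulAut.conj k).toMonoidHom =
            (Subgroup.zpowers (a * d)).map (MulAut.conj h).toMonoidHom := by
  set K := Subgroup.closure (perp₂ D a d)
  have hmap : ∀ g : G, (Subgroup.zpowers (a * d)).map (MulAut.conj g).toMonoidHom =
      Subgroup.zpowers (g * a * g⁻¹ * (g * d * g⁻¹)) := fun g => by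
    rw [MonoidHom.map_zpowers]
    congr 1
    show g * (a * d) * g⁻¹ = _
    group
  have hpairs : ∀ g : G, (Subgroup.zpowers (a * d)).map (MulAut.conj g).toMonoidHom ≤ K →
      g * a * g⁻¹ ∈ perp₂ D a d ∧ g * d * g⁻¹ ∈ perp₂ D a d := by
    intro g hg
    rw [hmap] at hg
    obtain ⟨c1, c2⟩ := mem_centralizer_pair.mp
      (closure_le_centralizer_pair (D := D) a d (hg (Subgroup.mem_zpowers _)))
    have hga := S.hD.2.1 g a ha
    have hgd := S.hD.2.1 g d hd
    have hnc : ¬ Commute (g * a * g⁻¹) (g * d * g⁻¹) := fun h => had ((commute_conj_iff g a d).mp h)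
    have h1 := (commute_mul_iff_trace S.hD hga hgd hnc ha).mp c1
    have h2 := (commute_mul_iff_trace S.hD hga hgd hnc hd).mp c2
    exact ⟨⟨⟨hga, Ne.symm h1.1.2.1, h1.1.2.2.symm⟩, hga, Ne.symm h2.1.2.1, h2.1.2.2.symm⟩,
      ⟨hgd, Ne.symm h1.2.2.1, h1.2.2.2.symm⟩, hgd, Ne.symm h2.2.2.1, h2.2.2.2.symm⟩
  constructor
  · obtain ⟨u, hu, v, hv, huv⟩ := exists_trace_noncomm S ha hd had
    obtain ⟨g, hga, hgd⟩ := exists_conj_pair S ha hd had hu.1.1 hv.1.1 huv
    refine ⟨g, ?_⟩
    rw [hmap, hga, hgd, Subgroup.zpowers_le]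
    exact mul_mem (Subgroup.subset_closure hu) (Subgroup.subset_closure hv)
  · intro g h hg hh
    obtain ⟨g1, g2⟩ := hpairs g hg
    obtain ⟨h1, h2⟩ := hpairs h hh
    obtain ⟨k, hk, k1, k2⟩ := pair_trans S ha hd had g1 g2 (fun hc => had ((commute_conj_iff g a d).mp hc))
      h1 h2 (fun hc => had ((commute_conj_iff h a d).mp hc))
    refine ⟨k, hk, ?_⟩
    rw [hmap, hmap, MonoidHom.map_zpowers]
    congr 1
    show k * (g * a * g⁻¹ * (g * d * g⁻¹)) * k⁻¹ = _
    rw [← k1, ← k2]; group

end Cfsg.Agent.Lib.FischerMTypes.NormalizerPair
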