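import Mathlib
import Cfsg.Agent.Lib.FischerMTypes.NormalizerPair
import Cfsg.Agent.Lib.FischerMTypes.StepGroup

/-!
Any level: the centraliser, the normaliser and the width at a non-commuting pair.
-/

set_option autoImplicit false
set_option linter.style.haveILetI false
set_option linter.unusedSectionVars false

namespace Cfsg.Agent.Lib.FischerMTypes.StepPair

open Cfsg.Agent.Lib.FischerMTypes.Basic Cfsg.Agent.Lib.FischerMTypes.Primitive
  Cfsg.Agent.Lib.FischerMTypes.Levels Cfsg.Agent.Lib.FischerMTypes.Rank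
  Cfsg.Agent.Lib.FischerMTypes.Step
open Cfsg.Agent.Lib.FischerMTypes.TracePair (mem_centralizer_pair closure_le_centralizer_pair)
open Cfsg.Agent.Lib.FischerMTypes.NormalizerPair (table eq_one_of_fix commute_mul_iff_trace
  mem_centralizer_zpowers_iff)

variable {G : Type*} [Group G] [Finite G] {D : Set G}

section

variable (hD : Cfsg.IsThreeTranspositionGroup D) {a d : G} (ha : a ∈ D) (hd : d ∈ D) (had : ¬ Commute a d)

include hD ha hd had in
theorem inf_eq_bot :
    Subgroup.closure ({a, d} : Set G) ⊓ Subgroup.centralizer ({a, d} : Set G) = ⊥ := by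
  rw [eq_bot_iff]
  rintro g ⟨hgS, hgK⟩
  obtain ⟨h1, h2⟩ := mem_centralizer_pair.mp hgK
  exact Subgroup.mem_bot.mpr (eq_one_of_fix hD ha hd had hgS (by rw [← h1.eq, mul_inv_cancel_right])
    (by rw [← h2.eq, mul_inv_cancel_right]))

theorem commute_of_mem {a d x y : G} (hx : x ∈ Subgroup.closure ({a, d} : Set G))
    (hy : y ∈ Subgroup.centralizer ({a, d} : Set G)) : x * y = y * x := by
  obtain ⟨h1, h2⟩ := mem_centralizer_pair.mp hy
  exact (commute_closure (u := y) (S := ({a, d} : Set G))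
    (by rintro s (rfl | rfl); exacts [h1.symm, h2.symm]) x hx).eq.symm

include hD ha hd had in
theorem pair_iso : Nonempty (↥(Subgroup.closure ({a, d} : Set G)) ≃* Equiv.Perm (Fin 3)) := by
  classical
  set P := Subgroup.closure ({a, d} : Set G)
  obtain ⟨hb, z1, z2, ea, ed, x1, x2, y1, y2⟩ := table hD ha hd had
  set T : Set G := {a, d, a * d * a}
  have hT : ∀ g : ↥P, ∀ t ∈ T, (g : G) * t * (g : G)⁻¹ ∈ T := by
    intro g
    induction g using Subtype.rec with | _ g hg => ?_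
    induction hg using Subgroup.closure_induction_left with
    | one => intro t ht; simpa using ht
    | mul_left x hx y _ ih =>
      intro t ht
      have h1 := ih t ht
      rw [show x * y * t * (x * y)⁻¹ = x * (y * t * y⁻¹) * x⁻¹ by group]
      generalize y * t * y⁻¹ = u at h1
      rcases hx with rfl | rfl <;> rcases h1 with rfl | rfl | rfl
      · left; group
      · right; right; exact ea
      · right; left; rw [inv_eq hD.1 ha]; exact conj_self_inv hD.1 ha d
      · right; right; exact ed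
      · right; left; group
      · left; rw [inv_eq hD.1 hd, hb]; exact conj_self_inv hD.1 hd a
    | inv_mul_cancel x hx y _ ih =>
      intro t ht
      have h1 := ih t ht
      rw [show x⁻¹ * y * t * (x⁻¹ * y)⁻¹ = x⁻¹ * (y * t * y⁻¹) * x by group]
      generalize y * t * y⁻¹ = u at h1
      rcases hx with rfl | rfl <;> rcases h1 with rfl | rfl | rfl
      · left; group
      · right; right; rw [inv_eq hD.1 ha]; exact rfl
      · right; left; rw [inv_eq hD.1 ha]; exact conj_self_inv hD.1 ha d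
      · right; right; rw [inv_eq hD.1 hd]; exact hb.symm
      · right; left; group
      · left; rw [inv_eq hD.1 hd, hb]; exact conj_self_inv hD.1 hd a
  let f : ↥P → (T → T) := fun g t => ⟨(g : G) * t.1 * (g : G)⁻¹, hT g t.1 t.2⟩
  let ψ : ↥P →* Equiv.Perm T :=
    { toFun := fun g => ⟨f g, f g⁻¹,
        fun t => Subtype.ext (by simp [f]; group), fun t => Subtype.ext (by simp [f]; group)⟩
      map_one' := Equiv.ext fun t => Subtype.ext (by simp [f])
      map_mul' := fun g h => Equiv.ext fun t => Subtype.ext (by simp [f, mul_assoc]) }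
  have hinj : Function.Injective ψ := by
    rw [injective_iff_map_eq_one]
    intro g hg
    have h1 := congrArg Subtype.val (Equiv.ext_iff.mp hg ⟨a, by simp [T]⟩)
    have h2 := congrArg Subtype.val (Equiv.ext_iff.mp hg ⟨d, by simp [T]⟩)
    exact Subtype.ext (eq_one_of_fix hD ha hd had g.2 h1 h2)
  have n1 : a ≠ d := fun h => had (h ▸ Commute.refl a)
  have hcT : Nat.card T = 3 := by
    rw [Nat.card_coe_set_eq]
    refine Set.ncard_eq_three.mpr ⟨a, d, a * d * a, n1, fun h => n1 ?_, fun h => had ?_, rfl⟩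
    · conv_rhs => rw [← conj_self_inv hD.1 ha d, ← h, mul_assoc, mul_self hD.1 ha, mul_one]
    · show a * d = d * a
      calc a * d = a * d * a * a := by rw [mul_assoc _ a a, mul_self hD.1 ha, mul_one]
        _ = d * a := by rw [← h]
  have hperm : Nat.card (Equiv.Perm T) = 6 := by rw [Nat.card_perm, hcT]; rfl
  have h2 : 2 ∣ Nat.card ↥P := by
    have := orderOf_dvd_natCard (⟨a, Subgroup.subset_closure (by simp)⟩ : ↥P)
    rwa [← Subgroup.orderOf_coe, hD.1.1 a ha] at this
  have h3 : 3 ∣ Nat.card ↥P := by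
    have h := orderOf_dvd_natCard (⟨a * d, mul_mem (Subgroup.subset_closure (by simp)) (Subgroup.subset_closure (by simp))⟩ : ↥P)
    haveI : Fact (Nat.Prime 3) := ⟨Nat.prime_three⟩
    have ho : orderOf (a * d) = 3 := orderOf_eq_prime (cube_eq_one hD.1 ha hd had) fun h1 => had (by
      rw [eq_inv_of_mul_eq_one_left h1, inv_eq hD.1 hd])
    rwa [← Subgroup.orderOf_coe, ho] at h
  have hle : Nat.card ↥P ≤ 6 := hperm ▸ Nat.card_le_card_of_injective ψ hinj
  have hcP : Nat.card ↥P = 6 := by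
    have hpos : 0 < Nat.card ↥P := Nat.card_pos
    omega
  have hbij : Function.Bijective ψ :=
    (Nat.bijective_iff_injective_and_card ψ).mpr ⟨hinj, hcP.trans hperm.symm⟩
  exact ⟨(MulEquiv.ofBijective ψ hbij).trans (Finite.equivFinOfCardEq hcT).permCongrHom⟩

end

variable {Q : Type*} [Group Q] [Finite Q] {E : Set Q} {N A k n T n₁ : ℕ}
variable (S : StepData D E N A k n T) (P : Pinned D N A k n n₁)
variable {a d : G} (ha : a ∈ D) (hd : d ∈ D) (had : ¬ Commute a d)

include S P ha hd had in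
theorem card_centralizer_pair {F : ℕ} (hF : n₁ * F + N * (1 + A) = N * N) :
    Nat.card ↥(Subgroup.centralizer ({a, d} : Set G)) * F = 2 * Nat.card Q := by
  set H := Subgroup.centralizer ({a} : Set G) with hHdef
  have hsub : Subgroup.centralizer ({a, d} : Set G) ≤ H :=
    Subgroup.centralizer_le (by simp)
  set St := (Subgroup.centralizer ({a, d} : Set G)).subgroupOf H
  have hst : ∀ g : ↥H, g ∈ St ↔ (g : G) * d * (g : G)⁻¹ = d := fun g => by
    rw [Subgroup.mem_subgroupOf, mem_centralizer_pair, mul_inv_eq_iff_eq_mul]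
    constructor
    · intro h; exact h.2.symm.eq
    · intro h
      exact ⟨(Subgroup.mem_centralizer_singleton_iff.mp g.2).symm, h.symm⟩
  have hfix : ∀ g : ↥H, (g : G) * a * (g : G)⁻¹ = a := fun g => by
    rw [Subgroup.mem_centralizer_singleton_iff.mp g.2, mul_inv_cancel_right]
  have hmem : ∀ g : ↥H, (g : G) * d * (g : G)⁻¹ ∈ {x | x ∈ D ∧ ¬ Commute a x} := fun g =>
    ⟨S.hD.2.1 g d hd, fun h => had ((commute_conj_iff (g : G) a d).mp (by
      show Commute ((g : G) * a * (g : G)⁻¹) ((g : G) * d * (g : G)⁻¹)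
      rwa [hfix g]))⟩
  have hidx : St.index = F := by
    rw [← StepData.ncard_far S P ha hF, Subgroup.index_eq_card, ← Nat.card_coe_set_eq]
    refine Nat.card_congr (Equiv.ofBijective (Quotient.lift
      (fun g : ↥H => (⟨(g : G) * d * (g : G)⁻¹, hmem g⟩ : {x | x ∈ D ∧ ¬ Commute a x})) ?_) ⟨?_, ?_⟩)
    · intro g g' h
      have h' := (hst _).mp (QuotientGroup.leftRel_apply.mp h)
      simp only [Subgroup.coe_mul, Subgroup.coe_inv] at h'
      refine Subtype.ext ?_
      show (g : G) * d * (g : G)⁻¹ = (g' : G) * d * (g' : G)⁻¹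
      calc (g : G) * d * (g : G)⁻¹
          = (g : G) * ((g : G)⁻¹ * (g' : G) * d * ((g : G)⁻¹ * (g' : G))⁻¹) * (g : G)⁻¹ := by rw [h']
        _ = (g' : G) * d * (g' : G)⁻¹ := by group
    · intro x y
      induction x using Quotient.inductionOn with | _ g => ?_
      induction y using Quotient.inductionOn with | _ g' => ?_
      intro h
      have h' : (g : G) * d * (g : G)⁻¹ = (g' : G) * d * (g' : G)⁻¹ := congrArg Subtype.val h
      refine Quotient.sound (QuotientGroup.leftRel_apply.mpr ((hst _).mpr ?_))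
      simp only [Subgroup.coe_mul, Subgroup.coe_inv]
      calc (g : G)⁻¹ * (g' : G) * d * ((g : G)⁻¹ * (g' : G))⁻¹
          = (g : G)⁻¹ * ((g' : G) * d * (g' : G)⁻¹) * (g : G) := by group
        _ = (g : G)⁻¹ * ((g : G) * d * (g : G)⁻¹) * (g : G) := by rw [h']
        _ = d := by group
    · rintro ⟨x, hx, hax⟩
      obtain ⟨k, hk, hkx⟩ := StepData.trans_far S P ha hd had hx hax
      rw [StepData.centralizer_eq S P ha] at hk
      exact ⟨Quotient.mk _ ⟨k, hk⟩, Subtype.ext hkx⟩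
  have h := Subgroup.card_mul_index St
  rw [hidx, Nat.card_congr (Subgroup.subgroupOfEquivOfLe hsub).toEquiv, S.card_centralizer P ha] at h
  exact h

include S P ha hd had in
theorem sup_eq_normalizer
    (hK : Subgroup.closure (perp₂ D a d) = Subgroup.centralizer ({a, d} : Set G)) : Subgroup.closure ({a, d} : Set G) ⊔ Subgroup.closure (perp₂ D a d) =
    Subgroup.normalizer ((Subgroup.zpowers (a * d) : Subgroup G) : Set G) := by
  set X := Subgroup.zpowers (a * d)
  obtain ⟨hb, z1, z2, ea, ed, x1, x2, y1, y2⟩ := table S.hD ha hd had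
  have hXfix : ∀ g : G, g * (a * d) * g⁻¹ ∈ X → g⁻¹ * (a * d) * g ∈ X →
      g ∈ Subgroup.normalizer (X : Set G) := by
    intro g h1 h2
    rw [Subgroup.mem_normalizer_iff]
    intro z
    constructor
    · intro hz
      obtain ⟨n, rfl⟩ := Subgroup.mem_zpowers_iff.mp hz
      rw [← conj_zpow]; exact zpow_mem h1 n
    · intro hz
      obtain ⟨n, hn⟩ := Subgroup.mem_zpowers_iff.mp hz
      have : z = (g⁻¹ * (a * d) * g⁻¹⁻¹) ^ n := by rw [conj_zpow, hn]; group
      rw [this, inv_inv]; exact zpow_mem h2 n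
  refine le_antisymm (sup_le ((Subgroup.closure_le _).mpr ?_) ((Subgroup.closure_le _).mpr fun y hy => ?_)) ?_
  · have hinvX : (a * d)⁻¹ ∈ X := inv_mem (Subgroup.mem_zpowers _)
    rintro g (rfl | rfl)
    · have e : g * (g * d) * g = (g * d)⁻¹ := by
        rw [mul_inv_rev, inv_eq S.hD.1 ha, inv_eq S.hD.1 hd]
        calc g * (g * d) * g = g * g * (d * g) := by group
          _ = d * g := by rw [mul_self S.hD.1 ha, one_mul]
      refine hXfix g ?_ ?_ <;> rw [inv_eq S.hD.1 ha, e] <;> exact hinvX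
    · have e : g * (a * g) * g = (a * g)⁻¹ := by
        rw [mul_inv_rev, inv_eq S.hD.1 ha, inv_eq S.hD.1 hd]
        calc g * (a * g) * g = g * a * (g * g) := by group
          _ = g * a := by rw [mul_self S.hD.1 hd, mul_one]
      refine hXfix g ?_ ?_ <;> rw [inv_eq S.hD.1 hd, e] <;> exact hinvX
  · have e : y * (a * d) * y = a * d :=
      conj_fix_of_commute S.hD.1 hy.1.1 ((commute_mul_iff_trace S.hD ha hd had hy.1.1).mpr hy)
    refine hXfix y ?_ ?_ <;> rw [inv_eq S.hD.1 hy.1.1, e] <;> exact Subgroup.mem_zpowers _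
  intro g hg
  -- the trace is invariant
  have hL : ∀ w ∈ perp₂ D a d, g⁻¹ * w * g ∈ perp₂ D a d := by
    intro w hw
    have hwD : g⁻¹ * w * g ∈ D := by simpa using S.hD.2.1 g⁻¹ w hw.1.1
    refine (mem_centralizer_zpowers_iff S.hD ha hd had hwD).mp (Subgroup.mem_centralizer_iff.mpr fun z hz => ?_)
    have hz' : g * z * g⁻¹ ∈ X := (Subgroup.mem_normalizer_iff.mp hg z).mp hz
    have hc : g * z * g⁻¹ * w = w * (g * z * g⁻¹) :=
      (Subgroup.mem_centralizer_iff.mp ((mem_centralizer_zpowers_iff S.hD ha hd had hw.1.1).mpr hw)) _ hz'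
    calc z * (g⁻¹ * w * g) = g⁻¹ * (g * z * g⁻¹ * w) * g := by group
      _ = g⁻¹ * (w * (g * z * g⁻¹)) * g := by rw [hc]
      _ = g⁻¹ * w * g * z := by group
  have hmove : ∀ t, (t = a ∨ t = d) → g * t * g⁻¹ = a ∨ g * t * g⁻¹ = d ∨ g * t * g⁻¹ = a * d * a := by
    intro t ht
    have htD : t ∈ D := by rcases ht with rfl | rfl <;> assumption
    have hncx : ¬ Commute t (a * d) := by
      intro h
      have h' := (commute_mul_iff_trace S.hD ha hd had htD).mp h
      rcases ht with rfl | rfl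
      · exact h'.1.2.1 rfl
      · exact h'.2.2.1 rfl
    have hcw : ∀ w ∈ perp₂ D a d, Commute (g * t * g⁻¹) w := by
      intro w hw
      have hw' := hL w hw
      have : Commute t (g⁻¹ * w * g) := by
        rcases ht with rfl | rfl
        · exact hw'.1.2.2
        · exact hw'.2.2.2
      have h := conj_commute (g := g) this
      rwa [show g * (g⁻¹ * w * g) * g⁻¹ = w by group] at h
    exact StepData.line S P ha hd had (S.hD.2.1 g t htD) hcw
  have hpick : ∃ s ∈ Subgroup.closure ({a, d} : Set G),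
      s * a * s⁻¹ = g * a * g⁻¹ ∧ s * d * s⁻¹ = g * d * g⁻¹ := by
    have hA : a ∈ Subgroup.closure ({a, d} : Set G) := Subgroup.subset_closure (by simp)
    have hB : d ∈ Subgroup.closure ({a, d} : Set G) := Subgroup.subset_closure (by simp)
    have hne : g * a * g⁻¹ ≠ g * d * g⁻¹ := fun h => had (by
      have : a = d := by simpa using h
      rw [this])
    rcases hmove a (Or.inl rfl) with h1 | h1 | h1 <;> rcases hmove d (Or.inr rfl) with h2 | h2 | h2
    · exact absurd (h1.trans h2.symm) hne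
    · exact ⟨1, one_mem _, by rw [h1]; group, by rw [h2]; group⟩
    · exact ⟨a, hA, by rw [h1]; group, by rw [h2, ea]⟩
    · exact ⟨a * d * a, mul_mem (mul_mem hA hB) hA, by rw [h1, z1], by rw [h2, z2]⟩
    · exact absurd (h1.trans h2.symm) hne
    · exact ⟨a * d, mul_mem hA hB, by rw [h1, x1], by rw [h2, x2]⟩
    · exact ⟨d * a, mul_mem hB hA, by rw [h1, y1], by rw [h2, y2]⟩
    · exact ⟨d, hB, by rw [h1, ed], by rw [h2]; group⟩
    · exact absurd (h1.trans h2.symm) hne
  obtain ⟨s, hs, hsa, hsd⟩ := hpick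
  rw [show g = s * (s⁻¹ * g) by group]
  refine Subgroup.mul_mem_sup hs ?_
  rw [hK, mem_centralizer_pair]
  constructor
  · show a * (s⁻¹ * g) = s⁻¹ * g * a
    calc a * (s⁻¹ * g) = s⁻¹ * (s * a * s⁻¹) * g := by group
      _ = s⁻¹ * g * a := by rw [hsa]; group
  · show d * (s⁻¹ * g) = s⁻¹ * g * d
    calc d * (s⁻¹ * g) = s⁻¹ * (s * d * s⁻¹) * g := by group
      _ = s⁻¹ * g * d := by rw [hsd]; group

/-- every non-commuting pair has at most, and somewhere exactly, `w` pairwise commuting common neighbours -/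
def TraceWidth {X : Type*} [Group X] (D : Set X) (w : ℕ) : Prop :=
  ∀ a ∈ D, ∀ d ∈ D, ¬ Commute a d →
    (∀ K ⊆ perp₂ D a d, (∀ x ∈ K, ∀ y ∈ K, Commute x y) → K.ncard ≤ w) ∧
      ∃ K ⊆ perp₂ D a d, (∀ x ∈ K, ∀ y ∈ K, Commute x y) ∧ K.ncard = w

include S P in
theorem traceWidth_succ {w : ℕ} (hw : TraceWidth E w) : TraceWidth D (w + 1) := by
  intro a ha d hd had
  have key : ∀ {q : G} (hq : q ∈ perp₂ D a d), ¬ Commute (S.f hq.1.1 a) (S.f hq.1.1 d) ∧
      ∀ y ∈ perp D q, (y ∈ perp₂ D a d ↔ S.f hq.1.1 y ∈ perp₂ E (S.f hq.1.1 a) (S.f hq.1.1 d)) := by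
    intro q hq
    have haq : a ∈ perp D q := ⟨ha, Ne.symm hq.1.2.1, hq.1.2.2.symm⟩
    have hdq : d ∈ perp D q := ⟨hd, Ne.symm hq.2.2.1, hq.2.2.2.symm⟩
    refine ⟨fun h => had ((S.commute_iff hq.1.1 haq hdq).mp h), fun y hy => ?_⟩
    constructor
    · intro h
      exact ⟨⟨S.f_mem _ hy, fun e => h.1.2.1 (S.f_inj _ hy haq e), (S.commute_iff _ haq hy).mpr h.1.2.2⟩,
        S.f_mem _ hy, fun e => h.2.2.1 (S.f_inj _ hy hdq e), (S.commute_iff _ hdq hy).mpr h.2.2.2⟩
    · intro h
      exact ⟨⟨hy.1, fun e => h.1.2.1 (by rw [e]), (S.commute_iff _ haq hy).mp h.1.2.2⟩,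
        hy.1, fun e => h.2.2.1 (by rw [e]), (S.commute_iff _ hdq hy).mp h.2.2.2⟩
  refine ⟨fun K hK hc => ?_, ?_⟩
  · rcases K.eq_empty_or_nonempty with rfl | ⟨q, hq⟩
    · simp
    obtain ⟨hn, hiff⟩ := key (hK hq)
    have haq : a ∈ perp D q := ⟨ha, Ne.symm (hK hq).1.2.1, (hK hq).1.2.2.symm⟩
    have hdq : d ∈ perp D q := ⟨hd, Ne.symm (hK hq).2.2.1, (hK hq).2.2.2.symm⟩
    have hsub : K \ {q} ⊆ perp D q := fun y hy => ⟨(hK hy.1).1.1, hy.2, hc q hq y hy.1⟩
    have h := (hw _ (S.f_mem _ haq) _ (S.f_mem _ hdq) hn).1 (S.f (hK hq).1.1 '' (K \ {q}))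
      (by rintro _ ⟨y, hy, rfl⟩; exact (hiff y (hsub hy)).mp (hK hy.1))
      (by
        rintro _ ⟨y, hy, rfl⟩ _ ⟨z, hz, rfl⟩
        exact (S.commute_iff _ (hsub hy) (hsub hz)).mpr (hc y hy.1 z hz.1))
    rw [Set.InjOn.ncard_image fun y hy z hz e => S.f_inj _ (hsub hy) (hsub hz) e,
      Set.ncard_sdiff_singleton_of_mem hq] at h
    omega
  · obtain ⟨q, hq⟩ := (StepData.mem_near S P ha hd had).2.2
    obtain ⟨hn, hiff⟩ := key hq
    have haq : a ∈ perp D q := ⟨ha, Ne.symm hq.1.2.1, hq.1.2.2.symm⟩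
    have hdq : d ∈ perp D q := ⟨hd, Ne.symm hq.2.2.1, hq.2.2.2.symm⟩
    obtain ⟨K, hK, hc, hcard⟩ := (hw _ (S.f_mem _ haq) _ (S.f_mem _ hdq) hn).2
    set K' := {y | y ∈ perp D q ∧ S.f hq.1.1 y ∈ K} with hK'
    have hn' : K'.ncard = K.ncard := by
      rw [hK', S.ncard_local hq.1.1 _ (fun r => r ∈ K) fun _ _ => Iff.rfl]
      congr 1
      exact Set.ext fun r => ⟨fun h => h.2, fun h => ⟨(hK h).1.1, h⟩⟩
    refine ⟨insert q K', Set.insert_subset hq fun y hy => (hiff y hy.1).mpr (hK hy.2), ?_, ?_⟩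
    · rintro x (rfl | hx) y (rfl | hy)
      · exact Commute.refl _
      · exact hy.1.2.2
      · exact hx.1.2.2.symm
      · exact (S.commute_iff hq.1.1 hx.1 hy.1).mp (hc _ hx.2 _ hy.2)
    · rw [Set.ncard_insert_of_notMem (fun h => h.1.2.1 rfl), hn', hcard]

theorem traceWidth_M22 {F : Type} [Field F] [Fintype F] {X : Type*} [Group X] [Finite X] {D : Set X}
    (S22 : TraceCounts.Sys D F) : TraceWidth D 6 := fun a ha d hd had =>
  ⟨fun _ hK hc => TracePair.trace_clique_le S22 ha hd had hK hc, by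
    obtain ⟨K, hK, h6, hc⟩ := TracePair.exists_trace_clique S22 ha hd had
    exact ⟨K, hK, hc, h6⟩⟩

theorem width_pair {w : ℕ} (hD : Cfsg.IsThreeTranspositionGroup D) (hw : TraceWidth D w) {a d : G}
    (ha : a ∈ D) (hd : d ∈ D) (had : ¬ Commute a d) :
    Cfsg.commutingWidth (D ∩ (Subgroup.centralizer
      ((Subgroup.zpowers (a * d) : Subgroup G) : Set G) : Set G)) = w := by
  have heq : D ∩ (Subgroup.centralizer ((Subgroup.zpowers (a * d) : Subgroup G) : Set G) : Set G) =
      perp₂ D a d := Set.ext fun y =>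
    ⟨fun h => (mem_centralizer_zpowers_iff hD ha hd had h.1).mp h.2,
      fun h => ⟨h.1.1, (mem_centralizer_zpowers_iff hD ha hd had h.1.1).mpr h⟩⟩
  rw [heq]
  obtain ⟨hle, K, hK, hc, hcard⟩ := hw a ha d hd had
  have hub : ∀ m ∈ {m : ℕ | ∃ K : Set G, K ⊆ perp₂ D a d ∧ K.Finite ∧ (∀ a ∈ K, ∀ b ∈ K, Commute a b) ∧
      K.ncard = m}, m ≤ w := by
    rintro _ ⟨K, hK, -, hc, rfl⟩
    exact hle K hK hc
  have hmem : w ∈ {m : ℕ | ∃ K : Set G, K ⊆ perp₂ D a d ∧ K.Finite ∧ (∀ a ∈ K, ∀ b ∈ K, Commute a b) ∧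
      K.ncard = m} := ⟨K, hK, Set.toFinite _, hc, hcard⟩
  exact le_antisymm (csSup_le ⟨w, hmem⟩ hub) (le_csSup ⟨w, hub⟩ hmem)

end Cfsg.Agent.Lib.FischerMTypes.StepPair
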