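import Mathlib
import Cfsg.Agent.Lib.UnitaryFour.PointStab
import Cfsg.Agent.Lib.FischerMTypes.QuasiM22
import Cfsg.Agent.Lib.FischerMTypes.InvolutionsM22

/-!
Type M(22): the centraliser of a commuting pair of transpositions as an extension of a group of
order 2^10 by SU(4,2), read in the point model at the first one.
-/

set_option autoImplicit false
set_option linter.style.haveILetI false
set_option linter.unusedSectionVars false

namespace Cfsg.Agent.Lib.FischerMTypes.PairModelM22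

open Cfsg.Agent.Lib.FischerMTypes.Basic Cfsg.Agent.Lib.FischerMTypes.Primitive
  Cfsg.Agent.Lib.FischerMTypes.Levels Cfsg.Agent.Lib.FischerMTypes.PointModel
  Cfsg.Agent.Lib.FischerMTypes.TraceCounts
open Cfsg.Agent.Lib.Unitary (herm_smul_left herm_smul_right herm_eq_zero_symm herm_add_left
  herm_add_right exists_hyp exists_SU_isotropic herm_zero_left mem_center_SU_iff)
open Cfsg.Agent.Lib.UnitaryFour.Transvection Cfsg.Agent.Lib.UnitaryFour.Stabilizer
  Cfsg.Agent.Lib.UnitaryFour.Classes Cfsg.Agent.Lib.UnitaryFour.PointStab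
open Cfsg.Agent.Lib.AutPSU (PS QS RS RS_le_QS)

variable {G : Type*} [Group G] [Finite G] {D : Set G}
variable {F : Type} [Field F] [Fintype F]

local notation "h⟪" u ", " v "⟫" => Cfsg.hermForm 6 F 2 u v
local notation "h₄⟪" u ", " v "⟫" => Cfsg.hermForm 4 F 2 u v

/-- a frame at the point of `b` in the model at `a` -/
structure Model (D : Set G) (F : Type) [Field F] [Fintype F] (a b : G) where
  S : Sys D F
  ha : a ∈ D
  e : Fin 6 → F
  f : Fin 6 → F
  g : Fin 4 → Fin 6 → F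
  hfr : Frame e f g
  he0 : e ≠ 0
  hb : (S.ctx a ha).pt e = b

theorem exists_model (S : Sys D F) {a b : G} (ha : a ∈ D) (hb : b ∈ perp D a) :
    Nonempty (Model D F a b) := by
  obtain ⟨e, he, he0, hpe⟩ := (S.ctx a ha).exists_pt hb
  obtain ⟨f, hf⟩ := exists_hyp (S.ctx a ha).hF he0 he
  obtain ⟨g, hfr⟩ := exists_Frame (S.ctx a ha).hF hf
  exact ⟨⟨S, ha, e, f, g, hfr, he0, hpe⟩⟩

variable {a b : G} (M : Model D F a b)

namespace Model

abbrev C : Ctx D a F := M.S.ctx a M.ha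

include M in
theorem hF : Fintype.card F = 2 ^ 2 := (M.S.ctx a M.ha).hF

theorem he : h⟪M.e, M.e⟫ = 0 := M.hfr.hyp.1

include M in
theorem b_mem : b ∈ perp D a := M.hb ▸ M.C.pt_mem M.he M.he0

/-- the centraliser of the pair -/
abbrev cen (a b : G) : Subgroup G := Subgroup.centralizer ({a, b} : Set G)

theorem mem_cen {a b k : G} : k ∈ cen a b ↔ Commute k a ∧ Commute k b := by
  rw [Subgroup.mem_centralizer_iff]
  simp only [Set.mem_insert_iff, Set.mem_singleton_iff, forall_eq_or_imp, forall_eq]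
  exact ⟨fun hh => ⟨hh.1.symm, hh.2.symm⟩, fun hh => ⟨hh.1.symm, hh.2.symm⟩⟩

include M in
theorem inH {k : G} (hk : k ∈ cen a b) : k ∈ Subgroup.closure (perp D a) := by
  rw [StabilizerM22.centralizer_eq M.S M.ha, Subgroup.mem_centralizer_singleton_iff]
  exact (mem_cen.mp hk).1.eq

/-- `k` is modelled by `s` -/
def Lifts (k : G) (s : Cfsg.SU 6 F 2) : Prop :=
  ∃ hk : k ∈ Subgroup.closure (perp D a), QuotientGroup.mk (⟨k, hk⟩ : ↥(Subgroup.closure (perp D a))) = M.C.φ s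

theorem lifts_mul {k l : G} {s t : Cfsg.SU 6 F 2} (h : M.Lifts k s) (h' : M.Lifts l t) :
    M.Lifts (k * l) (s * t) := by
  obtain ⟨hk, hs⟩ := h
  obtain ⟨hl, ht⟩ := h'
  refine ⟨mul_mem hk hl, ?_⟩
  rw [map_mul, ← hs, ← ht]
  rfl

theorem lifts_unique {k : G} {s t : Cfsg.SU 6 F 2} (h : M.Lifts k s) (h' : M.Lifts k t)
    (hs : s ∈ PS M.e) (ht : t ∈ PS M.e) : s = t := by
  obtain ⟨hk, hs'⟩ := h
  obtain ⟨hk', ht'⟩ := h'
  have hker : s⁻¹ * t ∈ M.C.φ.ker := by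
    rw [MonoidHom.mem_ker, map_mul, map_inv, ← hs', ← ht', inv_mul_cancel]
  exact inv_mul_eq_one.mp (eq_one_of_central_fix M.hF (M.C.ker hker) M.he0 (mul_mem (inv_mem hs) ht : _ ∈ PS M.e))

theorem exists_lifts {k : G} (hk : k ∈ cen a b) : ∃ s ∈ PS (q := 2) M.e, M.Lifts k s := by
  obtain ⟨s, hs⟩ := M.C.surj (QuotientGroup.mk ⟨k, M.inH hk⟩)
  have h1 := M.C.pt_conj M.he M.he0 s hs.symm
  have hfix : k * b * k⁻¹ = b := by rw [(mem_cen.mp hk).2.eq, mul_inv_cancel_right]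
  rw [show ((⟨k, M.inH hk⟩ : ↥(Subgroup.closure (perp D a))) : G) = k from rfl, M.hb, hfix] at h1
  replace h1 := M.hb.trans h1
  have hs0 : act s M.e ≠ 0 := fun h => M.he0 (by rw [← act_inv_self s M.e, h]; simp [act_def])
  obtain ⟨c, hc, hce⟩ := (M.C.pt_eq M.he M.he0 (by rw [act_herm]; exact M.he) hs0).mp h1
  have hc3 : c⁻¹ ^ 3 = 1 := cube_eq_one M.hF (inv_ne_zero hc)
  let z : Cfsg.SU 6 F 2 := ⟨⟨c⁻¹ • (1 : Matrix (Fin 6) (Fin 6) F), by
    rw [Matrix.det_smul, Matrix.det_one, mul_one, Fintype.card_fin, show (6 : ℕ) = 3 * 2 by norm_num,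
      pow_mul, hc3, one_pow]⟩, fun u v => by
      show h⟪(c⁻¹ • (1 : Matrix (Fin 6) (Fin 6) F)).mulVec u, (c⁻¹ • (1 : Matrix (Fin 6) (Fin 6) F)).mulVec v⟫ = _
      rw [Matrix.smul_mulVec, Matrix.smul_mulVec, Matrix.one_mulVec, Matrix.one_mulVec, herm_smul_left,
        herm_smul_right, ← mul_assoc, norm_eq_one M.hF (inv_ne_zero hc), one_mul]⟩
  have hzv : ∀ v, act z v = c⁻¹ • v := fun v => by
    show (c⁻¹ • (1 : Matrix (Fin 6) (Fin 6) F)).mulVec v = _
    rw [Matrix.smul_mulVec, Matrix.one_mulVec]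
  have hzc : z ∈ M.C.φ.ker := by
    rw [M.C.ker_eq]
    exact (mem_center_SU_iff M.hF (by norm_num) z).mpr ⟨c⁻¹, hzv⟩
  refine ⟨z * s, ?_, M.inH hk, ?_⟩
  · show act (z * s) M.e = M.e
    rw [act_mul, hzv, hce, smul_smul, inv_mul_cancel₀ hc, one_smul]
  · rw [map_mul, MonoidHom.mem_ker.mp hzc, one_mul, hs]

/-- the model homomorphism -/
noncomputable def pair : ↥(cen a b) →* ↥(PS (q := 2) M.e) :=
  MonoidHom.mk' (fun k => ⟨(M.exists_lifts k.2).choose, (M.exists_lifts k.2).choose_spec.1⟩) fun k l =>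
    Subtype.ext (M.lifts_unique (M.exists_lifts (k * l).2).choose_spec.2
      (M.lifts_mul (M.exists_lifts k.2).choose_spec.2 (M.exists_lifts l.2).choose_spec.2)
      (M.exists_lifts (k * l).2).choose_spec.1
      (mul_mem (M.exists_lifts k.2).choose_spec.1 (M.exists_lifts l.2).choose_spec.1))

theorem pair_lifts (k : ↥(cen a b)) : M.Lifts k (M.pair k) := (M.exists_lifts k.2).choose_spec.2

theorem pair_eq {k : ↥(cen a b)} {s : Cfsg.SU 6 F 2} (hs : s ∈ PS M.e) (h : M.Lifts k s) :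
    (M.pair k : Cfsg.SU 6 F 2) = s := M.lifts_unique (M.pair_lifts k) h (M.pair k).2 hs

theorem pair_conj (k : ↥(cen a b)) {v : Fin 6 → F} (hv : h⟪v, v⟫ = 0) (hv0 : v ≠ 0) :
    (k : G) * M.C.pt v * (k : G)⁻¹ = M.C.pt (act (M.pair k : Cfsg.SU 6 F 2) v) := by
  obtain ⟨hk, hk'⟩ := M.pair_lifts k
  exact M.C.pt_conj hv hv0 _ hk'

theorem pair_surjective : Function.Surjective M.pair := by
  rintro ⟨s, hs⟩
  obtain ⟨⟨k, hk⟩, hks⟩ := QuotientGroup.mk_surjective (M.C.φ s)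
  have h1 := M.C.pt_conj M.he M.he0 s hks
  rw [show act s M.e = M.e from hs, M.hb] at h1
  have hkK : k ∈ cen a b := mem_cen.mpr
    ⟨(commute_closure (u := a) (fun y hy => hy.2.2) k hk).symm, mul_inv_eq_iff_eq_mul.mp h1⟩
  exact ⟨⟨k, hkK⟩, Subtype.ext (M.pair_eq hs ⟨hk, hks⟩)⟩

include M in
theorem a_mem_cen : a ∈ cen a b := mem_cen.mpr ⟨Commute.refl a, M.b_mem.2.2⟩

include M in
theorem b_mem_cen : b ∈ cen a b := mem_cen.mpr ⟨M.b_mem.2.2.symm, Commute.refl b⟩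

theorem pair_a : M.pair ⟨a, M.a_mem_cen⟩ = 1 := by
  refine Subtype.ext (M.pair_eq (one_mem _) ⟨M.S.self_mem_closure M.ha, ?_⟩)
  rw [Subgroup.coe_one, map_one, QuotientGroup.eq_one_iff, StabilizerM22.center_eq M.S M.ha, Subgroup.mem_subgroupOf]
  exact Subgroup.mem_zpowers a

theorem pair_eq_one_iff (k : ↥(cen a b)) : M.pair k = 1 ↔ (k : G) = 1 ∨ (k : G) = a := by
  constructor
  · intro h
    obtain ⟨hk, hk'⟩ := M.pair_lifts k
    rw [h, Subgroup.coe_one, map_one, QuotientGroup.eq_one_iff] at hk'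
    refine StabilizerM22.center_perp M.S M.ha hk fun y hy => ?_
    exact congrArg Subtype.val (Subgroup.mem_center_iff.mp hk' ⟨y, Subgroup.subset_closure hy⟩)
  · rintro (h | h)
    · rw [show k = 1 from Subtype.ext h, map_one]
    · rw [show k = ⟨a, M.a_mem_cen⟩ from Subtype.ext h, M.pair_a]

theorem tv_e_mem : tv M.hF M.e M.he ∈ PS M.e := by
  show act _ M.e = M.e
  rw [act_tv, M.he, zero_smul, add_zero]

theorem pair_b : (M.pair ⟨b, M.b_mem_cen⟩ : Cfsg.SU 6 F 2) = tv M.hF M.e M.he := by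
  refine M.pair_eq M.tv_e_mem ⟨Subgroup.subset_closure M.b_mem, ?_⟩
  obtain ⟨hy, him⟩ := M.C.pt_spec M.he M.he0
  rw [← him]
  exact congrArg QuotientGroup.mk (Subtype.ext M.hb.symm)

/-- the vectors orthogonal to `e` off its line -/
theorem iso_vec {x : Fin 4 → F} (hx : h₄⟪x, x⟫ = 0) (c : F) :
    h⟪lin M.g x + c • M.e, lin M.g x + c • M.e⟫ = 0 := by rw [herm_orth M.hF M.hfr, hx]

theorem vec_ne {x : Fin 4 → F} (hx0 : x ≠ 0) (c : F) : lin M.g x + c • M.e ≠ 0 := fun h => hx0 <| by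
  funext i
  have := congrArg (fun v => h⟪v, M.g i⟫) h
  simpa [herm_add_left, herm_smul_left, herm_zero_left, lin, Lib.Unitary.orthonormal_coeff M.hfr.on,
    herm_eq_zero_symm M.hF (M.hfr.orth i).1] using this

theorem vec_parallel {x y : Fin 4 → F} {c d k : F}
    (h : lin M.g y + d • M.e = k • (lin M.g x + c • M.e)) : y = k • x ∧ d = k * c := by
  constructor
  · funext i
    have := congrArg (fun v => h⟪v, M.g i⟫) h
    simpa [herm_add_left, herm_smul_left, lin, Lib.Unitary.orthonormal_coeff M.hfr.on,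
      herm_eq_zero_symm M.hF (M.hfr.orth i).1] using this
  · have := congrArg (fun v => h⟪v, M.f⟫) h
    simpa [herm_add_left, herm_smul_left, (M.hfr.lin_orth _).2, M.hfr.hyp.2.2] using this

theorem pt_vec_mem {x : Fin 4 → F} (hx : h₄⟪x, x⟫ = 0) (hx0 : x ≠ 0) (c : F) :
    M.C.pt (lin M.g x + c • M.e) ∈ perp₂ D a b := by
  have h1 := M.C.pt_mem (M.iso_vec hx c) (M.vec_ne hx0 c)
  refine ⟨h1, h1.1, fun h => ?_, ?_⟩
  · obtain ⟨k, hk, hke⟩ := (M.C.pt_eq M.he M.he0 (M.iso_vec hx c) (M.vec_ne hx0 c)).mp (M.hb.trans h.symm)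
    refine hx0 (funext fun i => ?_)
    have := congrArg (fun v => h⟪v, M.g i⟫) hke
    simpa [herm_add_left, herm_smul_left, lin, Lib.Unitary.orthonormal_coeff M.hfr.on,
      herm_eq_zero_symm M.hF (M.hfr.orth i).1] using this
  · have := (M.C.pt_comm M.he M.he0 (M.iso_vec hx c) (M.vec_ne hx0 c)).mpr
      (herm_eq_zero_symm M.hF (herm_iota M.hfr x c))
    rwa [M.hb] at this

theorem exists_vec {y : G} (hy : y ∈ perp₂ D a b) :
    ∃ (x : Fin 4 → F) (c : F), h₄⟪x, x⟫ = 0 ∧ x ≠ 0 ∧ M.C.pt (lin M.g x + c • M.e) = y := by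
  obtain ⟨v, hv, hv0, rfl⟩ := M.C.exists_pt hy.1
  have hve : h⟪v, M.e⟫ = 0 := herm_eq_zero_symm M.hF
    ((M.C.pt_comm M.he M.he0 hv hv0).mp (by rw [M.hb]; exact hy.2.2.2))
  set x : Fin 4 → F := fun i => h⟪v, M.g i⟫
  have hexp : v = lin M.g x + h⟪v, M.f⟫ • M.e := by rw [add_comm]; exact expand_orth M.hF M.hfr hve
  refine ⟨x, h⟪v, M.f⟫, ?_, fun h0 => ?_, by rw [← hexp]⟩
  · have := herm_orth M.hF M.hfr x x h⟪v, M.f⟫ h⟪v, M.f⟫
    rw [← hexp, hv] at this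
    exact this.symm
  · rw [h0, lin_zero, zero_add] at hexp
    refine hy.2.2.1 ?_
    rw [hexp, M.C.pt_smul M.he M.he0 fun hc => hv0 (by rw [hexp, hc, zero_smul]), M.hb]

theorem perp₂_cen {y : G} (hy : y ∈ perp₂ D a b) : y ∈ cen a b :=
  mem_cen.mpr ⟨hy.1.2.2.symm, hy.2.2.2.symm⟩

/-- the action on the orthogonal of `e` modulo `e` -/
noncomputable def four : ↥(cen a b) →* Cfsg.SU 4 F 2 := (proj M.hF M.hfr).comp M.pair

theorem four_surjective : Function.Surjective M.four :=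
  (proj_surjective M.hF M.hfr).comp M.pair_surjective

theorem four_eq_one_iff (k : ↥(cen a b)) : M.four k = 1 ↔ (M.pair k : Cfsg.SU 6 F 2) ∈ QS M.e :=
  proj_eq_one_iff M.hF M.hfr _

theorem four_pt {x : Fin 4 → F} (hx : h₄⟪x, x⟫ = 0) (hx0 : x ≠ 0) (c : F) :
    M.four ⟨M.C.pt (lin M.g x + c • M.e), perp₂_cen (M.pt_vec_mem hx hx0 c)⟩ = tv M.hF x hx := by
  have hu := M.iso_vec hx c
  have hmem : tv M.hF (lin M.g x + c • M.e) hu ∈ PS M.e := by
    show act _ M.e = M.e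
    rw [act_tv, herm_eq_zero_symm M.hF (herm_iota M.hfr x c), zero_smul, add_zero]
  rw [four, MonoidHom.comp_apply, ← proj_tv M.hF M.hfr hu hx rfl hmem]
  refine congrArg _ (Subtype.ext (M.pair_eq hmem
    ⟨Subgroup.subset_closure (M.C.pt_mem hu (M.vec_ne hx0 c)), M.C.pt_im hu (M.vec_ne hx0 c)⟩))

/-- the kernel, inside the whole group -/
noncomputable def core : Subgroup G := M.four.ker.map (cen a b).subtype

theorem mem_core {k : G} : k ∈ M.core ↔ ∃ hk : k ∈ cen a b, M.four ⟨k, hk⟩ = 1 := by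
  rw [core, Subgroup.mem_map]
  constructor
  · rintro ⟨⟨k, hk⟩, h1, rfl⟩; exact ⟨hk, h1⟩
  · rintro ⟨hk, h1⟩; exact ⟨⟨k, hk⟩, h1, rfl⟩

theorem core_le : M.core ≤ cen a b := fun _ hk => (M.mem_core.mp hk).choose

theorem card_of_surj {A B : Type*} [Group A] [Group B] (φ : A →* B) (h : Function.Surjective φ) :
    Nat.card A = Nat.card B * Nat.card φ.ker := by
  rw [Subgroup.card_eq_card_quotient_mul_card_subgroup φ.ker,
    Nat.card_congr (QuotientGroup.quotientKerEquivOfSurjective φ h).toEquiv]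

theorem card_pair_ker : Nat.card ↥M.pair.ker = 2 := by
  have hne : (1 : ↥(cen a b)) ≠ ⟨a, M.a_mem_cen⟩ := fun h =>
    ne_one M.S.hD.1 M.ha (congrArg Subtype.val h).symm
  have hset : (M.pair.ker : Set ↥(cen a b)) = {1, ⟨a, M.a_mem_cen⟩} := by
    ext k
    rw [SetLike.mem_coe, MonoidHom.mem_ker, pair_eq_one_iff]
    simp only [Set.mem_insert_iff, Set.mem_singleton_iff, Subtype.ext_iff, Subgroup.coe_one]
  rw [← SetLike.coe_sort_coe, Nat.card_coe_set_eq, hset, Set.ncard_pair hne]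

include M in
theorem card_cen : Nat.card ↥(cen a b) = 2 ^ 10 * Nat.card (Cfsg.SU 4 F 2) := by
  rw [card_of_surj M.pair M.pair_surjective, M.card_pair_ker,
    card_of_surj _ (proj_surjective M.hF M.hfr),
    show (proj M.hF M.hfr).ker = (QS (q := 2) M.e).subgroupOf (PS M.e) from
      Subgroup.ext fun s => proj_eq_one_iff M.hF M.hfr s,
    Nat.card_congr (Subgroup.subgroupOfEquivOfLe (Lib.AutPSU.QS_le_PS M.e)).toEquiv, card_QS M.hF M.hfr]
  ring

theorem card_core : Nat.card ↥M.core = 2 ^ 10 := by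
  rw [core, Subgroup.card_subtype]
  have h := card_of_surj M.four M.four_surjective
  rw [M.card_cen, mul_comm] at h
  exact (Nat.eq_of_mul_eq_mul_left Nat.card_pos h).symm

theorem b_mem_core : b ∈ M.core := by
  refine M.mem_core.mpr ⟨M.b_mem_cen, (M.four_eq_one_iff _).mpr (RS_le_QS M.he ?_)⟩
  rw [M.pair_b, RS_eq M.hF M.hfr]
  exact Or.inr rfl

theorem a_mem_core : a ∈ M.core :=
  M.mem_core.mpr ⟨M.a_mem_cen, (M.four_eq_one_iff _).mpr (by rw [M.pair_a]; exact one_mem _)⟩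

theorem mem_pair_of_RS {k : G} (hk : k ∈ cen a b) (h : (M.pair ⟨k, hk⟩ : Cfsg.SU 6 F 2) ∈ RS M.e) :
    k ∈ Subgroup.closure ({a, b} : Set G) := by
  have key : ∀ {l : ↥(cen a b)}, M.pair l = 1 → (l : G) ∈ Subgroup.closure ({a, b} : Set G) := fun hl => by
    rcases (M.pair_eq_one_iff _).mp hl with h | h <;> rw [h]
    · exact one_mem _
    · exact Subgroup.subset_closure (by simp)
  rcases (RS_eq M.hF M.hfr).mp h with h | h
  · exact key (Subtype.ext h)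
  · have h' : M.pair (⟨b, M.b_mem_cen⟩⁻¹ * ⟨k, hk⟩) = 1 := by
      rw [map_mul, map_inv, inv_mul_eq_one]
      exact Subtype.ext (M.pair_b.trans h.symm)
    have := mul_mem (Subgroup.subset_closure (show b ∈ ({a, b} : Set G) by simp)) (key h')
    simpa using this

theorem sq_comm_core {x y : G} (hx : x ∈ M.core) (hy : y ∈ M.core) :
    x * y * x⁻¹ * y⁻¹ ∈ Subgroup.closure ({a, b} : Set G) ∧ x ^ 2 ∈ Subgroup.closure ({a, b} : Set G) := by
  obtain ⟨hxK, hx1⟩ := M.mem_core.mp hx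
  obtain ⟨hyK, hy1⟩ := M.mem_core.mp hy
  have h := sq_and_comm M.hF M.hfr ⟨_, (M.four_eq_one_iff _).mp hx1⟩ ⟨_, (M.four_eq_one_iff _).mp hy1⟩
  refine ⟨M.mem_pair_of_RS (mul_mem (mul_mem (mul_mem hxK hyK) (inv_mem hxK)) (inv_mem hyK)) ?_, M.mem_pair_of_RS (pow_mem hxK 2) ?_⟩
  · exact (show M.pair (⟨x, hxK⟩ * ⟨y, hyK⟩ * ⟨x, hxK⟩⁻¹ * ⟨y, hyK⟩⁻¹) = _ from rfl) ▸ by
      rw [map_mul, map_mul, map_mul, map_inv, map_inv]; exact h.2
  · rw [show (⟨x ^ 2, pow_mem hxK 2⟩ : ↥(cen a b)) = ⟨x, hxK⟩ * ⟨x, hxK⟩ from Subtype.ext (sq x), map_mul]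
    exact h.1

theorem core_normal {k x : G} (hk : k ∈ cen a b) (hx : x ∈ M.core) : k * x * k⁻¹ ∈ M.core := by
  obtain ⟨hxK, hx1⟩ := M.mem_core.mp hx
  refine M.mem_core.mpr ⟨mul_mem (mul_mem hk hxK) (inv_mem hk), ?_⟩
  rw [show (⟨k * x * k⁻¹, _⟩ : ↥(cen a b)) = ⟨k, hk⟩ * ⟨x, hxK⟩ * ⟨k, hk⟩⁻¹ from rfl, map_mul, map_mul,
    hx1, mul_one, map_inv, mul_inv_cancel]

include M in
/-- the centre of the centraliser of the pair -/
theorem mem_pair_of_central {k : G} (hk : k ∈ cen a b) (hc : ∀ y ∈ perp₂ D a b, Commute k y) :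
    k ∈ Subgroup.closure ({a, b} : Set G) := by
  refine M.mem_pair_of_RS hk (mem_RS_of_fix_points M.hF M.hfr (M.pair ⟨k, hk⟩).2 fun x hx hx0 c => ?_)
  have hu := M.iso_vec hx c
  have hu0 := M.vec_ne hx0 c
  have h1 := M.pair_conj ⟨k, hk⟩ hu hu0
  rw [(hc _ (M.pt_vec_mem hx hx0 c)).eq, mul_inv_cancel_right] at h1
  obtain ⟨d, -, hd⟩ := (M.C.pt_eq hu hu0 (by rw [act_herm]; exact hu)
    (fun h => hu0 (by rw [← act_inv_self (M.pair ⟨k, hk⟩ : Cfsg.SU 6 F 2) (lin M.g x + c • M.e), h]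
                      simp [act_def]))).mp h1
  exact ⟨d, hd⟩

end Model

end Cfsg.Agent.Lib.FischerMTypes.PairModelM22
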