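import Mathlib
import Cfsg.Agent.Lib.FischerMTypes.PairModelM22

/-!
Type M(22): an element interchanging two commuting transpositions acts as an outer automorphism on
the quotient SU(4,2) of their common centraliser.
-/

set_option autoImplicit false
set_option linter.style.haveILetI false
set_option linter.unusedSectionVars false

namespace Cfsg.Agent.Lib.FischerMTypes.PairModelM22

open Cfsg.Agent.Lib.FischerMTypes.Basic Cfsg.Agent.Lib.FischerMTypes.Primitive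
  Cfsg.Agent.Lib.FischerMTypes.Levels Cfsg.Agent.Lib.FischerMTypes.PointModel
  Cfsg.Agent.Lib.FischerMTypes.TraceCounts
open Cfsg.Agent.Lib.Unitary (herm_smul_left herm_smul_right herm_eq_zero_symm herm_add_left
  herm_add_right exists_hyp exists_SU_isotropic herm_zero_left)
open Cfsg.Agent.Lib.UnitaryFour.Transvection Cfsg.Agent.Lib.UnitaryFour.Stabilizer
  Cfsg.Agent.Lib.UnitaryFour.Classes Cfsg.Agent.Lib.UnitaryFour.PointStab
open Cfsg.Agent.Lib.AutPSU (PS QS RS RS_le_QS)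

variable {G : Type*} [Group G] [Finite G] {D : Set G}
variable {F : Type} [Field F] [Fintype F]

local notation "h⟪" u ", " v "⟫" => Cfsg.hermForm 6 F 2 u v
local notation "h₄⟪" u ", " v "⟫" => Cfsg.hermForm 4 F 2 u v

theorem exists_iso_four (hF : Fintype.card F = 2 ^ 2) : ∃ x : Fin 4 → F, h₄⟪x, x⟫ = 0 ∧ x ≠ 0 := by
  refine ⟨Pi.single 0 1 + Pi.single 1 1, ?_, fun h => by simpa using congrFun h 0⟩
  simp [Cfsg.hermForm, Fin.sum_univ_four, Pi.single_apply]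
  linear_combination two_eq_zero hF

/-- commuting transpositions whose product is the product of a given pair -/
theorem pair_unique (S : Sys D F) {a b u w : G} (ha : a ∈ D) (hb : b ∈ perp D a) (hu : u ∈ D) (hw : w ∈ D)
    (cuw : Commute u w) (he : u * w = a * b) : (u = a ∧ w = b) ∨ (u = b ∧ w = a) := by
  have huj : Commute u (a * b) := he ▸ (Commute.refl u).mul_right cuw
  obtain ⟨cua, cub⟩ := comm_of_comm_mul S.hD.1 ha hb.1 hu hb.2.2 (Ne.symm hb.2.1) huj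
  by_cases h1 : u = a
  · exact Or.inl ⟨h1, by rw [h1] at he; exact mul_left_cancel he⟩
  by_cases h2 : u = b
  · exact Or.inr ⟨h2, by rw [h2, hb.2.2.eq] at he; exact mul_left_cancel he⟩
  exfalso
  have hw' : w = [u, a, b].prod := by
    simp only [List.prod_cons, List.prod_nil, mul_one]
    rw [← he, ← mul_assoc, mul_self S.hD.1 hu, one_mul]
  have := InvolutionsM22.m_unique S (m := 3) (m' := 1) (x := w) (by norm_num) le_rfl le_rfl (by norm_num)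
    ⟨[u, a, b], by simp [h1, h2, Ne.symm hb.2.1], rfl, by simp [hu, ha, hb.1],
      by simp [cua, cub, cua.symm, cub.symm, hb.2.2, hb.2.2.symm], hw'.symm⟩
    ⟨[w], by simp, rfl, by simp [hw], by simp, by simp⟩
  omega

/-- an element interchanging a commuting pair -/
theorem exists_swap (S : Sys D F) {a b : G} (ha : a ∈ D) (hb : b ∈ perp D a) :
    ∃ g : G, g * a * g⁻¹ = b ∧ g * b * g⁻¹ = a := by
  obtain ⟨g, hg⟩ := S.hprim.1 a ha b hb.1
  have hb' : g * b * g⁻¹ ∈ perp D b := by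
    have := (conj_mem_perp_iff S.hD g a b).mpr hb
    rwa [hg] at this
  obtain ⟨h, hh, hhb⟩ := S.exists_conj_perp hb.1 hb' ⟨ha, Ne.symm hb.2.1, hb.2.2.symm⟩
  refine ⟨h * g, ?_, by rw [← hhb]; group⟩
  rw [show h * g * a * (h * g)⁻¹ = h * (g * a * g⁻¹) * h⁻¹ by group, hg, Sys.closure_fix hh]

variable {a b : G} (M : Model D F a b)

namespace Model

include M in
theorem exists_kernel_move {x : Fin 4 → F} (hx : h₄⟪x, x⟫ = 0) (hx0 : x ≠ 0) {y' : G}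
    (hy' : y' ∈ perp₂ D a b)
    (hfour : M.four ⟨y', perp₂_cen hy'⟩ =
      M.four ⟨M.C.pt (lin M.g x + (0 : F) • M.e), perp₂_cen (M.pt_vec_mem hx hx0 0)⟩) :
    ∃ ε ∈ M.core, ε * M.C.pt (lin M.g x + (0 : F) • M.e) * ε⁻¹ = y' := by
  obtain ⟨x', c, hx', hx0', rfl⟩ := M.exists_vec hy'
  rw [M.four_pt hx' hx0', M.four_pt hx hx0] at hfour
  obtain ⟨k, hk, rfl⟩ := parallel_of_tv_eq M.hF hx0' hx hx' hfour.symm
  have hvec : lin M.g (k • x) + c • M.e = k • (lin M.g x + (c / k) • M.e) := by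
    rw [lin_smul, smul_add, smul_smul, mul_div_cancel₀ _ hk]
  rw [hvec, M.C.pt_smul (M.iso_vec hx _) (M.vec_ne hx0 _) hk]
  obtain ⟨q, hq, hqv⟩ := exists_translate M.hF M.hfr hx0 0 (c / k)
  obtain ⟨⟨ε, hε⟩, hεq⟩ := M.pair_surjective ⟨q, hq.1⟩
  refine ⟨ε, M.mem_core.mpr ⟨hε, (M.four_eq_one_iff _).mpr (by rw [hεq]; exact hq)⟩, ?_⟩
  have := M.pair_conj ⟨ε, hε⟩ (M.iso_vec hx 0) (M.vec_ne hx0 0)
  rw [hεq] at this
  rw [this]
  exact congrArg _ hqv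

include M in
/-- no element interchanging the pair centralises the quotient -/
theorem no_inner_swap {g₀ : G} (hga : g₀ * a * g₀⁻¹ = b) (hgb : g₀ * b * g₀⁻¹ = a)
    (hc : ∀ k ∈ cen a b, g₀ * k * g₀⁻¹ * k⁻¹ ∈ M.core) : False := by
  have hb := M.b_mem
  obtain ⟨x, hx, hx0⟩ := exists_iso_four M.hF
  obtain ⟨o, ho0, ho1, -⟩ := exists_omega M.hF
  set y := M.C.pt (lin M.g x + (0 : F) • M.e) with hydef
  set c₁ := M.C.pt (lin M.g x + (1 : F) • M.e) with hc₁def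
  have hy : y ∈ perp₂ D a b := M.pt_vec_mem hx hx0 0
  have hc₁ : c₁ ∈ perp₂ D a b := M.pt_vec_mem hx hx0 1
  have hyK := perp₂_cen hy
  -- move back onto the point
  have hy' : g₀ * y * g₀⁻¹ ∈ perp₂ D a b := by
    have h1 := (conj_mem_perp_iff M.S.hD g₀ b y).mpr ⟨hy.1.1, hy.2.2.1, hy.2.2.2⟩
    have h2 := (conj_mem_perp_iff M.S.hD g₀ a y).mpr hy.1
    rw [hgb] at h1
    rw [hga] at h2
    exact ⟨h1, h2⟩
  obtain ⟨ε, hε, hεy⟩ := M.exists_kernel_move hx hx0 hy' (by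
    obtain ⟨h, h1⟩ := M.mem_core.mp (hc y hyK)
    rw [show (⟨g₀ * y * g₀⁻¹ * y⁻¹, h⟩ : ↥(cen a b)) = ⟨g₀ * y * g₀⁻¹, perp₂_cen hy'⟩ * ⟨y, hyK⟩⁻¹ from rfl,
      map_mul, map_inv, mul_inv_eq_one] at h1
    exact h1)
  set g₁ := ε⁻¹ * g₀ with hg₁
  have hεK := M.core_le hε
  have g1y : g₁ * y * g₁⁻¹ = y := by
    rw [hg₁, show ε⁻¹ * g₀ * y * (ε⁻¹ * g₀)⁻¹ = ε⁻¹ * (g₀ * y * g₀⁻¹) * ε by group, ← hεy]
    group
    rfl
  have g1a : g₁ * a * g₁⁻¹ = b := by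
    rw [hg₁, show ε⁻¹ * g₀ * a * (ε⁻¹ * g₀)⁻¹ = ε⁻¹ * (g₀ * a * g₀⁻¹) * ε by group, hga, mul_assoc,
      ← (mem_cen.mp hεK).2.eq, inv_mul_cancel_left]
  have g1b : g₁ * b * g₁⁻¹ = a := by
    rw [hg₁, show ε⁻¹ * g₀ * b * (ε⁻¹ * g₀)⁻¹ = ε⁻¹ * (g₀ * b * g₀⁻¹) * ε by group, hgb, mul_assoc,
      ← (mem_cen.mp hεK).1.eq, inv_mul_cancel_left]
  -- an element scaling the point
  obtain ⟨A, hdet, hA⟩ := exists_SU_isotropic (n := 4) M.hF (by norm_num) (e := x) (e' := o • x) hx0 hx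
    (smul_ne_zero ho0 hx0) (by rw [herm_smul_left, herm_smul_right, hx, mul_zero, mul_zero])
  set A' : Cfsg.SU 4 F 2 := ⟨⟨A.1.1, hdet⟩, A.2⟩
  obtain ⟨⟨k, hk⟩, hks⟩ := M.pair_surjective ⟨emb M.hF M.hfr A', emb_mem M.hF M.hfr A'⟩
  have hlin : ∀ r : F, act (emb M.hF M.hfr A') (lin M.g x + r • M.e) = lin M.g (o • x) + r • M.e := by
    intro r
    rw [act_add, act_smul, (emb_acts M.hF M.hfr A').1, (emb_acts M.hF M.hfr A').2.2,
      show A'.1.1.mulVec x = o • x from hA]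
  have hox : h₄⟪o • x, o • x⟫ = 0 := by rw [herm_smul_left, herm_smul_right, hx, mul_zero, mul_zero]
  have hky : k * y * k⁻¹ = y := by
    have := M.pair_conj ⟨k, hk⟩ (M.iso_vec hx 0) (M.vec_ne hx0 0)
    rw [hks] at this
    rw [this]
    show M.C.pt (act (emb M.hF M.hfr A') _) = y
    rw [hlin, zero_smul, add_zero, lin_smul, hydef, zero_smul, add_zero]
    exact M.C.pt_smul (by have := M.iso_vec hx (0 : F); rwa [zero_smul, add_zero] at this)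
      (by have := M.vec_ne hx0 (0 : F); rwa [zero_smul, add_zero] at this) ho0
  have hkc : k * c₁ * k⁻¹ ≠ c₁ := by
    intro heq
    have := M.pair_conj ⟨k, hk⟩ (M.iso_vec hx 1) (M.vec_ne hx0 1)
    rw [hks] at this
    rw [this] at heq
    change M.C.pt (act (emb M.hF M.hfr A') _) = c₁ at heq
    rw [hlin] at heq
    obtain ⟨r, -, hr⟩ := (M.C.pt_eq (M.iso_vec hox 1) (M.vec_ne (smul_ne_zero ho0 hx0) 1)
      (M.iso_vec hx 1) (M.vec_ne hx0 1)).mp heq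
    obtain ⟨hr1, hr2⟩ := M.vec_parallel hr
    rw [mul_one] at hr2
    rw [← hr2, one_smul] at hr1
    exact ho1 (smul_left_injective F hx0 (show o • x = (1 : F) • x by rw [one_smul]; exact hr1.symm))
  -- the conjugate of `k` has the same effect on the fibre
  set k' := g₁ * k * g₁⁻¹ with hk'
  have hδ : k' * k⁻¹ ∈ M.core := by
    rw [show k' * k⁻¹ = ε⁻¹ * (g₀ * k * g₀⁻¹ * k⁻¹) * (k * ε * k⁻¹) by rw [hk', hg₁]; group]
    exact mul_mem (mul_mem (inv_mem hε) (hc k hk)) (M.core_normal hk hε)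
  set δ := k⁻¹ * k' with hδdef
  have hδc : δ ∈ M.core := by
    rw [show δ = k⁻¹ * (k' * k⁻¹) * k⁻¹⁻¹ by rw [hδdef]; group]
    exact M.core_normal (inv_mem hk) hδ
  have hk'y : k' * y * k'⁻¹ = y := by
    calc k' * y * k'⁻¹ = g₁ * (k * (g₁⁻¹ * (g₁ * y * g₁⁻¹) * g₁) * k⁻¹) * g₁⁻¹ := by rw [g1y, hk']; group
      _ = y := by rw [show g₁⁻¹ * (g₁ * y * g₁⁻¹) * g₁ = y by group, hky, g1y]
  have hδy : δ * y * δ⁻¹ = y := by
    calc δ * y * δ⁻¹ = k⁻¹ * (k' * y * k'⁻¹) * k := by rw [hδdef]; group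
      _ = k⁻¹ * (k * y * k⁻¹) * k := by rw [hk'y, hky]
      _ = y := by group
  have hδ1 : δ * c₁ * δ⁻¹ = c₁ := by
    obtain ⟨hδK, hδ0⟩ := M.mem_core.mp hδc
    set q := M.pair ⟨δ, hδK⟩
    have hq := (M.four_eq_one_iff _).mp hδ0
    have h1 := M.pair_conj ⟨δ, hδK⟩ (M.iso_vec hx 0) (M.vec_ne hx0 0)
    rw [hδy] at h1
    obtain ⟨r, -, hr⟩ := (M.C.pt_eq (M.iso_vec hx 0) (M.vec_ne hx0 0) (by rw [act_herm]; exact M.iso_vec hx 0)
      (fun h => M.vec_ne hx0 (0 : F) (by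
        rw [← act_inv_self (q : Cfsg.SU 6 F 2) (lin M.g x + (0 : F) • M.e), h]; simp [act_def]))).mp h1
    have hfix := fix_of_parallel M.hF M.hfr hq hx0 hr
    have h2 := M.pair_conj ⟨δ, hδK⟩ (M.iso_vec hx 1) (M.vec_ne hx0 1)
    rw [h2]
    refine congrArg _ ?_
    rw [act_add, act_smul, hfix, show act (q : Cfsg.SU 6 F 2) M.e = M.e from hq.1]
  have hkk : k' * c₁ * k'⁻¹ = k * c₁ * k⁻¹ := by
    calc k' * c₁ * k'⁻¹ = k * (δ * c₁ * δ⁻¹) * k⁻¹ := by rw [hδdef]; group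
      _ = k * c₁ * k⁻¹ := by rw [hδ1]
  -- read at `y`
  have hyD : y ∈ D := hy.1.1
  set Cy := M.S.ctx y hyD with hCy
  have hay : a ∈ perp D y := ⟨M.ha, Ne.symm hy.1.2.1, hy.1.2.2.symm⟩
  have hby : b ∈ perp D y := ⟨hb.1, Ne.symm hy.2.2.1, hy.2.2.2.symm⟩
  have hcy : c₁ ∈ perp D y := by
    refine ⟨hc₁.1.1, fun h => ?_, ?_⟩
    · obtain ⟨r, -, hr⟩ := (M.C.pt_eq (M.iso_vec hx 1) (M.vec_ne hx0 1) (M.iso_vec hx 0) (M.vec_ne hx0 0)).mp h
      obtain ⟨hr1, hr2⟩ := M.vec_parallel hr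
      rw [mul_one] at hr2
      rw [← hr2, zero_smul] at hr1
      exact hx0 hr1
    · exact (M.C.pt_comm (M.iso_vec hx 0) (M.vec_ne hx0 0) (M.iso_vec hx 1) (M.vec_ne hx0 1)).mpr
        (by rw [herm_orth M.hF M.hfr, hx])
  have hwc : ∀ w ∈ perp D y, Commute a w → Commute b w → Commute c₁ w := by
    intro w hw haw hbw
    by_cases hwa : w = a
    · rw [hwa]; exact hc₁.1.2.2.symm
    obtain ⟨v, hv, hv0, hvw⟩ := M.C.exists_pt (show w ∈ perp D a from ⟨hw.1, hwa, haw⟩)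
    subst hvw
    have h1 : h⟪v, lin M.g x + (0 : F) • M.e⟫ = 0 := herm_eq_zero_symm M.hF
      ((M.C.pt_comm (M.iso_vec hx 0) (M.vec_ne hx0 0) hv hv0).mp hw.2.2)
    have h2 : h⟪v, M.e⟫ = 0 := herm_eq_zero_symm M.hF
      ((M.C.pt_comm M.he M.he0 hv hv0).mp (by rw [M.hb]; exact hbw))
    refine (M.C.pt_comm (M.iso_vec hx 1) (M.vec_ne hx0 1) hv hv0).mpr (herm_eq_zero_symm M.hF ?_)
    rw [zero_smul, add_zero] at h1
    rw [herm_add_right _ _ _ M.hF, herm_smul_right, h1, h2, mul_zero, add_zero]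
  obtain ⟨p, hp, hp0, hpa⟩ := Cy.exists_pt hay
  obtain ⟨r, hr, hr0, hrb⟩ := Cy.exists_pt hby
  obtain ⟨v, hv, hv0, hvc⟩ := Cy.exists_pt hcy
  have hli : LinearIndependent F ![p, r] :=
    Cy.li_pair hp hp0 hr hr0 (by rw [hpa, hrb]; exact Ne.symm hb.2.1)
  have hpr : h⟪p, r⟫ = 0 := (Cy.pt_comm hp hp0 hr hr0).mp (by rw [hpa, hrb]; exact hb.2.2)
  have hvp : h⟪v, p⟫ = 0 := (Cy.pt_comm hv hv0 hp hp0).mp (by rw [hpa, hvc]; exact hc₁.1.2.2.symm)
  have hvr : h⟪v, r⟫ = 0 := (Cy.pt_comm hv hv0 hr hr0).mp (by rw [hrb, hvc]; exact hc₁.2.2.2.symm)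
  obtain ⟨α₀, β₀, hline⟩ := mem_line M.hF hli hp hr hpr hvp hvr fun z hz hzp hne hzr => by
    have hz0 : z ≠ 0 := fun h => hne 0 (by rw [h, zero_smul])
    refine (Cy.pt_comm hz hz0 hv hv0).mp ?_
    rw [hvc]
    refine (hwc _ (Cy.pt_mem hz hz0) ?_ ?_).symm
    · rw [← hpa]; exact (Cy.pt_comm hp hp0 hz hz0).mpr (herm_eq_zero_symm M.hF hzp)
    · rw [← hrb]; exact (Cy.pt_comm hr hr0 hz hz0).mpr (herm_eq_zero_symm M.hF hzr)
  have hα₀ : α₀ ≠ 0 := by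
    intro h
    rw [h, zero_smul, zero_add] at hline
    refine hc₁.2.2.1 ?_
    rw [← hvc, hline, Cy.pt_smul hr hr0 fun hc => hv0 (by rw [hline, hc, zero_smul]), hrb]
  have hβ₀ : β₀ ≠ 0 := by
    intro h
    rw [h, zero_smul, add_zero] at hline
    refine hc₁.1.2.1 ?_
    rw [← hvc, hline, Cy.pt_smul hp hp0 fun hc => hv0 (by rw [hline, hc, zero_smul]), hpa]
  -- lifts at `y`
  have hmem : ∀ {z : G}, z * y * z⁻¹ = y → z ∈ Subgroup.closure (perp D y) := fun {z} hz => by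
    rw [StabilizerM22.centralizer_eq M.S hyD, Subgroup.mem_centralizer_singleton_iff]
    exact (mul_inv_eq_iff_eq_mul.mp hz)
  obtain ⟨s, hs⟩ := Cy.surj (QuotientGroup.mk ⟨k, hmem hky⟩)
  obtain ⟨t, ht⟩ := Cy.surj (QuotientGroup.mk ⟨g₁, hmem g1y⟩)
  have hs' : ∀ {u : Fin 6 → F}, h⟪u, u⟫ = 0 → u ≠ 0 → act s u ≠ 0 := fun {u} _ hu0 h =>
    hu0 (by rw [← act_inv_self s u, h]; simp [act_def])
  have ht' : ∀ {u : Fin 6 → F}, h⟪u, u⟫ = 0 → u ≠ 0 → act t u ≠ 0 := fun {u} _ hu0 h =>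
    hu0 (by rw [← act_inv_self t u, h]; simp [act_def])
  obtain ⟨α, hαn, hα⟩ : ∃ α : F, α ≠ 0 ∧ act s p = α • p := (Cy.pt_eq hp hp0 (by rw [act_herm]; exact hp)
    (hs' hp hp0)).mp (by
      rw [← Cy.pt_conj hp hp0 s hs.symm, hpa]
      show a = k * a * k⁻¹
      rw [(mem_cen.mp hk).1.eq, mul_inv_cancel_right])
  obtain ⟨β, hβn, hβ⟩ : ∃ β : F, β ≠ 0 ∧ act s r = β • r := (Cy.pt_eq hr hr0 (by rw [act_herm]; exact hr)
    (hs' hr hr0)).mp (by
      rw [← Cy.pt_conj hr hr0 s hs.symm, hrb]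
      show b = k * b * k⁻¹
      rw [(mem_cen.mp hk).2.eq, mul_inv_cancel_right])
  obtain ⟨α', hα'n, hα'⟩ : ∃ α' : F, α' ≠ 0 ∧ act t p = α' • r := (Cy.pt_eq hr hr0 (by rw [act_herm]; exact hp)
    (ht' hp hp0)).mp (by
      rw [← Cy.pt_conj hp hp0 t ht.symm, hpa, hrb]
      exact g1a.symm)
  obtain ⟨β', hβ'n, hβ'⟩ : ∃ β' : F, β' ≠ 0 ∧ act t r = β' • p := (Cy.pt_eq hp hp0 (by rw [act_herm]; exact hr)
    (ht' hr hr0)).mp (by
      rw [← Cy.pt_conj hr hr0 t ht.symm, hrb, hpa]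
      exact g1b.symm)
  have hinvp : act t⁻¹ p = β'⁻¹ • r := by
    calc act t⁻¹ p = act t⁻¹ (β'⁻¹ • act t r) := by rw [hβ', smul_smul, inv_mul_cancel₀ hβ'n, one_smul]
      _ = β'⁻¹ • r := by rw [act_smul, act_inv_self]
  have hinvr : act t⁻¹ r = α'⁻¹ • p := by
    calc act t⁻¹ r = act t⁻¹ (α'⁻¹ • act t p) := by rw [hα', smul_smul, inv_mul_cancel₀ hα'n, one_smul]
      _ = α'⁻¹ • p := by rw [act_smul, act_inv_self]
  have h1 : act (t * s * t⁻¹) v = (α₀ * β) • p + (β₀ * α) • r := by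
    rw [hline, act_mul, act_mul, act_add, act_smul, act_smul, hinvp, hinvr, act_add, act_smul, act_smul,
      act_smul, act_smul, hα, hβ, act_add, act_smul, act_smul, act_smul, act_smul, act_smul, act_smul,
      hα', hβ']
    simp only [smul_smul]
    congr 2 <;> field_simp
  have h2 : act s v = (α₀ * α) • p + (β₀ * β) • r := by
    rw [hline, act_add, act_smul, act_smul, hα, hβ, smul_smul, smul_smul]
  have hne : ∀ w : Cfsg.SU 6 F 2, act w v ≠ 0 := fun w h => hv0 (by rw [← act_inv_self w v, h]; simp [act_def])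
  have hts : QuotientGroup.mk (⟨g₁, hmem g1y⟩ * ⟨k, hmem hky⟩ * ⟨g₁, hmem g1y⟩⁻¹ : ↥(Subgroup.closure (perp D y))) =
      Cy.φ (t * s * t⁻¹) := by
    rw [map_mul, map_mul, map_inv, hs, ht]
    rfl
  obtain ⟨c, hc0, hcv⟩ := (Cy.pt_eq (by rw [act_herm]; exact hv) (hne s) (by rw [act_herm]; exact hv)
    (hne (t * s * t⁻¹))).mp (by
      rw [← Cy.pt_conj hv hv0 s hs.symm, ← Cy.pt_conj hv hv0 _ hts, hvc]
      exact hkk.symm)
  rw [h1, h2, smul_add, smul_smul, smul_smul] at hcv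
  obtain ⟨e1, e2⟩ := LinearIndependent.pair_iff.mp hli (α₀ * β - c * (α₀ * α)) (β₀ * α - c * (β₀ * β))
    (by rw [sub_smul, sub_smul, sub_add_sub_comm, sub_eq_zero]; exact hcv)
  have e1' : β = c * α := mul_left_cancel₀ hα₀ (by linear_combination e1)
  have e2' : α = c * β := mul_left_cancel₀ hβ₀ (by linear_combination e2)
  have hc1 : c = 1 := by
    have h : (c - 1) * (c - 1) * α = 0 := by linear_combination (-1 : F) * e2' - c * e1' + (1 - c) * α * two_eq_zero M.hF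
    rcases mul_eq_zero.mp h with h | h
    · exact sub_eq_zero.mp (mul_self_eq_zero.mp h)
    · exact absurd h hαn
  rw [hc1, one_mul] at e1'
  refine hkc ?_
  have h3 := Cy.pt_conj hv hv0 s hs.symm
  rw [hvc] at h3
  change k * c₁ * k⁻¹ = _ at h3
  rw [h3, h2, e1', ← hvc]
  have h4 : (α₀ * α) • p + (β₀ * α) • r = α • v := by
    rw [hline, smul_add, smul_smul, smul_smul, mul_comm α₀, mul_comm β₀]
  rw [h4, Cy.pt_smul hv hv0 hαn]

end Model

end Cfsg.Agent.Lib.FischerMTypes.PairModelM22
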