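import Mathlib
import Cfsg.Agent.Lib.FischerMTypes.PairSwapM22
import Cfsg.Agent.Lib.AutPSU.Card

/-!
Type M(22): the centraliser of the product of two commuting transpositions modulo its subgroup of
order 2^10 is the automorphism group of PSU(4,2).
-/

set_option autoImplicit false
set_option linter.style.haveILetI false
set_option linter.unusedSectionVars false

namespace Cfsg.Agent.Lib.FischerMTypes.PairModelM22

open Cfsg.Agent.Lib.FischerMTypes.Basic Cfsg.Agent.Lib.FischerMTypes.Primitive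
  Cfsg.Agent.Lib.FischerMTypes.Levels Cfsg.Agent.Lib.FischerMTypes.PointModel
  Cfsg.Agent.Lib.FischerMTypes.TraceCounts
open Cfsg.Agent.Lib.UnitaryFour.Transvection Cfsg.Agent.Lib.UnitaryFour.PointStab

variable {G : Type*} [Group G] [Finite G] {D : Set G}
variable {F : Type} [Field F] [Fintype F]

local notation "h₄⟪" u ", " v "⟫" => Cfsg.hermForm 4 F 2 u v

theorem card_SU_four (hF : Fintype.card F = 2 ^ 2) : Nat.card (Cfsg.SU 4 F 2) = 25920 :=
  PointModel.card_SU_four hF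

theorem center_SU_four (hF : Fintype.card F = 2 ^ 2) : Subgroup.center (Cfsg.SU 4 F 2) = ⊥ := by
  rw [eq_bot_iff]
  intro A hA
  obtain ⟨l, hl⟩ := (Lib.Unitary.mem_center_SU_iff hF (by norm_num) A).mp hA
  have hM : A.1.1 = l • (1 : Matrix (Fin 4) (Fin 4) F) := Matrix.toLin'.injective (LinearMap.ext fun x => by
    rw [Matrix.toLin'_apply, Matrix.toLin'_apply, Matrix.smul_mulVec, Matrix.one_mulVec]; exact hl x)
  have hdet : l ^ 4 = 1 := by
    have := A.1.2
    rwa [hM, Matrix.det_smul, Matrix.det_one, mul_one, Fintype.card_fin] at this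
  have hl0 : l ≠ 0 := fun h => by rw [h] at hdet; simp at hdet
  rw [pow_succ, cube_eq_one hF hl0, one_mul] at hdet
  rw [Subgroup.mem_bot]
  exact ext' fun x => by rw [act_one]; exact (hl x).trans (by rw [hdet, one_smul])

/-- SU(4,2) is its own projective group -/
noncomputable def psuEquiv (hF : Fintype.card F = 2 ^ 2) : Cfsg.SU 4 F 2 ≃* Cfsg.PSU 4 F 2 :=
  ((QuotientGroup.quotientMulEquivOfEq (center_SU_four hF)).trans QuotientGroup.quotientBot).symm

theorem simple_SU_four (hF : Fintype.card F = 2 ^ 2) : IsSimpleGroup (Cfsg.SU 4 F 2) := by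
  haveI : IsSimpleGroup (Cfsg.PSU 4 F 2) :=
    Cfsg.Agent.S0283.result (F := F) (q := 2) hF 4 (by norm_num) (by norm_num)
  exact (psuEquiv hF).isSimpleGroup

theorem card_aut_SU_four (hF : Fintype.card F = 2 ^ 2) : Nat.card (MulAut (Cfsg.SU 4 F 2)) = 51840 := by
  haveI : Fact (Nat.Prime 2) := ⟨Nat.prime_two⟩
  rw [Nat.card_congr (MulAut.congr (psuEquiv hF)).toEquiv,
    Lib.AutPSU.card_mulAut_PSU hF (by norm_num) (by norm_num) (p := 2) (f := 1) rfl,
    ← Nat.card_congr (psuEquiv hF).toEquiv, card_SU_four hF]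
  norm_num

variable {a b : G} (M : Model D F a b)

namespace Model

/-- the centraliser of the product -/
abbrev cenProd (a b : G) : Subgroup G := Subgroup.centralizer ({a * b} : Set G)

theorem mem_cenProd {a b c : G} : c ∈ cenProd a b ↔ Commute c (a * b) := by
  rw [Subgroup.mem_centralizer_singleton_iff]
  rfl

theorem cen_le_cenProd {a b : G} : cen a b ≤ cenProd a b := fun _ hk =>
  mem_cenProd.mpr ((mem_cen.mp hk).1.mul_right (mem_cen.mp hk).2)

include M in
theorem conj_cases {c : G} (hc : c ∈ cenProd a b) :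
    (c * a * c⁻¹ = a ∧ c * b * c⁻¹ = b) ∨ (c * a * c⁻¹ = b ∧ c * b * c⁻¹ = a) := by
  refine pair_unique M.S M.ha M.b_mem (M.S.hD.2.1 c a M.ha) (M.S.hD.2.1 c b M.b_mem.1)
    (StabilizerM22.conj_commute M.b_mem.2.2) ?_
  rw [show c * a * c⁻¹ * (c * b * c⁻¹) = c * (a * b) * c⁻¹ by group, (mem_cenProd.mp hc).eq, mul_inv_cancel_right]

include M in
theorem conj_mem_cen {c : G} (hc : c ∈ cenProd a b) {k : G} (hk : k ∈ cen a b) : c * k * c⁻¹ ∈ cen a b := by
  obtain ⟨h1, h2⟩ := mem_cen.mp hk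
  rcases M.conj_cases hc with ⟨ea, eb⟩ | ⟨ea, eb⟩
  · exact mem_cen.mpr ⟨ea ▸ StabilizerM22.conj_commute h1, eb ▸ StabilizerM22.conj_commute h2⟩
  · exact mem_cen.mpr ⟨eb ▸ StabilizerM22.conj_commute h2, ea ▸ StabilizerM22.conj_commute h1⟩

include M in
theorem index_two : ((cen a b).subgroupOf (cenProd a b)).index = 2 := by
  obtain ⟨g₀, hga, hgb⟩ := exists_swap M.S M.ha M.b_mem
  have hg₀C : g₀ ∈ cenProd a b := mem_cenProd.mpr (by
    show g₀ * (a * b) = a * b * g₀
    calc g₀ * (a * b) = (g₀ * a * g₀⁻¹) * (g₀ * b * g₀⁻¹) * g₀ := by group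
      _ = a * b * g₀ := by rw [hga, hgb, M.b_mem.2.2.eq])
  rw [Subgroup.index_eq_two_iff]
  refine ⟨⟨g₀, hg₀C⟩, fun x => ?_⟩
  rw [Subgroup.mem_subgroupOf, Subgroup.mem_subgroupOf, Subgroup.coe_mul]
  rcases M.conj_cases x.2 with ⟨h1, h2⟩ | ⟨h1, h2⟩
  · refine Or.inr ⟨mem_cen.mpr ⟨mul_inv_eq_iff_eq_mul.mp h1, mul_inv_eq_iff_eq_mul.mp h2⟩, fun hx => ?_⟩
    have := (mem_cen.mp hx).1
    have e : (x : G) * g₀ * a * ((x : G) * g₀)⁻¹ = a := by rw [this.eq, mul_inv_cancel_right]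
    rw [show (x : G) * g₀ * a * ((x : G) * g₀)⁻¹ = x * (g₀ * a * g₀⁻¹) * (x : G)⁻¹ by group, hga, h2] at e
    exact M.b_mem.2.1 e
  · refine Or.inl ⟨mem_cen.mpr ⟨mul_inv_eq_iff_eq_mul.mp ?_, mul_inv_eq_iff_eq_mul.mp ?_⟩, fun hx => ?_⟩
    · rw [show (x : G) * g₀ * a * ((x : G) * g₀)⁻¹ = x * (g₀ * a * g₀⁻¹) * (x : G)⁻¹ by group, hga, h2]
    · rw [show (x : G) * g₀ * b * ((x : G) * g₀)⁻¹ = x * (g₀ * b * g₀⁻¹) * (x : G)⁻¹ by group, hgb, h1]
    · have := (mem_cen.mp hx).1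
      rw [show (x : G) * a * (x : G)⁻¹ = a by rw [this.eq, mul_inv_cancel_right]] at h1
      exact M.b_mem.2.1 h1.symm

include M in
theorem card_cenProd : Nat.card ↥(cenProd a b) = 2 * (2 ^ 10 * 25920) := by
  rw [← Subgroup.index_mul_card ((cen a b).subgroupOf (cenProd a b)), M.index_two,
    Nat.card_congr (Subgroup.subgroupOfEquivOfLe cen_le_cenProd).toEquiv, M.card_cen, card_SU_four M.hF]

theorem core_le_cenProd : M.core ≤ cenProd a b := M.core_le.trans cen_le_cenProd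

theorem core_conj {c x : G} (hc : c ∈ cenProd a b) (hx : x ∈ M.core) : c * x * c⁻¹ ∈ M.core := by
  classical
  haveI := simple_SU_four M.hF
  set N : Subgroup ↥(cen a b) :=
    (M.core.map (MulAut.conj c).toMonoidHom).comap (cen a b).subtype
  have hN : N.Normal := ⟨fun n hn k => by
    obtain ⟨z, hz, he⟩ := Subgroup.mem_map.mp (Subgroup.mem_comap.mp hn)
    refine Subgroup.mem_comap.mpr (Subgroup.mem_map.mpr
      ⟨(c⁻¹ * (k : G) * c⁻¹⁻¹) * z * (c⁻¹ * (k : G) * c⁻¹⁻¹)⁻¹,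
        M.core_normal (M.conj_mem_cen (inv_mem hc) k.2) hz, ?_⟩)
    have he' : c * z * c⁻¹ = (n : G) := he
    show c * _ * c⁻¹ = (k : G) * n * (k : G)⁻¹
    rw [← he']
    group⟩
  have hle : M.core.map (MulAut.conj c).toMonoidHom ≤ cen a b := by
    rintro _ ⟨z, hz, rfl⟩
    exact M.conj_mem_cen hc (M.core_le hz)
  have hcard : Nat.card ↥N = 2 ^ 10 := by
    show Nat.card ↥((M.core.map (MulAut.conj c).toMonoidHom).subgroupOf (cen a b)) = _
    rw [Nat.card_congr (Subgroup.subgroupOfEquivOfLe hle).toEquiv,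
      Subgroup.card_map_of_injective (MulAut.conj c).injective, M.card_core]
  have hmem : (⟨c * x * c⁻¹, M.conj_mem_cen hc (M.core_le hx)⟩ : ↥(cen a b)) ∈ N :=
    Subgroup.mem_comap.mpr (Subgroup.mem_map.mpr ⟨x, hx, rfl⟩)
  rcases (hN.map M.four M.four_surjective).eq_bot_or_eq_top with h | h
  · refine M.mem_core.mpr ⟨M.conj_mem_cen hc (M.core_le hx), ?_⟩
    have h' := Subgroup.mem_map_of_mem M.four hmem
    rwa [h, Subgroup.mem_bot] at h'
  · exfalso
    have hd := Subgroup.card_dvd_of_surjective (M.four.subgroupMap N) (M.four.subgroupMap_surjective N)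
    rw [h, Subgroup.card_top, hcard, card_SU_four M.hF] at hd
    norm_num at hd

theorem core_normal_prod : (M.core.subgroupOf (cenProd a b)).Normal := ⟨fun n hn k => by
  rw [Subgroup.mem_subgroupOf] at hn ⊢
  simpa using M.core_conj k.2 hn⟩

include M in
/-- the quotient is the automorphism group of PSU(4,2) -/
theorem quotient_equiv [hn : (M.core.subgroupOf (cenProd a b)).Normal] :
    Nonempty (↥(cenProd a b) ⧸ M.core.subgroupOf (cenProd a b) ≃* MulAut (Cfsg.PSU 4 F 2)) := by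
  classical
  haveI := simple_SU_four M.hF
  set N := M.core.subgroupOf (cenProd a b) with hNdef
  set KC := (cen a b).subgroupOf (cenProd a b) with hKC
  haveI : KC.Normal := Subgroup.normal_of_index_eq_two M.index_two
  set Kb := KC.map (QuotientGroup.mk' N)
  haveI : Kb.Normal := Subgroup.Normal.map inferInstance _ (QuotientGroup.mk'_surjective N)
  -- the normal half is SU(4,2)
  let ι : ↥KC ≃* ↥(cen a b) := Subgroup.subgroupOfEquivOfLe cen_le_cenProd
  let θ : ↥KC →* Cfsg.SU 4 F 2 := M.four.comp ι.toMonoidHom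
  have hθ : Function.Surjective θ := M.four_surjective.comp ι.surjective
  let η : ↥KC →* ↥Kb := (QuotientGroup.mk' N).subgroupMap KC
  have hη : Function.Surjective η := (QuotientGroup.mk' N).subgroupMap_surjective KC
  have hker : η.ker = θ.ker := by
    ext k
    rw [MonoidHom.mem_ker, MonoidHom.mem_ker, Subtype.ext_iff]
    show (QuotientGroup.mk (k : ↥(cenProd a b)) : _ ⧸ N) = 1 ↔ _
    rw [QuotientGroup.eq_one_iff, Subgroup.mem_subgroupOf]
    refine M.mem_core.trans ⟨fun ⟨_, h⟩ => h, fun h => ⟨k.2, h⟩⟩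
  let eK : ↥Kb ≃* Cfsg.SU 4 F 2 :=
    (QuotientGroup.quotientKerEquivOfSurjective η hη).symm.trans
      ((QuotientGroup.quotientMulEquivOfEq hker).trans (QuotientGroup.quotientKerEquivOfSurjective θ hθ))
  let Ψ : ↥(cenProd a b) ⧸ N →* MulAut ↥Kb := MulAut.conjNormal
  have hΨ : Function.Injective Ψ := by
    rw [injective_iff_map_eq_one]
    intro q hq
    obtain ⟨⟨c, hc⟩, rfl⟩ := QuotientGroup.mk_surjective q
    have hcen : ∀ k ∈ cen a b, c * k * c⁻¹ * k⁻¹ ∈ M.core := by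
      intro k hk
      have h1 := congrArg Subtype.val (MulEquiv.ext_iff.mp hq
        (η ⟨⟨k, cen_le_cenProd hk⟩, by exact hk⟩))
      rw [MulAut.conjNormal_apply, MulAut.one_apply] at h1
      change (QuotientGroup.mk (⟨c, hc⟩ : ↥(cenProd a b)) : _ ⧸ N) * QuotientGroup.mk (⟨k, cen_le_cenProd hk⟩) *
        (QuotientGroup.mk (⟨c, hc⟩ : ↥(cenProd a b)))⁻¹ = QuotientGroup.mk (⟨k, cen_le_cenProd hk⟩) at h1
      rw [← mul_inv_eq_one, ← QuotientGroup.mk_inv, ← QuotientGroup.mk_inv, ← QuotientGroup.mk_mul,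
        ← QuotientGroup.mk_mul, ← QuotientGroup.mk_mul, QuotientGroup.eq_one_iff, Subgroup.mem_subgroupOf] at h1
      exact h1
    rcases M.conj_cases hc with ⟨h1, h2⟩ | ⟨h1, h2⟩
    · have hcK : c ∈ cen a b := mem_cen.mpr ⟨mul_inv_eq_iff_eq_mul.mp h1, mul_inv_eq_iff_eq_mul.mp h2⟩
      rw [QuotientGroup.eq_one_iff, Subgroup.mem_subgroupOf]
      refine M.mem_core.mpr ⟨hcK, ?_⟩
      have hz : M.four ⟨c, hcK⟩ ∈ Subgroup.center (Cfsg.SU 4 F 2) := by
        rw [Subgroup.mem_center_iff]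
        intro w
        obtain ⟨k, rfl⟩ := M.four_surjective w
        obtain ⟨h, h'⟩ := M.mem_core.mp (hcen k k.2)
        rw [show (⟨c * (k : G) * c⁻¹ * (k : G)⁻¹, h⟩ : ↥(cen a b)) = ⟨c, hcK⟩ * k * ⟨c, hcK⟩⁻¹ * k⁻¹ from rfl,
          map_mul, map_mul, map_mul, map_inv, map_inv, mul_inv_eq_one, mul_inv_eq_iff_eq_mul] at h'
        exact h'.symm
      rwa [center_SU_four M.hF, Subgroup.mem_bot] at hz
    · exact (M.no_inner_swap h1 h2 hcen).elim
  have hcardQ : Nat.card (↥(cenProd a b) ⧸ N) = 51840 := by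
    have h := Subgroup.card_eq_card_quotient_mul_card_subgroup N
    rw [M.card_cenProd, hNdef, Nat.card_congr (Subgroup.subgroupOfEquivOfLe M.core_le_cenProd).toEquiv,
      M.card_core] at h
    rw [hNdef]
    omega
  let Φ := ((MulAut.congr eK).trans (MulAut.congr (psuEquiv M.hF))).toMonoidHom.comp Ψ
  have hΦ : Function.Bijective Φ := by
    refine (Nat.bijective_iff_injective_and_card Φ).mpr
      ⟨((MulAut.congr eK).trans (MulAut.congr (psuEquiv M.hF))).injective.comp hΨ, ?_⟩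
    rw [hcardQ, ← Nat.card_congr (MulAut.congr (psuEquiv M.hF)).toEquiv, card_aut_SU_four M.hF]
  exact ⟨MulEquiv.ofBijective Φ hΦ⟩

include M in
theorem center_cen : (Subgroup.center ↥(cen a b)).map (cen a b).subtype = Subgroup.closure ({a, b} : Set G) := by
  refine le_antisymm ?_ ((Subgroup.closure_le _).mpr ?_)
  · rintro _ ⟨⟨k, hk⟩, hkc, rfl⟩
    refine M.mem_pair_of_central hk fun y hy => ?_
    exact (congrArg Subtype.val (Subgroup.mem_center_iff.mp hkc ⟨y, perp₂_cen hy⟩)).symm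
  · rintro z (rfl | rfl)
    · exact ⟨⟨z, M.a_mem_cen⟩, Subgroup.mem_center_iff.mpr fun k => Subtype.ext (mem_cen.mp k.2).1.eq, rfl⟩
    · exact ⟨⟨z, M.b_mem_cen⟩, Subgroup.mem_center_iff.mpr fun k => Subtype.ext (mem_cen.mp k.2).2.eq, rfl⟩

end Model

end Cfsg.Agent.Lib.FischerMTypes.PairModelM22
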