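import Mathlib
import Cfsg.Agent.Lib.FischerMTypes.PairM22

/-!
Type M(22): the commutators and squares in the group of order 2^10 attached to a commuting pair of
transpositions lie in the group of order two generated by their product.
-/

set_option autoImplicit false
set_option linter.style.haveILetI false
set_option linter.unusedSectionVars false

namespace Cfsg.Agent.Lib.FischerMTypes.PairModelM22

open Cfsg.Agent.Lib.FischerMTypes.Basic Cfsg.Agent.Lib.FischerMTypes.Primitive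
  Cfsg.Agent.Lib.FischerMTypes.Levels Cfsg.Agent.Lib.FischerMTypes.PointModel
  Cfsg.Agent.Lib.FischerMTypes.TraceCounts
open Cfsg.Agent.Lib.Unitary (herm_smul_left herm_smul_right herm_eq_zero_symm herm_add_left
  herm_add_right herm_conj herm_nondeg_left herm_sub_left exists_SU_hyp herm_zero_right)
open Cfsg.Agent.Lib.UnitaryFour.Transvection Cfsg.Agent.Lib.UnitaryFour.Stabilizer
  Cfsg.Agent.Lib.UnitaryFour.PointStab
open Cfsg.Agent.Lib.AutPSU (PS QS RS RS_le_QS)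
open scoped commutatorElement

variable {G : Type*} [Group G] [Finite G] {D : Set G}
variable {F : Type} [Field F] [Fintype F]

local notation "h⟪" u ", " v "⟫" => Cfsg.hermForm 6 F 2 u v
local notation "h₄⟪" u ", " v "⟫" => Cfsg.hermForm 4 F 2 u v

theorem commutator_mul_left {x y z : G} (h : Commute x ⁅y, z⁆) : ⁅x * y, z⁆ = ⁅y, z⁆ * ⁅x, z⁆ := by
  calc ⁅x * y, z⁆ = x * ⁅y, z⁆ * (z * x⁻¹ * z⁻¹) := by
        rw [commutatorElement_def, commutatorElement_def]; group
    _ = ⁅y, z⁆ * ⁅x, z⁆ := by rw [h.eq, commutatorElement_def, commutatorElement_def]; group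

theorem commutator_inv_left {y z : G} (h : Commute y ⁅y, z⁆) : ⁅y⁻¹, z⁆ = ⁅y, z⁆⁻¹ := by
  refine eq_inv_of_mul_eq_one_left ?_
  have h1 : ⁅y * y⁻¹, z⁆ = 1 := by rw [mul_inv_cancel, commutatorElement_one_left]
  calc ⁅y⁻¹, z⁆ * ⁅y, z⁆ = y⁻¹ * z * y * z⁻¹ * ⁅y, z⁆ := by
        rw [commutatorElement_def, commutatorElement_def, inv_inv]
    _ = 1 := by
        rw [show y⁻¹ * z * y * z⁻¹ = y⁻¹ * ⁅y, z⁆⁻¹ * y by rw [commutatorElement_def]; group,
          mul_assoc y⁻¹, h.inv_right.symm.eq, inv_mul_cancel_left, inv_mul_cancel]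

variable {a b : G} (M : Model D F a b)

namespace Model

/-- the coordinates of an element of the core -/
noncomputable def coord (k : ↥(cen a b)) : Fin 4 → F :=
  fun i => h⟪act (M.pair k : Cfsg.SU 6 F 2) M.f, M.g i⟫

theorem coord_mul {k l : ↥(cen a b)} (hk : M.four k = 1) (hl : M.four l = 1) :
    M.coord (k * l) = M.coord k + M.coord l := by
  have := congrArg Multiplicative.toAdd (map_mul (shift M.hF M.hfr) ⟨_, (M.four_eq_one_iff k).mp hk⟩
    ⟨_, (M.four_eq_one_iff l).mp hl⟩)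
  show (fun i => h⟪act (M.pair (k * l) : Cfsg.SU 6 F 2) M.f, M.g i⟫) = _
  rw [map_mul]
  exact this

theorem mem_pair_of_coord {k : ↥(cen a b)} (hk : M.four k = 1) (h : M.coord k = 0) :
    (k : G) ∈ Subgroup.closure ({a, b} : Set G) := by
  refine M.mem_pair_of_RS k.2 ?_
  refine (shift_eq_one_iff M.hF M.hfr ⟨_, (M.four_eq_one_iff k).mp hk⟩).mp ?_
  exact congrArg Multiplicative.ofAdd h

theorem act_coord {k : ↥(cen a b)} (hk : M.four k = 1) (y : Fin 4 → F) :
    act (M.pair k : Cfsg.SU 6 F 2) (lin M.g y) = lin M.g y + h₄⟪y, M.coord k⟫ • M.e := by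
  set s : Cfsg.SU 6 F 2 := ((M.pair k : ↥(PS (q := 2) M.e)) : Cfsg.SU 6 F 2)
  have hq := (M.four_eq_one_iff k).mp hk
  obtain ⟨r, hr⟩ := hq.2 (lin M.g y) (M.hfr.lin_orth y).1
  have hr' : act s (lin M.g y) = lin M.g y + r • M.e := hr
  have he : act s M.e = M.e := hq.1
  have hf := M.hfr.expand M.hF (act s M.f)
  rw [herm_act M.hF M.hfr he, one_smul] at hf
  have h0 : h⟪act s (lin M.g y), act s M.f⟫ = 0 := by rw [act_herm]; exact (M.hfr.lin_orth y).2
  rw [hr', hf] at h0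
  have hx : (fun i => h⟪act s M.f, M.g i⟫) = M.coord k := rfl
  simp only [herm_add_left, herm_add_right _ _ _ M.hF, herm_smul_left, herm_smul_right, M.he,
    M.hfr.hyp.2.2, (M.hfr.lin_orth _).1, (M.hfr.lin_orth _).2,
    herm_eq_zero_symm M.hF (M.hfr.lin_orth _).1, M.hfr.lin_herm M.hF, hx, mul_zero, mul_one, add_zero,
    zero_add] at h0
  rw [hr', show r = h₄⟪y, M.coord k⟫ by linear_combination h0 - h₄⟪y, M.coord k⟫ * two_eq_zero M.hF]

/-- the product of two points on one line through `e` -/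
noncomputable def gen (x : Fin 4 → F) (r : F) : G :=
  M.C.pt (lin M.g x + r • M.e) * M.C.pt (lin M.g x + (r + 1) • M.e)

theorem gen_mem_cen {x : Fin 4 → F} (hx : h₄⟪x, x⟫ = 0) (hx0 : x ≠ 0) (r : F) : M.gen x r ∈ cen a b :=
  mul_mem (perp₂_cen (M.pt_vec_mem hx hx0 r)) (perp₂_cen (M.pt_vec_mem hx hx0 (r + 1)))

theorem gen_four {x : Fin 4 → F} (hx : h₄⟪x, x⟫ = 0) (hx0 : x ≠ 0) (r : F) :
    M.four ⟨M.gen x r, M.gen_mem_cen hx hx0 r⟩ = 1 := by
  rw [show (⟨M.gen x r, M.gen_mem_cen hx hx0 r⟩ : ↥(cen a b)) =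
    ⟨_, perp₂_cen (M.pt_vec_mem hx hx0 r)⟩ * ⟨_, perp₂_cen (M.pt_vec_mem hx hx0 (r + 1))⟩ from rfl,
    map_mul, M.four_pt hx hx0, M.four_pt hx hx0, tv_mul_self]

theorem gen_mem_core {x : Fin 4 → F} (hx : h₄⟪x, x⟫ = 0) (hx0 : x ≠ 0) (r : F) : M.gen x r ∈ M.core :=
  M.mem_core.mpr ⟨M.gen_mem_cen hx hx0 r, M.gen_four hx hx0 r⟩

theorem gen_coord {x : Fin 4 → F} (hx : h₄⟪x, x⟫ = 0) (hx0 : x ≠ 0) (r : F) :
    M.coord ⟨M.gen x r, M.gen_mem_cen hx hx0 r⟩ = x := by
  have hp : ∀ t : F, (M.pair ⟨M.C.pt (lin M.g x + t • M.e), perp₂_cen (M.pt_vec_mem hx hx0 t)⟩ :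
      Cfsg.SU 6 F 2) = tv M.hF (lin M.g x + t • M.e) (M.iso_vec hx t) := fun t =>
    M.pair_eq (show act _ M.e = M.e by
      rw [act_tv, herm_eq_zero_symm M.hF (herm_iota M.hfr x t), zero_smul, add_zero])
      ⟨Subgroup.subset_closure (M.C.pt_mem (M.iso_vec hx t) (M.vec_ne hx0 t)),
        M.C.pt_im (M.iso_vec hx t) (M.vec_ne hx0 t)⟩
  funext i
  rw [coord, show (⟨M.gen x r, M.gen_mem_cen hx hx0 r⟩ : ↥(cen a b)) =
    ⟨_, perp₂_cen (M.pt_vec_mem hx hx0 r)⟩ * ⟨_, perp₂_cen (M.pt_vec_mem hx hx0 (r + 1))⟩ from rfl,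
    map_mul, Subgroup.coe_mul, hp, hp, act_mul, act_tv, act_tv]
  have hfv : ∀ t : F, h⟪M.f, lin M.g x + t • M.e⟫ = t ^ 2 := fun t => by
    rw [herm_add_right _ _ _ M.hF, herm_smul_right, herm_eq_zero_symm M.hF (M.hfr.lin_orth x).2,
      M.hfr.hyp.symm' M.hF, zero_add, mul_one]
  have hxx : h⟪lin M.g x + (r + 1) • M.e, lin M.g x + r • M.e⟫ = 0 := by rw [herm_orth M.hF M.hfr, hx]
  have hg : ∀ t : F, h⟪lin M.g x + t • M.e, M.g i⟫ = x i := fun t => by
    rw [herm_add_left, herm_smul_left, herm_eq_zero_symm M.hF (M.hfr.orth i).1, mul_zero, add_zero, lin,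
      Lib.Unitary.orthonormal_coeff M.hfr.on]
  rw [herm_add_left M.f, hfv, herm_smul_left, hxx,
    mul_zero, add_zero, hfv, herm_add_left, herm_add_left, herm_smul_left, herm_smul_left, hg, hg,
    herm_eq_zero_symm M.hF (M.hfr.orth i).2, zero_add]
  linear_combination (r ^ 2 + r) * x i * two_eq_zero M.hF

theorem gen_sq {x : Fin 4 → F} (hx : h₄⟪x, x⟫ = 0) (hx0 : x ≠ 0) (r : F) : M.gen x r * M.gen x r = 1 := by
  have h : Commute (M.C.pt (lin M.g x + r • M.e)) (M.C.pt (lin M.g x + (r + 1) • M.e)) :=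
    (M.C.pt_comm (M.iso_vec hx r) (M.vec_ne hx0 r) (M.iso_vec hx _) (M.vec_ne hx0 _)).mpr
      (by rw [herm_orth M.hF M.hfr, hx])
  calc M.gen x r * M.gen x r
      = M.C.pt (lin M.g x + r • M.e) * (M.C.pt (lin M.g x + (r + 1) • M.e) * M.C.pt (lin M.g x + r • M.e)) *
        M.C.pt (lin M.g x + (r + 1) • M.e) := by rw [gen]; group
    _ = (M.C.pt (lin M.g x + r • M.e) * M.C.pt (lin M.g x + r • M.e)) *
        (M.C.pt (lin M.g x + (r + 1) • M.e) * M.C.pt (lin M.g x + (r + 1) • M.e)) := by rw [h.symm.eq]; group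
    _ = 1 := by rw [mul_self M.S.hD.1 (M.pt_vec_mem hx hx0 r).1.1,
        mul_self M.S.hD.1 (M.pt_vec_mem hx hx0 (r + 1)).1.1, one_mul]

/-- the subgroup generated by the products along lines -/
noncomputable def gens : Subgroup G :=
  Subgroup.closure {z | ∃ (x : Fin 4 → F) (r : F), h₄⟪x, x⟫ = 0 ∧ x ≠ 0 ∧ M.gen x r = z}

theorem gens_le : M.gens ≤ M.core :=
  (Subgroup.closure_le _).mpr fun _ ⟨_, r, hx, hx0, he⟩ => he ▸ M.gen_mem_core hx hx0 r

theorem core_eq {z : G} (hz : z ∈ M.core) :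
    ∃ w ∈ M.gens, ∃ v ∈ Subgroup.closure ({a, b} : Set G), z = w * v := by
  have key : ∀ y : Fin 4 → F, y ∈ Submodule.span F {v : Fin 4 → F | h₄⟪v, v⟫ = 0} →
      ∀ c : F, ∃ (k : ↥(cen a b)) , (k : G) ∈ M.gens ∧ M.coord k = c • y := by
    intro y hy
    have hzero : ∃ (k : ↥(cen a b)), (k : G) ∈ M.gens ∧ M.coord k = 0 := by
      refine ⟨1, one_mem _, funext fun i => ?_⟩
      rw [coord, map_one, Subgroup.coe_one, act_one]
      exact herm_eq_zero_symm M.hF (M.hfr.orth i).2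
    induction hy using Submodule.span_induction with
    | mem x hx =>
      intro c
      by_cases h0 : c • x = 0
      · rw [h0]; exact hzero
      have hcx : h₄⟪c • x, c • x⟫ = 0 := by rw [herm_smul_left, herm_smul_right, show h₄⟪x, x⟫ = 0 from hx,
        mul_zero, mul_zero]
      exact ⟨⟨_, M.gen_mem_cen hcx h0 0⟩, Subgroup.subset_closure ⟨c • x, 0, hcx, h0, rfl⟩,
        M.gen_coord hcx h0 0⟩
    | zero => intro c; rw [smul_zero]; exact hzero
    | add u v _ _ hu hv =>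
      intro c
      obtain ⟨k, hk, hk'⟩ := hu c
      obtain ⟨l, hl, hl'⟩ := hv c
      refine ⟨k * l, mul_mem hk hl, ?_⟩
      rw [M.coord_mul ((M.mem_core.mp (M.gens_le hk)).2) ((M.mem_core.mp (M.gens_le hl)).2), hk', hl', smul_add]
    | smul d u _ hu => intro c; rw [smul_smul]; exact hu _
  obtain ⟨hzK, hz1⟩ := M.mem_core.mp hz
  have htop : M.coord ⟨z, hzK⟩ ∈ Submodule.span F {v : Fin 4 → F | h₄⟪v, v⟫ = 0} := by
    have : Submodule.span F {v : Fin 4 → F | h₄⟪v, v⟫ = 0} = ⊤ := by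
      rw [eq_top_iff, ← (Pi.basisFun F (Fin 4)).span_eq, Submodule.span_le]
      rintro _ ⟨i, rfl⟩
      rw [Pi.basisFun_apply]
      exact single_mem_span M.hF (by norm_num) i
    rw [this]; exact Submodule.mem_top
  obtain ⟨k, hk, hk'⟩ := key _ htop 1
  rw [one_smul] at hk'
  have hk1 := (M.mem_core.mp (M.gens_le hk)).2
  refine ⟨k, hk, (k : G)⁻¹ * z, ?_, by group⟩
  have hi : M.four k⁻¹ = 1 := by rw [map_inv, show M.four k = 1 from hk1, inv_one]
  refine M.mem_pair_of_coord (k := k⁻¹ * ⟨z, hzK⟩) (by rw [map_mul, hi, hz1, mul_one]) ?_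
  rw [M.coord_mul hi hz1, ← hk', ← M.coord_mul hi hk1, inv_mul_cancel]
  funext i
  rw [coord, map_one, Subgroup.coe_one, act_one]
  exact herm_eq_zero_symm M.hF (M.hfr.orth i).2

include M in
theorem commute_pair {v k : G} (hv : v ∈ Subgroup.closure ({a, b} : Set G)) (hk : k ∈ cen a b) : Commute k v :=
  commute_closure (fun s hs => by
    rcases hs with rfl | rfl
    exacts [(mem_cen.mp hk).1, (mem_cen.mp hk).2]) v hv

include M in
theorem pair_sq {v : G} (hv : v ∈ Subgroup.closure ({a, b} : Set G)) : v * v = 1 := by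
  induction hv using Subgroup.closure_induction with
  | mem x hx =>
    rcases hx with rfl | rfl
    exacts [mul_self M.S.hD.1 M.ha, mul_self M.S.hD.1 M.b_mem.1]
  | one => exact one_mul 1
  | mul x y hx hy ihx ihy =>
    have hxK : x ∈ cen a b := (Subgroup.closure_le _).mpr (by
      rintro z (rfl | rfl); exacts [M.a_mem_cen, M.b_mem_cen]) hx
    calc x * y * (x * y) = x * (y * x) * y := by group
      _ = (x * x) * (y * y) := by rw [(M.commute_pair hy hxK).symm.eq]; group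
      _ = 1 := by rw [ihx, ihy, one_mul]
  | inv x _ ih => rw [← mul_inv_rev, ih, inv_one]

theorem comm_mem_pair {x y : G} (hx : x ∈ M.core) (hy : y ∈ M.core) :
    ⁅x, y⁆ ∈ Subgroup.closure ({a, b} : Set G) := (M.sq_comm_core hx hy).1

theorem comm_swap {x y : G} (hx : x ∈ M.core) (hy : y ∈ M.core) : ⁅y, x⁆ = ⁅x, y⁆ := by
  rw [← commutatorElement_inv x y]
  exact inv_eq_of_mul_eq_one_right (M.pair_sq (M.comm_mem_pair hx hy))

/-- orthogonal products commute -/
theorem gen_comm_zero {x y : Fin 4 → F} (hx : h₄⟪x, x⟫ = 0) (hx0 : x ≠ 0) (hy : h₄⟪y, y⟫ = 0) (hy0 : y ≠ 0)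
    (h : h₄⟪x, y⟫ = 0) (r t : F) : Commute (M.gen x r) (M.gen y t) := by
  have key : ∀ r t : F, Commute (M.C.pt (lin M.g x + r • M.e)) (M.C.pt (lin M.g y + t • M.e)) := fun r t =>
    (M.C.pt_comm (M.iso_vec hx r) (M.vec_ne hx0 r) (M.iso_vec hy t) (M.vec_ne hy0 t)).mpr
      (by rw [herm_orth M.hF M.hfr, h])
  exact ((key _ _).mul_right (key _ _)).mul_left ((key _ _).mul_right (key _ _))

/-- products whose centres have product one commute -/
theorem gen_comm_one {x y : Fin 4 → F} (hx : h₄⟪x, x⟫ = 0) (hx0 : x ≠ 0) (hy : h₄⟪y, y⟫ = 0) (hy0 : y ≠ 0)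
    (h : h₄⟪x, y⟫ = 1) (r t : F) : Commute (M.gen x r) (M.gen y t) := by
  have hyx : h₄⟪y, x⟫ = 1 := by rw [← herm_conj x y M.hF, h, one_pow]
  have hs : h₄⟪x + y, x + y⟫ = 0 := by
    simp only [herm_add_left, herm_add_right _ _ _ M.hF, hx, hy, h, hyx, zero_add, add_zero]
    linear_combination two_eq_zero M.hF
  have hs0 : x + y ≠ 0 := fun h0 => by
    have : h₄⟪x, x + y⟫ = 1 := by rw [herm_add_right _ _ _ M.hF, hx, h, zero_add]
    rw [h0, herm_zero_right _ M.hF] at this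
    exact zero_ne_one this
  set s : ↥(cen a b) := ⟨M.gen (x + y) 0, M.gen_mem_cen hs hs0 0⟩ with hsdef
  set p : ↥(cen a b) := ⟨M.gen x r, M.gen_mem_cen hx hx0 r⟩ * ⟨M.gen y t, M.gen_mem_cen hy hy0 t⟩ with hpdef
  have hp1 : M.four p = 1 := by rw [hpdef, map_mul, M.gen_four hx hx0, M.gen_four hy hy0, one_mul]
  have hsp : (((s * p : ↥(cen a b))) : G) ∈ Subgroup.closure ({a, b} : Set G) := by
    refine M.mem_pair_of_coord (by rw [map_mul, M.gen_four hs hs0, hp1, one_mul]) ?_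
    rw [M.coord_mul (M.gen_four hs hs0 0) hp1, hpdef, M.coord_mul (M.gen_four hx hx0 r) (M.gen_four hy hy0 t),
      M.gen_coord hs hs0, M.gen_coord hx hx0, M.gen_coord hy hy0]
    exact add_self_zero M.hF _
  have hpq : (M.gen x r * M.gen y t) * (M.gen x r * M.gen y t) = 1 := by
    set v : G := ((s * p : ↥(cen a b)) : G)
    have hps : M.gen x r * M.gen y t = M.gen (x + y) 0 * v := by
      show _ = M.gen (x + y) 0 * (M.gen (x + y) 0 * (M.gen x r * M.gen y t))
      rw [← mul_assoc (M.gen (x + y) 0), M.gen_sq hs hs0, one_mul]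
    rw [hps]
    calc M.gen (x + y) 0 * v * (M.gen (x + y) 0 * v) = M.gen (x + y) 0 * (v * M.gen (x + y) 0) * v := by group
      _ = (M.gen (x + y) 0 * M.gen (x + y) 0) * (v * v) := by
          rw [← (M.commute_pair hsp (show M.gen (x + y) 0 ∈ cen a b from s.2)).eq]; group
      _ = 1 := by rw [M.gen_sq hs hs0, M.pair_sq hsp, one_mul]
  show M.gen x r * M.gen y t = M.gen y t * M.gen x r
  rw [eq_inv_of_mul_eq_one_left hpq, mul_inv_rev, inv_eq_of_mul_eq_one_right (M.gen_sq hx hx0 r),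
    inv_eq_of_mul_eq_one_right (M.gen_sq hy hy0 t)]

/-- commutators of products depend only on the product of the centres -/
theorem gen_comm_congr {x y x' y' : Fin 4 → F} (hx : h₄⟪x, x⟫ = 0) (hx0 : x ≠ 0) (hy : h₄⟪y, y⟫ = 0)
    (hy0 : y ≠ 0) (hx' : h₄⟪x', x'⟫ = 0) (hx0' : x' ≠ 0) (hy' : h₄⟪y', y'⟫ = 0) (hy0' : y' ≠ 0)
    (h : h₄⟪x, y⟫ = h₄⟪x', y'⟫) (hne : h₄⟪x, y⟫ ≠ 0) (r' t' : F) :
    ⁅M.gen x 0, M.gen y 0⁆ = ⁅M.gen x' r', M.gen y' t'⁆ := by
  set c := h₄⟪x, y⟫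
  have hyp : ∀ {u v : Fin 4 → F}, h₄⟪u, u⟫ = 0 → h₄⟪v, v⟫ = 0 → h₄⟪u, v⟫ = c →
      Lib.Unitary.Hyp 2 u (c • v) := fun {u v} hu hv huv =>
    ⟨hu, by rw [herm_smul_left, herm_smul_right, hv, mul_zero, mul_zero],
      by rw [herm_smul_right, huv, mul_comm]; exact norm_eq_one M.hF hne⟩
  obtain ⟨A, hdet, hA1, hA2⟩ := exists_SU_hyp M.hF (by norm_num) (hyp hx hy rfl) (hyp hx' hy' h.symm)
  set A' : Cfsg.SU 4 F 2 := ⟨⟨A.1.1, hdet⟩, A.2⟩
  have hA1' : act A' x = x' := hA1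
  have hA2' : act A' y = y' := by
    have : act A' (c • y) = c • y' := hA2
    rw [act_smul] at this
    exact smul_right_injective _ hne this
  obtain ⟨k, hk⟩ := M.four_surjective A'
  have hconj : ∀ {u : Fin 4 → F}, h₄⟪u, u⟫ = 0 → u ≠ 0 →
      ∃ s : F, (k : G) * M.gen u 0 * (k : G)⁻¹ = M.gen (act A' u) s := by
    intro u hu hu0
    obtain ⟨s, hs⟩ := act_lin M.hF M.hfr (M.pair k) u
    rw [show (proj M.hF M.hfr) (M.pair k) = A' from hk] at hs
    refine ⟨s, ?_⟩
    have h1 : ∀ t : F, (k : G) * M.C.pt (lin M.g u + t • M.e) * (k : G)⁻¹ =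
        M.C.pt (lin M.g (act A' u) + (s + t) • M.e) := by
      intro t
      rw [M.pair_conj k (M.iso_vec hu t) (M.vec_ne hu0 t)]
      refine congrArg _ ?_
      rw [act_add, act_smul, hs, show act (M.pair k : Cfsg.SU 6 F 2) M.e = M.e from (M.pair k).2, add_smul,
        add_assoc]
    calc (k : G) * M.gen u 0 * (k : G)⁻¹
        = ((k : G) * M.C.pt (lin M.g u + (0 : F) • M.e) * (k : G)⁻¹) *
          ((k : G) * M.C.pt (lin M.g u + ((0 : F) + 1) • M.e) * (k : G)⁻¹) := by rw [gen]; group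
      _ = M.gen (act A' u) s := by rw [h1, h1, zero_add, add_zero]; rfl
  obtain ⟨s₁, hs₁⟩ := hconj hx hx0
  obtain ⟨s₂, hs₂⟩ := hconj hy hy0
  rw [hA1'] at hs₁
  rw [hA2'] at hs₂
  have h2 : ⁅M.gen x' s₁, M.gen y' s₂⁆ = ⁅M.gen x 0, M.gen y 0⁆ := by
    rw [← hs₁, ← hs₂, show ⁅(k : G) * M.gen x 0 * (k : G)⁻¹, (k : G) * M.gen y 0 * (k : G)⁻¹⁆ =
      (k : G) * ⁅M.gen x 0, M.gen y 0⁆ * (k : G)⁻¹ by simp only [commutatorElement_def]; group,
      (M.commute_pair (M.comm_mem_pair (M.gen_mem_core hx hx0 0) (M.gen_mem_core hy hy0 0)) k.2).eq,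
      mul_inv_cancel_right]
  -- the base points do not matter
  have hshift : ∀ {u : Fin 4 → F} (hu : h₄⟪u, u⟫ = 0) (hu0 : u ≠ 0) (p q : F) {z : G}, z ∈ M.core →
      ⁅M.gen u p, z⁆ = ⁅M.gen u q, z⁆ := by
    intro u hu hu0 p q z hz
    set v : ↥(cen a b) := ⟨M.gen u q, M.gen_mem_cen hu hu0 q⟩ * ⟨M.gen u p, M.gen_mem_cen hu hu0 p⟩
    have hv : (v : G) ∈ Subgroup.closure ({a, b} : Set G) := by
      refine M.mem_pair_of_coord (by rw [map_mul, M.gen_four hu hu0, M.gen_four hu hu0, one_mul]) ?_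
      rw [M.coord_mul (M.gen_four hu hu0 q) (M.gen_four hu hu0 p), M.gen_coord hu hu0, M.gen_coord hu hu0]
      exact add_self_zero M.hF _
    have he : M.gen u p = M.gen u q * (v : G) := by
      show _ = M.gen u q * (M.gen u q * M.gen u p)
      rw [← mul_assoc, M.gen_sq hu hu0, one_mul]
    have hvz : ⁅(v : G), z⁆ = 1 :=
      commutatorElement_eq_one_iff_commute.mpr (M.commute_pair hv (M.core_le hz)).symm
    rw [he, commutator_mul_left (by rw [hvz]; exact Commute.one_right _), hvz, one_mul]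
  rw [← h2, hshift hx' hx0' r' s₁ (M.gen_mem_core hy' hy0' t'),
    ← M.comm_swap (M.gen_mem_core hx' hx0' s₁) (M.gen_mem_core hy' hy0' t'),
    hshift hy' hy0' t' s₂ (M.gen_mem_core hx' hx0' s₁),
    M.comm_swap (M.gen_mem_core hx' hx0' s₁) (M.gen_mem_core hy' hy0' s₂)]

include M in
theorem four_cases {o : F} (ho0 : o ≠ 0) (ho1 : o ≠ 1) (c : F) : c = 0 ∨ c = 1 ∨ c = o ∨ c = o ^ 2 := by
  classical
  by_contra h
  push Not at h
  have hoo : o ^ 2 ≠ o := fun he => ho1 (mul_left_cancel₀ ho0 (by rw [mul_one, ← sq, he]))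
  have ho2 : o ^ 2 ≠ 1 := fun he => ho1 (by
    have h3 : (o - 1) * (o - 1) = 0 := by
      linear_combination he - (o - 1) * two_eq_zero M.hF
    exact sub_eq_zero.mp (mul_self_eq_zero.mp h3))
  have hcard : ({0, 1, o, o ^ 2, c} : Finset F).card = 5 := by
    rw [Finset.card_insert_of_notMem, Finset.card_insert_of_notMem, Finset.card_insert_of_notMem,
      Finset.card_pair (Ne.symm h.2.2.2)] <;> simp [Ne.symm h.1, Ne.symm h.2.1, Ne.symm h.2.2.1, ho0.symm,
        Ne.symm ho1, Ne.symm hoo, Ne.symm ho2, Ne.symm (pow_ne_zero 2 ho0)]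
  have := Finset.card_le_univ ({0, 1, o, o ^ 2, c} : Finset F)
  rw [hcard, M.hF] at this
  omega

include M in
/-- one element carries all commutators -/
theorem exists_comm : ∃ x y : G, x ∈ M.core ∧ y ∈ M.core ∧ ⁅x, y⁆ ≠ 1 ∧
    ∀ u ∈ M.core, ∀ v ∈ M.core, ⁅u, v⁆ = 1 ∨ ⁅u, v⁆ = ⁅x, y⁆ := by
  obtain ⟨o, ho0, ho1, hoe⟩ := exists_omega M.hF
  obtain ⟨x, hx, hx0⟩ := exists_iso_four M.hF
  obtain ⟨y₁, hxy₁⟩ := Lib.Unitary.exists_hyp M.hF hx0 hx
  set y := o ^ 2 • y₁
  have hy : h₄⟪y, y⟫ = 0 := by rw [herm_smul_left, herm_smul_right, hxy₁.2.1, mul_zero, mul_zero]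
  have hxy : h₄⟪x, y⟫ = o := by
    rw [herm_smul_right, hxy₁.2.2, mul_one]
    linear_combination o * Lib.UnitaryFour.Transvection.cube_eq_one M.hF ho0
  have hy0 : y ≠ 0 := fun h => ho0 (by rw [← hxy, h, herm_zero_right _ M.hF])
  set t := ⁅M.gen x 0, M.gen y 0⁆
  have hgen : ∀ (u : Fin 4 → F) (r : F), h₄⟪u, u⟫ = 0 → u ≠ 0 → ∀ (v : Fin 4 → F) (s : F), h₄⟪v, v⟫ = 0 →
      v ≠ 0 → ⁅M.gen u r, M.gen v s⁆ = 1 ∨ ⁅M.gen u r, M.gen v s⁆ = t := by
    intro u r hu hu0 v s hv hv0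
    rcases M.four_cases ho0 ho1 h₄⟪u, v⟫ with h | h | h | h
    · exact Or.inl (commutatorElement_eq_one_iff_commute.mpr (M.gen_comm_zero hu hu0 hv hv0 h r s))
    · exact Or.inl (commutatorElement_eq_one_iff_commute.mpr (M.gen_comm_one hu hu0 hv hv0 h r s))
    · exact Or.inr (M.gen_comm_congr hx hx0 hy hy0 hu hu0 hv hv0 (hxy.trans h.symm) (by rw [hxy]; exact ho0) r s).symm
    · refine Or.inr ?_
      rw [M.comm_swap (M.gen_mem_core hv hv0 s) (M.gen_mem_core hu hu0 r)]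
      have hvu : h₄⟪v, u⟫ = o := by
        rw [← herm_conj u v M.hF, h]
        linear_combination o * Lib.UnitaryFour.Transvection.cube_eq_one M.hF ho0
      exact (M.gen_comm_congr hx hx0 hy hy0 hv hv0 hu hu0 (hxy.trans hvu.symm) (by rw [hxy]; exact ho0) s r).symm
  have htV : t ∈ Subgroup.closure ({a, b} : Set G) :=
    M.comm_mem_pair (M.gen_mem_core hx hx0 0) (M.gen_mem_core hy hy0 0)
  have hT : ∀ {c : G}, c ∈ Subgroup.zpowers t → c = 1 ∨ c = t := by
    rintro c ⟨n, rfl⟩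
    have h2 : t ^ (2 : ℤ) = 1 := by rw [zpow_two]; exact M.pair_sq htV
    rcases Int.even_or_odd' n with ⟨m, rfl | rfl⟩
    · exact Or.inl (show t ^ (2 * m) = 1 by rw [zpow_mul, h2, one_zpow])
    · exact Or.inr (show t ^ (2 * m + 1) = t by rw [zpow_add, zpow_mul, h2, one_zpow, one_mul, zpow_one])
  have hl : ∀ w ∈ M.gens, ∀ z ∈ M.core,
      (∀ (u : Fin 4 → F) (r : F), h₄⟪u, u⟫ = 0 → u ≠ 0 → ⁅M.gen u r, z⁆ ∈ Subgroup.zpowers t) →
        ⁅w, z⁆ ∈ Subgroup.zpowers t := by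
    intro w hw z hz hbase
    induction hw using Subgroup.closure_induction with
    | mem u hu => obtain ⟨x', r', h1, h2, rfl⟩ := hu; exact hbase x' r' h1 h2
    | one => rw [commutatorElement_one_left]; exact one_mem _
    | mul p q hp hq ihp ihq =>
      rw [commutator_mul_left (M.commute_pair (M.comm_mem_pair (M.gens_le hq) hz) (M.core_le (M.gens_le hp)))]
      exact mul_mem ihq ihp
    | inv p hp ih =>
      rw [commutator_inv_left (M.commute_pair (M.comm_mem_pair (M.gens_le hp) hz) (M.core_le (M.gens_le hp)))]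
      exact inv_mem ih
  have hgg : ∀ w ∈ M.gens, ∀ w' ∈ M.gens, ⁅w, w'⁆ ∈ Subgroup.zpowers t := by
    intro w hw w' hw'
    refine hl w hw w' (M.gens_le hw') fun u r hu hu0 => ?_
    rw [M.comm_swap (M.gens_le hw') (M.gen_mem_core hu hu0 r)]
    refine hl w' hw' _ (M.gen_mem_core hu hu0 r) fun v s hv hv0 => ?_
    rcases hgen v s hv hv0 u r hu hu0 with h | h <;> rw [h]
    exacts [one_mem _, Subgroup.mem_zpowers t]
  refine ⟨_, _, M.gen_mem_core hx hx0 0, M.gen_mem_core hy hy0 0, fun h1 => ?_, fun u hu v hv => ?_⟩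
  · -- the images of the two products do not commute
    have hcm := congrArg (fun s : ↥(PS (q := 2) M.e) => act (s : Cfsg.SU 6 F 2) M.f) (congrArg M.pair
      (show (⟨M.gen x 0, M.gen_mem_cen hx hx0 0⟩ : ↥(cen a b)) * ⟨M.gen y 0, M.gen_mem_cen hy hy0 0⟩ =
        ⟨M.gen y 0, M.gen_mem_cen hy hy0 0⟩ * ⟨M.gen x 0, M.gen_mem_cen hx hx0 0⟩ from
        Subtype.ext (commutatorElement_eq_one_iff_mul_comm.mp h1)))
    simp only [map_mul, Subgroup.coe_mul, act_mul] at hcm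
    set X : ↥(cen a b) := ⟨M.gen x 0, M.gen_mem_cen hx hx0 0⟩ with hX
    set Y : ↥(cen a b) := ⟨M.gen y 0, M.gen_mem_cen hy hy0 0⟩ with hY
    have hXc : M.coord X = x := M.gen_coord hx hx0 0
    have hYc : M.coord Y = y := M.gen_coord hy hy0 0
    have hXe : act (M.pair X : Cfsg.SU 6 F 2) M.e = M.e := (M.pair X).2
    have hYe : act (M.pair Y : Cfsg.SU 6 F 2) M.e = M.e := (M.pair Y).2
    obtain ⟨dX, hXf⟩ : ∃ d : F, act (M.pair X : Cfsg.SU 6 F 2) M.f = d • M.e + M.f + lin M.g x := by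
      refine ⟨h⟪act (M.pair X : Cfsg.SU 6 F 2) M.f, M.f⟫, ?_⟩
      conv_lhs => rw [M.hfr.expand M.hF (act _ M.f), herm_act M.hF M.hfr hXe, one_smul]
      rw [← hXc]; rfl
    obtain ⟨dY, hYf⟩ : ∃ d : F, act (M.pair Y : Cfsg.SU 6 F 2) M.f = d • M.e + M.f + lin M.g y := by
      refine ⟨h⟪act (M.pair Y : Cfsg.SU 6 F 2) M.f, M.f⟫, ?_⟩
      conv_lhs => rw [M.hfr.expand M.hF (act _ M.f), herm_act M.hF M.hfr hYe, one_smul]
      rw [← hYc]; rfl
    rw [hYf, hXf, act_add, act_add, act_add, act_add, act_smul, act_smul, hXe, hYe, hXf, hYf,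
      M.act_coord (M.gen_four hx hx0 0), M.act_coord (M.gen_four hy hy0 0), hXc, hYc] at hcm
    have h2 := congrArg (fun v => h⟪v, M.f⟫) hcm
    simp only [herm_add_left, herm_smul_left, M.hfr.hyp.2.1, M.hfr.hyp.2.2, (M.hfr.lin_orth _).2, mul_one,
      add_zero, zero_add] at h2
    have hyx : h₄⟪y, x⟫ = o ^ 2 := by rw [← herm_conj x y M.hF, hxy]
    rw [hxy, hyx] at h2
    have h3 : o ^ 2 = o := by linear_combination h2
    exact ho1 (mul_left_cancel₀ ho0 (by rw [mul_one, ← sq, h3]))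
  · obtain ⟨w, hw, v₁, hv₁, rfl⟩ := M.core_eq hu
    obtain ⟨w', hw', v₂, hv₂, rfl⟩ := M.core_eq hv
    have e1 : ⁅w * v₁, w' * v₂⁆ = ⁅w, w'⁆ := by
      have hv₁' : ∀ z ∈ M.core, ⁅v₁, z⁆ = 1 := fun z hz =>
        commutatorElement_eq_one_iff_commute.mpr (M.commute_pair hv₁ (M.core_le hz)).symm
      have hv₂' : ∀ z ∈ M.core, ⁅v₂, z⁆ = 1 := fun z hz =>
        commutatorElement_eq_one_iff_commute.mpr (M.commute_pair hv₂ (M.core_le hz)).symm
      rw [commutator_mul_left (by rw [hv₁' _ hv]; exact Commute.one_right _), hv₁' _ hv, one_mul,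
        ← commutatorElement_inv (w' * v₂) w, commutator_mul_left (by rw [hv₂' _ (M.gens_le hw)]; exact Commute.one_right _),
        hv₂' _ (M.gens_le hw), one_mul, commutatorElement_inv]
    rw [e1]
    exact hT (hgg w hw w' hw')

include M in
theorem comm_or {u v : G} (hu : u ∈ M.core) (hv : v ∈ M.core) : ⁅u, v⁆ = 1 ∨ ⁅u, v⁆ = a * b := by
  obtain ⟨x, y, hx, hy, ht, hall⟩ := M.exists_comm
  set t := ⁅x, y⁆
  suffices he : t = a * b by rw [← he]; exact hall u hu v hv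
  obtain ⟨g₀, hga, hgb⟩ := exists_swap M.S M.ha M.b_mem
  have hg₀C : g₀ ∈ cenProd a b := mem_cenProd.mpr (by
    show g₀ * (a * b) = a * b * g₀
    calc g₀ * (a * b) = (g₀ * a * g₀⁻¹) * (g₀ * b * g₀⁻¹) * g₀ := by group
      _ = a * b * g₀ := by rw [hga, hgb, M.b_mem.2.2.eq])
  have hfix : g₀ * t * g₀⁻¹ = t := by
    have e : g₀ * t * g₀⁻¹ = ⁅g₀ * x * g₀⁻¹, g₀ * y * g₀⁻¹⁆ := by
      simp only [t, commutatorElement_def]; group
    rcases hall _ (M.core_conj hg₀C hx) _ (M.core_conj hg₀C hy) with h | h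
    · rw [← e] at h
      exact absurd (by simpa [mul_inv_eq_one] using h) ht
    · rw [e, h]
  have hne : a ≠ b := Ne.symm M.b_mem.2.1
  have hcases : t = 1 ∨ t = a ∨ t = b ∨ t = a * b := by
    have hv := M.comm_mem_pair hx hy
    have hi : ∀ s ∈ ({1, a, b, a * b} : Set G), ∀ r ∈ ({a, b} : Set G), r * s ∈ ({1, a, b, a * b} : Set G) := by
      have e1 : b * a = a * b := M.b_mem.2.2.eq.symm
      have e2 : a * (a * b) = b := by rw [← mul_assoc, mul_self M.S.hD.1 M.ha, one_mul]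
      have e3 : b * (a * b) = a := by rw [← mul_assoc, e1, mul_assoc, mul_self M.S.hD.1 M.b_mem.1, mul_one]
      rintro s (rfl | rfl | rfl | rfl) r (rfl | rfl) <;>
        simp [mul_self M.S.hD.1 M.ha, mul_self M.S.hD.1 M.b_mem.1, e1, e2, e3]
    show t ∈ ({1, a, b, a * b} : Set G)
    revert hv
    show t ∈ _ → _
    generalize t = w
    intro hv
    induction hv using Subgroup.closure_induction_left with
    | one => simp
    | mul_left r hr s _ ih => exact hi s ih r hr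
    | inv_mul_cancel r hr s _ ih =>
      have hr' : r⁻¹ = r := by
        rcases hr with rfl | rfl
        exacts [inv_eq M.S.hD.1 M.ha, inv_eq M.S.hD.1 M.b_mem.1]
      rw [hr']
      exact hi s ih r hr
  rcases hcases with h | h | h | h
  · exact absurd h ht
  · rw [h, hga] at hfix; exact absurd hfix.symm hne
  · rw [h, hgb] at hfix; exact absurd hfix hne
  · exact h

include M in
theorem sq_or {u : G} (hu : u ∈ M.core) : u * u = 1 ∨ u * u = a * b := by
  have hab : a * b ∈ Subgroup.closure ({a, b} : Set G) :=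
    mul_mem (Subgroup.subset_closure (by simp)) (Subgroup.subset_closure (by simp))
  have hsq := M.pair_sq hab
  obtain ⟨w, hw, v, hv, rfl⟩ := M.core_eq hu
  have e : w * v * (w * v) = w * w := by
    calc w * v * (w * v) = w * (v * w) * v := by group
      _ = (w * w) * (v * v) := by rw [← (M.commute_pair hv (M.core_le (M.gens_le hw))).eq]; group
      _ = w * w := by rw [M.pair_sq hv, mul_one]
  rw [e]
  clear e hu
  induction hw using Subgroup.closure_induction with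
  | mem z hz => obtain ⟨x, r, hx, hx0, rfl⟩ := hz; exact Or.inl (M.gen_sq hx hx0 r)
  | one => exact Or.inl (one_mul 1)
  | mul p q hp hq ihp ihq =>
    have hpK := M.core_le (M.gens_le hp)
    have hqK := M.core_le (M.gens_le hq)
    have hc : Commute (p : G) ⁅q, p⁆ := M.commute_pair (M.comm_mem_pair (M.gens_le hq) (M.gens_le hp)) hpK
    have e : p * q * (p * q) = (p * p) * (⁅q, p⁆ * (q * q)) := by
      calc p * q * (p * q) = p * ⁅q, p⁆ * (p * q) * q := by rw [commutatorElement_def]; group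
        _ = p * (⁅q, p⁆ * p) * (q * q) := by group
        _ = _ := by rw [← hc.eq]; group
    rw [e]
    rcases ihp with h1 | h1 <;> rcases ihq with h2 | h2 <;>
      rcases M.comm_or (M.gens_le hq) (M.gens_le hp) with h3 | h3 <;> simp [h1, h2, h3, hsq]
  | inv p _ ih =>
    rw [← mul_inv_rev]
    rcases ih with h | h <;> rw [h]
    · exact Or.inl inv_one
    · exact Or.inr (inv_eq_of_mul_eq_one_right hsq)

include M in
/-- the centre of the core is the pair group -/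
theorem mem_pair_of_central_core {z : G} (hz : z ∈ M.core) (hc : ∀ w ∈ M.core, Commute z w) :
    z ∈ Subgroup.closure ({a, b} : Set G) := by
  obtain ⟨hzK, hz1⟩ := M.mem_core.mp hz
  refine M.mem_pair_of_coord (k := ⟨z, hzK⟩) hz1 ?_
  set Z : ↥(cen a b) := ⟨z, hzK⟩ with hZ
  set w := M.coord Z
  have key : ∀ y : Fin 4 → F, h₄⟪y, y⟫ = 0 → h₄⟪y, w⟫ = 0 := by
    intro y hy
    by_cases hy0 : y = 0
    · rw [hy0]; exact Lib.Unitary.herm_zero_left _
    -- the product is symmetric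
    have sym : ∀ u : Fin 4 → F, h₄⟪u, u⟫ = 0 → u ≠ 0 → h₄⟪u, w⟫ = h₄⟪w, u⟫ := by
      intro u hu hu0
      set Y : ↥(cen a b) := ⟨M.gen u 0, M.gen_mem_cen hu hu0 0⟩ with hY
      have hcm := congrArg (fun s : ↥(PS (q := 2) M.e) => act (s : Cfsg.SU 6 F 2) M.f) (congrArg M.pair
        (show Z * Y = Y * Z from Subtype.ext (hc _ (M.gen_mem_core hu hu0 0)).eq))
      simp only [map_mul, Subgroup.coe_mul, act_mul] at hcm
      have hYc : M.coord Y = u := M.gen_coord hu hu0 0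
      have hZe : act (M.pair Z : Cfsg.SU 6 F 2) M.e = M.e := (M.pair Z).2
      have hYe : act (M.pair Y : Cfsg.SU 6 F 2) M.e = M.e := (M.pair Y).2
      have hexp : ∀ k : ↥(cen a b), act (M.pair k : Cfsg.SU 6 F 2) M.f =
          h⟪act (M.pair k : Cfsg.SU 6 F 2) M.f, M.f⟫ • M.e + M.f + lin M.g (M.coord k) := fun k => by
        conv_lhs => rw [M.hfr.expand M.hF (act _ M.f), herm_act M.hF M.hfr (M.pair k).2, one_smul]
        rfl
      rw [hexp Y, act_add, act_add, act_smul, hZe, hexp Z] at hcm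
      rw [act_add, act_add, act_smul, hYe, hexp Y, M.act_coord (M.gen_four hu hu0 0), M.act_coord hz1,
        hYc] at hcm
      have h2 := congrArg (fun v => h⟪v, M.f⟫) hcm
      simp only [herm_add_left, herm_smul_left, M.hfr.hyp.2.1, M.hfr.hyp.2.2, (M.hfr.lin_orth _).2, mul_one,
        add_zero, zero_add] at h2
      linear_combination h2
    obtain ⟨o, ho0, ho1, hoe⟩ := exists_omega M.hF
    have h1 := sym y hy hy0
    have h2 := sym (o • y) (by rw [herm_smul_left, herm_smul_right, hy, mul_zero, mul_zero])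
      (smul_ne_zero ho0 hy0)
    rw [herm_smul_left, herm_smul_right, ← h1] at h2
    have : (o - o ^ 2) * h₄⟪y, w⟫ = 0 := by linear_combination h2
    refine (mul_eq_zero.mp this).resolve_left fun h0 => ho1 ?_
    exact mul_left_cancel₀ ho0 (by linear_combination -h0)
  refine herm_nondeg_left M.hF fun u => ?_
  have hmem : u ∈ Submodule.span F {v : Fin 4 → F | h₄⟪v, v⟫ = 0} := by
    have : Submodule.span F {v : Fin 4 → F | h₄⟪v, v⟫ = 0} = ⊤ := by
      rw [eq_top_iff, ← (Pi.basisFun F (Fin 4)).span_eq, Submodule.span_le]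
      rintro _ ⟨i, rfl⟩
      rw [Pi.basisFun_apply]
      exact single_mem_span M.hF (by norm_num) i
    rw [this]; exact Submodule.mem_top
  induction hmem using Submodule.span_induction with
  | mem p hp => exact herm_eq_zero_symm M.hF (key p hp)
  | zero => exact herm_zero_right _ M.hF
  | add p q _ _ hp hq => rw [herm_add_right _ _ _ M.hF, hp, hq, add_zero]
  | smul c p _ hp => rw [herm_smul_right, hp, mul_zero]

include M in
/-- the core contains its centraliser -/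
theorem centralizer_core {c : G} (hc : ∀ w ∈ M.core, Commute c w) : c ∈ M.core := by
  have hcK : c ∈ cen a b := mem_cen.mpr ⟨hc a M.a_mem_core, hc b M.b_mem_core⟩
  refine M.mem_core.mpr ⟨hcK, ?_⟩
  set k : ↥(cen a b) := ⟨c, hcK⟩ with hk
  set A := M.four k
  refine ext' fun y => ?_
  rw [act_one]
  have key : ∀ x : Fin 4 → F, h₄⟪x, x⟫ = 0 → h₄⟪act A y - y, x⟫ = 0 := by
    intro x hx
    by_cases hx0 : x = 0
    · rw [hx0]; exact herm_zero_right _ M.hF
    set X : ↥(cen a b) := ⟨M.gen x 0, M.gen_mem_cen hx hx0 0⟩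
    obtain ⟨r, hr⟩ := act_lin M.hF M.hfr (M.pair k) y
    have hcm := congrArg (fun s : ↥(PS (q := 2) M.e) => act (s : Cfsg.SU 6 F 2) (lin M.g y)) (congrArg M.pair
      (show k * X = X * k from Subtype.ext (hc _ (M.gen_mem_core hx hx0 0)).eq))
    simp only [map_mul, Subgroup.coe_mul, act_mul] at hcm
    rw [M.act_coord (M.gen_four hx hx0 0), M.gen_coord hx hx0 0, act_add, act_smul, hr,
      show act (M.pair k : Cfsg.SU 6 F 2) M.e = M.e from (M.pair k).2, act_add, act_smul,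
      M.act_coord (M.gen_four hx hx0 0), M.gen_coord hx hx0 0,
      show act (M.pair X : Cfsg.SU 6 F 2) M.e = M.e from (M.pair X).2] at hcm
    have h2 := congrArg (fun v => h⟪v, M.f⟫) hcm
    simp only [herm_add_left, herm_smul_left, M.hfr.hyp.2.2, (M.hfr.lin_orth _).2, mul_one, zero_add] at h2
    show h₄⟪act A y - y, x⟫ = 0
    rw [herm_sub_left, sub_eq_zero]
    have h3 : A = (proj M.hF M.hfr) (M.pair k) := rfl
    rw [← h3] at h2
    linear_combination -h2
  refine sub_eq_zero.mp (herm_nondeg_left M.hF fun u => ?_)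
  have hmem : u ∈ Submodule.span F {v : Fin 4 → F | h₄⟪v, v⟫ = 0} := by
    have : Submodule.span F {v : Fin 4 → F | h₄⟪v, v⟫ = 0} = ⊤ := by
      rw [eq_top_iff, ← (Pi.basisFun F (Fin 4)).span_eq, Submodule.span_le]
      rintro _ ⟨i, rfl⟩
      rw [Pi.basisFun_apply]
      exact single_mem_span M.hF (by norm_num) i
    rw [this]; exact Submodule.mem_top
  induction hmem using Submodule.span_induction with
  | mem p hp => exact key p hp
  | zero => exact herm_zero_right _ M.hF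
  | add p q _ _ hp hq => rw [herm_add_right _ _ _ M.hF, hp, hq, add_zero]
  | smul c p _ hp => rw [herm_smul_right, hp, mul_zero]

end Model

end Cfsg.Agent.Lib.FischerMTypes.PairModelM22
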