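import Mathlib
import Cfsg.Agent.Lib.FischerMTypes.PairCoreM22
import Cfsg.Agent.Lib.FStarTools.Basic
import Cfsg.Agent.Lib.FusionP3.GenExtra.Iso

/-!
Type M(22): the generalised Fitting subgroup of the centraliser of a product of two commuting
transpositions is the core, a product of a group of order two and an extraspecial group of order 2^9.
-/

set_option autoImplicit false
set_option linter.style.haveILetI false
set_option linter.unusedSectionVars false

namespace Cfsg.Agent.Lib.FischerMTypes.PairModelM22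

open Cfsg.Agent.Lib.FischerMTypes.Basic Cfsg.Agent.Lib.FischerMTypes.Primitive
  Cfsg.Agent.Lib.FischerMTypes.Levels
open Cfsg.Agent.Lib.Components Cfsg.Agent.Lib.FStarTools
open scoped commutatorElement

theorem zmod_two_cases : ∀ x : ZMod 2, x = 0 ∨ x = 1 := by decide

variable {G : Type*} [Group G] [Finite G] {D : Set G}
variable {F : Type} [Field F] [Fintype F]
variable {a b : G} (M : Model D F a b)

namespace Model

theorem core_isPGroup : IsPGroup 2 ↥(M.core.subgroupOf (cenProd a b)) :=
  IsPGroup.iff_card.mpr ⟨10, by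
    rw [Nat.card_congr (Subgroup.subgroupOfEquivOfLe M.core_le_cenProd).toEquiv, M.card_core]⟩

include M in
theorem genFitting_eq : Cfsg.generalizedFittingSubgroup ↥(cenProd a b) = M.core.subgroupOf (cenProd a b) := by
  classical
  haveI hn := M.core_normal_prod
  set C := cenProd a b
  set N := M.core.subgroupOf C
  have hsolN : Group.IsNilpotent ↥N := M.core_isPGroup.isNilpotent
  have hNF : N ≤ Cfsg.fittingSubgroup ↥C := Cores.le_fittingSubgroup hsolN
  have hcent : Subgroup.centralizer (N : Set ↥C) ≤ N := by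
    intro c hc
    rw [Subgroup.mem_subgroupOf]
    refine M.centralizer_core fun w hw => ?_
    have := Subgroup.mem_centralizer_iff.mp hc ⟨w, M.core_le_cenProd hw⟩ (by
      show _ ∈ N; rw [Subgroup.mem_subgroupOf]; exact hw)
    exact (congrArg Subtype.val this).symm
  have hlay : Cfsg.layer ↥C = ⊥ := by
    by_contra hne
    obtain ⟨K, hK⟩ := Layer.layer_ne_bot_iff.mp hne
    haveI : Group.IsSolvable ↥N := by have := hsolN; infer_instance
    refine Component.not_le_of_isSolvable (N := N) hK ?_
    exact (Subgroup.le_centralizer_iff.mp (hNF.trans (Component.fittingSubgroup_le_centralizer hK))).trans hcent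
  rw [Cfsg.generalizedFittingSubgroup, hlay, bot_sup_eq]
  refine le_antisymm ?_ hNF
  -- the image of the Fitting subgroup in the quotient
  obtain ⟨e⟩ := M.quotient_equiv
  haveI hsimple : IsSimpleGroup (Cfsg.PSU 4 F 2) :=
    Cfsg.Agent.S0283.result (F := F) (q := 2) M.hF 4 (by norm_num) (by norm_num)
  set A := (Cfsg.fittingSubgroup ↥C).map (e.toMonoidHom.comp (QuotientGroup.mk' N)) with hA
  have hsurj : Function.Surjective (e.toMonoidHom.comp (QuotientGroup.mk' N)) :=
    e.surjective.comp (QuotientGroup.mk'_surjective N)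
  haveI : (Cfsg.fittingSubgroup ↥C).Normal := inferInstance
  haveI hAn : A.Normal := Subgroup.Normal.map inferInstance _ hsurj
  haveI hAsol : Group.IsSolvable ↥A := by
    haveI := isSolvable_fitting (X := ↥C)
    exact Group.isSolvable_of_surjective ((e.toMonoidHom.comp (QuotientGroup.mk' N)).subgroupMap_surjective _)
  -- inner automorphisms
  have hAbot : A = ⊥ := by
    set I := (MulAut.conj : Cfsg.PSU 4 F 2 →* MulAut (Cfsg.PSU 4 F 2)).range
    have hcz : Subgroup.center (Cfsg.PSU 4 F 2) = ⊥ := by
      rcases IsSimpleGroup.eq_bot_or_eq_top_of_normal (Subgroup.center (Cfsg.PSU 4 F 2)) inferInstance with h | h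
      · exact h
      · exfalso
        have hcomm : ∀ x y : Cfsg.SU 4 F 2, x * y = y * x := fun x y => (psuEquiv M.hF).injective (by
          rw [map_mul, map_mul]
          exact (Subgroup.mem_center_iff.mp (h ▸ Subgroup.mem_top (psuEquiv M.hF x)) _).symm)
        have h1 : Subgroup.center (Cfsg.SU 4 F 2) = ⊤ :=
          eq_top_iff.mpr fun x _ => Subgroup.mem_center_iff.mpr fun y => hcomm y x
        have h2 := card_SU_four (F := F) M.hF
        rw [center_SU_four M.hF] at h1
        rw [← Subgroup.card_top, ← h1, Subgroup.card_bot] at h2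
        norm_num at h2
    set J := A.comap (MulAut.conj : Cfsg.PSU 4 F 2 →* MulAut (Cfsg.PSU 4 F 2))
    haveI : J.Normal := hAn.comap _
    have hinj : Function.Injective (MulAut.conj : Cfsg.PSU 4 F 2 →* MulAut (Cfsg.PSU 4 F 2)) := by
      rw [injective_iff_map_eq_one]
      intro x hx
      rw [← Subgroup.mem_bot, ← hcz, Subgroup.mem_center_iff]
      intro y
      have := MulEquiv.ext_iff.mp hx y
      rw [MulAut.conj_apply, MulAut.one_apply, mul_inv_eq_iff_eq_mul] at this
      exact this.symm
    rcases IsSimpleGroup.eq_bot_or_eq_top_of_normal J inferInstance with hJ | hJ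
    · rw [Subgroup.eq_bot_iff_forall]
      intro β hβ
      refine MulEquiv.ext fun x => ?_
      rw [MulAut.one_apply]
      have hc : β * MulAut.conj x * β⁻¹ = MulAut.conj (β x) := by
        refine MulEquiv.ext fun y => ?_
        show β (x * (β⁻¹ y) * x⁻¹) = β x * y * (β x)⁻¹
        rw [map_mul, map_mul, map_inv, show β (β⁻¹ y) = y from β.apply_symm_apply y]
      have hmem : MulAut.conj (β x * x⁻¹) ∈ A := by
        rw [map_mul, ← hc, map_inv, mul_assoc, mul_assoc]
        refine mul_mem hβ ?_
        rw [← mul_assoc]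
        exact hAn.conj_mem _ (inv_mem hβ) _
      have : β x * x⁻¹ ∈ J := hmem
      rw [hJ, Subgroup.mem_bot, mul_inv_eq_one] at this
      exact this
    · exfalso
      haveI : Group.IsSolvable (Cfsg.PSU 4 F 2) := by
        haveI : Group.IsSolvable ↥J := Group.isSolvable_of_isSolvable_injective
          (f := ((MulAut.conj : Cfsg.PSU 4 F 2 →* MulAut (Cfsg.PSU 4 F 2)).comp J.subtype).codRestrict A fun x => x.2)
          (fun x y hxy => Subtype.ext (hinj (congrArg Subtype.val hxy)))
        exact Group.isSolvable_of_surjective (f := J.subtype) fun x => ⟨⟨x, hJ ▸ Subgroup.mem_top x⟩, rfl⟩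
      have hcm := (IsSimpleGroup.comm_iff_isSolvable (G := Cfsg.PSU 4 F 2)).mpr inferInstance
      have : Subgroup.center (Cfsg.PSU 4 F 2) = ⊤ :=
        eq_top_iff.mpr fun x _ => Subgroup.mem_center_iff.mpr fun y => hcm y x
      rw [hcz] at this
      exact (bot_ne_top (α := Subgroup (Cfsg.PSU 4 F 2))) this
  intro x hx
  have h1 : (e.toMonoidHom.comp (QuotientGroup.mk' N)) x ∈ A := Subgroup.mem_map_of_mem _ hx
  rw [hAbot, Subgroup.mem_bot] at h1
  exact (QuotientGroup.eq_one_iff x).mp (e.injective (h1.trans (map_one e).symm))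

include M in
/-- the core is a product of a group of order two and an extraspecial group -/
theorem core_iso : ∃ (E : Type) (_ : Group E) (_ : Finite E), Cfsg.IsExtraspecial 2 E ∧ Nat.card E = 2 ^ 9 ∧
    Nonempty (↥M.core ≃* Multiplicative (ZMod 2) × E) := by
  classical
  haveI : Fact (Nat.Prime 2) := ⟨Nat.prime_two⟩
  set H := M.core
  set A : ↥H := ⟨a, M.a_mem_core⟩ with hA
  set B : ↥H := ⟨b, M.b_mem_core⟩ with hB
  set z : ↥H := A * B with hz
  have hzv : (z : G) = a * b := rfl
  have hA2 : A * A = 1 := Subtype.ext (mul_self M.S.hD.1 M.ha)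
  have hAcen : ∀ h : ↥H, A * h = h * A := fun h =>
    Subtype.ext ((mem_cen.mp (M.core_le h.2)).1).eq.symm
  have hBcen : ∀ h : ↥H, B * h = h * B := fun h =>
    Subtype.ext ((mem_cen.mp (M.core_le h.2)).2).eq.symm
  have hz1 : z ≠ 1 := fun h => by
    have h' : a * b = 1 := congrArg Subtype.val h
    exact M.b_mem.2.1 ((eq_inv_of_mul_eq_one_right h').trans (inv_eq M.S.hD.1 M.ha))
  have hzA : z ≠ A := fun h => by
    have h' : a * b = a * 1 := (congrArg Subtype.val h).trans (mul_one a).symm
    exact ne_one M.S.hD.1 M.b_mem.1 (mul_left_cancel h')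
  have hA1 : A ≠ 1 := fun h => ne_one M.S.hD.1 M.ha (congrArg Subtype.val h)
  have hz2 : z * z = 1 := by
    rw [hz, mul_assoc, ← mul_assoc B, ← hAcen B, mul_assoc A B, ← mul_assoc A A, hA2, one_mul]
    exact Subtype.ext (mul_self M.S.hD.1 M.b_mem.1)
  have hcomm : ∀ u v : ↥H, ⁅u, v⁆ = 1 ∨ ⁅u, v⁆ = z := fun u v => by
    rcases M.comm_or u.2 v.2 with h | h
    · exact Or.inl (Subtype.ext h)
    · exact Or.inr (Subtype.ext h)
  have hsq : ∀ u : ↥H, u * u = 1 ∨ u * u = z := fun u => by
    rcases M.sq_or u.2 with h | h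
    · exact Or.inl (Subtype.ext h)
    · exact Or.inr (Subtype.ext h)
  have hAz : A ∉ Subgroup.zpowers z := by
    rintro ⟨n, hn⟩
    have h2 : z ^ (2 : ℤ) = 1 := by rw [zpow_two]; exact hz2
    rcases Int.even_or_odd' n with ⟨m, rfl | rfl⟩
    · exact hA1 (hn.symm.trans (show z ^ (2 * m) = 1 by rw [zpow_mul, h2, one_zpow]))
    · exact hzA ((show z ^ (2 * m + 1) = z by rw [zpow_add, zpow_mul, h2, one_zpow, one_mul, zpow_one]).symm.trans hn)
  obtain ⟨L, ⟨hzL, hAL⟩, hmax⟩ := (Set.toFinite {L : Subgroup ↥H | z ∈ L ∧ A ∉ L}).exists_maximal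
    ⟨Subgroup.zpowers z, Subgroup.mem_zpowers z, hAz⟩
  have hcL : ∀ u v : ↥H, ⁅u, v⁆ ∈ L := fun u v => by rcases hcomm u v with h | h <;> rw [h] <;> simp [hzL]
  have hsL : ∀ u : ↥H, u * u ∈ L := fun u => by rcases hsq u with h | h <;> rw [h] <;> simp [hzL]
  haveI hLn : L.Normal := ⟨fun x hx g => by
    rw [show g * x * g⁻¹ = ⁅g, x⁆ * x by rw [commutatorElement_def]; group]
    exact mul_mem (hcL g x) hx⟩
  -- index two
  have hsplit : ∀ u : ↥H, u ∈ L ∨ A * u ∈ L := by
    intro u
    by_contra hcon
    push Not at hcon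
    obtain ⟨hu, hAu⟩ := hcon
    have hA' : A ∈ L ⊔ Subgroup.zpowers u := by
      by_contra h
      exact hu (hmax ⟨Subgroup.mem_sup_left hzL, h⟩ le_sup_left (Subgroup.mem_sup_right (Subgroup.mem_zpowers u)))
    obtain ⟨l, hl, w, ⟨n, rfl⟩, hlw⟩ := Subgroup.mem_sup_of_normal_left.mp hA'
    have h2 : u ^ (2 : ℤ) ∈ L := by rw [zpow_two]; exact hsL u
    rcases Int.even_or_odd' n with ⟨m, rfl | rfl⟩
    · refine hAL (hlw ▸ mul_mem hl ?_)
      show u ^ (2 * m) ∈ L
      rw [zpow_mul]; exact zpow_mem h2 m
    · refine hAu ?_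
      have e : A * u = l * (u ^ (2 : ℤ)) ^ (m + 1) := by
        rw [← hlw]
        show l * u ^ (2 * m + 1) * u = _
        rw [← zpow_mul, mul_assoc, ← zpow_add_one]
        congr 1
        ring_nf
      rw [e]
      exact mul_mem hl (zpow_mem h2 _)
  -- centre of the complement
  have hcenter : ∀ w : ↥L, w ∈ Subgroup.center ↥L ↔ (w : ↥H) = 1 ∨ (w : ↥H) = z := by
    intro w
    constructor
    · intro hw
      have hall : ∀ h ∈ H, Commute ((w : ↥H) : G) h := by
        intro h hh
        rcases hsplit ⟨h, hh⟩ with hL | hL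
        · exact (congrArg Subtype.val (congrArg Subtype.val (Subgroup.mem_center_iff.mp hw ⟨_, hL⟩))).symm
        · have h1 := congrArg Subtype.val (Subgroup.mem_center_iff.mp hw ⟨_, hL⟩)
          simp only [Subgroup.coe_mul] at h1
          rw [mul_assoc, ← mul_assoc (w : ↥H), ← hAcen (w : ↥H), mul_assoc] at h1
          exact (congrArg Subtype.val (mul_left_cancel h1)).symm
      have hV := M.mem_pair_of_central_core (w : ↥H).2 hall
      have hw4 : ((w : ↥H) : G) ∈ ({1, a, b, a * b} : Set G) := by
        have hi : ∀ s ∈ ({1, a, b, a * b} : Set G), ∀ r ∈ ({a, b} : Set G), r * s ∈ ({1, a, b, a * b} : Set G) := by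
          have e1 : b * a = a * b := M.b_mem.2.2.eq.symm
          have e2 : a * (a * b) = b := by rw [← mul_assoc, mul_self M.S.hD.1 M.ha, one_mul]
          have e3 : b * (a * b) = a := by rw [← mul_assoc, e1, mul_assoc, mul_self M.S.hD.1 M.b_mem.1, mul_one]
          rintro s (rfl | rfl | rfl | rfl) r (rfl | rfl) <;>
            simp [mul_self M.S.hD.1 M.ha, mul_self M.S.hD.1 M.b_mem.1, e1, e2, e3]
        generalize ((w : ↥H) : G) = q at hV
        induction hV using Subgroup.closure_induction_left with
        | one => simp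
        | mul_left r hr s _ ih => exact hi s ih r hr
        | inv_mul_cancel r hr s _ ih =>
          have hr' : r⁻¹ = r := by
            rcases hr with rfl | rfl
            exacts [inv_eq M.S.hD.1 M.ha, inv_eq M.S.hD.1 M.b_mem.1]
          rw [hr']
          exact hi s ih r hr
      rcases hw4 with h | h | h | h
      · exact Or.inl (Subtype.ext h)
      · exact absurd (show A ∈ L by rw [show A = (w : ↥H) from Subtype.ext h.symm]; exact w.2) hAL
      · exfalso
        refine hAL ?_
        have hBL : B ∈ L := by rw [show B = (w : ↥H) from Subtype.ext h.symm]; exact w.2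
        have := mul_mem hzL (inv_mem hBL)
        rwa [hz, mul_inv_cancel_right] at this
      · exact Or.inr (Subtype.ext h)
    · intro h
      rw [Subgroup.mem_center_iff]
      intro v
      refine Subtype.ext ?_
      rcases h with h | h
      · simp [h]
      · rw [Subgroup.coe_mul, Subgroup.coe_mul, h, hz, ← mul_assoc, ← hAcen, mul_assoc, ← hBcen, mul_assoc]
  have hcard2 : Nat.card ↥(Subgroup.center ↥L) = 2 := by
    have hs : (Subgroup.center ↥L : Set ↥L) = {1, ⟨z, hzL⟩} := by
      ext w
      rw [SetLike.mem_coe, hcenter]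
      simp only [Set.mem_insert_iff, Set.mem_singleton_iff, Subtype.ext_iff, Subgroup.coe_one]
    rw [← SetLike.coe_sort_coe, Nat.card_coe_set_eq, hs,
      Set.ncard_pair fun h => hz1 (congrArg Subtype.val h).symm]
  -- the product decomposition
  let f : Multiplicative (ZMod 2) →* ↥H := MonoidHom.mk'
    (fun i => if Multiplicative.toAdd i = 0 then 1 else A) (by
      intro i j
      rcases zmod_two_cases (Multiplicative.toAdd i) with hi | hi <;>
        rcases zmod_two_cases (Multiplicative.toAdd j) with hj | hj <;>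
        simp [toAdd_mul, hi, hj, hA2, show (1 : ZMod 2) + 1 = 0 from rfl])
  let Φ : Multiplicative (ZMod 2) × ↥L →* ↥H := f.noncommCoprod L.subtype fun i l => by
    show Commute (if Multiplicative.toAdd i = 0 then 1 else A) (l : ↥H)
    split_ifs
    · exact Commute.one_left _
    · exact hAcen _
  have hΦ : ∀ i l, Φ (i, l) = (if Multiplicative.toAdd i = 0 then 1 else A) * (l : ↥H) := fun _ _ => rfl
  have hbij : Function.Bijective Φ := by
    constructor
    · rw [injective_iff_map_eq_one]
      rintro ⟨i, l⟩ h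
      rw [hΦ] at h
      rcases zmod_two_cases (Multiplicative.toAdd i) with hi | hi
      · rw [if_pos hi, one_mul] at h
        exact Prod.ext (Multiplicative.toAdd.injective hi) (Subtype.ext h)
      · rw [if_neg (by rw [hi]; exact one_ne_zero)] at h
        exfalso
        refine hAL ?_
        rw [eq_inv_of_mul_eq_one_left h]
        exact inv_mem l.2
    · intro u
      rcases hsplit u with hu | hu
      · exact ⟨(1, ⟨u, hu⟩), by rw [hΦ, if_pos toAdd_one, one_mul]⟩
      · exact ⟨(Multiplicative.ofAdd 1, ⟨A * u, hu⟩), by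
          rw [hΦ, if_neg (by simp)]; show A * (A * u) = u; rw [← mul_assoc, hA2, one_mul]⟩
  have hcardL : Nat.card ↥L = 2 ^ 9 := by
    have h := Nat.card_congr (MulEquiv.ofBijective Φ hbij).toEquiv
    rw [Nat.card_prod, M.card_core, Nat.card_congr Multiplicative.toAdd, Nat.card_zmod] at h
    omega
  have hP : IsPGroup 2 ↥L := IsPGroup.iff_card.mpr ⟨9, hcardL⟩
  have hcle : commutator ↥L ≤ Subgroup.center ↥L := by
    rw [commutator_def, Subgroup.commutator_le]
    intro u _ v _
    rw [hcenter]
    rcases hcomm u v with h | h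
    · exact Or.inl (by rw [← h]; rfl)
    · exact Or.inr (by rw [← h]; rfl)
  have hzcomm : (⟨z, hzL⟩ : ↥L) ∈ commutator ↥L := by
    by_contra hcon
    -- the core would be commutative
    have hab : ∀ u v : ↥L, ⁅u, v⁆ = 1 := fun u v => by
      rcases hcomm u v with h | h
      · exact Subtype.ext h
      · exfalso
        refine hcon ?_
        rw [show (⟨z, hzL⟩ : ↥L) = ⁅u, v⁆ from Subtype.ext h.symm]
        exact Subgroup.commutator_mem_commutator (Subgroup.mem_top _) (Subgroup.mem_top _)
    have htop : Subgroup.center ↥L = ⊤ := eq_top_iff.mpr fun x _ => Subgroup.mem_center_iff.mpr fun y =>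
      (commutatorElement_eq_one_iff_mul_comm.mp (hab y x))
    rw [htop, Subgroup.card_top, hcardL] at hcard2
    norm_num at hcard2
  have hcge : Subgroup.center ↥L ≤ commutator ↥L := by
    intro w hw
    rcases (hcenter w).mp hw with h | h
    · rw [show w = 1 from Subtype.ext h]; exact one_mem _
    · rw [show w = ⟨z, hzL⟩ from Subtype.ext h]; exact hzcomm
  have hext : Cfsg.IsExtraspecial 2 ↥L := by
    refine ⟨⟨hP, le_antisymm (PGroups.frattini_le_of_pow_commutator (p := 2) _ (fun u => ?_) hcle)
      (hcge.trans (PGroups.commutator_le_frattini hP)), le_antisymm hcle hcge⟩, hcard2⟩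
    rw [hcenter, SubgroupClass.coe_pow, sq]
    exact hsq u
  haveI : Finite (Shrink.{0} ↥L) := Finite.of_equiv ↥L (equivShrink.{0} ↥L)
  have e : ↥L ≃* Shrink.{0} ↥L := (Shrink.mulEquiv.{0} (α := ↥L)).symm
  exact ⟨Shrink.{0} ↥L, inferInstance, inferInstance, FusionP3.GenExtra.isExtraspecial_congr e hext,
    by rw [← Nat.card_congr e.toEquiv, hcardL],
    ⟨(MulEquiv.ofBijective Φ hbij).symm.trans ((MulEquiv.refl _).prodCongr e)⟩⟩

end Model

end Cfsg.Agent.Lib.FischerMTypes.PairModelM22
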