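import Mathlib
import Cfsg.Agent.Lib.Components.Basic

/-!
A normal quasisimple subgroup containing its centraliser: it is the generalised Fitting subgroup, and
modulo its centre the group embeds in the automorphisms of the simple quotient.
-/

set_option autoImplicit false
set_option linter.style.haveILetI false
set_option linter.unusedSectionVars false

namespace Cfsg.Agent.Lib.FischerMTypes.QuasiExtension

open Cfsg.Agent.Lib
open scoped commutatorElement

variable {C : Type*} [Group C] {K : Subgroup C} [K.Normal]

/-- the centralizer of `K` consists of the centre of `K` -/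
theorem mem_center_of_centralizer (hc : Subgroup.centralizer (K : Set C) ≤ K) {g : C}
    (hg : g ∈ Subgroup.centralizer (K : Set C)) : g ∈ (Subgroup.center ↥K).map K.subtype :=
  ⟨⟨g, hc hg⟩, Subgroup.mem_center_iff.mpr fun k =>
    Subtype.ext (Subgroup.mem_centralizer_iff.mp hg k k.2), rfl⟩

theorem genFitting_eq [Finite C] (hq : Cfsg.IsQuasisimple ↥K) (hc : Subgroup.centralizer (K : Set C) ≤ K) :
    Cfsg.generalizedFittingSubgroup C = K := by
  have hcomp : Cfsg.IsComponent K := ⟨(inferInstance : K.Normal).isSubnormal, hq⟩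
  refine le_antisymm (sup_le (sSup_le fun M hM => ?_)
    ((Components.Component.fittingSubgroup_le_centralizer hcomp).trans hc))
    ((Components.Layer.component_le_layer hcomp).trans le_sup_left)
  by_contra hle
  exact hle ((Components.Component.le_centralizer_of_ne hM hcomp fun e => hle e.le).trans hc)

/-- conjugation on `K` modulo its centre -/
def conjQuot : C →* MulAut (↥K ⧸ Subgroup.center ↥K) where
  toFun g := QuotientGroup.congr _ _ (MulAut.conjNormal g)
    ((Subgroup.characteristic_iff_map_eq.mp inferInstance) _)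
  map_one' := MulEquiv.ext fun q => QuotientGroup.induction_on q fun k => by
    show QuotientGroup.mk (MulAut.conjNormal (1 : C) k) = (QuotientGroup.mk k : ↥K ⧸ Subgroup.center ↥K)
    rw [map_one]; rfl
  map_mul' g h := MulEquiv.ext fun q => QuotientGroup.induction_on q fun k => by
    show QuotientGroup.mk (MulAut.conjNormal (g * h) k) =
      (QuotientGroup.mk (MulAut.conjNormal g (MulAut.conjNormal h k)) : ↥K ⧸ Subgroup.center ↥K)
    rw [map_mul]; rfl

theorem conjQuot_ker (hq : Cfsg.IsQuasisimple ↥K) (hc : Subgroup.centralizer (K : Set C) ≤ K) :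
    (conjQuot (K := K)).ker = (Subgroup.center ↥K).map K.subtype := by
  ext g
  constructor
  · intro hg
    have hz : ∀ k : ↥K, MulAut.conjNormal g k * k⁻¹ ∈ Subgroup.center ↥K := fun k => by
      have h : QuotientGroup.mk (MulAut.conjNormal g k) = (QuotientGroup.mk k : ↥K ⧸ Subgroup.center ↥K) :=
        DFunLike.congr_fun (MonoidHom.mem_ker.mp hg) (QuotientGroup.mk k)
      refine (QuotientGroup.eq_one_iff _).mp ?_
      show QuotientGroup.mk' (Subgroup.center ↥K) (MulAut.conjNormal g k * k⁻¹) = 1
      rw [map_mul, map_inv, mul_inv_eq_one]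
      exact h
    let φ : ↥K →* Subgroup.center ↥K := MonoidHom.mk' (fun k => ⟨_, hz k⟩) fun k k' => Subtype.ext (by
      show MulAut.conjNormal g (k * k') * (k * k')⁻¹ =
        MulAut.conjNormal g k * k⁻¹ * (MulAut.conjNormal g k' * k'⁻¹)
      rw [map_mul, mul_inv_rev]
      calc MulAut.conjNormal g k * MulAut.conjNormal g k' * (k'⁻¹ * k⁻¹)
          = MulAut.conjNormal g k * (MulAut.conjNormal g k' * k'⁻¹) * k⁻¹ := by group
        _ = MulAut.conjNormal g k * (k⁻¹ * (MulAut.conjNormal g k' * k'⁻¹)) := by
            rw [Subgroup.mem_center_iff.mp (hz k') k⁻¹, mul_assoc]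
        _ = MulAut.conjNormal g k * k⁻¹ * (MulAut.conjNormal g k' * k'⁻¹) := by group)
    have hker : commutator ↥K ≤ φ.ker := by
      rw [commutator_def, Subgroup.commutator_le]
      intro x _ y _
      rw [MonoidHom.mem_ker, map_commutatorElement, commutatorElement_eq_one_iff_mul_comm]
      exact Subtype.ext (Subgroup.mem_center_iff.mp (φ y).2 (φ x : ↥K))
    refine mem_center_of_centralizer hc (Subgroup.mem_centralizer_iff.mpr fun k hk => ?_)
    have hperf : commutator ↥K = ⊤ := hq.1.commutator_eq_top
    have h1 : MulAut.conjNormal g (⟨k, hk⟩ : ↥K) * (⟨k, hk⟩ : ↥K)⁻¹ = 1 :=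
      congrArg Subtype.val (MonoidHom.mem_ker.mp (hker (hperf ▸ Subgroup.mem_top _)))
    have h2 : g * k * g⁻¹ = k := by
      have := congrArg Subtype.val (mul_inv_eq_one.mp h1)
      simpa using this
    conv_lhs => rw [← h2]
    group
  · rintro ⟨z, hz, rfl⟩
    refine MonoidHom.mem_ker.mpr (MulEquiv.ext fun q => QuotientGroup.induction_on q fun k => ?_)
    show QuotientGroup.mk (MulAut.conjNormal (z : C) k) = (QuotientGroup.mk k : ↥K ⧸ Subgroup.center ↥K)
    congr 1
    refine Subtype.ext ?_
    have := congrArg Subtype.val (Subgroup.mem_center_iff.mp hz k)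
    simp only [Subgroup.coe_mul] at this
    rw [MulAut.conjNormal_apply, ← this, mul_inv_cancel_right]

/-- big enough, the group modulo the centre of `K` is the automorphism group -/
theorem aut_iso [Finite C] {X : Type*} [Group X] (hq : Cfsg.IsQuasisimple ↥K)
    (hc : Subgroup.centralizer (K : Set C) ≤ K) (e : ↥K ⧸ Subgroup.center ↥K ≃* X)
    (hcard : Nat.card C = Nat.card (MulAut X) * Nat.card (Subgroup.center ↥K))
    (N : Subgroup C) [N.Normal] (hN : N = (Subgroup.center ↥K).map K.subtype) :
    Nonempty (C ⧸ N ≃* MulAut X) := by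
  have hker := conjQuot_ker hq hc
  have hcardN : Nat.card N = Nat.card (Subgroup.center ↥K) := by
    rw [hN]; exact Subgroup.card_map_of_injective Subtype.val_injective
  haveI : Finite X := Finite.of_equiv _ e.toEquiv
  let f : C →* MulAut X := (MulAut.congr e).toMonoidHom.comp conjQuot
  have hf : f.ker = N := by
    rw [hN, ← hker]
    ext g
    simp [f, MonoidHom.mem_ker]
  have hinj : Function.Injective (QuotientGroup.kerLift f) := QuotientGroup.kerLift_injective f
  haveI : Finite (MulAut X) := Finite.of_injective (fun φ : MulAut X => (φ : X → X)) DFunLike.coe_injective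
  have hcq : Nat.card (C ⧸ f.ker) = Nat.card (MulAut X) := by
    have h := Subgroup.card_eq_card_quotient_mul_card_subgroup f.ker
    rw [hcard, hf, hcardN] at h
    rw [hf]
    exact (Nat.eq_of_mul_eq_mul_right Nat.card_pos h).symm
  exact ⟨(QuotientGroup.quotientMulEquivOfEq hf.symm).trans
    (MulEquiv.ofBijective _ ((Nat.bijective_iff_injective_and_card _).mpr ⟨hinj, hcq⟩))⟩

end Cfsg.Agent.Lib.FischerMTypes.QuasiExtension
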