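import Mathlib
import Cfsg.Agent.Lib.FischerMTypes.SameFactors
import Cfsg.Agent.Lib.FischerMTypes.PairCentralizer
import Cfsg.Agent.Lib.FischerMTypes.IndexTwoLayer
import Cfsg.Agent.Lib.FischerMTypes.M24Data
import Cfsg.Agent.Lib.FischerMTypes.StepGroup

/-!
Type M(24): inside the derived group, the centraliser of three commuting transpositions.
-/

set_option autoImplicit false
set_option linter.style.haveILetI false
set_option linter.unusedSectionVars false

namespace Cfsg.Agent.Lib.FischerMTypes.TripleM24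

open Cfsg.Agent.Lib.FischerMTypes.Basic Cfsg.Agent.Lib.FischerMTypes.Primitive
  Cfsg.Agent.Lib.FischerMTypes.Levels Cfsg.Agent.Lib.FischerMTypes.Step
  Cfsg.Agent.Lib.FischerMTypes.TraceCounts

universe u

variable {G : Type u} [Group G] [Finite G] {D : Set G} {Q : Type u} [Group Q] [Finite Q] {E : Set Q}
variable {Q₂ : Type u} [Group Q₂] [Finite Q₂] {E₂ : Set Q₂} {F : Type} [Field F] [Fintype F]
variable (S22 : Sys E₂ F) (S23 : StepData E E₂ 3510 693 180 126 6531840)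
  (S : StepData D E 31671 3510 693 351 4585351680)

theorem mem_centralizer_three {a b c g : G} :
    g ∈ Subgroup.centralizer ({a, b, c} : Set G) ↔ Commute a g ∧ Commute b g ∧ Commute c g := by
  rw [Subgroup.mem_centralizer_iff]
  simp only [Set.mem_insert_iff, Set.mem_singleton_iff, forall_eq_or_imp, forall_eq]
  rfl

theorem map_center_equiv {A B : Type*} [Group A] [Group B] (e : A ≃* B) :
    (Subgroup.center A).map e.toMonoidHom = Subgroup.center B := by
  ext b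
  constructor
  · rintro ⟨a, ha, rfl⟩
    refine Subgroup.mem_center_iff.mpr fun y => ?_
    obtain ⟨x, rfl⟩ := e.surjective y
    show e x * e a = e a * e x
    rw [← map_mul, Subgroup.mem_center_iff.mp ha x, map_mul]
  · intro hb
    obtain ⟨a, rfl⟩ := e.surjective b
    refine ⟨a, Subgroup.mem_center_iff.mpr fun x => e.injective ?_, rfl⟩
    rw [map_mul, map_mul]
    exact Subgroup.mem_center_iff.mp hb (e x)

include S in
theorem f_self {d : G} (hd : d ∈ D) (hs : d ∈ Subgroup.closure (perp D d)) : S.f hd d = 1 := by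
  rw [← S.f_one hd]
  exact (S.f_eq_iff hd hs (one_mem _)).mpr fun u hu => by rw [mul_one]; exact hu.2.2.symm.inv_right

include S22 S23 S in
/-- inside an index-two subgroup missing a transposition the centraliser of three commuting
transpositions is quasisimple with quotient `U₆(2)` -/
theorem structure_three (hM : Cfsg.IsOfTypeM23 Q E) (P : Pinned D 31671 3510 693 351 3240)
    (L : Subgroup G) {d₁ d₂ d₃ : G} (hor : ∀ g, g ∈ L ∨ g * d₁ ∈ L) (h₁ : d₁ ∈ D) (hL₁ : d₁ ∉ L)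
    (h₂ : d₂ ∈ perp D d₁) (h₃ : d₃ ∈ perp D d₁) (h23 : d₂ ≠ d₃) (c23 : Commute d₂ d₃)
    (hm2 : d₁ * d₂ ∈ L) (hm3 : d₁ * d₃ ∈ L) :
    Cfsg.IsQuasisimple ↥(L ⊓ Subgroup.centralizer ({d₁, d₂, d₃} : Set G)) ∧
      (Subgroup.center ↥(L ⊓ Subgroup.centralizer ({d₁, d₂, d₃} : Set G))).map
          (L ⊓ Subgroup.centralizer ({d₁, d₂, d₃} : Set G)).subtype =
        Subgroup.closure ({d₁ * d₂, d₁ * d₃} : Set G) ∧
      ∃ (F' : Type) (_ : Field F') (_ : Fintype F'), Fintype.card F' = 4 ∧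
        Nonempty (↥(L ⊓ Subgroup.centralizer ({d₁, d₂, d₃} : Set G)) ⧸
          Subgroup.center ↥(L ⊓ Subgroup.centralizer ({d₁, d₂, d₃} : Set G)) ≃* Cfsg.PSU 6 F' 2) := by
  set K := L ⊓ Subgroup.centralizer ({d₁, d₂, d₃} : Set G) with hK
  set e₂ := S.f h₁ d₂ with he₂
  set e₃ := S.f h₁ d₃ with he₃
  have h2E : e₂ ∈ E := S.f_mem h₁ h₂
  have h3p : e₃ ∈ perp E e₂ := ⟨S.f_mem h₁ h₃, fun h => h23 (S.f_inj h₁ h₂ h₃ h.symm),
    (S.commute_iff h₁ h₂ h₃).mpr c23⟩
  set K₂ := Subgroup.centralizer ({e₂, e₃} : Set Q) with hK₂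
  set C₂ := Subgroup.centralizer ({e₂ * e₃} : Set Q) with hC₂
  set V₂ := Subgroup.closure ({e₂, e₃} : Set Q) with hV₂
  haveI : (V₂.subgroupOf C₂).Normal := ⟨fun x hx g => by
    have hg : Commute (g : Q) (e₂ * e₃) := Subgroup.mem_centralizer_singleton_iff.mp g.2
    have hle : V₂ ≤ V₂.comap (MulAut.conj (g : Q)).toMonoidHom := by
      rw [hV₂, Subgroup.closure_le]
      rintro y hy
      show (g : Q) * y * (g : Q)⁻¹ ∈ Subgroup.closure ({e₂, e₃} : Set Q)
      rcases SameFactors.conj_mem_M23 S22 S23 hM h2E h3p.1 (Ne.symm h3p.2.1) h3p.2.2 hg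
        (by simpa using hy) with h | h <;> rw [h] <;> exact Subgroup.subset_closure (by simp)
    exact hle hx⟩
  obtain ⟨-, -, hcen₂, hq₂, ⟨F', iF, iF', hF', ⟨eP⟩⟩, -⟩ :=
    PairCentralizer.main S23.hD S23.hprim hM S22 S23 h2E h3p K₂ C₂ V₂ hK₂ hC₂ hV₂
  have hself := P.self d₁ h₁
  have inH : ∀ {g : G}, g ∈ K → g ∈ Subgroup.closure (perp D d₁) := fun {g} hg => by
    rw [StepData.centralizer_eq S P h₁, Subgroup.mem_centralizer_singleton_iff]
    exact (mem_centralizer_three.mp hg.2).1.eq.symm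
  have hfK : ∀ {g : G}, g ∈ K → S.f h₁ g ∈ K₂ := fun {g} hg => by
    obtain ⟨-, c2, c3⟩ := mem_centralizer_three.mp hg.2
    rw [hK₂, Subgroup.mem_centralizer_iff]
    rintro y (rfl | rfl)
    · rw [he₂, ← S.f_mul h₁ (Subgroup.subset_closure h₂) (inH hg), c2.eq,
        S.f_mul h₁ (inH hg) (Subgroup.subset_closure h₂)]
    · rw [he₃, ← S.f_mul h₁ (Subgroup.subset_closure h₃) (inH hg), c3.eq,
        S.f_mul h₁ (inH hg) (Subgroup.subset_closure h₃)]
  let ψ : ↥K →* ↥K₂ := MonoidHom.mk' (fun g => ⟨S.f h₁ g, hfK g.2⟩)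
    fun g g' => Subtype.ext (S.f_mul h₁ (inH g.2) (inH g'.2))
  have hinj : Function.Injective ψ := by
    rw [injective_iff_map_eq_one]
    rintro ⟨g, hg⟩ h1
    have h1' : S.f h₁ g = 1 := congrArg Subtype.val h1
    refine Subtype.ext ((S.center_perp P.small h₁ (inH hg) fun u hu => ?_).resolve_right
      fun h => hL₁ (h ▸ hg.1))
    have := (S.f_eq_iff h₁ (inH hg) (one_mem _)).mp (h1'.trans (S.f_one h₁).symm) u hu
    rwa [mul_one, Commute.inv_right_iff] at this
  have hcomm1 : ∀ {g : G}, g ∈ Subgroup.closure (perp D d₁) → Commute d₁ g := fun {g} hg =>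
    commute_closure (u := d₁) (fun s hs => hs.2.2) g hg
  have hlift : ∀ {g : G}, g ∈ Subgroup.closure (perp D d₁) → S.f h₁ g ∈ K₂ →
      ∀ {d : G}, d ∈ perp D d₁ → S.f h₁ d ∈ ({e₂, e₃} : Set Q) → Commute d g := by
    intro g hg hq d hd hde
    have h := Subgroup.mem_centralizer_iff.mp hq _ hde
    refine (show d * g = g * d from ?_)
    have h' : g * d * g⁻¹ = d :=
      S.f_inj h₁ (conj_mem_of_mem_closure (perp_closed S.hD d₁) hg d hd) hd (by
        rw [S.f_conj h₁ hg (Subgroup.subset_closure hd), ← h, mul_inv_cancel_right])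
    conv_lhs => rw [← h']
    group
  have hsurj : Function.Surjective ψ := by
    rintro ⟨q, hq⟩
    obtain ⟨g, hg, rfl⟩ := S.exists_f_closure h₁ q
    have hgC : g ∈ Subgroup.centralizer ({d₁, d₂, d₃} : Set G) := mem_centralizer_three.mpr
      ⟨hcomm1 hg, hlift hg hq h₂ (by simp [he₂]), hlift hg hq h₃ (by simp [he₃])⟩
    have hd1C : d₁ ∈ Subgroup.centralizer ({d₁, d₂, d₃} : Set G) :=
      mem_centralizer_three.mpr ⟨Commute.refl _, h₂.2.2.symm, h₃.2.2.symm⟩
    rcases hor g with h | h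
    · exact ⟨⟨g, h, hgC⟩, rfl⟩
    · refine ⟨⟨g * d₁, h, mul_mem hgC hd1C⟩, Subtype.ext ?_⟩
      show S.f h₁ (g * d₁) = S.f h₁ g
      rw [S.f_mul h₁ hg hself, f_self S h₁ hself, mul_one]
  let e : ↥K ≃* ↥K₂ := MulEquiv.ofBijective ψ ⟨hinj, hsurj⟩
  have hmem : ∀ {x : G}, x ∈ ({d₁ * d₂, d₁ * d₃} : Set G) → x ∈ K := by
    rintro x (rfl | rfl)
    · exact ⟨hm2, mem_centralizer_three.mpr ⟨(Commute.refl d₁).mul_right h₂.2.2,
        h₂.2.2.symm.mul_right (Commute.refl d₂), h₃.2.2.symm.mul_right c23.symm⟩⟩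
    · exact ⟨hm3, mem_centralizer_three.mpr ⟨(Commute.refl d₁).mul_right h₃.2.2,
        h₂.2.2.symm.mul_right c23, h₃.2.2.symm.mul_right (Commute.refl d₃)⟩⟩
  set M : Subgroup ↥K := Subgroup.closure {⟨d₁ * d₂, hmem (by simp)⟩, ⟨d₁ * d₃, hmem (by simp)⟩} with hMdef
  have hM1 : M.map K.subtype = Subgroup.closure ({d₁ * d₂, d₁ * d₃} : Set G) := by
    rw [hMdef, MonoidHom.map_closure, Set.image_pair]
    rfl
  have hf : ∀ {d : G}, d ∈ perp D d₁ → S.f h₁ (d₁ * d) = S.f h₁ d := fun {d} hd => by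
    rw [S.f_mul h₁ hself (Subgroup.subset_closure hd), f_self S h₁ hself, one_mul]
  have hM2 : (M.map e.toMonoidHom).map K₂.subtype = V₂ := by
    rw [Subgroup.map_map, hMdef, MonoidHom.map_closure, Set.image_pair, hV₂]
    show Subgroup.closure {S.f h₁ (d₁ * d₂), S.f h₁ (d₁ * d₃)} = _
    rw [hf h₂, hf h₃]
  have hcen : Subgroup.center ↥K = M := by
    refine Subgroup.map_injective (f := e.toMonoidHom) e.injective ?_
    rw [map_center_equiv e]
    exact Subgroup.map_injective (f := K₂.subtype) Subtype.val_injective (hcen₂.trans hM2.symm)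
  refine ⟨Components.Quasisimple.of_mulEquiv hq₂ e.symm, by rw [hcen, hM1], F', iF, iF', hF',
    ⟨(QuotientGroup.congr _ _ e (map_center_equiv e)).trans eP⟩⟩

end Cfsg.Agent.Lib.FischerMTypes.TripleM24
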