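import Mathlib
import Cfsg.Agent.Lib.FischerMTypes.Unique

/-!
Common non-commuting neighbours: in a transitive class any two members have distance at most two in
the non-commuting graph, lifted to the perp sets of a group of type M(22), M(23) or M(24).
-/

set_option autoImplicit false
set_option linter.style.haveILetI false
set_option linter.unusedSectionVars false

namespace Cfsg.Agent.Lib.FischerMTypes.Neighbour

open Cfsg.Agent.Lib.FischerMTypes.Basic Cfsg.Agent.Lib.FischerMTypes.Primitive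
  Cfsg.Agent.Lib.FischerMTypes.Levels Cfsg.Agent.Lib.FischerMTypes.Types
  Cfsg.Agent.Lib.FischerMTypes.Unique

theorem near_of_transitive {X : Type*} [Group X] [Finite X] {E : Set X} (hE : IsClosedSet E)
    (hgen : Subgroup.closure E = ⊤) (htr : ∀ u ∈ E, ∀ v ∈ E, ∃ g : X, g * u * g⁻¹ = v)
    {u v : X} (hu : u ∈ E) (hv : v ∈ E) :
    u = v ∨ ¬ Commute u v ∨ ∃ x ∈ E, ¬ Commute u x ∧ ¬ Commute x v := by
  obtain ⟨g, rfl⟩ := htr u hu v hv
  have hg : g ∈ Subgroup.closure E := hgen ▸ Subgroup.mem_top g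
  have step : ∀ e ∈ E, ∀ v ∈ E, (u = v ∨ ¬ Commute u v ∨ ∃ x ∈ E, ¬ Commute u x ∧ ¬ Commute x v) →
      u = e * v * e ∨ ¬ Commute u (e * v * e) ∨ ∃ x ∈ E, ¬ Commute u x ∧ ¬ Commute x (e * v * e) := by
    intro e he v hv h
    by_cases hev : Commute e v
    · rwa [conj_fix_of_commute hE.1 he hev]
    have hev' : e * v * e = v * e * v := braid hE.1 he hv hev
    have hvv' : ¬ Commute v (e * v * e) := fun h => hev (by
      have h2 : v * v * v = v := by rw [mul_self hE.1 hv, one_mul]
      rw [hev'] at h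
      have := (conj_comm_iff hE.1 hv (u := v) (v := e)).mp (by rwa [h2])
      exact this.symm)
    by_cases hc : Commute u (e * v * e)
    swap
    · exact Or.inr (Or.inl hc)
    rcases h with rfl | h | ⟨x, hx, hux, hxv⟩
    · exact absurd hc hvv'
    · exact Or.inr (Or.inr ⟨v, hv, h, hvv'⟩)
    · by_cases huv : Commute u v
      · by_cases hxv' : Commute x (e * v * e)
        · refine Or.inr (Or.inr ⟨x * v * x, hE.2 x hx v hv, fun h => hux ?_, fun h => hvv' ?_⟩)
          · rw [braid hE.1 hx hv hxv] at h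
            refine (conj_comm_iff hE.1 hv (u := u) (v := x)).mp ?_
            rw [conj_fix_of_commute hE.1 hv huv.symm]
            exact h
          · refine (conj_comm_iff hE.1 hx (u := v) (v := e * v * e)).mp ?_
            rw [conj_fix_of_commute hE.1 hx hxv']
            exact h
        · exact Or.inr (Or.inr ⟨x, hx, hux, hxv'⟩)
      · exact Or.inr (Or.inr ⟨v, hv, huv, hvv'⟩)
  clear hv
  induction hg using Subgroup.closure_induction_left with
  | one => exact Or.inl (by simp)
  | mul_left e he y hy ih =>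
    have := step e he _ (conj_mem_of_mem_closure hE hy u hu) ih
    simpa [mul_assoc, inv_eq hE.1 he] using this
  | inv_mul_cancel e he y hy ih =>
    have := step e he _ (conj_mem_of_mem_closure hE hy u hu) ih
    simpa [mul_assoc, inv_eq hE.1 he] using this

variable {G : Type*} [Group G] [Finite G] {D : Set G}

/-- transitivity and generation in the quotient at `d` -/
def QuotTransitive (D : Set G) (d : G) : Prop :=
  ∀ u ∈ ((QuotientGroup.mk : ↥(Subgroup.closure (perp D d)) → _ ⧸ Subgroup.center ↥(Subgroup.closure (perp D d))) ''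
      {x | (x : G) ∈ perp D d}) \ {1},
    ∀ v ∈ ((QuotientGroup.mk : ↥(Subgroup.closure (perp D d)) → _ ⧸ Subgroup.center ↥(Subgroup.closure (perp D d))) ''
      {x | (x : G) ∈ perp D d}) \ {1}, ∃ g, g * u * g⁻¹ = v

theorem exists_common (hD : Cfsg.IsThreeTranspositionGroup D) (hprim : Cfsg.IsPrimitiveUnderConj D)
    (hZ : Subgroup.center G = ⊥) {d : G} (hd : d ∈ D) (htr : QuotTransitive D d) {c a b : G} (hc : c ∈ D)
    (ha : a ∈ perp D c) (hb : b ∈ perp D c) (hne : a ≠ b) (hab : Commute a b) :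
    ∃ x ∈ perp D c, ¬ Commute a x ∧ ¬ Commute b x := by
  obtain ⟨g, hg⟩ := hprim.1 d hd c hc
  have mem : ∀ y, g⁻¹ * y * g ∈ perp D d ↔ y ∈ perp D c := by
    intro y
    rw [← conj_mem_perp_iff hD g d, hg, show g * (g⁻¹ * y * g) * g⁻¹ = y by group]
  have ha' := (mem a).mpr ha
  have hb' := (mem b).mpr hb
  obtain ⟨h1, h2⟩ := image_erase_closed (perp_closed hD d) (Subgroup.closure (perp D d)) rfl
  rcases near_of_transitive h1 h2 htr (u := im D d ha') (v := im D d hb')
    ⟨⟨_, ha', rfl⟩, im_ne_one hD hprim hZ hd ha'⟩ ⟨⟨_, hb', rfl⟩, im_ne_one hD hprim hZ hd hb'⟩ with h | h | h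
  · exact absurd (by simpa using im_injective hD hprim hZ hd ha' hb' h) hne
  · rw [im_commute_iff hD ha' hb', ← commute_conj_iff g] at h
    exact absurd (by simpa [mul_assoc] using hab) h
  · obtain ⟨_, ⟨⟨⟨x, hxH⟩, hx, rfl⟩, -⟩, hax, hxb⟩ := h
    have k1 : ¬ Commute (g⁻¹ * a * g) x := fun h => hax ((im_commute_iff hD ha' hx).mpr h)
    have k2 : ¬ Commute x (g⁻¹ * b * g) := fun h => hxb ((im_commute_iff hD hx hb').mpr h)
    refine ⟨g * x * g⁻¹, (mem _).mp (by simpa [mul_assoc] using hx), fun h => k1 ?_, fun h => k2 ?_⟩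
    · rw [← commute_conj_iff g]; simpa [mul_assoc] using h
    · rw [← commute_conj_iff g]; simpa [mul_assoc] using h.symm

/-- an element centralising `c` and exchanging `a`, `b` -/
theorem exists_swap (hD : Cfsg.IsThreeTranspositionGroup D) (hprim : Cfsg.IsPrimitiveUnderConj D)
    (hZ : Subgroup.center G = ⊥) {d : G} (hd : d ∈ D) (htr : QuotTransitive D d) {c a b : G} (hc : c ∈ D)
    (ha : a ∈ perp D c) (hb : b ∈ perp D c) (hne : a ≠ b) (hab : Commute a b) :
    ∃ g : G, g * a * g⁻¹ = b ∧ g * b * g⁻¹ = a ∧ g * c * g⁻¹ = c := by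
  obtain ⟨x, hx, hax, hbx⟩ := exists_common hD hprim hZ hd htr hc ha hb hne hab
  have hxa := braid hD.1 hx.1 ha.1 (fun h => hax h.symm)
  have hxb := braid hD.1 hx.1 hb.1 (fun h => hbx h.symm)
  have hxx := mul_self hD.1 hx.1
  have haa := mul_self hD.1 ha.1
  have hbb := mul_self hD.1 hb.1
  refine ⟨x * (a * b) * x, ?_, ?_, ?_⟩
  · calc x * (a * b) * x * a * (x * (a * b) * x)⁻¹
        = x * a * b * (x * a * x⁻¹) * b⁻¹ * a⁻¹ * x⁻¹ := by group
      _ = x * a * b * (a * x * a) * (b * a * x) := by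
          rw [inv_eq hD.1 hx.1, inv_eq hD.1 ha.1, inv_eq hD.1 hb.1, hxa]; group
      _ = x * (a * b * a) * x * (a * b * a) * x := by group
      _ = x * (b * x * b) * x := by rw [show a * b * a = b by rw [hab.eq, mul_assoc, haa, mul_one]]; group
      _ = b := by rw [← hxb]; exact conj_self_inv hD.1 hx.1 b
  · calc x * (a * b) * x * b * (x * (a * b) * x)⁻¹
        = x * (b * a) * (x * b * x⁻¹) * (b * a)⁻¹ * x⁻¹ := by rw [hab.eq]; group
      _ = x * (b * a) * (b * x * b) * (a * b * x) := by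
          rw [inv_eq hD.1 hx.1, mul_inv_rev, inv_eq hD.1 ha.1, inv_eq hD.1 hb.1, hxb]; group
      _ = x * (b * a * b) * x * (b * a * b) * x := by group
      _ = x * (a * x * a) * x := by rw [show b * a * b = a by rw [← hab.eq, mul_assoc, hbb, mul_one]]; group
      _ = a := by rw [← hxa]; exact conj_self_inv hD.1 hx.1 a
  · have : Commute (x * (a * b) * x) c :=
      (((hx.2.2.symm).mul_left (ha.2.2.symm.mul_left hb.2.2.symm)).mul_left hx.2.2.symm)
    rw [this.eq, mul_inv_cancel_right]

end Cfsg.Agent.Lib.FischerMTypes.Neighbour
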