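import Mathlib
import Cfsg.Agent.Lib.FischerMTypes.OtherClasses
import Cfsg.Agent.Lib.FischerMTypes.InvolutionsM23

/-!
Type M(23): `D` is the only class of 3-transpositions.
-/

set_option autoImplicit false
set_option linter.style.haveILetI false
set_option linter.unusedSectionVars false

namespace Cfsg.Agent.Lib.FischerMTypes.OtherClassesM23

open Cfsg.Agent.Lib.FischerMTypes.Basic Cfsg.Agent.Lib.FischerMTypes.Primitive
  Cfsg.Agent.Lib.FischerMTypes.Step Cfsg.Agent.Lib.FischerMTypes.InvolutionsM23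
open Cfsg.Agent.Lib.FischerMTypes.TraceCounts (Sys)
open Cfsg.Agent.Lib.FischerMTypes.M23Data (small)

variable {Q : Type*} [Group Q] [Finite Q] {E : Set Q} {F : Type} [Field F] [Fintype F]
variable {G : Type*} [Group G] [Finite G] {D : Set G}

/-- five transpositions commuting except that `c` moves `a` and `b` -/
theorem exists_config (S22 : Sys E F) (S : StepData D E 3510 693 180 126 6531840) :
    ∃ a b c d e : G, a ∈ D ∧ b ∈ D ∧ c ∈ D ∧ d ∈ D ∧ e ∈ D ∧
    (Commute a b ∧ Commute d a ∧ Commute d b ∧ Commute d c ∧ Commute d e ∧ Commute e a ∧ Commute e b ∧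
      Commute e c) ∧ ¬ Commute c a ∧ ¬ Commute c b ∧
    [a, b].Nodup ∧ [c, d].Nodup ∧ [c, d, e].Nodup ∧ [a, b, e].Nodup := by
  obtain ⟨d, hd, -⟩ := S.hprim.2.1
  obtain ⟨a, b, c, d', e, ha, hb, hc, -, he, ⟨cab, -, -, -, -, cea, ceb, cec⟩, nca, ncb, -, -, nd3, nd4⟩ :=
    OtherClasses.exists_config S22
  obtain ⟨a', ha', rfl⟩ := S.exists_f hd ha
  obtain ⟨b', hb', rfl⟩ := S.exists_f hd hb
  obtain ⟨c', hc', rfl⟩ := S.exists_f hd hc
  obtain ⟨e', he', rfl⟩ := S.exists_f hd he
  rw [S.commute_iff hd ha' hb'] at cab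
  rw [S.commute_iff hd he' ha'] at cea
  rw [S.commute_iff hd he' hb'] at ceb
  rw [S.commute_iff hd he' hc'] at cec
  rw [S.commute_iff hd hc' ha'] at nca
  rw [S.commute_iff hd hc' hb'] at ncb
  simp only [List.nodup_cons, List.mem_cons, List.not_mem_nil, or_false, not_or, List.nodup_nil, and_true,
    not_false_eq_true] at nd3 nd4
  have n1 : a' ≠ b' := fun h => nd4.1.1 (h ▸ rfl)
  have n2 : c' ≠ e' := fun h => nd3.1.2 (h ▸ rfl)
  have n3 : a' ≠ e' := fun h => nd4.1.2 (h ▸ rfl)
  have n4 : b' ≠ e' := fun h => nd4.2 (h ▸ rfl)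
  exact ⟨a', b', c', d, e', ha'.1, hb'.1, hc'.1, hd, he'.1,
    ⟨cab, ha'.2.2, hb'.2.2, hc'.2.2, he'.2.2, cea, ceb, cec⟩, nca, ncb, by simp [n1],
    by simp [hc'.2.1], by simp [hc'.2.1, n2, Ne.symm he'.2.1], by simp [n1, n3, n4]⟩

/-- `D` is the only class of 3-transpositions -/
theorem class_eq (hD : Cfsg.IsThreeTranspositionGroup D) (hprim : Cfsg.IsPrimitiveUnderConj D)
    (h : Cfsg.IsOfTypeM23 G D) (S22 : Sys E F) (S : StepData D E 3510 693 180 126 6531840)
    (D' : Set G) (hD' : Cfsg.IsThreeTranspositionClass D') : D' = D := by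
  obtain ⟨⟨hord, hprod⟩, ⟨x, hx, hcl⟩, -⟩ := hD'
  obtain ⟨m, h1, h3, hm⟩ := (three_classes hD hprim h S22 S).1 x (hord x hx)
  have hmem : ∀ {y : G}, Step.IsProd D m y → y ∈ D' := fun hy => by
    rw [hcl]; exact ((three_classes hD hprim h S22 S).2.1 m h1 h3).2 _ _ hm hy
  interval_cases m
  · obtain ⟨l, -, hlen, hd, -, hp⟩ := hm
    obtain ⟨a, rfl⟩ := List.length_eq_one_iff.mp hlen
    simp only [List.prod_singleton] at hp
    subst hp
    have ha := hd a (by simp)
    rw [hcl]
    ext y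
    constructor
    · intro hy
      obtain ⟨g, rfl⟩ := isConj_iff.mp hy
      exact hD.2.1 g a ha
    · intro hy
      exact isConj_iff.mpr (hprim.1 a ha y hy)
  all_goals exfalso
  all_goals
    obtain ⟨a, b, c, d, e, ha, hb, hc, hd, he, ⟨cab, cda, cdb, cdc, cde, cea, ceb, cec⟩, nca, ncb,
      nd1, nd2, nd3, nd4⟩ := exists_config S22 S
  all_goals
    have hnab : a ≠ b := by simpa using nd1
    have hP4 := pow_four hD.1 ha hb hc cab nca ncb
    have hP2 : c * (a * b) * (c * (a * b)) ≠ 1 := by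
      intro h
      have hcab : Commute c (a * b) := by
        have habinv : (a * b)⁻¹ = a * b := by
          rw [mul_inv_rev, inv_eq hD.1 ha, inv_eq hD.1 hb, cab.eq]
        have := eq_inv_of_mul_eq_one_left h
        rw [mul_inv_rev, habinv, inv_eq hD.1 hc] at this
        exact this
      exact nca (comm_of_comm_mul hD.1 ha hb hc cab hnab hcab).1
    have hz : Commute (c * (a * b)) d := cdc.symm.mul_left (cda.symm.mul_left cdb.symm)
    have hne : ¬ ((c * (a * b) * d) ^ 2 = 1 ∨ (c * (a * b) * d) ^ 3 = 1) := by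
      have hd2 : d ^ 2 = 1 := by rw [sq, mul_self hD.1 hd]
      have e2 : (c * (a * b) * d) ^ 2 = c * (a * b) * (c * (a * b)) := by
        rw [hz.mul_pow, hd2, mul_one, sq]
      have e4 : (c * (a * b) * d) ^ 4 = 1 := by
        rw [show 4 = 2 * 2 by norm_num, pow_mul, e2, sq, hP4]
      rintro (h | h)
      · exact hP2 (e2 ▸ h)
      · refine hP2 (e2 ▸ ?_)
        have h1 : c * (a * b) * d = 1 := by rwa [pow_succ, h, one_mul] at e4
        rw [h1, one_pow]
  · refine hne ?_
    have hx' : c * d ∈ D' := hmem ⟨[c, d], nd2, rfl, by simp [hc, hd], by simp [cdc, cdc.symm], by simp⟩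
    have hy' : a * b ∈ D' := hmem ⟨[a, b], nd1, rfl, by simp [ha, hb], by simp [cab, cab.symm], by simp⟩
    have := hprod _ hx' _ hy'
    rwa [show c * d * (a * b) = c * (a * b) * d by
      rw [mul_assoc c d, (cda.mul_right cdb).eq]; group] at this
  · refine hne ?_
    have hx' : c * d * e ∈ D' := hmem ⟨[c, d, e], nd3, rfl, by simp [hc, hd, he],
      by simp [cdc, cdc.symm, cec, cec.symm, cde, cde.symm], by simp [mul_assoc]⟩
    have hy' : a * b * e ∈ D' := hmem ⟨[a, b, e], nd4, rfl, by simp [ha, hb, he],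
      by simp [cab, cab.symm, cea, cea.symm, ceb, ceb.symm], by simp [mul_assoc]⟩
    have := hprod _ hx' _ hy'
    rwa [show c * d * e * (a * b * e) = c * (a * b) * d by
      calc c * d * e * (a * b * e) = c * d * (e * (a * b)) * e := by group
        _ = c * d * ((a * b) * e) * e := by rw [(cea.mul_right ceb).eq]
        _ = c * (d * (a * b)) * (e * e) := by group
        _ = c * (a * b) * d := by rw [(cda.mul_right cdb).eq, mul_self hD.1 he]; group] at this

end Cfsg.Agent.Lib.FischerMTypes.OtherClassesM23
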