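import Mathlib
import Cfsg.Agent.Lib.FischerMTypes.OtherClassesM23
import Cfsg.Agent.Lib.FischerMTypes.InvolutionsM24

/-!
Type M(24): `D` is the only class of 3-transpositions.
-/

set_option autoImplicit false
set_option linter.style.haveILetI false
set_option linter.unusedSectionVars false

namespace Cfsg.Agent.Lib.FischerMTypes.OtherClassesM24

open Cfsg.Agent.Lib.FischerMTypes.Basic Cfsg.Agent.Lib.FischerMTypes.Primitive
  Cfsg.Agent.Lib.FischerMTypes.Step Cfsg.Agent.Lib.FischerMTypes.InvolutionsM24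
open Cfsg.Agent.Lib.FischerMTypes.TraceCounts (Sys)

universe u

variable {G : Type u} [Group G] [Finite G] {D : Set G}
variable {Q : Type u} [Group Q] [Finite Q] {E : Set Q}
variable {Q₂ : Type u} [Group Q₂] [Finite Q₂] {E₂ : Set Q₂} {F : Type} [Field F] [Fintype F]

/-- `D` is the only class of 3-transpositions -/
theorem class_eq (S22 : Sys E₂ F) (S23 : StepData E E₂ 3510 693 180 126 6531840)
    (S : StepData D E 31671 3510 693 351 4585351680) (hM : Cfsg.IsOfTypeM23 Q E)
    (P : Pinned D 31671 3510 693 351 3240)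
    (D' : Set G) (hD' : Cfsg.IsThreeTranspositionClass D') : D' = D := by
  have hD := S.hD
  obtain ⟨⟨hord, hprod⟩, ⟨x, hx, hcl⟩, -⟩ := hD'
  obtain ⟨m, h1, h3, hm⟩ := (four_classes S22 S23 S hM P).1 x (hord x hx)
  have hmem : ∀ {l : List G}, Tuple D l → l.length = m → l.prod ∈ D' := fun {l} hl hlen => by
    rw [hcl]; exact ((four_classes S22 S23 S hM P).2.1 m h1 h3).2 _ _ hm ⟨l, hl.1, hlen, hl.2.1, hl.2.2, rfl⟩
  by_cases hm1 : m = 1
  · subst hm1
    obtain ⟨l, -, hlen, hd, -, hp⟩ := hm
    obtain ⟨a, rfl⟩ := List.length_eq_one_iff.mp hlen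
    simp only [List.prod_singleton] at hp
    subst hp
    have ha := hd a (by simp)
    rw [hcl]
    ext y
    constructor
    · intro hy
      obtain ⟨g, rfl⟩ := isConj_iff.mp hy
      exact hD.2.1 g a ha
    · intro hy
      exact isConj_iff.mpr (S.hprim.1 a ha y hy)
  exfalso
  obtain ⟨f, hf, -⟩ := S.hprim.2.1
  obtain ⟨a', b', c', d', e', ha', hb', hc', hd', he', ⟨cab, cda, cdb, cdc, cde, cea, ceb, cec⟩, nca, ncb,
    -, -, nd3, nd4⟩ := OtherClassesM23.exists_config S22 S23
  obtain ⟨a, pa, rfl⟩ := S.exists_f hf ha'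
  obtain ⟨b, pb, rfl⟩ := S.exists_f hf hb'
  obtain ⟨c, pc, rfl⟩ := S.exists_f hf hc'
  obtain ⟨d, pd, rfl⟩ := S.exists_f hf hd'
  obtain ⟨e, pe, rfl⟩ := S.exists_f hf he'
  rw [S.commute_iff hf pa pb] at cab
  rw [S.commute_iff hf pd pa] at cda
  rw [S.commute_iff hf pd pb] at cdb
  rw [S.commute_iff hf pd pc] at cdc
  rw [S.commute_iff hf pd pe] at cde
  rw [S.commute_iff hf pe pa] at cea
  rw [S.commute_iff hf pe pb] at ceb
  rw [S.commute_iff hf pe pc] at cec
  rw [S.commute_iff hf pc pa] at nca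
  rw [S.commute_iff hf pc pb] at ncb
  have t3 : Tuple D [c, d, e] := ⟨List.Nodup.of_map (S.f hf) (l := [c, d, e]) nd3, by simp [pc.1, pd.1, pe.1],
    by simp [cdc, cdc.symm, cec, cec.symm, cde, cde.symm]⟩
  have t4 : Tuple D [a, b, e] := ⟨List.Nodup.of_map (S.f hf) (l := [a, b, e]) nd4, by simp [pa.1, pb.1, pe.1],
    by simp [cab, cab.symm, cea, cea.symm, ceb, ceb.symm]⟩
  have ext4 : ∀ {u v : G}, u ∈ perp D f → v ∈ perp D f → Tuple D [u, v, e] → Tuple D [f, u, v, e] :=
    fun {u v} pu pv ht => tuple_cons hf ht (List.forall_mem_cons.mpr ⟨pu, List.forall_mem_cons.mpr ⟨pv,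
      List.forall_mem_cons.mpr ⟨pe, by simp⟩⟩⟩)
  have hnab : a ≠ b := by
    have := t4.1
    simp only [List.nodup_cons, List.mem_cons, List.not_mem_nil, or_false, not_or] at this
    exact this.1.1
  have hP4 := pow_four hD.1 pa.1 pb.1 pc.1 cab nca ncb
  have hP2 : c * (a * b) * (c * (a * b)) ≠ 1 := by
    intro h
    have hcab : Commute c (a * b) := by
      have habinv : (a * b)⁻¹ = a * b := by
        rw [mul_inv_rev, inv_eq hD.1 pa.1, inv_eq hD.1 pb.1, cab.eq]
      have := eq_inv_of_mul_eq_one_left h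
      rw [mul_inv_rev, habinv, inv_eq hD.1 pc.1] at this
      exact this
    exact nca (comm_of_comm_mul hD.1 pa.1 pb.1 pc.1 cab hnab hcab).1
  have hz : Commute (c * (a * b)) d := cdc.symm.mul_left (cda.symm.mul_left cdb.symm)
  have hne : ¬ ((c * (a * b) * d) ^ 2 = 1 ∨ (c * (a * b) * d) ^ 3 = 1) := by
    have hd2 : d ^ 2 = 1 := by rw [sq, mul_self hD.1 pd.1]
    have e2 : (c * (a * b) * d) ^ 2 = c * (a * b) * (c * (a * b)) := by
      rw [hz.mul_pow, hd2, mul_one, sq]
    have e4 : (c * (a * b) * d) ^ 4 = 1 := by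
      rw [show 4 = 2 * 2 by norm_num, pow_mul, e2, sq, hP4]
    rintro (h | h)
    · exact hP2 (e2 ▸ h)
    · refine hP2 (e2 ▸ ?_)
      have h1 : c * (a * b) * d = 1 := by rwa [pow_succ, h, one_mul] at e4
      rw [h1, one_pow]
  have hcd : c * d * (a * b) = c * (a * b) * d := by rw [mul_assoc c d, (cda.mul_right cdb).eq]; group
  refine hne ?_
  rw [← hcd]
  interval_cases m
  · exact absurd rfl hm1
  · have hs : ∀ u v : G, Tuple D [u, v, e] → Tuple D [u, v] := fun u v ht => SmallRelations.tuple_take ht 2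
    have := hprod _ (hmem (hs c d t3) rfl) _ (hmem (hs a b t4) rfl)
    simpa using this
  · have := hprod _ (hmem t3 rfl) _ (hmem t4 rfl)
    simp only [List.prod_cons, List.prod_nil, mul_one] at this
    rwa [show c * (d * e) * (a * (b * e)) = c * d * (a * b) by
      calc c * (d * e) * (a * (b * e)) = c * d * (e * (a * b)) * e := by group
        _ = c * d * ((a * b) * e) * e := by rw [(cea.mul_right ceb).eq]
        _ = c * d * (a * b) * (e * e) := by group
        _ = c * d * (a * b) := by rw [mul_self hD.1 pe.1, mul_one]] at this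
  · have := hprod _ (hmem (ext4 pc pd t3) rfl) _ (hmem (ext4 pa pb t4) rfl)
    simp only [List.prod_cons, List.prod_nil, mul_one] at this
    have cf : ∀ {u v : G}, u ∈ perp D f → v ∈ perp D f → Commute f (u * (v * e)) := fun hu hv =>
      hu.2.2.mul_right (hv.2.2.mul_right pe.2.2)
    rwa [show f * (c * (d * e)) * (f * (a * (b * e))) = c * d * (a * b) by
      calc f * (c * (d * e)) * (f * (a * (b * e)))
          = f * f * (c * (d * e) * (a * (b * e))) := by
            rw [(cf pc pd).eq]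
            calc c * (d * e) * f * (f * (a * (b * e))) = c * (d * e) * (f * f) * (a * (b * e)) := by group
              _ = f * f * (c * (d * e) * (a * (b * e))) := by rw [mul_self hD.1 hf]; group
        _ = c * d * (e * (a * b)) * e := by rw [mul_self hD.1 hf]; group
        _ = c * d * ((a * b) * e) * e := by rw [(cea.mul_right ceb).eq]
        _ = c * d * (a * b) * (e * e) := by group
        _ = c * d * (a * b) := by rw [mul_self hD.1 pe.1, mul_one]] at this

end Cfsg.Agent.Lib.FischerMTypes.OtherClassesM24
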